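import Cfsg.Agent.Lib.Lie.GolayCover

/-!
Generators of the Mathieu group of degree 22 (generated).
-/

set_option autoImplicit false
set_option maxRecDepth 100000
set_option maxHeartbeats 0
set_option Elab.async false

namespace Cfsg.Agent.Lie.MTwentyTwoMult

open Cfsg.Agent.Lie GolayCover

/-- generators as commutators -/
def gensC : List ((ℕ × ℕ) × (ℕ × ℕ) × (ℕ × ℕ)) := [((969283090484280108743175002761274464, 983461562600528484151329656597954080), (975085085224880551051746018125719936, 981566227508322429365368577984120000), (966201427081719821764308884697665984, 981752533131863239058191415404576320)),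
  ((959447366293016975966859141519023456, 973818562517985528246074105126404192), (961477584476971359162926778698805408, 983264732343363701981245048118332576), (964555915525715042220679087241479200, 976291740055513966523653150487073824))]

/-- generators -/
def gensX : List (ℕ × ℕ) := [(969283090484280108743175002761274464, 983461562600528484151329656597954080), (959447366293016975966859141519023456, 973818562517985528246074105126404192)]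

theorem gensX_eq : gensC.map Prod.fst = gensX := by decide +kernel

/-- a chain -/
def chainX : List Spor.WordChain.Lev := [⟨1, [[0], [1]], [[0, 3, 9, 18, 11, 7, 20, 13, 15, 4, 8, 6, 19, 14, 16, 2, 12, 1, 5, 17, 21, 22, 10, 23], [0, 11, 7, 1, 15, 17, 21, 12, 5, 8, 9, 14, 19, 13, 22, 20, 2, 10, 18, 16, 6, 4, 3, 23]], [(1, 0, 0), (3, 0, 0), (11, 0, 1), (18, 1, 0), (6, 2, 0), (14, 2, 1), (5, 3, 0), (20, 4, 0), (21, 4, 1), (16, 5, 0), (22, 5, 1), (7, 6, 0), (17, 6, 1), (4, 8, 1), (12, 9, 0), (2, 9, 1), (10, 10, 0), (13, 11, 0), (15, 13, 1), (19, 14, 0), (9, 15, 0), (8, 16, 0)]⟩,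
  ⟨2, [[0, 0, 1, 1, 0, 1, 0, 1, 0, 1, 0, 1, 1], [1, 1, 0, 1, 1, 1, 1, 1, 1, 1, 1, 0, 1, 0, 0, 0, 0]], [[0, 1, 5, 16, 6, 12, 8, 4, 17, 13, 21, 14, 3, 20, 19, 9, 22, 10, 2, 15, 11, 7, 18, 23], [0, 1, 19, 12, 21, 16, 14, 8, 20, 18, 13, 3, 4, 7, 5, 17, 2, 10, 11, 22, 15, 9, 6, 23]], [(2, 0, 0), (5, 0, 0), (19, 0, 1), (12, 1, 0), (16, 1, 1), (15, 2, 0), (22, 2, 1), (3, 3, 0), (4, 3, 1), (9, 5, 0), (17, 5, 1), (18, 6, 0), (6, 6, 1), (21, 8, 1), (13, 9, 0), (10, 10, 0), (11, 11, 1), (8, 12, 0), (14, 12, 1), (7, 13, 0), (20, 14, 0)]⟩,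
  ⟨3, [[1, 0, 0, 0, 0, 0, 0, 1, 1, 0, 1, 0, 0, 0, 0, 1, 1, 0], [0, 0, 0, 0, 1, 0, 1, 0, 1, 0, 1, 1, 0, 1, 0], [0, 0, 0, 1, 1, 0, 1, 1, 0, 1, 1, 1, 0, 0, 1, 0, 1, 0]], [[0, 1, 2, 5, 9, 17, 16, 4, 12, 7, 19, 11, 18, 10, 14, 6, 15, 3, 8, 13, 21, 22, 20, 23], [0, 1, 2, 20, 14, 10, 16, 4, 21, 11, 8, 7, 6, 17, 9, 18, 3, 15, 19, 13, 12, 22, 5, 23], [0, 1, 2, 5, 9, 14, 6, 19, 22, 12, 18, 13, 4, 20, 3, 8, 10, 17, 16, 21, 11, 7, 15, 23]], [(3, 0, 0), (5, 0, 0), (20, 0, 1), (17, 1, 0), (10, 1, 1), (14, 1, 2), (21, 2, 0), (12, 2, 1), (11, 2, 2), (15, 3, 1), (19, 4, 0), (8, 4, 1), (18, 4, 2), (9, 5, 1), (22, 6, 0), (7, 6, 2), (6, 7, 1), (4, 7, 2), (13, 8, 2), (16, 12, 2)]⟩,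
  ⟨4, [[0, 1, 1, 1, 1, 0, 1, 2, 1, 1, 1, 1, 0, 1, 2], [0, 0, 0, 2, 2, 1, 1, 2, 1, 0], [0, 2, 1, 0, 1, 0, 2, 2, 2, 1, 1, 1, 2, 0, 2, 0, 1, 0]], [[0, 1, 2, 3, 15, 14, 4, 16, 11, 7, 19, 12, 8, 20, 17, 6, 9, 5, 18, 22, 21, 13, 10, 23], [0, 1, 2, 3, 12, 14, 19, 7, 20, 16, 4, 15, 10, 11, 17, 13, 18, 5, 9, 21, 22, 6, 8, 23], [0, 1, 2, 3, 9, 14, 13, 22, 8, 21, 6, 18, 11, 10, 17, 19, 15, 5, 12, 16, 7, 4, 20, 23]], [(4, 0, 0), (15, 0, 0), (12, 0, 1), (9, 0, 2), (6, 1, 0), (13, 1, 1), (19, 1, 2), (8, 2, 0), (10, 2, 1), (11, 2, 2), (7, 3, 0), (16, 3, 1), (21, 3, 2), (20, 5, 0), (22, 6, 0), (18, 9, 2)]⟩,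
  ⟨5, [[0, 1, 2, 0, 1, 2, 1, 0, 1, 0, 2]], [[0, 1, 2, 3, 4, 17, 18, 12, 9, 21, 7, 20, 10, 16, 5, 6, 22, 14, 15, 11, 19, 8, 13, 23]], [(5, 0, 0), (17, 0, 0), (14, 1, 0)]⟩]

theorem chainX_ok : Spor.WordChain.chainOK (gensX.map fun e => toL e.1) chainX [] = true := by decide +kernel

theorem chainX_size : Spor.WordChain.chainSize chainX = 443520 := by decide +kernel

theorem gens_ok : gensC.all (commOK [23, 0]) = true ∧ gensX.all (memOK [23, 0]) = true := by decide +kernel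

end Cfsg.Agent.Lie.MTwentyTwoMult
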