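import Cfsg.Agent.Lib.Lie.MTwentyTwoMult.Six
import Cfsg.Agent.Lib.Lie.MTwentyTwoMult.Gens

/-!
Cocycles and cosets for the part at 3 of the covering of the Mathieu group of degree 22 (generated).
-/

set_option autoImplicit false
set_option maxRecDepth 100000
set_option maxHeartbeats 0
set_option Elab.async false

namespace Cfsg.Agent.Lie.MTwentyTwoMult

open Cfsg.Agent.Lie GolayCover

def sixVala0 : Janko.Tree (ℕ) :=
  (.node (.node (.node (.node (.node (.node (.node (.leaf 0) (.leaf 0)) (.leaf 0)) (.node (.node (.leaf 0) (.leaf 0)) (.leaf 1))) (.node (.node (.node (.leaf 0) (.leaf 0)) (.leaf 1)) (.node (.node (.leaf 0) (.leaf 1)) (.leaf 1)))) (.node (.node (.node (.node (.leaf 0) (.leaf 1)) (.leaf 0)) (.node (.node (.leaf 0) (.leaf 1)) (.leaf 0))) (.node (.node (.node (.leaf 1) (.leaf 1)) (.leaf 1)) (.node (.leaf 1) (.leaf 0))))) (.node (.node (.node (.node (.node (.leaf 0) (.leaf 0)) (.leaf 1)) (.node (.node (.leaf 0) (.leaf 0)) (.leaf 0))) (.node (.node (.node (.leaf 0) (.leaf 0)) (.leaf 1)) (.node (.leaf 0) (.leaf 0)))) (.node (.node (.node (.node (.leaf 0) (.leaf 1)) (.leaf 0)) (.node (.node (.leaf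 0) (.leaf 1)) (.leaf 1))) (.node (.node (.node (.leaf 0) (.leaf 1)) (.leaf 1)) (.node (.leaf 0) (.leaf 0)))))) (.node (.node (.node (.node (.node (.node (.leaf 1) (.leaf 0)) (.leaf 0)) (.node (.node (.leaf 1) (.leaf 0)) (.leaf 1))) (.node (.node (.node (.leaf 0) (.leaf 0)) (.leaf 0)) (.node (.node (.leaf 0) (.leaf 1)) (.leaf 1)))) (.node (.node (.node (.node (.leaf 0) (.leaf 1)) (.leaf 1)) (.node (.node (.leaf 0) (.leaf 1)) (.leaf 0))) (.node (.node (.node (.leaf 1) (.leaf 1)) (.leaf 1)) (.node (.leaf 1) (.leaf 0))))) (.node (.node (.node (.node (.node (.leaf 1) (.leaf 0)) (.leaf 0)) (.node (.node (.leaf 0) (.leaf 0)) (.leaf 1))) (.node (.node (.node (.leaf 0) (.leaf 0)) (.leaf 0)) (.node (.leaf 1) (.leaf 1)))) (.node (.node (.node (.node (.leaf 0) (.leaf 1)) (.leaf 1)) (.node (.node (.leaf 0) (.leaf 0)) (.leaf 0))) (.node (.node (.node (.leaf 1) (.leaf 0)) (.leaf 1)) (.node (.leaf 0) (.leaf 0)))))))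

def sixVala1 : Janko.Tree (ℕ) :=
  (.node (.node (.node (.node (.node (.node (.node (.leaf 0) (.leaf 0)) (.leaf 0)) (.node (.node (.leaf 2) (.leaf 0)) (.leaf 0))) (.node (.node (.node (.leaf 0) (.leaf 2)) (.leaf 0)) (.node (.node (.leaf 2) (.leaf 0)) (.leaf 0)))) (.node (.node (.node (.node (.leaf 0) (.leaf 0)) (.leaf 0)) (.node (.node (.leaf 0) (.leaf 0)) (.leaf 0))) (.node (.node (.node (.leaf 0) (.leaf 0)) (.leaf 0)) (.node (.leaf 0) (.leaf 1))))) (.node (.node (.node (.node (.node (.leaf 0) (.leaf 0)) (.leaf 0)) (.node (.node (.leaf 0) (.leaf 1)) (.leaf 2))) (.node (.node (.node (.leaf 2) (.leaf 0)) (.leaf 0)) (.node (.leaf 0) (.leaf 1)))) (.node (.node (.node (.node (.leaf 2) (.leaf 0)) (.leaf 0)) (.node (.node (.leaf 0) (.leaf 2)) (.leaf 0))) (.node (.node (.node (.leaf 0) (.leaf 2)) (.leaf 0)) (.node (.leaf 0) (.leaf 2)))))) (.node (.node (.node (.node (.node (.node (.leaf 0) (.leaf 0)) (.leaf 0)) (.node (.node (.leaf 2) (.leaf 2)) (.leaf 0))) (.node (.node (.node (.leaf 0) (.leaf 1)) (.leaf 0)) (.node (.node (.leaf 0) (.leaf 1)) (.leaf 2)))) (.node (.node (.node (.node (.leaf 0) (.leaf 0)) (.leaf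 0)) (.node (.node (.leaf 0) (.leaf 2)) (.leaf 0))) (.node (.node (.node (.leaf 0) (.leaf 2)) (.leaf 1)) (.node (.leaf 0) (.leaf 1))))) (.node (.node (.node (.node (.node (.leaf 0) (.leaf 0)) (.leaf 0)) (.node (.node (.leaf 0) (.leaf 2)) (.leaf 2))) (.node (.node (.node (.leaf 0) (.leaf 2)) (.leaf 1)) (.node (.leaf 0) (.leaf 2)))) (.node (.node (.node (.node (.leaf 0) (.leaf 0)) (.leaf 0)) (.node (.node (.leaf 2) (.leaf 0)) (.leaf 0))) (.node (.node (.node (.leaf 0) (.leaf 0)) (.leaf 0)) (.node (.leaf 0) (.leaf 0)))))))

def sixVala2 : Janko.Tree (ℕ) :=
  (.node (.node (.node (.node (.node (.node (.node (.leaf 1) (.leaf 1)) (.leaf 1)) (.node (.node (.leaf 1) (.leaf 1)) (.leaf 0))) (.node (.node (.node (.leaf 0) (.leaf 1)) (.leaf 0)) (.node (.node (.leaf 1) (.leaf 1)) (.leaf 1)))) (.node (.node (.node (.node (.leaf 1) (.leaf 0)) (.leaf 1)) (.node (.node (.leaf 1) (.leaf 0)) (.leaf 0))) (.node (.node (.node (.leaf 0) (.leaf 1)) (.leaf 0)) (.node (.leaf 0) (.leaf 0))))) (.node (.node (.node (.node (.node (.leaf 1) (.leaf 1)) (.leaf 1)) (.node (.node (.leaf 1) (.leaf 0)) (.leaf 1))) (.node (.node (.node (.leaf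 1) (.leaf 1)) (.leaf 0)) (.node (.leaf 1) (.leaf 1)))) (.node (.node (.node (.node (.leaf 1) (.leaf 0)) (.leaf 0)) (.node (.node (.leaf 1) (.leaf 1)) (.leaf 1))) (.node (.node (.node (.leaf 1) (.leaf 0)) (.leaf 0)) (.node (.leaf 0) (.leaf 1)))))) (.node (.node (.node (.node (.node (.node (.leaf 0) (.leaf 1)) (.leaf 1)) (.node (.node (.leaf 0) (.leaf 1)) (.leaf 1))) (.node (.node (.node (.leaf 1) (.leaf 0)) (.leaf 1)) (.node (.node (.leaf 0) (.leaf 1)) (.leaf 0)))) (.node (.node (.node (.node (.leaf 1) (.leaf 1)) (.leaf 0)) (.node (.node (.leaf 1) (.leaf 0)) (.leaf 1))) (.node (.node (.node (.leaf 0) (.leaf 1)) (.leaf 0)) (.node (.leaf 0) (.leaf 1))))) (.node (.node (.node (.node (.node (.leaf 0) (.leaf 1)) (.leaf 1)) (.node (.node (.leaf 1) (.leaf 1)) (.leaf 0))) (.node (.node (.node (.leaf 0) (.leaf 1)) (.leaf 0)) (.node (.leaf 0) (.leaf 0)))) (.node (.node (.node (.node (.leaf 1) (.leaf 0)) (.leaf 0)) (.node (.node (.leaf 1) (.leaf 0)) (.leaf 1))) (.node (.node (.node (.leaf 0) (.leaf 1)) (.leaf 0)) (.node (.leaf 1) (.leaf 1)))))))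

def sixVala3 : Janko.Tree (ℕ) :=
  (.node (.node (.node (.node (.node (.node (.node (.leaf 0) (.leaf 0)) (.leaf 0)) (.node (.node (.leaf 0) (.leaf 0)) (.leaf 2))) (.node (.node (.node (.leaf 0) (.leaf 2)) (.leaf 0)) (.node (.node (.leaf 0) (.leaf 2)) (.leaf 0)))) (.node (.node (.node (.node (.leaf 0) (.leaf 0)) (.leaf 2)) (.node (.node (.leaf 0) (.leaf 2)) (.leaf 0))) (.node (.node (.node (.leaf 2) (.leaf 0)) (.leaf 0)) (.node (.leaf 0) (.leaf 0))))) (.node (.node (.node (.node (.node (.leaf 0) (.leaf 1)) (.leaf 0)) (.node (.node (.leaf 0) (.leaf 1)) (.leaf 0))) (.node (.node (.node (.leaf 0) (.leaf 0)) (.leaf 0)) (.node (.leaf 2) (.leaf 2)))) (.node (.node (.node (.node (.leaf 0) (.leaf 2)) (.leaf 0)) (.node (.node (.leaf 0) (.leaf 2)) (.leaf 0))) (.node (.node (.node (.leaf 2) (.leaf 0)) (.leaf 0)) (.node (.leaf 0) (.leaf 1)))))) (.node (.node (.node (.node (.node (.node (.leaf 0) (.leaf 0)) (.leaf 0)) (.node (.node (.leaf 0) (.leaf 0)) (.leaf 2))) (.node (.node (.node (.leaf 0) (.leaf 2)) (.leaf 2)) (.node (.node (.leaf 2) (.leaf 1)) (.leaf 2)))) (.node (.node (.node (.node (.leaf 0) (.leaf 0)) (.leaf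 0)) (.node (.node (.leaf 2) (.leaf 2)) (.leaf 0))) (.node (.node (.node (.leaf 2) (.leaf 0)) (.leaf 0)) (.node (.leaf 2) (.leaf 2))))) (.node (.node (.node (.node (.node (.leaf 2) (.leaf 0)) (.leaf 0)) (.node (.node (.leaf 0) (.leaf 0)) (.leaf 0))) (.node (.node (.node (.leaf 0) (.leaf 0)) (.leaf 0)) (.node (.leaf 0) (.leaf 1)))) (.node (.node (.node (.node (.leaf 0) (.leaf 2)) (.leaf 0)) (.node (.node (.leaf 0) (.leaf 0)) (.leaf 0))) (.node (.node (.node (.leaf 0) (.leaf 1)) (.leaf 2)) (.node (.leaf 0) (.leaf 0)))))))

def sixVala4 : Janko.Tree (ℕ) :=
  (.node (.node (.node (.node (.node (.node (.node (.leaf 0) (.leaf 0)) (.leaf 0)) (.node (.node (.leaf 0) (.leaf 1)) (.leaf 1))) (.node (.node (.node (.leaf 1) (.leaf 1)) (.leaf 1)) (.node (.node (.leaf 0) (.leaf 2)) (.leaf 1)))) (.node (.node (.node (.node (.leaf 1) (.leaf 1)) (.leaf 0)) (.node (.node (.leaf 0) (.leaf 1)) (.leaf 1))) (.node (.node (.node (.leaf 1) (.leaf 0)) (.leaf 0)) (.node (.leaf 1) (.leaf 0))))) (.node (.node (.node (.node (.node (.leaf 0) (.leaf 0)) (.leaf 0)) (.node (.node (.leaf 0) (.leaf 0)) (.leaf 1))) (.node (.node (.node (.leaf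 0) (.leaf 1)) (.leaf 0)) (.node (.leaf 0) (.leaf 0)))) (.node (.node (.node (.node (.leaf 0) (.leaf 1)) (.leaf 1)) (.node (.node (.leaf 0) (.leaf 1)) (.leaf 0))) (.node (.node (.node (.leaf 0) (.leaf 0)) (.leaf 1)) (.node (.leaf 1) (.leaf 1)))))) (.node (.node (.node (.node (.node (.node (.leaf 1) (.leaf 0)) (.leaf 0)) (.node (.node (.leaf 0) (.leaf 1)) (.leaf 1))) (.node (.node (.node (.leaf 0) (.leaf 1)) (.leaf 0)) (.node (.node (.leaf 1) (.leaf 2)) (.leaf 1)))) (.node (.node (.node (.node (.leaf 0) (.leaf 1)) (.leaf 0)) (.node (.node (.leaf 0) (.leaf 1)) (.leaf 1))) (.node (.node (.node (.leaf 1) (.leaf 0)) (.leaf 1)) (.node (.leaf 1) (.leaf 0))))) (.node (.node (.node (.node (.node (.leaf 1) (.leaf 0)) (.leaf 0)) (.node (.node (.leaf 0) (.leaf 1)) (.leaf 0))) (.node (.node (.node (.leaf 1) (.leaf 0)) (.leaf 1)) (.node (.leaf 1) (.leaf 0)))) (.node (.node (.node (.node (.leaf 0) (.leaf 1)) (.leaf 1)) (.node (.node (.leaf 0) (.leaf 1)) (.leaf 0))) (.node (.node (.node (.leaf 1) (.leaf 0)) (.leaf 1)) (.node (.leaf 0) (.leaf 1)))))))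

def sixVala5 : Janko.Tree (ℕ) :=
  (.node (.node (.node (.node (.node (.node (.node (.leaf 0) (.leaf 0)) (.leaf 0)) (.node (.node (.leaf 0) (.leaf 0)) (.leaf 0))) (.node (.node (.node (.leaf 2) (.leaf 2)) (.leaf 0)) (.node (.node (.leaf 0) (.leaf 0)) (.leaf 2)))) (.node (.node (.node (.node (.leaf 0) (.leaf 0)) (.leaf 0)) (.node (.node (.leaf 2) (.leaf 1)) (.leaf 0))) (.node (.node (.node (.leaf 0) (.leaf 2)) (.leaf 0)) (.node (.leaf 0) (.leaf 0))))) (.node (.node (.node (.node (.node (.leaf 2) (.leaf 2)) (.leaf 2)) (.node (.node (.leaf 0) (.leaf 0)) (.leaf 0))) (.node (.node (.node (.leaf 2) (.leaf 2)) (.leaf 0)) (.node (.leaf 0) (.leaf 0)))) (.node (.node (.node (.node (.leaf 0) (.leaf 0)) (.leaf 0)) (.node (.node (.leaf 0) (.leaf 2)) (.leaf 2))) (.node (.node (.node (.leaf 0) (.leaf 0)) (.leaf 0)) (.node (.leaf 2) (.leaf 0)))))) (.node (.node (.node (.node (.node (.node (.leaf 0) (.leaf 1)) (.leaf 2)) (.node (.node (.leaf 0) (.leaf 2)) (.leaf 1))) (.node (.node (.node (.leaf 0) (.leaf 2)) (.leaf 0)) (.node (.node (.leaf 0) (.leaf 0)) (.leaf 2)))) (.node (.node (.node (.node (.leaf 0) (.leaf 2)) (.leaf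 0)) (.node (.node (.leaf 0) (.leaf 2)) (.leaf 2))) (.node (.node (.node (.leaf 0) (.leaf 1)) (.leaf 0)) (.node (.leaf 0) (.leaf 0))))) (.node (.node (.node (.node (.node (.leaf 0) (.leaf 2)) (.leaf 2)) (.node (.node (.leaf 2) (.leaf 1)) (.leaf 0))) (.node (.node (.node (.leaf 0) (.leaf 0)) (.leaf 0)) (.node (.leaf 0) (.leaf 2)))) (.node (.node (.node (.node (.leaf 2) (.leaf 0)) (.leaf 0)) (.node (.node (.leaf 0) (.leaf 1)) (.leaf 0))) (.node (.node (.node (.leaf 0) (.leaf 2)) (.leaf 1)) (.node (.leaf 0) (.leaf 2)))))))

def sixVala6 : Janko.Tree (ℕ) :=
  (.node (.node (.node (.node (.node (.node (.node (.leaf 0) (.leaf 0)) (.leaf 1)) (.node (.node (.leaf 0) (.leaf 1)) (.leaf 0))) (.node (.node (.node (.leaf 0) (.leaf 0)) (.leaf 0)) (.node (.node (.leaf 1) (.leaf 2)) (.leaf 0)))) (.node (.node (.node (.node (.leaf 0) (.leaf 1)) (.leaf 0)) (.node (.node (.leaf 1) (.leaf 1)) (.leaf 1))) (.node (.node (.node (.leaf 0) (.leaf 1)) (.leaf 0)) (.node (.leaf 0) (.leaf 1))))) (.node (.node (.node (.node (.node (.leaf 0) (.leaf 1)) (.leaf 1)) (.node (.node (.leaf 1) (.leaf 1)) (.leaf 0))) (.node (.node (.node (.leaf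 1) (.leaf 1)) (.leaf 1)) (.node (.leaf 0) (.leaf 0)))) (.node (.node (.node (.node (.leaf 0) (.leaf 0)) (.leaf 0)) (.node (.node (.leaf 1) (.leaf 1)) (.leaf 1))) (.node (.node (.node (.leaf 0) (.leaf 0)) (.leaf 0)) (.node (.leaf 0) (.leaf 0)))))) (.node (.node (.node (.node (.node (.node (.leaf 0) (.leaf 0)) (.leaf 1)) (.node (.node (.leaf 1) (.leaf 1)) (.leaf 0))) (.node (.node (.node (.leaf 1) (.leaf 1)) (.leaf 0)) (.node (.node (.leaf 0) (.leaf 2)) (.leaf 0)))) (.node (.node (.node (.node (.leaf 1) (.leaf 1)) (.leaf 1)) (.node (.node (.leaf 0) (.leaf 1)) (.leaf 1))) (.node (.node (.node (.leaf 0) (.leaf 0)) (.leaf 0)) (.node (.leaf 1) (.leaf 1))))) (.node (.node (.node (.node (.node (.leaf 0) (.leaf 1)) (.leaf 1)) (.node (.node (.leaf 1) (.leaf 1)) (.leaf 1))) (.node (.node (.node (.leaf 0) (.leaf 0)) (.leaf 0)) (.node (.leaf 0) (.leaf 1)))) (.node (.node (.node (.node (.leaf 1) (.leaf 1)) (.leaf 0)) (.node (.node (.leaf 1) (.leaf 1)) (.leaf 0))) (.node (.node (.node (.leaf 1) (.leaf 1)) (.leaf 1)) (.node (.leaf 1) (.leaf 1)))))))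

def sixVala7 : Janko.Tree (ℕ) :=
  (.node (.node (.node (.node (.node (.node (.node (.leaf 0) (.leaf 0)) (.leaf 0)) (.node (.node (.leaf 0) (.leaf 0)) (.leaf 0))) (.node (.node (.node (.leaf 0) (.leaf 0)) (.leaf 2)) (.node (.node (.leaf 2) (.leaf 2)) (.leaf 0)))) (.node (.node (.node (.node (.leaf 0) (.leaf 2)) (.leaf 2)) (.node (.node (.leaf 0) (.leaf 2)) (.leaf 0))) (.node (.node (.node (.leaf 0) (.leaf 2)) (.leaf 0)) (.node (.leaf 0) (.leaf 1))))) (.node (.node (.node (.node (.node (.leaf 0) (.leaf 0)) (.leaf 0)) (.node (.node (.leaf 0) (.leaf 2)) (.leaf 0))) (.node (.node (.node (.leaf 0) (.leaf 0)) (.leaf 2)) (.node (.leaf 0) (.leaf 0)))) (.node (.node (.node (.node (.leaf 0) (.leaf 0)) (.leaf 0)) (.node (.node (.leaf 0) (.leaf 2)) (.leaf 0))) (.node (.node (.node (.leaf 2) (.leaf 1)) (.leaf 0)) (.node (.leaf 0) (.leaf 2)))))) (.node (.node (.node (.node (.node (.node (.leaf 0) (.leaf 0)) (.leaf 0)) (.node (.node (.leaf 0) (.leaf 2)) (.leaf 0))) (.node (.node (.node (.leaf 0) (.leaf 2)) (.leaf 2)) (.node (.node (.leaf 0) (.leaf 0)) (.leaf 0)))) (.node (.node (.node (.node (.leaf 0) (.leaf 2)) (.leaf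 2)) (.node (.node (.leaf 2) (.leaf 0)) (.leaf 2))) (.node (.node (.node (.leaf 0) (.leaf 0)) (.leaf 0)) (.node (.leaf 1) (.leaf 0))))) (.node (.node (.node (.node (.node (.leaf 0) (.leaf 1)) (.leaf 0)) (.node (.node (.leaf 0) (.leaf 0)) (.leaf 2))) (.node (.node (.node (.leaf 0) (.leaf 2)) (.leaf 1)) (.node (.leaf 0) (.leaf 0)))) (.node (.node (.node (.node (.leaf 0) (.leaf 2)) (.leaf 2)) (.node (.node (.leaf 0) (.leaf 0)) (.leaf 2))) (.node (.node (.node (.leaf 0) (.leaf 0)) (.leaf 0)) (.node (.leaf 0) (.leaf 2)))))))

def sixVala : Janko.Tree (ℕ) := (.node (.node (.node sixVala0 sixVala4) (.node sixVala2 sixVala6)) (.node (.node sixVala1 sixVala5) (.node sixVala3 sixVala7)))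

theorem six_lefta0 : ((List.range 64).all fun i => CoverCocycle.leftOK sixCert sixVala.get 3 (Nat.add 0 i)) = true := by decide +kernel

theorem six_lefta1 : ((List.range 64).all fun i => CoverCocycle.leftOK sixCert sixVala.get 3 (Nat.add 64 i)) = true := by decide +kernel

theorem six_lefta2 : ((List.range 64).all fun i => CoverCocycle.leftOK sixCert sixVala.get 3 (Nat.add 128 i)) = true := by decide +kernel

theorem six_lefta3 : ((List.range 64).all fun i => CoverCocycle.leftOK sixCert sixVala.get 3 (Nat.add 192 i)) = true := by decide +kernel

theorem six_lefta4 : ((List.range 64).all fun i => CoverCocycle.leftOK sixCert sixVala.get 3 (Nat.add 256 i)) = true := by decide +kernel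

theorem six_lefta5 : ((List.range 40).all fun i => CoverCocycle.leftOK sixCert sixVala.get 3 (Nat.add 320 i)) = true := by decide +kernel

theorem six_lefta : ∀ i < 360, CoverCocycle.leftOK sixCert sixVala.get 3 i = true := by
  intro i hi
  by_cases h0 : i < 64
  · have := List.all_eq_true.1 six_lefta0 (i - 0) (List.mem_range.2 (by omega)); rwa [show Nat.add 0 (i - 0) = i from Nat.add_sub_cancel' (by omega)] at this
  by_cases h1 : i < 128
  · have := List.all_eq_true.1 six_lefta1 (i - 64) (List.mem_range.2 (by omega)); rwa [show Nat.add 64 (i - 64) = i from Nat.add_sub_cancel' (by omega)] at this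
  by_cases h2 : i < 192
  · have := List.all_eq_true.1 six_lefta2 (i - 128) (List.mem_range.2 (by omega)); rwa [show Nat.add 128 (i - 128) = i from Nat.add_sub_cancel' (by omega)] at this
  by_cases h3 : i < 256
  · have := List.all_eq_true.1 six_lefta3 (i - 192) (List.mem_range.2 (by omega)); rwa [show Nat.add 192 (i - 192) = i from Nat.add_sub_cancel' (by omega)] at this
  by_cases h4 : i < 320
  · have := List.all_eq_true.1 six_lefta4 (i - 256) (List.mem_range.2 (by omega)); rwa [show Nat.add 256 (i - 256) = i from Nat.add_sub_cancel' (by omega)] at this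
  have := List.all_eq_true.1 six_lefta5 (i - 320) (List.mem_range.2 (by omega)); rwa [show Nat.add 320 (i - 320) = i from Nat.add_sub_cancel' (by omega)] at this


theorem six_wda0 : ((List.range 360).all fun i => CoverCocycle.treeOK sixCert sixVala.get 3 (Nat.add 0 i)) = true := by decide +kernel

theorem six_wda : ∀ i < 360, CoverCocycle.treeOK sixCert sixVala.get 3 i = true := by
  intro i hi
  have := List.all_eq_true.1 six_wda0 (i - 0) (List.mem_range.2 (by omega)); rwa [show Nat.add 0 (i - 0) = i from Nat.add_sub_cancel' (by omega)] at this


def sixT0 : Janko.Tree (ℕ) :=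
  (.node (.node (.node (.node (.node (.node (.node (.leaf 984818244535754528103549039458486304) (.leaf 969236124554003172623170830094015104)) (.leaf 966642450673036224910835046998989152)) (.node (.leaf 959463801192861662428152277537214880) (.leaf 970201819792605547526463893502675008))) (.node (.node (.node (.leaf 970434836466822068055092055717061824) (.leaf 977554364113875132303856106775876096)) (.leaf 959576101052925225498659124099031488)) (.node (.leaf 964972563856065955975134072918213824) (.leaf 969880915600918865171631838023145152)))) (.node (.node (.node (.node (.leaf 971225168693366284803685012448121440) (.leaf 984734128682217761084161071908358784)) (.leaf 978871174559503718700459314239710688)) (.node (.leaf 961488471042232939379244596683082368) (.leaf 967575461217393808728933740519347360))) (.node (.node (.node (.leaf 966586596000750721439017130793709024) (.leaf 981651017180241287992006501396253088)) (.leaf 964797986103565150461266285576078784)) (.node (.leaf 979056365900647908545205336269165632) (.leaf 970007052904841732951733856624841792))))) (.node (.node (.node (.node (.node (.leaf 965287517069630065035370937836819840)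 (.leaf 978894318833316161855540990610286880)) (.leaf 977823190909044691589835129768806016)) (.node (.leaf 980098147010417448613595189148473728) (.leaf 983010281496905577655265159089168864))) (.node (.node (.node (.leaf 971374791970949974605958999350656352) (.leaf 957070541005738797766250716203170016)) (.leaf 981552493108355954079156493826112160)) (.node (.leaf 965297564391357930772788437530720544) (.leaf 958469804586476066174682091288711712)))) (.node (.node (.node (.node (.leaf 959690873284676882936616626665267872) (.leaf 968738891274588654237327618938606976)) (.leaf 958432010710689249676282793061427424)) (.node (.leaf 975731713667024151308303010340444224) (.leaf 960152047926809072712083328926297376))) (.node (.node (.leaf 975669361471670120260367291477532832) (.leaf 965811192831823952889367956536242272)) (.node (.leaf 974349316876361921136708025847557632) (.leaf 972645536338531647483871656676833536)))))) (.node (.node (.node (.node (.node (.node (.leaf 981558395630839577952433231563733536) (.leaf 958345380681187312876832439759748256)) (.leaf 976500517859473828592295786940832448)) (.node (.leaf 970171685866201762778744525429081696)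 (.leaf 976295096293610911492176544539251296))) (.node (.node (.node (.leaf 964027098713572261962713007850236960) (.leaf 960110524485103857319789998603917376)) (.leaf 959684223993754573738342467224380064)) (.node (.leaf 979408807811272958237762080647650368) (.leaf 980779267091746137388976791988210816)))) (.node (.node (.node (.node (.leaf 984351225618112447546634492902486592) (.leaf 966561648907082468115149323407594016)) (.leaf 984154826237366854218088721815898752)) (.node (.leaf 968486948301480951932047450028815584) (.leaf 958408847488336072589174327019342880))) (.node (.node (.leaf 964564593313702637864791898802797600) (.leaf 984283994874365739456418860332616320)) (.node (.leaf 966399946849984320762268774259370080) (.leaf 959910883583986946284362608478931456))))) (.node (.node (.node (.node (.node (.leaf 971207116935179023317195922454644864) (.leaf 981961612054201612687378200290250112)) (.leaf 968815270008187755246064042117633408)) (.node (.leaf 975270088724904922999897715560207488) (.leaf 963707348244911159884533040007419168))) (.node (.node (.node (.leaf 959790760777411089752338609792597248) (.leaf 963600345913500546175524779881246976))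 (.leaf 961492828141031712871550005668815360)) (.node (.leaf 971411002259907909771333300459623712) (.leaf 981651513520285846996094514582176928)))) (.node (.node (.node (.node (.leaf 963945889807199917661080126759478688) (.leaf 978308488356530589005337810820257984)) (.leaf 977979295240560147151519915835541856)) (.node (.leaf 973075626927700763581616257856851136) (.leaf 972891625376464661389256543305273376))) (.node (.node (.leaf 978352652798300194956177219322841472) (.leaf 977046190855758915403790323795921088)) (.node (.leaf 974977513422296730479484278153664928) (.leaf 983346291412923918282401123577010784)))))))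

def sixT1 : Janko.Tree (ℕ) :=
  (.node (.node (.node (.node (.node (.node (.node (.leaf 969283090484280108743175002761274464) (.leaf 959548321519042352478853527942773408)) (.leaf 972910514340538479605860264313141504)) (.node (.leaf 976643240945964756670725175471835680) (.leaf 982043349680694542485873933853313056))) (.node (.node (.node (.leaf 975650259643451736949546752274406848) (.leaf 970501300658530101774119996941882624)) (.leaf 970354376996471884175384725872190880)) (.node (.leaf 977546564863752818963747135920712128) (.leaf 975599433263500198463755055308413056)))) (.node (.node (.node (.node (.leaf 984482274648446319205755311170826336) (.leaf 967255766863323404059266983551748608)) (.leaf 957140155392505875485612468384210080)) (.node (.leaf 977054559932344550151593036432741920) (.leaf 978792411471583477078890443648450688))) (.node (.node (.node (.leaf 974258659275592220958634394435964384) (.leaf 983107665872079443626055586713118784)) (.leaf 958843365297849705471589708840748544)) (.node (.leaf 963621420227896033830451072600262720) (.leaf 956851120507581685758259895696704928))))) (.node (.node (.node (.node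 (.node (.leaf 982931341191162383571772019695009824) (.leaf 960669367521179816178152727154175264)) (.leaf 977750660461110925308035761228005696)) (.node (.leaf 967331936797349596961524381406083104) (.leaf 956967795847054747004710459123781120))) (.node (.node (.node (.leaf 984234483575158875974129683268097664) (.leaf 960179990210679755964227892751548960)) (.leaf 984437314433727497634944721945546944)) (.node (.leaf 982950908416715647018117349888133696) (.leaf 968418193010124507661715049998195872)))) (.node (.node (.node (.node (.leaf 969801652535888172182761460472521920) (.leaf 978243814809288315288294689523577984)) (.leaf 959652794920409806550603255639541952)) (.node (.leaf 976202722642925249052056093657056320) (.leaf 959912268873903935918552770737789120))) (.node (.node (.leaf 980943584926718446220084566110487776) (.leaf 980718014889476966256490831966413152)) (.node (.leaf 984390874254421879375121229719126208) (.leaf 964072461253342952889015748020276800)))))) (.node (.node (.node (.node (.node (.node (.leaf 964654479796976927270835521377568928) (.leaf 981641311379841723884518111813178944)) (.leaf 967618718682559690368087841105480832))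 (.node (.leaf 982806030648348308060765502587681120) (.leaf 984407171681613906350600599782171232))) (.node (.node (.node (.leaf 973813282648679990325382297997065536) (.leaf 976249667451423220745067458976209376)) (.leaf 976726939677342022083224482428953632)) (.node (.leaf 973851901506469624955131945536634496) (.leaf 967317616184191089738905705546981792)))) (.node (.node (.node (.node (.leaf 967364995591220017223382428303874624) (.leaf 979195737400541598959407435344906720)) (.leaf 961314336329828298072462546204840608)) (.node (.leaf 971413943682980966759714909669445280) (.leaf 975405416520672344794422598463375424))) (.node (.node (.leaf 978280491956734013707061382432888128) (.leaf 971748718685044706545414046229760320)) (.node (.leaf 967292519461394188814487291400195424) (.leaf 965949888950207515245295682121537984))))) (.node (.node (.node (.node (.node (.leaf 957587566069545633512102561873832576) (.leaf 984288069592934510502760300111109216)) (.leaf 959895661388529822791491081765046336)) (.node (.leaf 982933076931104541839885226116229504) (.leaf 967110160521413782824761644246277536))) (.node (.node (.node (.leaf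 969750674713958613725546528208622880) (.leaf 963498660915927970382960344708070784)) (.leaf 971327788879587223098030135954150528)) (.node (.leaf 975367670335079465831819013004002528) (.leaf 979299747891148924360995978766302720)))) (.node (.node (.node (.node (.leaf 974341021525665377965616720530349440) (.leaf 984812995131708947607529699586349472)) (.leaf 975521323568060661135578703222343328)) (.node (.leaf 980335557884580589315486747078567616) (.leaf 977017109807548914605402436073036000))) (.node (.node (.leaf 976326204520737859882459366940921920) (.leaf 976697623804516466406286140037434496)) (.node (.leaf 964082047005414814690111618140118528) (.leaf 977825569462658370842800834493158432)))))))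

def sixT2 : Janko.Tree (ℕ) :=
  (.node (.node (.node (.node (.node (.node (.node (.leaf 959447366293016975966859141519023456) (.leaf 970569359713651305845929622844820960)) (.leaf 974961115679593076363488417343964576)) (.node (.leaf 984035573042696110403979758451872256) (.leaf 983313522910394664518110729719711040))) (.node (.node (.node (.leaf 982767222610138408022067452561105376) (.leaf 975711314519965045801674532105689376)) (.leaf 965983019642950674854381606150785632)) (.node (.leaf 962280428174729531449307111186640960) (.leaf 980783189763623125626439944114937120)))) (.node (.node (.node (.node (.leaf 961080778931183848617540363749951840) (.leaf 962749074949041656653613246658777344)) (.leaf 980311458395368204356912505767514176)) (.node (.leaf 984114266524660866596095058998905344) (.leaf 957101103701651306864932159220832512))) (.node (.node (.node (.leaf 972910489577773371895783013845879968) (.leaf 961267400749573173595500013275205664)) (.leaf 969027854065066421927398145650726432)) (.node (.leaf 974178461853699902026386794152724096) (.leaf 957060282894937351732900082727031936))))) (.node (.node (.node (.node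 (.node (.leaf 963871262945630998171692886809762112) (.leaf 968857017570730365465281381409341728)) (.leaf 976856987837932468729712300682205280)) (.node (.leaf 965038925238456968883571884907640128) (.leaf 969078532333039312206219633892576960))) (.node (.node (.node (.leaf 961276368402221947066924386963593888) (.leaf 976768769809045884350777606087486592)) (.leaf 957013553973920779423569090965704128)) (.node (.leaf 963885391372161483050904218378850336) (.leaf 959701889323136497166557357820036672)))) (.node (.node (.node (.node (.leaf 966216342370885696814644071220038336) (.leaf 984196449424619582808041010691752576)) (.leaf 976929601254239255349983180016944544)) (.node (.leaf 984358045933931826587190141130261120) (.leaf 969872244249195314147891587015315904))) (.node (.node (.leaf 980218844043184662725892304652124704) (.leaf 965955676083121224539346058710964832)) (.node (.leaf 961197554435067614948660018373319104) (.leaf 976286552473935394014772811925995104)))))) (.node (.node (.node (.node (.node (.node (.leaf 977776248369606095963322037012091456) (.leaf 970190133097608855288820684828251776)) (.leaf 958322954043802719701835585572362592))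 (.node (.leaf 984810348878045244220422570762391840) (.leaf 967881937112129572222024822263845984))) (.node (.node (.node (.leaf 975406771766395363846673958868210912) (.leaf 957302137456431022948548171931243104)) (.leaf 984490577855838999638666488854289728)) (.node (.leaf 958854009729776420490993591001922784) (.leaf 957012277658866632151560836610530976)))) (.node (.node (.node (.node (.leaf 965161780189241577544788288209260576) (.leaf 959609807255580596344000233425480160)) (.leaf 971700578484838590201051327229299008)) (.node (.leaf 958605204580641432903379157058342080) (.leaf 962384414143080575620097828970858112))) (.node (.node (.leaf 962176814886420852315237970895114624) (.leaf 959585445367930203413700142541391328)) (.node (.leaf 980617942492215983992523202177090176) (.leaf 967418136530817045743449628064758176))))) (.node (.node (.node (.node (.node (.leaf 968544741157951647956616419779088032) (.leaf 963538871056507355977833295909467744)) (.leaf 977010578827887205166100145669457952)) (.node (.leaf 963883696403227904963680075059268672) (.leaf 972322883249266599417155063684679904))) (.node (.node (.node (.leaf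 976577200715376806860328859834205440) (.leaf 958766696112109999368541993155567744)) (.leaf 959542307288737045651662613002661248)) (.node (.leaf 961962224622906251222793807585126944) (.leaf 962574484574475052327120430853179904)))) (.node (.node (.node (.node (.leaf 983073831950002503474779311164722656) (.leaf 963630812319608364322426215982991808)) (.leaf 975546172360736179255503560928205312)) (.node (.leaf 980745862277038827818390381078944896) (.leaf 960989566243898882651059801841612032))) (.node (.node (.leaf 966441907179125441919381817855689888) (.leaf 961284272876149103331525837668434304)) (.node (.leaf 984510984787110214675272054159791648) (.leaf 978804112327711209267161884416876992)))))))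

def sixT3 : Janko.Tree (ℕ) :=
  (.node (.node (.node (.node (.node (.node (.node (.leaf 966200800611798782867042596427043392) (.leaf 975019225884672191842831404865997984)) (.leaf 960879975196727618321231244199997472)) (.node (.leaf 973972327038748804226152136132730400) (.leaf 976848118940469388491464808654903680))) (.node (.node (.node (.leaf 963643493087833487661509910778422432) (.leaf 967859097265926605777517352312329248)) (.leaf 973743713393700885752199292095112768)) (.node (.leaf 979406765315989398194836243348620352) (.leaf 967192747488084623252614890888877632)))) (.node (.node (.node (.node (.leaf 981403941056009519935425232448825600) (.leaf 984313622865610984306360983401125312)) (.leaf 967964116632786101251112891485527360)) (.node (.leaf 974390310133780876698104720499772960) (.leaf 982020168304108877798434945615119840))) (.node (.node (.node (.leaf 980749820088048154216733293607560320) (.leaf 979162814508657719400828723300810080)) (.leaf 984237107856811365013911186909496576)) (.node (.leaf 967895050904306397245633691789607232) (.leaf 975434453191828783145702197650184416))))) (.node (.node (.node (.node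 (.node (.leaf 972710952070921528609148941723870432) (.leaf 966585224466050828212570755580350112)) (.leaf 966066837045001412115624796233043424)) (.node (.leaf 966384150935274399048677532414035168) (.leaf 971171370600951502496035657609323968))) (.node (.node (.node (.leaf 981570077458008990785156658844817920) (.leaf 965895290738601190938223814092664416)) (.leaf 968746261546063586774531595900792224)) (.node (.leaf 967727730231291210280645002459076992) (.leaf 967571896526724206649499324627236064)))) (.node (.node (.node (.node (.leaf 967699413127914737033486793646343296) (.leaf 979440465416464647843098783698620448)) (.leaf 984733864999734162645267229398378880)) (.node (.leaf 974065381954288387946184039061308640) (.leaf 967394925727773032912257560421455488))) (.node (.node (.leaf 967893543096304930483336140671829152) (.leaf 967416682096609200399576436256576096)) (.node (.leaf 969276843864598843259901904381301888) (.leaf 984390550473647418153382770602546784)))))) (.node (.node (.node (.node (.node (.node (.leaf 969872467031511315761612846740507200) (.leaf 958114823189634577589753011833675424)) (.leaf 981716414377385300920438054328799712))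 (.node (.leaf 958573914542445028607679477458360736) (.leaf 963502302066493428145275160091570688))) (.node (.node (.node (.leaf 962386771677774226661075380382177824) (.leaf 963795584999954911049689613558455584)) (.leaf 961043562447140183347479237633456192)) (.node (.leaf 981589287885308037884245015914976800) (.leaf 958650085677992020287343090100907424)))) (.node (.node (.node (.node (.leaf 982857740931792141731416773894623424) (.leaf 983991373391219652586593228065782336)) (.leaf 958031506936145958547597441181601888)) (.node (.leaf 962508129645485992914293890853833024) (.leaf 959502781882976350649993575566348768))) (.node (.node (.leaf 979444155622900936917443989451448384) (.leaf 960710130453043989539224210670731872)) (.node (.leaf 980588044332882683783517731948714656) (.leaf 980261077420599214178345114327006752))))) (.node (.node (.node (.node (.node (.leaf 964982583799409005190145551408644416) (.leaf 984683910236004073714224170054176032)) (.leaf 984206979250824079357524904882210112)) (.node (.leaf 984147063300831806430379471894195520) (.leaf 968487915795874802587709934759729312))) (.node (.node (.node (.leaf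 984068330081237583117825747103170848) (.leaf 982130101753741079757249020655904000)) (.leaf 973127680733723566458391676406186112)) (.node (.leaf 965894397213540840378783876232186432) (.leaf 976624903096247074689757083504742560)))) (.node (.node (.node (.node (.leaf 984407306775900672757284535112343680) (.leaf 977662059704955805225906320810095744)) (.leaf 976519552158164404178161939775833792)) (.node (.leaf 959729452380712060872686619252302208) (.leaf 960705073735880028253690725163645536))) (.node (.node (.leaf 967985034059473383113908452110746176) (.leaf 966422655013547647176564543889823808)) (.node (.leaf 961128299518880891218716106044774912) (.leaf 981590096296210210055380206329545056)))))))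

def sixT4 : Janko.Tree (ℕ) :=
  (.node (.node (.node (.node (.node (.node (.node (.leaf 967192472596706831576684574626357280) (.leaf 962328217884386492639480477053668384)) (.leaf 962331026148842798895700337540826336)) (.node (.leaf 972390859139063552202903904719422976) (.leaf 984612391129037251412099495914256448))) (.node (.node (.node (.leaf 984274298169003813156461395725142144) (.leaf 967192618674771758983191562228848224)) (.leaf 972609334448865971217220159278259232)) (.node (.leaf 957594857234906090347673200584370816) (.leaf 964926136170961213216029902015862816)))) (.node (.node (.node (.node (.leaf 983054738319396130096420106464136480) (.leaf 965868852332577002457223004390045728)) (.leaf 964654616356901011691873471542543456)) (.node (.leaf 977864020794653252743521819866288256) (.leaf 976748043653372758254639026682512512))) (.node (.node (.node (.leaf 980714652646844998140513155718651136) (.leaf 981693158586910085088778024692233760)) (.leaf 974422901497743301834158877962246560)) (.node (.leaf 965337536118151101143913626125817952) (.leaf 983260187578707860633672831650309376))))) (.node (.node (.node (.node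 (.node (.leaf 971591654310096355605863779150437920) (.leaf 967940262869969143076243247897857216)) (.leaf 978964070063322710434123084080455808)) (.node (.leaf 967286124906939614775424842353426976) (.leaf 968423678342729490496904764517950976))) (.node (.node (.node (.leaf 983373975894859970558555396561441472) (.leaf 970366779590282714360858471725289760)) (.leaf 971692469999845018405949280219734624)) (.node (.leaf 965365429039352209784498050372374592) (.leaf 958486668166863072529000068802711232)))) (.node (.node (.node (.node (.leaf 973056348317197054358837802630820096) (.leaf 958408869739693549616591958599686816)) (.leaf 973924791879782970329108433111101472)) (.node (.leaf 972340442210375667672252623357297184) (.leaf 977867038990239154542023181934993632))) (.node (.node (.leaf 965336306837706463679141589393097280) (.leaf 971570844991884995473965228211484768)) (.node (.leaf 959467751847473829822523249779841280) (.leaf 973894968217792003236348841591607584)))))) (.node (.node (.node (.node (.node (.node (.leaf 975601861556783594296622583783149600) (.leaf 975349527315828150259259230807140640)) (.leaf 961084045508984696496160048083838560))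 (.node (.leaf 965267941217634160421850141038825504) (.leaf 973943859758867647225923393763412672))) (.node (.node (.node (.leaf 960636490662821115576517259280504992) (.leaf 984038351821268993784682747920650720)) (.leaf 981675544371015617161742718355573056)) (.node (.leaf 977869612782811896444625727070995872) (.leaf 969059424557361660061519094364709472)))) (.node (.node (.node (.node (.leaf 963905460921703288847942796309747136) (.leaf 972398467303370440218648795544854208)) (.leaf 959846312139800495353961098474964448)) (.node (.leaf 978958797958390262235416712259752032) (.leaf 970393562519301987247997108182524064))) (.node (.node (.leaf 962531282684843946597694691464201568) (.leaf 981936273028014214960051013669300896)) (.node (.leaf 967846296606403435319598427594406400) (.leaf 967965997864490485887880173164544448))))) (.node (.node (.node (.node (.node (.leaf 977539029408303263736815570685843552) (.leaf 960620146437875683447719206171364576)) (.leaf 957030969086367626894089112547579232)) (.node (.leaf 970197223775157325421722648767377728) (.leaf 959748777471061846617923208098779712))) (.node (.node (.node (.leaf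 974007195260010376121164346254018112) (.leaf 973775335449574716173689638057552128)) (.leaf 971219471417635066759287505665841408)) (.node (.leaf 979643603125062338064110328674953248) (.leaf 974192108722774539915129280100119648)))) (.node (.node (.node (.node (.leaf 961211807027296909570113427624666368) (.leaf 972520475215663901527265725338669152)) (.leaf 984250007757840264970761676795265152)) (.node (.leaf 970293140158623209060195462965994560) (.leaf 960955749556017061176956015272330912))) (.node (.node (.leaf 979336357685182982487960814865368160) (.leaf 960666594919457963145178763353302048)) (.node (.leaf 965836319518606413023883024676562496) (.leaf 968974665813855422806282345298634400)))))))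

def sixT5 : Janko.Tree (ℕ) :=
  (.node (.node (.node (.node (.node (.node (.node (.leaf 979220005736946233701488405986260160) (.leaf 977943729400976471176654823161380032)) (.leaf 979365425546774167622213518834117152)) (.node (.leaf 956859773074740303908071966313726528) (.leaf 968629666284936625184072097862300288))) (.node (.node (.node (.leaf 960962440568214576676009755079148800) (.leaf 980497521723144415744848803975892224)) (.leaf 960181257778788201718771376188995040)) (.node (.leaf 963746125826408387306647639463932128) (.leaf 979401337185269109263926399080039488)))) (.node (.node (.node (.node (.leaf 973808756792695868233500840237273504) (.leaf 972684964028568595523854150625429696)) (.leaf 967120594960661440318150879238206848)) (.node (.leaf 976291418697152301371535680683234560) (.leaf 984473287470044802754651628862947584))) (.node (.node (.node (.leaf 959466344208479460555193124104249504) (.leaf 973154098816308604691635094000608640)) (.leaf 972503849075685579232578104274041216)) (.node (.leaf 967207847795558998622464118845120192) (.leaf 963358723229858953755261076552037888))))) (.node (.node (.node (.node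 (.node (.leaf 957293626538506201731418874103223456) (.leaf 963562023061850301198978947039142272)) (.leaf 957414880836922955195631845656339712)) (.node (.leaf 978913644166441369006381412207969440) (.leaf 971222041356218168665516791528835616))) (.node (.node (.node (.leaf 960873620802074804279704656988816064) (.leaf 968694783594326514910417853246719328)) (.leaf 958045259051412403842501747731015264)) (.node (.leaf 963717985544459265464542307065025632) (.leaf 981453372423594386347739442576600192)))) (.node (.node (.node (.node (.leaf 971735752218372026292383220610173216) (.leaf 969918023209316998640283692300732864)) (.leaf 972556061591165400885576562955815232)) (.node (.leaf 977498869542823266410039880857129312) (.leaf 962383004040995143854112724120712864))) (.node (.node (.leaf 963622927142280261465895392912189824) (.leaf 958207321848370381127877976457950560)) (.node (.leaf 967742296461094923844816095174863296) (.leaf 972641926857980336188701541746942176)))))) (.node (.node (.node (.node (.node (.node (.leaf 974978133942792548281480178378644672) (.leaf 970045869724605942573763767875080288)) (.leaf 981391292114305998468933579918362912))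 (.node (.leaf 978226022793261971839777155907736896) (.leaf 981770876383066823707675515400893824))) (.node (.node (.node (.leaf 983238143775371338542956434001767840) (.leaf 961401510638604849251995894529958048)) (.leaf 983030604019555686677867749010722912)) (.node (.leaf 976292971321812069492217392058214784) (.leaf 959949147884258258817960446271104608)))) (.node (.node (.node (.node (.leaf 967273425516552274134133576318761632) (.leaf 963377752037605336375125872438951136)) (.leaf 967931355626274263099558655175374304)) (.node (.leaf 959467478191368602338182251679423840) (.leaf 967897543890118380597507941560881728))) (.node (.node (.leaf 979662212765156742532231592630600160) (.leaf 984805128585399437693606889264323008)) (.node (.leaf 967687316570614336148372651242654240) (.leaf 980428032505667411208578941717680608))))) (.node (.node (.node (.node (.node (.leaf 962307014868592315399874914664266080) (.leaf 979170846934742558522424526272376064)) (.leaf 968755197448816344509455050236533216)) (.node (.leaf 975358508117027740089689587307972704) (.leaf 974213932091899681119065840793528512))) (.node (.node (.node (.leaf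 978308697650342774555134523209781440) (.leaf 980577660080544464811355608840487200)) (.leaf 984489211165025024156221853099566240)) (.node (.leaf 981389959038071834958230357860200096) (.leaf 972466291157309833443774691122655584)))) (.node (.node (.node (.node (.leaf 971823465214102796294193485525044384) (.leaf 978830890168662038210226350774168800)) (.leaf 974416728944317098622849749845657216)) (.node (.leaf 966379968174566677879176422321670464) (.leaf 957546743233988091564388037641450624))) (.node (.node (.leaf 963872801129423243971309392585396864) (.leaf 966590061397111559445893685925256512)) (.node (.leaf 967476895896401785438194479459802144) (.leaf 959505710082659290642180714305002688)))))))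

def sixT6 : Janko.Tree (ℕ) :=
  (.node (.node (.node (.node (.node (.node (.node (.leaf 957315891003703385904357835310215616) (.leaf 961212095474928310675234763085819424)) (.leaf 963821859847366050351717120922074528)) (.node (.leaf 968703471521155139108618940626196512) (.leaf 959846827572618519129080668487158432))) (.node (.node (.node (.leaf 976980460742285310623810332933664192) (.leaf 980665376448490766910783496758930720)) (.leaf 972837303528484418147703027871783456)) (.node (.leaf 974106681202564255090742558159374880) (.leaf 961475749554549482842678301341268032)))) (.node (.node (.node (.node (.leaf 972847295069602636612514075311645056) (.leaf 973699391140974593109780722088580512)) (.leaf 967166997047764803570023141791483520)) (.node (.leaf 979547143741345502527290388124174816) (.leaf 967770938612569732924856978764992672))) (.node (.node (.node (.leaf 969993787479676079284418412455962176) (.leaf 968933340434062460192598216095683936)) (.leaf 959604419892448162188464626468262432)) (.node (.leaf 971753936331517668677738052689503264) (.leaf 958526881547726212281228277841462720))))) (.node (.node (.node (.node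 (.node (.leaf 968581024236918968485074802207660608) (.leaf 973866724404911418898173466881893440)) (.leaf 963922092151216404214862765595708576)) (.node (.leaf 957030754026062752730937285913166400) (.leaf 970522972421260153598311770236695104))) (.node (.node (.node (.leaf 966476673565769860287404453734570112) (.leaf 979218585970191336203491879452710592)) (.leaf 968956843351691024011643099213614432)) (.node (.leaf 972974420955260227338597086720600576) (.leaf 958031265409729604457717481804681600)))) (.node (.node (.node (.node (.leaf 957071457671223898812560045584263744) (.leaf 975425935358187491771573700672016800)) (.leaf 956828582223970580103859121927138496)) (.node (.leaf 976576038705586220096180486286123488) (.leaf 978796779839554833834138610173532576))) (.node (.node (.leaf 974174810130096461373539269685644352) (.leaf 968535212534402786027923656308116736)) (.node (.leaf 965367443380916189525088558443564448) (.leaf 972889456311707099065203956595951104)))))) (.node (.node (.node (.node (.node (.node (.leaf 962344887975205771117041340707849664) (.leaf 962126575939870673512817843709260064)) (.leaf 983071330195106597398343818307831008))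 (.node (.leaf 969798547948990164434362282404817120) (.leaf 982792018972963358603030841385037888))) (.node (.node (.node (.leaf 963703818606497513575229670537510272) (.leaf 964999778437746847538434885074628288)) (.leaf 970034802384422467389314543413173696)) (.node (.leaf 977915452372683278934118482554630176) (.leaf 974091249661261369562553767618028800)))) (.node (.node (.node (.node (.leaf 965210029534090022542758122750358720) (.leaf 960684356892260431139828075243812512)) (.leaf 964732101109769910788707174909915296)) (.node (.leaf 969991117902185422044305159375930848) (.leaf 983309653045261259345203171707663552))) (.node (.node (.leaf 959851930175318743044639246154024416) (.leaf 970095057958355660242243589524397312)) (.node (.leaf 980907141133339043561783359984371040) (.leaf 976732927691502817201517497263989280))))) (.node (.node (.node (.node (.node (.leaf 978874813671630228113118923211617760) (.leaf 963848125920653395967680446986802784)) (.leaf 962575910770643624332826275361530944)) (.node (.leaf 974897723387466755027992947587492192) (.leaf 973171854475217563440818176684166592))) (.node (.node (.node (.leaf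 976418241841585441997042011247845824) (.leaf 982974821857733133604398572478240352)) (.leaf 981406708201007272044514115348714592)) (.node (.leaf 983058689173000346573955447046814912) (.leaf 974210107974082642423842895694385184)))) (.node (.node (.node (.node (.leaf 958231688216273194172545392537030208) (.leaf 961249788328774878570507543208597088)) (.leaf 977991951043479800982770428694663488)) (.node (.leaf 967282150633483433902923651306980448) (.leaf 965023724192237968703087915242641568))) (.node (.node (.leaf 974213622832892360503257823972008608) (.leaf 978358968111549204887957698246053056)) (.node (.leaf 979260645134559372784342268669940928) (.leaf 980723688097896452779706324194008352)))))))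

def sixT7 : Janko.Tree (ℕ) :=
  (.node (.node (.node (.node (.node (.node (.node (.leaf 975191065902105881017426719484914848) (.leaf 965975966355076636921082662411943424)) (.leaf 958562299721109872221229885740453920)) (.node (.leaf 971488857070904149465777800249817280) (.leaf 969750452550484688919244659876211200))) (.node (.node (.node (.leaf 984807500446620245996109877441281440) (.leaf 966363806348447596966139651397176512)) (.leaf 971495861423800053464759952430381568)) (.node (.leaf 982689641024623481069643630654402048) (.leaf 965948076606026849690809472121517696)))) (.node (.node (.node (.node (.leaf 980134386442344573170718009236599840) (.leaf 972724172827631566094083106792491392)) (.leaf 964578301137710108320594770890597632)) (.node (.leaf 957457022685887981000164279606202528) (.leaf 965120976543515844243576466246509120))) (.node (.node (.node (.leaf 966322625595980859313521026176075872) (.leaf 984452956847386804485874273959258208)) (.leaf 970052372916439883055334305611981312)) (.node (.leaf 958750953314749350685037493469388096) (.leaf 981858863022348914237286822357019040))))) (.node (.node (.node (.node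 (.node (.leaf 963480476332392385431197638467167392) (.leaf 980779531692853902704244001219120576)) (.leaf 973624649677935455047820701911928384)) (.node (.leaf 970251557512354171650813148732236000) (.leaf 975753137800161661744442002697136320))) (.node (.node (.node (.leaf 971696897103905076030879319014880928) (.leaf 983465032074832573966155921581650112)) (.leaf 971049695801318289325732980650452224)) (.node (.leaf 957398368885615194417084681351704000) (.leaf 971133907875693104476137374436558144)))) (.node (.node (.node (.node (.leaf 968674313114828649627685071755775008) (.leaf 973663712416763127867042314603113568)) (.leaf 971305189137355203696283921084890176)) (.node (.leaf 977939838568805540090072132688721376) (.leaf 957104979525691427581651248406335872))) (.node (.node (.leaf 958604496406515507403758743534742848) (.leaf 959622977994039045276205027032190240)) (.node (.leaf 972960302360850764893795204383167584) (.leaf 971164145993253657554371126713461440)))))) (.node (.node (.node (.node (.node (.node (.leaf 965309015793862583356438072097161888) (.leaf 971430418169556786112609100029467136)) (.leaf 968670578374016720823572061435795712))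 (.node (.leaf 975303206827095697678002952235257376) (.leaf 960178625809719243470395247825588544))) (.node (.node (.node (.leaf 984736860871578052881815247893511200) (.leaf 971095377182989510680503871665677504)) (.leaf 975156083012817023920749566168778144)) (.node (.leaf 976767000513264618995301819626326336) (.leaf 972763005930467281380515035061951776)))) (.node (.node (.node (.node (.leaf 982780442656076247758555356241907392) (.leaf 981516959878157392742578509825366496)) (.leaf 983553708362578354282347386597115008)) (.node (.leaf 981562205550587008086620863975239328) (.leaf 969259916659143044822831094951103136))) (.node (.node (.leaf 970211854176185965914585671892254880) (.leaf 974981306484013497269881538900837664)) (.node (.leaf 980311264502865745207897137939261920) (.leaf 977546996658214605185779830240621728))))) (.node (.node (.node (.node (.node (.leaf 979084494877741230602574722046831200) (.leaf 974453612757496949248931877246507616)) (.leaf 979401679773265014196197638775676544)) (.node (.leaf 962304167648049397272018142760439264) (.leaf 969203011263928383428040782113251520))) (.node (.node (.node (.leaf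 978346289128735140090220176087462976) (.leaf 972588589891025362179959276806132160)) (.leaf 983068199498402185976384342862698848)) (.node (.leaf 976655190742464106834599912697020096) (.leaf 973160512541474999348582199472608576)))) (.node (.node (.node (.node (.leaf 969835645515985539998693049151937024) (.leaf 984641923529097803019139802523488512)) (.leaf 977509844732250037683413848636994912)) (.node (.leaf 956904399656272167834682856139172256) (.leaf 977944492009779473563588759302902336))) (.node (.node (.leaf 958695253267638960083651930775401984) (.leaf 976329625389419588475940067434737088)) (.node (.leaf 956788974713097819148974606692489664) (.leaf 979297493436504509207217173198832704)))))))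

def sixT8 : Janko.Tree (ℕ) :=
  (.node (.node (.node (.node (.node (.node (.node (.leaf 962242330036770720412112697012305472) (.leaf 980866426574216386172539615486040096)) (.leaf 981874122298095464889613135060214080)) (.node (.leaf 958478284594296724510689077235955136) (.leaf 965852439604095403810423334274016960))) (.node (.node (.node (.leaf 974206768126776268012033221727469152) (.leaf 967229583518523584458624735277827744)) (.leaf 957478494232286747884210057912060448)) (.node (.leaf 963600073021774348757517857140162240) (.leaf 984348819709599812007774340510158176)))) (.node (.node (.node (.node (.leaf 980880307520726202305559919970431296) (.leaf 966509399253067562882696661992909024)) (.leaf 978266687809409507337551536581188896)) (.node (.leaf 963562282518371135330859587115981952) (.leaf 983345339259937187680421426004309088))) (.node (.node (.node (.leaf 967557483126809198988461513492596064) (.leaf 973766696727804410930137371419137088)) (.leaf 967127815323747355795358083653415424)) (.node (.leaf 968736854400210605908728733400946048) (.leaf 976198184015628398460977456927443296))))) (.node (.node (.node (.node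 (.node (.leaf 974272677330235301900500980217552448) (.leaf 980112791964878184262401474964204960)) (.leaf 958240680411957269474391642240197728)) (.node (.leaf 975402236913378929082267607906199072) (.leaf 962058955972716316258924995498479040))) (.node (.node (.node (.leaf 984688541323124696769847762355340608) (.leaf 965860286704038585715718782936715968)) (.leaf 958811954093797689679532092535676192)) (.node (.leaf 969017812364700869327038761364995488) (.leaf 968917583732806543928139090700611936)))) (.node (.node (.node (.node (.leaf 964807107901264899399742080180437184) (.leaf 958153078606866367459848695693432192)) (.leaf 958371914291231585367252230427973248)) (.node (.leaf 979222164434701349372001189686852832) (.leaf 983116334313219400728337348034115776))) (.node (.node (.leaf 981562915166386869791660185353436256) (.leaf 984690016226783425897081976209354336)) (.node (.leaf 971612959532648607448599968819157344) (.leaf 967967996557399086919247039850317184)))))) (.node (.node (.node (.node (.node (.node (.leaf 978307464897481908456499845586835648) (.leaf 958611530476881334933007774575540928)) (.leaf 959968330855660428617428333457193248))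 (.node (.leaf 961471757239138015889270330732132768) (.leaf 970256011267228911058333790725329280))) (.node (.node (.node (.leaf 961372769302255695617835874487014720) (.leaf 957519341377883539235623502410228192)) (.leaf 980195068516140292652431835498954784)) (.node (.leaf 961445284198318680544209857271923936) (.leaf 969709789293146785398539196851206816)))) (.node (.node (.node (.node (.leaf 963633305693533184008039989841841280) (.leaf 961272588722995271479205013263757792)) (.leaf 963340474983013027976235201962027264)) (.node (.leaf 983375302744298038705783533644135616) (.leaf 975717058599330290446152975903832192))) (.node (.node (.leaf 982057060323380468766010616107438528) (.leaf 962185492950094608543598850496344736)) (.node (.leaf 967964909997237036835525480262742496) (.leaf 982832623332490803614395284391773248))))) (.node (.node (.node (.node (.node (.leaf 959827600519025436427456329482449184) (.leaf 975019264298781029824973034491399360)) (.leaf 959980961439030245164873793593267424)) (.node (.leaf 980258151073580719472085763194665664) (.leaf 971261550232081119036102021028820672))) (.node (.node (.node (.leaf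 976328346582717338883291014863565440) (.leaf 965175994570291340239818172052160576)) (.leaf 972686174297352628689494764588084512)) (.node (.leaf 984037042361452061575227810453656704) (.leaf 959994591542175929608689862955934752)))) (.node (.node (.node (.node (.leaf 975187626712511829117063417501389504) (.leaf 983299347697770290390912585293912096)) (.leaf 976564099702911205111494679669649888)) (.node (.leaf 969121642680059040676836512625823104) (.leaf 961941625045690499252988874694545504))) (.node (.node (.leaf 960624597844003767966657829691299456) (.leaf 960990333456638626062221124435102784)) (.node (.leaf 963224991061270046752034790232831456) (.leaf 970402634239251057925319391964246560)))))))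

def sixT9 : Janko.Tree (ℕ) :=
  (.node (.node (.node (.node (.node (.node (.node (.leaf 961319348135034809588361756972072032) (.leaf 967376043300300947900718966998972608)) (.leaf 958670300251147388046947655651759328)) (.node (.leaf 957582239195540904243774353429644768) (.leaf 971100470675126246391899458866644384))) (.node (.node (.node (.leaf 973163533025605927110689151074539104) (.leaf 977866444803226027505045150540154944)) (.leaf 969142307269684273825445656222814720)) (.node (.leaf 960670766920446220337534367865443744) (.leaf 960722270157882409449442089275764192)))) (.node (.node (.node (.node (.leaf 959381269349505558815373856533371104) (.leaf 957256533024173959705152736633962048)) (.leaf 962182624288213364200256737753126464)) (.node (.leaf 973866996180192764206538939350467840) (.leaf 963824087155246901336742607310598496))) (.node (.node (.node (.leaf 972876876882247539593008971790332544) (.leaf 975113656005621105244768544546181824)) (.leaf 982120435889179149360230169195392384)) (.node (.leaf 959579398804546175295697713543616576) (.leaf 977718764632990061571854705921337600))))) (.node (.node (.node (.node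 (.node (.leaf 958202162492826866806009822641706080) (.leaf 972633700962244841735744899033251168)) (.leaf 981929266331776297208356388603632992)) (.node (.leaf 975646596351480818649672134269454496) (.leaf 974065638196309533179648419292135904))) (.node (.node (.node (.leaf 960632255582121344033426975707480160) (.leaf 957378324106317031047214007813943968)) (.leaf 970574842527676752927787086419004832)) (.node (.leaf 958372282529393668407799583714415968) (.leaf 959771789531410205884840574540876256)))) (.node (.node (.node (.node (.leaf 977819529241429542309699616628201920) (.leaf 975234091133135207099335096882803872)) (.leaf 957463337372916691991112628881832000)) (.node (.leaf 963805197569455457287751647348494496) (.leaf 963785010470438575009082562136028608))) (.node (.node (.leaf 958574690655605167474520606297576960) (.leaf 973696458302521447695511022489379104)) (.node (.leaf 957384851855119171230782368553556224) (.leaf 967171345601809461199271501433914688)))))) (.node (.node (.node (.node (.node (.node (.leaf 962548058129573586749516960719026880) (.leaf 970002834321992458266455983239972128)) (.leaf 963765213004272548534312316871003392))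 (.node (.leaf 981926554040800678709072468679920224) (.leaf 962323104581254496336103612506284608))) (.node (.node (.node (.leaf 971094778139235348784395124548876512) (.leaf 975669207539447856624942800577241312)) (.leaf 980499908066540791212517539303414080)) (.node (.leaf 973174465237745917205386591204782240) (.leaf 980670134896516356806438397783673120)))) (.node (.node (.node (.node (.leaf 973096864617879750364451424764661120) (.leaf 970158528494237734229421382674090592)) (.leaf 957110712842596041041976307500717152)) (.node (.leaf 976286666979157304475439098113572544) (.leaf 966542624242488063439542965435057280))) (.node (.node (.leaf 983292966975781458906607767566885280) (.leaf 961445212472711792123476932433413632)) (.node (.leaf 964931880157201382185375848294661632) (.leaf 968861886459872650721751212973730848))))) (.node (.node (.node (.node (.node (.leaf 970149695052516904311819539187894496) (.leaf 978923546345218723180417260719363456)) (.leaf 981533687166776739078892477158110560)) (.node (.leaf 968586646839696665224471157542552832) (.leaf 958685235988587239711702357791453312))) (.node (.node (.node (.leaf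 979098504468772786355707991733747392) (.leaf 982740229822454543270366987661035104)) (.leaf 971082935538188087694484425469902048)) (.node (.leaf 967134542090425566280893153797093760) (.leaf 966482255392977859671611523264009600)))) (.node (.node (.node (.node (.leaf 975407749997247431100178534725145024) (.leaf 973002017908091414204084583854100960)) (.leaf 979000357290888577130058631620083296)) (.node (.leaf 965211274591468852668338534706594496) (.leaf 979159020976907339448860459610330464))) (.node (.node (.leaf 981614999771656477456061096702251232) (.leaf 965910638833099331793931118444105344)) (.node (.leaf 958480172848328259243554250048341120) (.leaf 974905882469116949552090864749578752)))))))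

def sixT10 : Janko.Tree (ℕ) :=
  (.node (.node (.node (.node (.node (.node (.node (.leaf 965827164733223677507026719469016416) (.leaf 968569383391941565559293937007761952)) (.leaf 965174537643366446512832697829887136)) (.node (.leaf 968547738790048939457201498892615840) (.leaf 973606608838450590819516896432511552))) (.node (.node (.node (.leaf 977824260906321079319632217114294368) (.leaf 958552603084946986238825132112133664)) (.leaf 964608171020869817974623586079672448)) (.node (.leaf 971025563668785408801941099448154656) (.leaf 981800044612506070855634676047454688)))) (.node (.node (.node (.node (.leaf 970474094796234094578012028655538720) (.leaf 984036914959066627409012927031092896)) (.leaf 979464554615221518817977884518815776)) (.node (.leaf 971286788251201930424927291302217184) (.leaf 964520231901658849142483719201822368))) (.node (.node (.node (.leaf 971174404136265038731633167020788384) (.leaf 957024906048374299360185954680116512)) (.leaf 975598178425545048566915088600540320)) (.node (.leaf 976495752751654779818954562669786144) (.leaf 962546916810408558666523385702492512))))) (.node (.node (.node (.node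 (.node (.leaf 982102852258681004228587434697628000) (.leaf 976945642953270763596672746035518112)) (.leaf 984793802609988702696570036820184704)) (.node (.leaf 962664548314934413572682600086341184) (.leaf 958370898411976550695696074131705280))) (.node (.node (.node (.leaf 981612414191153999637711380586710368) (.leaf 977949556616867389345453178984019072)) (.leaf 973983036305276040363610527060020448)) (.node (.leaf 976416881625547801736167051164391008) (.leaf 977061326708104442218274032579708576)))) (.node (.node (.node (.node (.leaf 962617465735897946208559957143992384) (.leaf 970417835946569166092436959784976928)) (.leaf 979319950941892089588003979002433920)) (.node (.leaf 973785784220847537638447608797438528) (.leaf 971540162422612586969264132175924288))) (.node (.node (.leaf 981876965793909700175635105351768768) (.leaf 957277298352301908073052486268735008)) (.node (.leaf 969031617010147033379558433620168992) (.leaf 977068772957652397771357048985440704)))))) (.node (.node (.node (.node (.node (.node (.leaf 979667651387957506273638307072423040) (.leaf 975585620368714497087007715803448992)) (.leaf 974109801740456077667305235259936032))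 (.node (.leaf 983188748397277109430715625763885664) (.leaf 966151456359729292299716351347634528))) (.node (.node (.node (.leaf 958428946314871726014782893447460384) (.leaf 962739090695932960847216647267362336)) (.leaf 966553756153266480733172318454105120)) (.node (.leaf 971146146253047994031333394554718784) (.leaf 980251511901326575227295404538581216)))) (.node (.node (.node (.node (.leaf 971817255560731555064699892114435136) (.leaf 981974453087138264512583131732421952)) (.leaf 968509827458149677525062416400173408)) (.node (.leaf 984390359346555316456886332627915904) (.leaf 967850149244602825797766942098407680))) (.node (.node (.leaf 976849062591573613178973092515493472) (.leaf 962422054256786564780109087209725216)) (.node (.leaf 978073986279760442286161367656568512) (.leaf 974983085552735939251886291290395712))))) (.node (.node (.node (.node (.node (.leaf 982244701550284965974338762469410048) (.leaf 984189055248354759701061203214514848)) (.leaf 976707738776441294058329583491745248)) (.node (.leaf 960035233273306306328584152072366368) (.leaf 957149223858069462160475540969249152))) (.node (.node (.node (.leaf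 957073046551599455921308021971883136) (.leaf 968978939299081312449475759349937728)) (.leaf 981915191879616075300641323668200000)) (.node (.leaf 964880714653299064435011299254219840) (.leaf 973006393446778394524611789954098528)))) (.node (.node (.node (.node (.leaf 962367782332551753428086209131959712) (.leaf 961402834611505383529288958651940288)) (.leaf 957270605807300602271336842964276832)) (.node (.leaf 972630436485316681557658160068233312) (.leaf 962127199361257991425142668910443136))) (.node (.node (.leaf 983217856431972855639167470222484000) (.leaf 971544356628736243023961613154111552)) (.node (.leaf 981444907028150532537037293214935296) (.leaf 983313227407230391882185817332196032)))))))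

def sixT11 : Janko.Tree (ℕ) :=
  (.node (.node (.node (.node (.node (.node (.node (.leaf 962143764540510861377641207012342400) (.leaf 960033243712395851226997048130910720)) (.leaf 984000242226397923894822209003411008)) (.node (.leaf 971777243135242243405471978824746112) (.leaf 972675212605537370150455216972238880))) (.node (.node (.node (.leaf 976457455613239770314658036377630048) (.leaf 976245997596921931412705254522927680)) (.leaf 977911570340732293783621836123623680)) (.node (.leaf 968870760706677726522382828014587424) (.leaf 970047298177240021757610567374390304)))) (.node (.node (.node (.node (.leaf 966059186956358652661233627785482400) (.leaf 980594266895055903678922709974268224)) (.leaf 979207618783720667827075309015446720)) (.node (.leaf 958369943905586418487556201356404896) (.leaf 982902779902353519903951251406393856))) (.node (.node (.node (.leaf 956866455533236412061619007364213248) (.leaf 958274457952581971844618031110609472)) (.leaf 961932932150518327309192483399474752)) (.node (.leaf 984311814397495098764199940160401728) (.leaf 966011961020378269457884364374747296))))) (.node (.node (.node (.node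 (.node (.leaf 958720800812659694126843848831514240) (.leaf 975636396222375965111957776024377696)) (.leaf 960831105201369117494515004950064800)) (.node (.leaf 973683112063557488263566431603006016) (.leaf 978028313159605721013517213805063552))) (.node (.node (.node (.leaf 983234423838836497878084361041265120) (.leaf 976337405191030364420100903509085408)) (.leaf 972399887135569667066220387099102752)) (.node (.leaf 984528899711191849282633079428794976) (.leaf 957256895584622198169445481507925248)))) (.node (.node (.node (.node (.leaf 978807824974621899163293662757729920) (.leaf 975202857204707145168341992656317568)) (.leaf 983461562600528484151329656597954080)) (.node (.leaf 975434769839394066844618212049032768) (.leaf 958510320254612181087617364163473024))) (.node (.node (.leaf 965265559721001940238161264695138752) (.leaf 963270231249596873902136777634063520)) (.node (.leaf 963925610862843447203150286823924128) (.leaf 974378962386363367354212081164567136)))))) (.node (.node (.node (.node (.node (.node (.leaf 979125885277855046864423511292265856) (.leaf 980955504840840341053538256975173856)) (.leaf 958770595541816358397465441749771840))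 (.node (.leaf 969080150222632711555053013303822432) (.leaf 959670381195427762597325249624756736))) (.node (.node (.node (.leaf 968702627407403119473122351298170016) (.leaf 978881820880140040649246014146190880)) (.leaf 965861710365071657390517249681497216)) (.node (.leaf 981602074878498710564628486595060320) (.leaf 967240669580872753899023419613388448)))) (.node (.node (.node (.node (.leaf 957355382884563766825482604862677312) (.leaf 982865661293767034744741453886635104)) (.leaf 958520633569451056132691015296388608)) (.node (.leaf 958795577718320416852516557960944896) (.leaf 956976911799493170810652515987243392))) (.node (.node (.leaf 984607445781105305455471885957083744) (.leaf 981610922475771792032877174814250272)) (.node (.leaf 962483212510354093318219922426728896) (.leaf 957545764168196490582769702421117536))))) (.node (.node (.node (.node (.node (.leaf 982822723684156224441007932795070752) (.leaf 967537582235455800245242246531162176)) (.leaf 984432763659422200272198999308806304)) (.node (.leaf 969801418991931163186924689587122752) (.leaf 967676790527829538472358388072294592))) (.node (.node (.node (.leaf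 963922205149677308694436633736417920) (.leaf 960018661040079507536476325910561024)) (.leaf 973624213285118215025119507787260288)) (.node (.leaf 975316001331368387077598434430502080) (.leaf 956948983985769254610548384101586400)))) (.node (.node (.node (.node (.leaf 974464853798440108082534688424995360) (.leaf 966634744649939913969294528227251616)) (.leaf 963258876449269907059151905056428320)) (.node (.leaf 971261543422784172970723474083565920) (.leaf 979327933408378775347895282314852000))) (.node (.node (.leaf 968988811312700862644108362307442016) (.leaf 956786235010496572156657218384010560)) (.node (.leaf 977672048465993340141752301192851904) (.leaf 964084393501588780570253381963195520)))))))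

def sixT12 : Janko.Tree (ℕ) :=
  (.node (.node (.node (.node (.node (.node (.node (.leaf 979324245122105279511863676829218464) (.leaf 959939398292328948748093872811885600)) (.leaf 972831913668283680610789765849176416)) (.node (.leaf 958854257310442446109451043773464832) (.leaf 980555717314653512389467799233679552))) (.node (.node (.node (.leaf 978308530219271422805781992661601536) (.leaf 973854410942267408710996964624420032)) (.leaf 973046510107449491382016247773335168)) (.node (.leaf 969000497640038547535881837068981536) (.leaf 967641438557064839460999827430689152)))) (.node (.node (.node (.node (.leaf 967772761121140495377027164730054208) (.leaf 980560898803150659083165970379060320)) (.leaf 963793845306252976935626785741636672)) (.node (.leaf 969102534502743667247966913135325312) (.leaf 971167981976338606682962730536356064))) (.node (.node (.node (.leaf 968689805756314265762627811551612608) (.leaf 962138536893400797702781022095154496)) (.leaf 962290108752573713813970098004926560)) (.node (.leaf 974291352857205949685821752779212160) (.leaf 959320443207040656529919981164566112))))) (.node (.node (.node (.node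 (.node (.leaf 981394145138371703600341207836308128) (.leaf 962653084081132447451962035459537376)) (.leaf 968852260725679615660706341806525728)) (.node (.leaf 972714579227042247338050242602514464) (.leaf 979574515166021532783448669803783488))) (.node (.node (.node (.leaf 974420563232704680582417232678013536) (.leaf 982243724033291220125782148280485344)) (.leaf 980514315537793342786399408683721888)) (.node (.leaf 973658676788410273476177898278292768) (.leaf 968909092113013331609401642484645152)))) (.node (.node (.node (.node (.leaf 962486639314586914726897111578321440) (.leaf 960177691623047108066279452631644512)) (.leaf 976463705034728268010728251327724704)) (.node (.leaf 962404735726626682807927880138016800) (.leaf 960066675830502677873292967189685792))) (.node (.node (.leaf 978247607865224597177483800521773472) (.leaf 974384121798541971797401685353537088)) (.node (.leaf 973621003370673142692794525287687552) (.leaf 979368403016671174797185239610928160)))))) (.node (.node (.node (.node (.node (.node (.leaf 956968791425173710759521255204503616) (.leaf 972646168270649455164591855148472704)) (.leaf 982143564592163342537024749495753760))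 (.node (.leaf 959934024196377077197059034992824672) (.leaf 969950988926386791298700000981210816))) (.node (.node (.node (.leaf 959661792154429620275036269868240448) (.leaf 984475896618376257996229225870733632)) (.leaf 967881026102878198825830738187109632)) (.node (.leaf 983229986686822297147562121872549472) (.leaf 964798074575514761688058488568464576)))) (.node (.node (.node (.node (.leaf 974458367031426043265400002415349056) (.leaf 960794605460229091480048722027744736)) (.leaf 981850433706914794043397817925709504)) (.node (.leaf 982206716658848224786359522180875552) (.leaf 963520080987698286851701261277926080))) (.node (.node (.leaf 984291886767693629601277304896014400) (.leaf 976240715844638919291196776618888864)) (.node (.leaf 978963551888361740426438462781399456) (.leaf 974469140958015768419497876841902432))))) (.node (.node (.node (.node (.node (.leaf 976966400238912505311257290921554496) (.leaf 980860585813227315481514765736842272)) (.leaf 980258423761452569525945152389066368)) (.node (.leaf 975316926753749867305852685494192160) (.leaf 963517278299668503854163186689556096))) (.node (.node (.node (.leaf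 973624751004366842099063124912317088) (.leaf 984081543431948720797344500260656640)) (.leaf 972669125505038189521874216024581184)) (.node (.leaf 983481771346566390033283551705148832) (.leaf 974265799864618500207106393127570080)))) (.node (.node (.node (.node (.leaf 972435742876531644712374991705542144) (.leaf 965817371281107343119485720989416992)) (.leaf 974390155275491990349381783598964960)) (.node (.leaf 957535622881551090805767171045203200) (.leaf 983471559505423791930858648931478752))) (.node (.node (.leaf 959494987662468527595500060495432160) (.leaf 964554849260465083126058966001856000)) (.node (.leaf 976888692096658870924265842311268768) (.leaf 969266528238731854132191517390197248)))))))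

def sixT13 : Janko.Tree (ℕ) :=
  (.node (.node (.node (.node (.node (.node (.node (.leaf 959386225453596443289369803289218560) (.leaf 970557923078824964727272733569761600)) (.leaf 978076150757598100476028693937268352)) (.node (.leaf 962044822455853149298058681214345664) (.leaf 970085649963940713659587985418620064))) (.node (.node (.node (.leaf 976418619452214714332495881332018464) (.leaf 972966468661701772884816850483269056)) (.leaf 971747339386261864759984390786395808)) (.node (.leaf 959485519797235263732167667929663712) (.leaf 983416016939343765059083570803644736)))) (.node (.node (.node (.node (.leaf 981898433165118616649721106629333216) (.leaf 964891590318071030793353967851425248)) (.leaf 973777787478858446986137208740129408)) (.node (.leaf 959339404713527578470444748656511232) (.leaf 956868409268466663313940429050154656))) (.node (.node (.node (.leaf 964679744130905900839102979497148704) (.leaf 969096726421218552233962185043433856)) (.leaf 978878928271902157992665578853672288)) (.node (.leaf 972308893897031822253031265037658176) (.leaf 967159670968258769912494688450007712))))) (.node (.node (.node (.node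 (.node (.leaf 964739750612073252472025608559429120) (.leaf 961308401027600517857810449810245024)) (.leaf 959370895262073198426358195532844256)) (.node (.leaf 980387717234602128654471285639219392) (.leaf 982738018371065241460438713443439008))) (.node (.node (.node (.leaf 972505073469410410453351383327704672) (.leaf 979572211905844433579228628079657664)) (.leaf 980675272102135010467728540748521024)) (.node (.leaf 973089529140510610547820370882243808) (.leaf 958365885020677338320251092295208576)))) (.node (.node (.node (.node (.leaf 978961739792428545131475887126652416) (.leaf 972853488004662753203383353350695136)) (.leaf 984635342226641984909082405797041728)) (.node (.leaf 961360201632631418017201647205747904) (.leaf 976857021911133859483295895728142528))) (.node (.node (.leaf 976575738979630263198322200079114272) (.leaf 974956874459480251558475383816495680)) (.node (.leaf 958233784979359359606831894970943520) (.leaf 956892930700356666923414208294534464)))))) (.node (.node (.node (.node (.node (.node (.leaf 964037394395012134723843863964304704) (.leaf 971245390874865751513766077236197440)) (.leaf 958112287938594511280936704356655296))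 (.node (.leaf 970379687513480801349375238828662016) (.leaf 983100213658067330227846064100161152))) (.node (.node (.node (.leaf 961126927746287874952264441367439520) (.leaf 957500296066855005407492402491934784)) (.leaf 957389951196949695039392965829380480)) (.node (.leaf 976252523642870488233780597210269984) (.leaf 959972296273729602473717661485678880)))) (.node (.node (.node (.node (.leaf 972431718217522655852446219623615584) (.leaf 980468656745390953165902936248786496)) (.leaf 958898495720652084604142370520551712)) (.node (.leaf 978357731491775975431375608308123680) (.leaf 967804434718710670121659009138492672))) (.node (.node (.leaf 960947703749786111825368593655662208) (.leaf 984769619221235766656161688825539776)) (.node (.leaf 979324804053706581890126662316267040) (.leaf 972448493569621599516143383695985120))))) (.node (.node (.node (.node (.node (.leaf 960942830182291538238683298025461184) (.leaf 980923307197725292236638083409758528)) (.leaf 967254389589694539858424906243186912)) (.node (.leaf 983475902710412486677914862626505920) (.leaf 982773277658458019548412070296065152))) (.node (.node (.node (.leaf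 975108693494503441579367582598927680) (.leaf 973881898467304457077792891094541952)) (.leaf 970071504231232848994611399387822784)) (.node (.leaf 961494561319467401838237874253993280) (.leaf 972935082458265398952242134568371392)))) (.node (.node (.node (.node (.leaf 980911284424097095421382776580390400) (.leaf 956785209491839087683688028882805248)) (.leaf 974958439386600364457857340210877696)) (.node (.leaf 964999892487355207511286840635502176) (.leaf 984489862521089199238606646960902464))) (.node (.node (.leaf 969825378933526303258064849090153952) (.leaf 978275878609776634438726872029642432)) (.node (.leaf 977577368372370046041893394996013664) (.leaf 973924826424157798854083843857199264)))))))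

def sixT14 : Janko.Tree (ℕ) :=
  (.node (.node (.node (.node (.node (.node (.node (.leaf 970478105224202686277638540428267200) (.leaf 981730005735958458713027475536023776)) (.leaf 976371526483031279223947193959390880)) (.node (.leaf 979094661683427974989723543296779680) (.leaf 966256818011526524294889482403589248))) (.node (.node (.node (.leaf 979120136667291789987279048821254560) (.leaf 957091004540375337443161779382821216)) (.leaf 957070465418851429856821402883301888)) (.node (.leaf 969849425065908929543745133099749024) (.leaf 963967669725046620774525040513562720)))) (.node (.node (.node (.node (.leaf 983136863949338911709139886886265376) (.leaf 970242666292087093049727712018730592)) (.leaf 982950360254344013414614139195169472)) (.node (.leaf 971777437413697110453761339257208320) (.leaf 968715315892082330842295468739177664))) (.node (.node (.node (.leaf 978198133161958261272066817662212320) (.leaf 963394739968320841310876430801909056)) (.leaf 982778099079635319794565728352377536)) (.node (.leaf 959741400476024904130960825052246176) (.leaf 982940848418556389590378919236125376))))) (.node (.node (.node (.node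 (.node (.leaf 978025605090758191128819819825670848) (.leaf 971691077447936945752742771528511008)) (.leaf 970083175466308849171907877038171808)) (.node (.leaf 980426980060611836398540287593107904) (.leaf 967738737231001761267667345002966112))) (.node (.node (.node (.leaf 980953236772391295311095852505798944) (.leaf 978033067395283345874646500636901728)) (.leaf 964040769166567801179267569640871424)) (.node (.leaf 957105659153013036440174700563801696) (.leaf 979615097861260608014487545574511104)))) (.node (.node (.node (.node (.leaf 979322286866016395613203276637752448) (.leaf 977900497048308866739248086723008544)) (.leaf 958638210060374755876233535019457696)) (.node (.leaf 966557163877916694374601355756776896) (.leaf 961049299161958666429185888110263712))) (.node (.node (.leaf 974026004172865298509324676430645632) (.leaf 960881028189185935197406786971453632)) (.node (.leaf 981921606841909896373620504605689152) (.leaf 963360706682374629473550343652818304)))))) (.node (.node (.node (.node (.node (.node (.leaf 973818562517985528246074105126404192) (.leaf 957540841075208525927485314819361088)) (.leaf 981799328505903560817220972219934144))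 (.node (.leaf 975508618641191405609263877768791328) (.leaf 967843676516552714242178947721203040))) (.node (.node (.node (.leaf 966278601662499998047844703579180608) (.leaf 975315883128818170363239666461135360)) (.leaf 974172084113888693457696085670200448)) (.node (.leaf 984758406917167964320576948980417760) (.leaf 962545376699500547372741264252393056)))) (.node (.node (.node (.node (.leaf 980880480909641990214714290035795296) (.leaf 966628589897067046443594513113532896)) (.leaf 981514615717652634471703680311153888)) (.node (.leaf 970054988548465785577749088576981184) (.leaf 971861470016166584640166192601928800))) (.node (.node (.leaf 959848172689933849228163491635140064) (.leaf 961447283477409934347030278258667776)) (.node (.leaf 957230011273924350951214655579769344) (.leaf 980914659961428348204934511295237280))))) (.node (.node (.node (.node (.node (.leaf 966077198815438251355622747225659808) (.leaf 958393790616648519719939141316682368)) (.leaf 964801999660302447177471384903329312)) (.node (.leaf 964043383471044584942535886797711808) (.leaf 963639324775884677131012164029761792))) (.node (.node (.node (.leaf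 962450103595731821174723580023851104) (.leaf 971341275540436318518840125563716224)) (.leaf 966268553291842380898245441224903104)) (.node (.leaf 965866860471764020524911879348853952) (.leaf 980712354128401936946367839708854400)))) (.node (.node (.node (.node (.leaf 968939090920438039969241505441304128) (.leaf 974347077522221297251617253998703744)) (.leaf 962686323453280120594660011702438176)) (.node (.leaf 977962185667601072668615701704064608) (.leaf 981406474546162383879933705551200608))) (.node (.node (.leaf 958238759331020712864850642125503168) (.leaf 962538655304074708084634502809590816)) (.node (.leaf 976608226123952184166126602051423840) (.leaf 983459918425398861475462274297830528)))))))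

def sixT15 : Janko.Tree (ℕ) :=
  (.node (.node (.node (.node (.node (.node (.node (.leaf 958598114472283652290683633751464160) (.leaf 982954504511381150039481060614939168)) (.leaf 977636706344195244042721376303666688)) (.node (.leaf 959811207160700931784693215193123424) (.leaf 983393123120464461167395490386679200))) (.node (.node (.node (.leaf 956988234165940028089265064525827456) (.leaf 973015773526371583739234493212598720)) (.leaf 977829428153578116313496491205840096)) (.node (.leaf 975205168008974174155418492774460608) (.leaf 964596322066793452929230682068490496)))) (.node (.node (.node (.node (.leaf 976221098927832938405921894189085856) (.leaf 966588165725760656318867826383300256)) (.leaf 963885210947533416544757517705590912)) (.node (.leaf 958854126979183919363814303249929920) (.leaf 968866825064856026728770489256610080))) (.node (.node (.node (.leaf 961997756519727017431025390195128992) (.leaf 965281803988140743016200210269713664)) (.leaf 963636993949691085439436083577567360)) (.node (.leaf 970286601186311422083273616112355904) (.leaf 963880453095335255896684151165048960))))) (.node (.node (.node (.node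 (.node (.leaf 973122181770973438990522784456880832) (.leaf 959847651736106691772562746361091584)) (.leaf 958107405046026333640095352959485248)) (.node (.leaf 968910458881203401154962607835273888) (.leaf 965386027195046170013495357501652320))) (.node (.node (.node (.leaf 980227568843442111948164895915456736) (.leaf 976411089048176753603559510416788832)) (.leaf 984592233517021660209966295320760864)) (.node (.leaf 968492072096558655510917824633314912) (.leaf 984206798627350415489696214838252928)))) (.node (.node (.node (.node (.leaf 957231662742149456289611334933400832) (.leaf 962212062639892483100910608570603712)) (.leaf 982248519689613783732374685591225920)) (.node (.leaf 973655856341431559157428326565105312) (.leaf 966381444491566563489590565176382848))) (.node (.node (.leaf 972890551001212842198790794570204224) (.leaf 978122019646309641034662615004230304)) (.node (.leaf 970090007139708408946794702764818880) (.leaf 973888561255032171357294184296059968)))))) (.node (.node (.node (.node (.node (.node (.leaf 967165652451631253706199633314140576) (.leaf 977547537416161417687947814307672416)) (.leaf 964820740318488815865492691338348608))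 (.node (.leaf 980786743206537930507735956372636064) (.leaf 965258037489765633889694321764675040))) (.node (.node (.node (.leaf 972310341042686998419876883599666272) (.leaf 977739755294204103447338212527507488)) (.leaf 958615663605397036593311358439955072)) (.node (.leaf 967164841954498708648259138637404416) (.leaf 960845682958046724533611342921584960)))) (.node (.node (.node (.node (.leaf 980899534013487938994656438082936288) (.leaf 978857578250145220613813198355933824)) (.leaf 971100515897111787246850144778781984)) (.node (.leaf 975143298154793307809456586311108032) (.leaf 969181565244072891001432851293277440))) (.node (.node (.leaf 969755809761167812365479762071032288) (.leaf 973167886839292483213348731529472576)) (.node (.leaf 963948633129177569613633836384128544) (.leaf 963630720218724475637842022094082080))))) (.node (.node (.node (.node (.node (.leaf 973118532014561655355462997473974880) (.leaf 978081309959782259082002085393270464)) (.leaf 967810718250875280110353472162581984)) (.node (.leaf 984611644791431097266364296255909952) (.leaf 984271170442096210520364201740504480))) (.node (.node (.node (.leaf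 960683199843798449495790971715226976) (.leaf 979330298061521686276695626534592128)) (.leaf 967240806486016873344984786114485440)) (.node (.leaf 967893821360352287195061545489417664) (.leaf 959460742194673465672809814053797248)))) (.node (.node (.node (.node (.leaf 959822650390477815536195067703544864) (.leaf 974029101867861783788189225679509632)) (.leaf 960866845299279027536751832083795520)) (.node (.leaf 961923239254658178964482868143045920) (.leaf 959976798299847854275163329212882112))) (.node (.node (.leaf 969280318732172291218994488591681984) (.leaf 979656039010621050094331382497133888)) (.node (.leaf 961392814258418703358592810957258848) (.leaf 964046562504565370345095356525004032)))))))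

def sixT : Janko.Tree (ℕ) := (.node (.node (.node (.node sixT0 sixT8) (.node sixT4 sixT12)) (.node (.node sixT2 sixT10) (.node sixT6 sixT14))) (.node (.node (.node sixT1 sixT9) (.node sixT5 sixT13)) (.node (.node sixT3 sixT11) (.node sixT7 sixT15))))

def sixTPar0 : Janko.Tree (ℕ) :=
  (.node (.node (.node (.node (.node (.node (.node (.leaf 0) (.leaf 11728)) (.leaf 4625)) (.node (.leaf 2161) (.leaf 7649))) (.node (.node (.node (.leaf 1056) (.leaf 14817)) (.leaf 6000)) (.node (.leaf 3392) (.leaf 9488)))) (.node (.node (.node (.node (.leaf 513) (.leaf 12945)) (.leaf 5328)) (.node (.leaf 2737) (.leaf 8561))) (.node (.node (.node (.leaf 1585) (.leaf 17744)) (.leaf 6801)) (.node (.leaf 4032) (.leaf 10465))))) (.node (.node (.node (.node (.node (.leaf 241) (.leaf 12273)) (.leaf 4977)) (.node (.leaf 2449) (.leaf 8096))) (.node (.node (.node (.leaf 1313) (.leaf 15728)) (.leaf 6385)) (.node (.leaf 3697) (.leaf 9921)))) (.node (.node (.node (.node (.leaf 784) (.leaf 13889)) (.leaf 5649)) (.node (.leaf 3072) (.leaf 9009))) (.node (.node (.leaf 1857) (.leaf 7249)) (.node (.leaf 4353) (.leaf 11137)))))) (.node (.node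 (.node (.node (.node (.node (.leaf 113) (.leaf 11984)) (.leaf 4833)) (.node (.leaf 2289) (.leaf 7872))) (.node (.node (.node (.leaf 1184) (.leaf 15280)) (.leaf 6208)) (.node (.leaf 3552) (.leaf 9712)))) (.node (.node (.node (.node (.leaf 641) (.leaf 13313)) (.leaf 5504)) (.node (.leaf 2929) (.leaf 8737))) (.node (.node (.leaf 1728) (.leaf 7008)) (.node (.leaf 4192) (.leaf 10784))))) (.node (.node (.node (.node (.node (.leaf 369) (.leaf 12592)) (.leaf 5152)) (.node (.leaf 2593) (.leaf 8321))) (.node (.node (.node (.leaf 1456) (.leaf 16592)) (.leaf 6593)) (.node (.leaf 3856) (.leaf 10193)))) (.node (.node (.node (.node (.leaf 912) (.leaf 14241)) (.leaf 5825)) (.node (.leaf 3217) (.leaf 9184))) (.node (.node (.leaf 2000) (.leaf 7457)) (.node (.leaf 4481) (.leaf 11408)))))))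

def sixTPar1 : Janko.Tree (ℕ) :=
  (.node (.node (.node (.node (.node (.node (.node (.leaf 0) (.leaf 11729)) (.leaf 4640)) (.node (.leaf 2176) (.leaf 7664))) (.node (.node (.node (.leaf 1057) (.leaf 14832)) (.leaf 6001)) (.node (.leaf 3393) (.leaf 9489)))) (.node (.node (.node (.node (.leaf 528) (.leaf 12960)) (.leaf 5329)) (.node (.leaf 2752) (.leaf 8576))) (.node (.node (.node (.leaf 1600) (.leaf 17776)) (.leaf 6817)) (.node (.leaf 4048) (.leaf 10480))))) (.node (.node (.node (.node (.node (.leaf 256) (.leaf 12321)) (.leaf 4992)) (.node (.leaf 2464) (.leaf 8112))) (.node (.node (.node (.leaf 1328) (.leaf 15792)) (.leaf 6417)) (.node (.leaf 3712) (.leaf 9936)))) (.node (.node (.node (.node (.leaf 785) (.leaf 13905)) (.leaf 5665)) (.node (.leaf 3088) (.leaf 9024))) (.node (.node (.leaf 1872) (.leaf 7265)) (.node (.leaf 4368) (.leaf 11169)))))) (.node (.node (.node (.node (.node (.node (.leaf 128) (.leaf 11985)) (.leaf 4849)) (.node (.leaf 2305) (.leaf 7873))) (.node (.node (.node (.leaf 1185) (.leaf 15329)) (.leaf 6240)) (.node (.leaf 3569) (.leaf 9728)))) (.node (.node (.node (.node (.leaf 656) (.leaf 13329))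 (.leaf 5505)) (.node (.leaf 2944) (.leaf 8752))) (.node (.node (.leaf 1729) (.leaf 7024)) (.node (.leaf 4193) (.leaf 10800))))) (.node (.node (.node (.node (.node (.leaf 384) (.leaf 12609)) (.leaf 5153)) (.node (.leaf 2608) (.leaf 8336))) (.node (.node (.node (.leaf 1457) (.leaf 16609)) (.leaf 6608)) (.node (.leaf 3872) (.leaf 10240)))) (.node (.node (.node (.node (.leaf 913) (.leaf 14272)) (.leaf 5841)) (.node (.leaf 3232) (.leaf 9249))) (.node (.node (.leaf 2001) (.leaf 7473)) (.node (.leaf 4497) (.leaf 11457)))))))

def sixTPar2 : Janko.Tree (ℕ) :=
  (.node (.node (.node (.node (.node (.node (.node (.leaf 1) (.leaf 11744)) (.leaf 4656)) (.node (.leaf 2177) (.leaf 7665))) (.node (.node (.node (.leaf 1072) (.leaf 14833)) (.leaf 6016)) (.node (.leaf 3408) (.leaf 9505)))) (.node (.node (.node (.node (.leaf 529) (.leaf 12992)) (.leaf 5345)) (.node (.leaf 2753) (.leaf 8577))) (.node (.node (.node (.leaf 1601) (.leaf 17841)) (.leaf 6832)) (.node (.leaf 4049) (.leaf 10497))))) (.node (.node (.node (.node (.node (.leaf 257) (.leaf 12352)) (.leaf 4993)) (.node (.leaf 2465) (.leaf 8113))) (.node (.node (.node (.leaf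 1329) (.leaf 15936)) (.leaf 6464)) (.node (.leaf 3713) (.leaf 9937)))) (.node (.node (.node (.node (.leaf 800) (.leaf 13952)) (.leaf 5680)) (.node (.leaf 3089) (.leaf 9025))) (.node (.node (.leaf 1873) (.leaf 7296)) (.node (.leaf 4369) (.leaf 11184)))))) (.node (.node (.node (.node (.node (.node (.leaf 129) (.leaf 12000)) (.leaf 4864)) (.node (.leaf 2321) (.leaf 7888))) (.node (.node (.node (.leaf 1200) (.leaf 15345)) (.leaf 6241)) (.node (.leaf 3584) (.leaf 9745)))) (.node (.node (.node (.node (.leaf 657) (.leaf 13344)) (.leaf 5520)) (.node (.leaf 2945) (.leaf 8753))) (.node (.node (.leaf 1744) (.leaf 7041)) (.node (.leaf 4208) (.leaf 10801))))) (.node (.node (.node (.node (.node (.leaf 385) (.leaf 12625)) (.leaf 5168)) (.node (.leaf 2609) (.leaf 8352))) (.node (.node (.node (.leaf 1472) (.leaf 16704)) (.leaf 6625)) (.node (.leaf 3873) (.leaf 10273)))) (.node (.node (.node (.node (.leaf 928) (.leaf 14305)) (.leaf 5856)) (.node (.leaf 3233) (.leaf 9264))) (.node (.node (.leaf 2016) (.leaf 7488)) (.node (.leaf 4512) (.leaf 11473)))))))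

def sixTPar3 : Janko.Tree (ℕ) :=
  (.node (.node (.node (.node (.node (.node (.node (.leaf 16) (.leaf 11745)) (.leaf 4672)) (.node (.leaf 2192) (.leaf 7680))) (.node (.node (.node (.leaf 1073) (.leaf 14848)) (.leaf 6048)) (.node (.leaf 3424) (.leaf 9520)))) (.node (.node (.node (.node (.leaf 544) (.leaf 13008)) (.leaf 5360)) (.node (.leaf 2768) (.leaf 8592))) (.node (.node (.node (.leaf 1616) (.leaf 17969)) (.leaf 6849)) (.node (.leaf 4064) (.leaf 10545))))) (.node (.node (.node (.node (.node (.leaf 272) (.leaf 12368)) (.leaf 5008)) (.node (.leaf 2480) (.leaf 8128))) (.node (.node (.node (.leaf 1344) (.leaf 16001)) (.leaf 6465)) (.node (.leaf 3728) (.leaf 9952)))) (.node (.node (.node (.node (.leaf 801) (.leaf 14016)) (.leaf 5681)) (.node (.leaf 3104) (.leaf 9041))) (.node (.node (.leaf 1888) (.leaf 7297)) (.node (.leaf 4384) (.leaf 11185)))))) (.node (.node (.node (.node (.node (.node (.leaf 144) (.leaf 12033)) (.leaf 4865)) (.node (.leaf 2336) (.leaf 7920))) (.node (.node (.node (.leaf 1201) (.leaf 15360)) (.leaf 6257)) (.node (.leaf 3585) (.leaf 9761)))) (.node (.node (.node (.node (.leaf 672) (.leaf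 13440)) (.leaf 5521)) (.node (.leaf 2960) (.leaf 8784))) (.node (.node (.leaf 1745) (.leaf 7056)) (.node (.leaf 4209) (.leaf 10816))))) (.node (.node (.node (.node (.node (.leaf 400) (.leaf 12640)) (.leaf 5169)) (.node (.leaf 2624) (.leaf 8368))) (.node (.node (.node (.leaf 1473) (.leaf 16705)) (.leaf 6656)) (.node (.leaf 3889) (.leaf 10288)))) (.node (.node (.node (.node (.leaf 944) (.leaf 14368)) (.leaf 5872)) (.node (.leaf 3248) (.leaf 9296))) (.node (.node (.leaf 2017) (.leaf 7489)) (.node (.leaf 4513) (.leaf 11504)))))))

def sixTPar4 : Janko.Tree (ℕ) :=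
  (.node (.node (.node (.node (.node (.node (.node (.leaf 17) (.leaf 11777)) (.leaf 4688)) (.node (.leaf 2193) (.leaf 7681))) (.node (.node (.node (.leaf 1088) (.leaf 14944)) (.leaf 6049)) (.node (.leaf 3425) (.leaf 9521)))) (.node (.node (.node (.node (.leaf 545) (.leaf 13025)) (.leaf 5361)) (.node (.leaf 2784) (.leaf 8608))) (.node (.node (.node (.leaf 1617) (.leaf 18065)) (.leaf 6864)) (.node (.leaf 4065) (.leaf 10560))))) (.node (.node (.node (.node (.node (.leaf 273) (.leaf 12369)) (.leaf 5024)) (.node (.leaf 2481) (.leaf 8145))) (.node (.node (.node (.leaf 1345) (.leaf 16081)) (.leaf 6480)) (.node (.leaf 3729) (.leaf 10000)))) (.node (.node (.node (.node (.leaf 816) (.leaf 14033)) (.leaf 5696)) (.node (.leaf 3105) (.leaf 9057))) (.node (.node (.leaf 1889) (.leaf 7328)) (.node (.leaf 4385) (.leaf 11200)))))) (.node (.node (.node (.node (.node (.node (.leaf 145) (.leaf 12080)) (.leaf 4881)) (.node (.leaf 2352) (.leaf 7921))) (.node (.node (.node (.leaf 1216) (.leaf 15424)) (.leaf 6272)) (.node (.leaf 3600) (.leaf 9776)))) (.node (.node (.node (.node (.leaf 673) (.leaf 13472)) (.leaf 5537)) (.node (.leaf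 2961) (.leaf 8785))) (.node (.node (.leaf 1760) (.leaf 7089)) (.node (.leaf 4224) (.leaf 10849))))) (.node (.node (.node (.node (.node (.leaf 401) (.leaf 12641)) (.leaf 5184)) (.node (.leaf 2640) (.leaf 8369))) (.node (.node (.node (.leaf 1488) (.leaf 16785)) (.leaf 6657)) (.node (.leaf 3905) (.leaf 10304)))) (.node (.node (.node (.node (.leaf 945) (.leaf 14400)) (.leaf 5873)) (.node (.leaf 3249) (.leaf 9312))) (.node (.node (.leaf 2032) (.leaf 7504)) (.node (.leaf 4528) (.leaf 11520)))))))

def sixTPar5 : Janko.Tree (ℕ) :=
  (.node (.node (.node (.node (.node (.node (.node (.leaf 32) (.leaf 11792)) (.leaf 4689)) (.node (.leaf 2208) (.leaf 7696))) (.node (.node (.node (.leaf 1089) (.leaf 14960)) (.leaf 6080)) (.node (.leaf 3440) (.leaf 9536)))) (.node (.node (.node (.node (.leaf 560) (.leaf 13040)) (.leaf 5377)) (.node (.leaf 2785) (.leaf 8609))) (.node (.node (.node (.leaf 1632) (.leaf 18129)) (.leaf 6865)) (.node (.leaf 4081) (.leaf 10592))))) (.node (.node (.node (.node (.node (.leaf 288) (.leaf 12400)) (.leaf 5025)) (.node (.leaf 2496) (.leaf 8160))) (.node (.node (.node (.leaf 1360) (.leaf 16145)) (.leaf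 6481)) (.node (.leaf 3745) (.leaf 10001)))) (.node (.node (.node (.node (.leaf 817) (.leaf 14048)) (.leaf 5697)) (.node (.leaf 3120) (.leaf 9072))) (.node (.node (.leaf 1904) (.leaf 7329)) (.node (.leaf 4400) (.leaf 11201)))))) (.node (.node (.node (.node (.node (.node (.leaf 160) (.leaf 12096)) (.leaf 4896)) (.node (.leaf 2353) (.leaf 7952))) (.node (.node (.node (.leaf 1232) (.leaf 15425)) (.leaf 6273)) (.node (.leaf 3601) (.leaf 9777)))) (.node (.node (.node (.node (.leaf 688) (.leaf 13632)) (.leaf 5552)) (.node (.leaf 2976) (.leaf 8832))) (.node (.node (.leaf 1761) (.leaf 7104)) (.node (.leaf 4257) (.leaf 10864))))) (.node (.node (.node (.node (.node (.leaf 416) (.leaf 12656)) (.leaf 5185)) (.node (.leaf 2641) (.leaf 8384))) (.node (.node (.node (.leaf 1504) (.leaf 16848)) (.leaf 6672)) (.node (.leaf 3920) (.leaf 10305)))) (.node (.node (.node (.node (.leaf 960) (.leaf 14417)) (.leaf 5888)) (.node (.leaf 3264) (.leaf 9344))) (.node (.node (.leaf 2048) (.leaf 7505)) (.node (.leaf 4529) (.leaf 11521)))))))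

def sixTPar6 : Janko.Tree (ℕ) :=
  (.node (.node (.node (.node (.node (.node (.node (.leaf 33) (.leaf 11824)) (.leaf 4720)) (.node (.leaf 2209) (.leaf 7697))) (.node (.node (.node (.leaf 1104) (.leaf 14961)) (.leaf 6096)) (.node (.leaf 3441) (.leaf 9552)))) (.node (.node (.node (.node (.leaf 561) (.leaf 13088)) (.leaf 5408)) (.node (.leaf 2816) (.leaf 8624))) (.node (.node (.node (.leaf 1633) (.leaf 18145)) (.leaf 6880)) (.node (.leaf 4112) (.leaf 10608))))) (.node (.node (.node (.node (.node (.leaf 289) (.leaf 12401)) (.leaf 5040)) (.node (.leaf 2497) (.leaf 8176))) (.node (.node (.node (.leaf 1361) (.leaf 16161)) (.leaf 6497)) (.node (.leaf 3760) (.leaf 10016)))) (.node (.node (.node (.node (.leaf 832) (.leaf 14049)) (.leaf 5712)) (.node (.leaf 3121) (.leaf 9088))) (.node (.node (.leaf 1905) (.leaf 7344)) (.node (.leaf 4401) (.leaf 11264)))))) (.node (.node (.node (.node (.node (.node (.leaf 161) (.leaf 12113)) (.leaf 4897)) (.node (.leaf 2368) (.leaf 7953))) (.node (.node (.node (.leaf 1233) (.leaf 15457)) (.leaf 6288)) (.node (.leaf 3616) (.leaf 9808)))) (.node (.node (.node (.node (.leaf 689) (.leaf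 13665)) (.leaf 5553)) (.node (.leaf 2977) (.leaf 8848))) (.node (.node (.leaf 1776) (.leaf 7120)) (.node (.leaf 4272) (.leaf 10945))))) (.node (.node (.node (.node (.node (.leaf 417) (.leaf 12672)) (.leaf 5216)) (.node (.leaf 2656) (.leaf 8385))) (.node (.node (.node (.leaf 1505) (.leaf 16977)) (.leaf 6688)) (.node (.leaf 3921) (.leaf 10336)))) (.node (.node (.node (.node (.leaf 961) (.leaf 14528)) (.leaf 5904)) (.node (.leaf 3265) (.leaf 9360))) (.node (.node (.leaf 2049) (.leaf 7520)) (.node (.leaf 4544) (.leaf 11537)))))))

def sixTPar7 : Janko.Tree (ℕ) :=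
  (.node (.node (.node (.node (.node (.node (.node (.leaf 48) (.leaf 11825)) (.leaf 4736)) (.node (.leaf 2224) (.leaf 7712))) (.node (.node (.node (.leaf 1105) (.leaf 14976)) (.leaf 6097)) (.node (.leaf 3456) (.leaf 9553)))) (.node (.node (.node (.node (.leaf 576) (.leaf 13089)) (.leaf 5424)) (.node (.leaf 2817) (.leaf 8625))) (.node (.node (.node (.leaf 1648) (.leaf 18304)) (.leaf 6881)) (.node (.leaf 4113) (.leaf 10609))))) (.node (.node (.node (.node (.node (.leaf 304) (.leaf 12432)) (.leaf 5041)) (.node (.leaf 2512) (.leaf 8192))) (.node (.node (.node (.leaf 1377) (.leaf 16176)) (.leaf 6512)) (.node (.leaf 3776) (.leaf 10032)))) (.node (.node (.node (.node (.leaf 833) (.leaf 14080)) (.leaf 5728)) (.node (.leaf 3136) (.leaf 9089))) (.node (.node (.leaf 1920) (.leaf 7345)) (.node (.leaf 4416) (.leaf 11265)))))) (.node (.node (.node (.node (.node (.node (.leaf 176) (.leaf 12144)) (.leaf 4912)) (.node (.leaf 2369) (.leaf 7969))) (.node (.node (.node (.leaf 1248) (.leaf 15488)) (.leaf 6289)) (.node (.leaf 3617) (.leaf 9809)))) (.node (.node (.node (.node (.leaf 704) (.leaf 13697)) (.leaf 5568)) (.node (.leaf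 2992) (.leaf 8864))) (.node (.node (.leaf 1777) (.leaf 7121)) (.node (.leaf 4273) (.leaf 10960))))) (.node (.node (.node (.node (.node (.leaf 433) (.leaf 12673)) (.leaf 5217)) (.node (.leaf 2657) (.leaf 8401))) (.node (.node (.node (.leaf 1520) (.leaf 17041)) (.leaf 6689)) (.node (.leaf 3936) (.leaf 10337)))) (.node (.node (.node (.node (.leaf 976) (.leaf 14544)) (.leaf 5920)) (.node (.leaf 3296) (.leaf 9361))) (.node (.node (.leaf 2064) (.leaf 7521)) (.node (.leaf 4545) (.leaf 11552)))))))

def sixTPar8 : Janko.Tree (ℕ) :=
  (.node (.node (.node (.node (.node (.node (.node (.leaf 49) (.leaf 11841)) (.leaf 4737)) (.node (.leaf 2225) (.leaf 7761))) (.node (.node (.node (.leaf 1120) (.leaf 15056)) (.leaf 6112)) (.node (.leaf 3457) (.leaf 9584)))) (.node (.node (.node (.node (.leaf 577) (.leaf 13104)) (.leaf 5425)) (.node (.leaf 2832) (.leaf 8640))) (.node (.node (.node (.leaf 1649) (.leaf 18320)) (.leaf 6897)) (.node (.leaf 4128) (.leaf 10625))))) (.node (.node (.node (.node (.node (.leaf 305) (.leaf 12433)) (.leaf 5056)) (.node (.leaf 2513) (.leaf 8193))) (.node (.node (.node (.leaf 1392) (.leaf 16192)) (.leaf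 6513)) (.node (.leaf 3777) (.leaf 10048)))) (.node (.node (.node (.node (.leaf 848) (.leaf 14097)) (.leaf 5729)) (.node (.leaf 3152) (.leaf 9104))) (.node (.node (.leaf 1921) (.leaf 7361)) (.node (.leaf 4417) (.leaf 11280)))))) (.node (.node (.node (.node (.node (.node (.leaf 177) (.leaf 12145)) (.leaf 4913)) (.node (.leaf 2385) (.leaf 7984))) (.node (.node (.node (.leaf 1249) (.leaf 15504)) (.leaf 6304)) (.node (.leaf 3632) (.leaf 9825)))) (.node (.node (.node (.node (.leaf 705) (.leaf 13728)) (.leaf 5569)) (.node (.leaf 2993) (.leaf 8881))) (.node (.node (.leaf 1792) (.leaf 7137)) (.node (.leaf 4288) (.leaf 10977))))) (.node (.node (.node (.node (.node (.leaf 448) (.leaf 12704)) (.leaf 5232)) (.node (.leaf 2672) (.leaf 8416))) (.node (.node (.node (.leaf 1521) (.leaf 17088)) (.leaf 6720)) (.node (.leaf 3937) (.leaf 10368)))) (.node (.node (.node (.node (.leaf 977) (.leaf 14561)) (.leaf 5921)) (.node (.leaf 3297) (.leaf 9376))) (.node (.node (.leaf 2081) (.leaf 7552)) (.node (.leaf 4560) (.leaf 11568)))))))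

def sixTPar9 : Janko.Tree (ℕ) :=
  (.node (.node (.node (.node (.node (.node (.node (.leaf 64) (.leaf 11856)) (.leaf 4752)) (.node (.leaf 2240) (.leaf 7777))) (.node (.node (.node (.leaf 1121) (.leaf 15137)) (.leaf 6113)) (.node (.leaf 3473) (.leaf 9585)))) (.node (.node (.node (.node (.leaf 592) (.leaf 13121)) (.leaf 5440)) (.node (.leaf 2833) (.leaf 8641))) (.node (.node (.node (.leaf 1664) (.leaf 18337)) (.leaf 6929)) (.node (.leaf 4129) (.leaf 10640))))) (.node (.node (.node (.node (.node (.leaf 320) (.leaf 12465)) (.leaf 5057)) (.node (.leaf 2528) (.leaf 8208))) (.node (.node (.node (.leaf 1393) (.leaf 16209)) (.leaf 6528)) (.node (.leaf 3793) (.leaf 10049)))) (.node (.node (.node (.node (.leaf 849) (.leaf 14113)) (.leaf 5744)) (.node (.leaf 3168) (.leaf 9105))) (.node (.node (.leaf 1936) (.leaf 7376)) (.node (.leaf 4432) (.leaf 11297)))))) (.node (.node (.node (.node (.node (.node (.leaf 192) (.leaf 12160)) (.leaf 4928)) (.node (.leaf 2400) (.leaf 8001))) (.node (.node (.node (.leaf 1264) (.leaf 15536)) (.leaf 6305)) (.node (.leaf 3648) (.leaf 9840)))) (.node (.node (.node (.node (.leaf 720) (.leaf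 13745)) (.leaf 5584)) (.node (.leaf 3008) (.leaf 8896))) (.node (.node (.leaf 1793) (.leaf 7152)) (.node (.leaf 4304) (.leaf 10992))))) (.node (.node (.node (.node (.node (.leaf 449) (.leaf 12720)) (.leaf 5248)) (.node (.leaf 2688) (.leaf 8417))) (.node (.node (.node (.leaf 1536) (.leaf 17152)) (.leaf 6721)) (.node (.leaf 3952) (.leaf 10384)))) (.node (.node (.node (.node (.leaf 992) (.leaf 14576)) (.leaf 5936)) (.node (.leaf 3312) (.leaf 9377))) (.node (.node (.leaf 2096) (.leaf 7553)) (.node (.leaf 4576) (.leaf 11569)))))))

def sixTPar10 : Janko.Tree (ℕ) :=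
  (.node (.node (.node (.node (.node (.node (.node (.leaf 65) (.leaf 11904)) (.leaf 4768)) (.node (.leaf 2241) (.leaf 7792))) (.node (.node (.node (.leaf 1136) (.leaf 15153)) (.leaf 6128)) (.node (.leaf 3488) (.leaf 9600)))) (.node (.node (.node (.node (.leaf 593) (.leaf 13137)) (.leaf 5441)) (.node (.leaf 2848) (.leaf 8657))) (.node (.node (.node (.leaf 1665) (.leaf 18576)) (.leaf 6960)) (.node (.leaf 4144) (.leaf 10657))))) (.node (.node (.node (.node (.node (.leaf 321) (.leaf 12481)) (.leaf 5072)) (.node (.leaf 2529) (.leaf 8224))) (.node (.node (.node (.leaf 1408) (.leaf 16224)) (.leaf 6544)) (.node (.leaf 3808) (.leaf 10064)))) (.node (.node (.node (.node (.leaf 864) (.leaf 14128)) (.leaf 5761)) (.node (.leaf 3169) (.leaf 9120))) (.node (.node (.leaf 1937) (.leaf 7393)) (.node (.leaf 4433) (.leaf 11328)))))) (.node (.node (.node (.node (.node (.node (.leaf 193) (.leaf 12176)) (.leaf 4929)) (.node (.leaf 2401) (.leaf 8017))) (.node (.node (.node (.leaf 1265) (.leaf 15537)) (.leaf 6320)) (.node (.leaf 3649) (.leaf 9841)))) (.node (.node (.node (.node (.leaf 721) (.leaf 13760)) (.leaf 5585)) (.node (.leaf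 3009) (.leaf 8897))) (.node (.node (.leaf 1808) (.leaf 7168)) (.node (.leaf 4305) (.leaf 11009))))) (.node (.node (.node (.node (.node (.leaf 464) (.leaf 12752)) (.leaf 5264)) (.node (.leaf 2689) (.leaf 8432))) (.node (.node (.node (.leaf 1537) (.leaf 17168)) (.leaf 6736)) (.node (.leaf 3953) (.leaf 10400)))) (.node (.node (.node (.node (.leaf 993) (.leaf 14608)) (.leaf 5937)) (.node (.leaf 3328) (.leaf 9392))) (.node (.node (.leaf 2097) (.leaf 7569)) (.node (.leaf 4577) (.leaf 11584)))))))

def sixTPar11 : Janko.Tree (ℕ) :=
  (.node (.node (.node (.node (.node (.node (.node (.leaf 80) (.leaf 11905)) (.leaf 4785)) (.node (.leaf 2256) (.leaf 7793))) (.node (.node (.node (.leaf 1137) (.leaf 15168)) (.leaf 6129)) (.node (.leaf 3504) (.leaf 9617)))) (.node (.node (.node (.node (.leaf 608) (.leaf 13184)) (.leaf 5456)) (.node (.leaf 2849) (.leaf 8672))) (.node (.node (.node (.leaf 1680) (.leaf 18609)) (.leaf 6961)) (.node (.leaf 4145) (.leaf 10689))))) (.node (.node (.node (.node (.node (.leaf 336) (.leaf 12512)) (.leaf 5073)) (.node (.leaf 2544) (.leaf 8257))) (.node (.node (.node (.leaf 1409) (.leaf 16336)) (.leaf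 6545)) (.node (.leaf 3809) (.leaf 10080)))) (.node (.node (.node (.node (.leaf 865) (.leaf 14145)) (.leaf 5777)) (.node (.leaf 3184) (.leaf 9121))) (.node (.node (.leaf 1952) (.leaf 7408)) (.node (.leaf 4448) (.leaf 11344)))))) (.node (.node (.node (.node (.node (.node (.leaf 208) (.leaf 12193)) (.leaf 4944)) (.node (.leaf 2416) (.leaf 8048))) (.node (.node (.node (.leaf 1280) (.leaf 15552)) (.leaf 6336)) (.node (.leaf 3664) (.leaf 9856)))) (.node (.node (.node (.node (.leaf 736) (.leaf 13761)) (.leaf 5616)) (.node (.leaf 3024) (.leaf 8913))) (.node (.node (.leaf 1809) (.leaf 7184)) (.node (.leaf 4320) (.leaf 11041))))) (.node (.node (.node (.node (.node (.leaf 465) (.leaf 12865)) (.leaf 5265)) (.node (.leaf 2704) (.leaf 8480))) (.node (.node (.node (.leaf 1552) (.leaf 17201)) (.leaf 6752)) (.node (.leaf 3969) (.leaf 10416)))) (.node (.node (.node (.node (.leaf 1008) (.leaf 14609)) (.leaf 5952)) (.node (.leaf 3329) (.leaf 9393))) (.node (.node (.leaf 2112) (.leaf 7584)) (.node (.leaf 4592) (.leaf 11585)))))))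

def sixTPar12 : Janko.Tree (ℕ) :=
  (.node (.node (.node (.node (.node (.node (.node (.leaf 81) (.leaf 11936)) (.leaf 4801)) (.node (.leaf 2257) (.leaf 7808))) (.node (.node (.node (.leaf 1152) (.leaf 15184)) (.leaf 6144)) (.node (.leaf 3520) (.leaf 9648)))) (.node (.node (.node (.node (.leaf 609) (.leaf 13185)) (.leaf 5472)) (.node (.leaf 2864) (.leaf 8689))) (.node (.node (.node (.leaf 1681) (.leaf 19040)) (.leaf 6976)) (.node (.leaf 4160) (.leaf 10704))))) (.node (.node (.node (.node (.node (.leaf 337) (.leaf 12513)) (.leaf 5104)) (.node (.leaf 2545) (.leaf 8273))) (.node (.node (.node (.leaf 1424) (.leaf 16368)) (.leaf 6560)) (.node (.leaf 3824) (.leaf 10081)))) (.node (.node (.node (.node (.leaf 880) (.leaf 14160)) (.leaf 5792)) (.node (.leaf 3185) (.leaf 9137))) (.node (.node (.leaf 1953) (.leaf 7409)) (.node (.leaf 4449) (.leaf 11360)))))) (.node (.node (.node (.node (.node (.node (.leaf 209) (.leaf 12224)) (.leaf 4945)) (.node (.leaf 2417) (.leaf 8049))) (.node (.node (.node (.leaf 1281) (.leaf 15584)) (.leaf 6337)) (.node (.leaf 3665) (.leaf 9857)))) (.node (.node (.node (.node (.leaf 752) (.leaf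 13776)) (.leaf 5617)) (.node (.leaf 3025) (.leaf 8928))) (.node (.node (.leaf 1824) (.leaf 7200)) (.node (.leaf 4321) (.leaf 11056))))) (.node (.node (.node (.node (.node (.leaf 480) (.leaf 12880)) (.leaf 5281)) (.node (.leaf 2705) (.leaf 8497))) (.node (.node (.node (.leaf 1553) (.leaf 17265)) (.leaf 6753)) (.node (.leaf 3984) (.leaf 10432)))) (.node (.node (.node (.node (.leaf 1009) (.leaf 14656)) (.leaf 5953)) (.node (.leaf 3344) (.leaf 9409))) (.node (.node (.leaf 2113) (.leaf 7600)) (.node (.leaf 4593) (.leaf 11600)))))))

def sixTPar13 : Janko.Tree (ℕ) :=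
  (.node (.node (.node (.node (.node (.node (.node (.leaf 96) (.leaf 11937)) (.leaf 4816)) (.node (.leaf 2272) (.leaf 7825))) (.node (.node (.node (.leaf 1153) (.leaf 15185)) (.leaf 6145)) (.node (.leaf 3521) (.leaf 9664)))) (.node (.node (.node (.node (.leaf 624) (.leaf 13201)) (.leaf 5473)) (.node (.leaf 2865) (.leaf 8704))) (.node (.node (.node (.leaf 1696) (.leaf 19392)) (.leaf 6977)) (.node (.leaf 4161) (.leaf 10736))))) (.node (.node (.node (.node (.node (.leaf 352) (.leaf 12529)) (.leaf 5105)) (.node (.leaf 2560) (.leaf 8289))) (.node (.node (.node (.leaf 1425) (.leaf 16400)) (.leaf 6561)) (.node (.leaf 3825) (.leaf 10113)))) (.node (.node (.node (.node (.leaf 881) (.leaf 14176)) (.leaf 5793)) (.node (.leaf 3200) (.leaf 9153))) (.node (.node (.leaf 1968) (.leaf 7424)) (.node (.leaf 4464) (.leaf 11361)))))) (.node (.node (.node (.node (.node (.node (.leaf 224) (.leaf 12225)) (.leaf 4960)) (.node (.leaf 2432) (.leaf 8065))) (.node (.node (.node (.leaf 1296) (.leaf 15617)) (.leaf 6353)) (.node (.leaf 3680) (.leaf 9872)))) (.node (.node (.node (.node (.leaf 753) (.leaf 13792)) (.leaf 5632)) (.node (.leaf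 3041) (.leaf 8944))) (.node (.node (.leaf 1825) (.leaf 7201)) (.node (.leaf 4336) (.leaf 11057))))) (.node (.node (.node (.node (.node (.leaf 496) (.leaf 12881)) (.leaf 5296)) (.node (.leaf 2720) (.leaf 8528))) (.node (.node (.node (.leaf 1568) (.leaf 17488)) (.leaf 6769)) (.node (.leaf 4001) (.leaf 10433)))) (.node (.node (.node (.node (.leaf 1025) (.leaf 14673)) (.leaf 5968)) (.node (.leaf 3360) (.leaf 9440))) (.node (.node (.leaf 2128) (.leaf 7601)) (.node (.leaf 4608) (.leaf 11617)))))))

def sixTPar14 : Janko.Tree (ℕ) :=
  (.node (.node (.node (.node (.node (.node (.node (.leaf 97) (.leaf 11952)) (.leaf 4817)) (.node (.leaf 2273) (.leaf 7840))) (.node (.node (.node (.leaf 1168) (.leaf 15233)) (.leaf 6160)) (.node (.leaf 3536) (.leaf 9665)))) (.node (.node (.node (.node (.leaf 625) (.leaf 13217)) (.leaf 5488)) (.node (.leaf 2912) (.leaf 8705))) (.node (.node (.node (.leaf 1697) (.leaf 19521)) (.leaf 6992)) (.node (.leaf 4176) (.leaf 10752))))) (.node (.node (.node (.node (.node (.leaf 353) (.leaf 12544)) (.leaf 5120)) (.node (.leaf 2561) (.leaf 8304))) (.node (.node (.node (.leaf 1440) (.leaf 16449))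 (.leaf 6577)) (.node (.leaf 3840) (.leaf 10129)))) (.node (.node (.node (.node (.leaf 896) (.leaf 14209)) (.leaf 5808)) (.node (.leaf 3201) (.leaf 9168))) (.node (.node (.leaf 1984) (.leaf 7440)) (.node (.leaf 4465) (.leaf 11376)))))) (.node (.node (.node (.node (.node (.node (.leaf 225) (.leaf 12240)) (.leaf 4961)) (.node (.leaf 2433) (.leaf 8080))) (.node (.node (.node (.leaf 1297) (.leaf 15632)) (.leaf 6369)) (.node (.leaf 3681) (.leaf 9888)))) (.node (.node (.node (.node (.leaf 768) (.leaf 13808)) (.leaf 5633)) (.node (.leaf 3056) (.leaf 8992))) (.node (.node (.leaf 1841) (.leaf 7216)) (.node (.leaf 4337) (.leaf 11073))))) (.node (.node (.node (.node (.node (.leaf 497) (.leaf 12912)) (.leaf 5297)) (.node (.leaf 2721) (.leaf 8529))) (.node (.node (.node (.leaf 1569) (.leaf 17617)) (.leaf 6784)) (.node (.leaf 4016) (.leaf 10449)))) (.node (.node (.node (.node (.leaf 1040) (.leaf 14704)) (.leaf 5969)) (.node (.leaf 3361) (.leaf 9456))) (.node (.node (.leaf 2145) (.leaf 7632)) (.node (.leaf 4609) (.leaf 11696)))))))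

def sixTPar15 : Janko.Tree (ℕ) :=
  (.node (.node (.node (.node (.node (.node (.node (.leaf 112) (.leaf 11953)) (.leaf 4832)) (.node (.leaf 2288) (.leaf 7857))) (.node (.node (.node (.leaf 1169) (.leaf 15265)) (.leaf 6177)) (.node (.leaf 3537) (.leaf 9681)))) (.node (.node (.node (.node (.leaf 640) (.leaf 13233)) (.leaf 5489)) (.node (.leaf 2913) (.leaf 8721))) (.node (.node (.node (.leaf 1712) (.leaf 19648)) (.leaf 6993)) (.node (.leaf 4177) (.leaf 10753))))) (.node (.node (.node (.node (.node (.leaf 368) (.leaf 12561)) (.leaf 5137)) (.node (.leaf 2576) (.leaf 8305))) (.node (.node (.node (.leaf 1441) (.leaf 16513)) (.leaf 6592)) (.node (.leaf 3841) (.leaf 10177)))) (.node (.node (.node (.node (.leaf 897) (.leaf 14224)) (.leaf 5809)) (.node (.leaf 3216) (.leaf 9169))) (.node (.node (.leaf 1985) (.leaf 7456)) (.node (.leaf 4480) (.leaf 11377)))))) (.node (.node (.node (.node (.node (.node (.leaf 240) (.leaf 12257)) (.leaf 4976)) (.node (.leaf 2448) (.leaf 8081))) (.node (.node (.node (.leaf 1312) (.leaf 15664)) (.leaf 6384)) (.node (.leaf 3696) (.leaf 9905)))) (.node (.node (.node (.node (.leaf 769) (.leaf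 13840)) (.leaf 5648)) (.node (.leaf 3057) (.leaf 9008))) (.node (.node (.leaf 1856) (.leaf 7232)) (.node (.leaf 4352) (.leaf 11105))))) (.node (.node (.node (.node (.node (.leaf 512) (.leaf 12929)) (.leaf 5313)) (.node (.leaf 2736) (.leaf 8544))) (.node (.node (.node (.leaf 1584) (.leaf 17681)) (.leaf 6800)) (.node (.leaf 4017) (.leaf 10464)))) (.node (.node (.node (.node (.leaf 1041) (.leaf 14721)) (.leaf 5984)) (.node (.leaf 3376) (.leaf 9473))) (.node (.node (.leaf 2160) (.leaf 7633)) (.node (.leaf 4624) (.leaf 11697)))))))

def sixTPar : Janko.Tree (ℕ) := (.node (.node (.node (.node sixTPar0 sixTPar8) (.node sixTPar4 sixTPar12)) (.node (.node sixTPar2 sixTPar10) (.node sixTPar6 sixTPar14))) (.node (.node (.node sixTPar1 sixTPar9) (.node sixTPar5 sixTPar13)) (.node (.node sixTPar3 sixTPar11) (.node sixTPar7 sixTPar15))))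

theorem six_T0 : ((List.range 512).all fun i => treeT gensX sixT sixTPar (Nat.add 0 i)) = true := by decide +kernel

theorem six_T1 : ((List.range 512).all fun i => treeT gensX sixT sixTPar (Nat.add 512 i)) = true := by decide +kernel

theorem six_T2 : ((List.range 208).all fun i => treeT gensX sixT sixTPar (Nat.add 1024 i)) = true := by decide +kernel

theorem six_T : ∀ i < 1232, treeT gensX sixT sixTPar i = true := by
  intro i hi
  by_cases h0 : i < 512
  · have := List.all_eq_true.1 six_T0 (i - 0) (List.mem_range.2 (by omega)); rwa [show Nat.add 0 (i - 0) = i from Nat.add_sub_cancel' (by omega)] at this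
  by_cases h1 : i < 1024
  · have := List.all_eq_true.1 six_T1 (i - 512) (List.mem_range.2 (by omega)); rwa [show Nat.add 512 (i - 512) = i from Nat.add_sub_cancel' (by omega)] at this
  have := List.all_eq_true.1 six_T2 (i - 1024) (List.mem_range.2 (by omega)); rwa [show Nat.add 1024 (i - 1024) = i from Nat.add_sub_cancel' (by omega)] at this


def sixMvX00 : Janko.Tree (ℕ) :=
  (.node (.node (.node (.node (.node (.node (.node (.leaf 1024) (.leaf 522441)) (.leaf 826368)) (.node (.leaf 4143) (.leaf 981274))) (.node (.node (.node (.leaf 250880) (.leaf 92277)) (.leaf 967680)) (.node (.leaf 667648) (.leaf 628000)))) (.node (.node (.node (.node (.leaf 18533) (.leaf 898213)) (.leaf 508992)) (.node (.leaf 571392) (.leaf 1052687))) (.node (.node (.node (.leaf 360448) (.leaf 1043598)) (.leaf 1021952)) (.node (.leaf 747520) (.leaf 1199104))))) (.node (.node (.node (.node (.node (.leaf 64512) (.leaf 872540)) (.leaf 865280)) (.node (.leaf 521216) (.leaf 1011015))) (.node (.node (.node (.leaf 308224) (.leaf 756947)) (.leaf 997376)) (.node (.leaf 707584) (.leaf 1182720)))) (.node (.node (.node (.node (.leaf 189440) (.leaf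 422000)) (.leaf 934912)) (.node (.leaf 619520) (.leaf 524569))) (.node (.node (.leaf 411648) (.leaf 105663)) (.node (.leaf 789504) (.leaf 939085)))))) (.node (.node (.node (.node (.node (.node (.leaf 33792) (.leaf 549149)) (.leaf 788592)) (.node (.leaf 490496) (.leaf 1095680))) (.node (.node (.node (.leaf 132445) (.leaf 830778)) (.leaf 790862)) (.node (.leaf 541815) (.leaf 1037477)))) (.node (.node (.node (.node (.leaf 158720) (.leaf 1025231)) (.leaf 134227)) (.node (.leaf 352536) (.leaf 761101))) (.node (.node (.leaf 387072) (.leaf 1036288)) (.node (.leaf 766976) (.leaf 998627))))) (.node (.node (.node (.node (.node (.leaf 96256) (.leaf 1238016)) (.leaf 478541)) (.node (.leaf 542720) (.leaf 1109205))) (.node (.node (.node (.leaf 333824) (.leaf 95411)) (.leaf 399506)) (.node (.leaf 482548) (.leaf 857271)))) (.node (.node (.node (.node (.leaf 221184) (.leaf 839722)) (.leaf 566342)) (.node (.leaf 644096) (.leaf 1154048))) (.node (.node (.leaf 440320) (.leaf 716903)) (.node (.leaf 798006) (.leaf 729304)))))))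

def sixMvX01 : Janko.Tree (ℕ) :=
  (.node (.node (.node (.node (.node (.node (.node (.leaf 3072) (.leaf 1225728)) (.leaf 828416)) (.node (.leaf 464896) (.leaf 177167))) (.node (.node (.node (.leaf 252928) (.leaf 963659)) (.leaf 305487)) (.node (.leaf 669696) (.leaf 842878)))) (.node (.node (.node (.node (.leaf 129024) (.leaf 610491)) (.leaf 711698)) (.node (.leaf 518456) (.leaf 827498))) (.node (.node (.node (.leaf 361472) (.leaf 157922)) (.leaf 1024000)) (.node (.leaf 748544) (.leaf 706716))))) (.node (.node (.node (.node (.node (.leaf 66560) (.leaf 902303)) (.leaf 220274)) (.node (.leaf 523264) (.leaf 274644))) (.node (.node (.node (.leaf 310272) (.leaf 1129660)) (.leaf 463068)) (.node (.leaf 709632) (.leaf 1118298)))) (.node (.node (.node (.node (.leaf 191488) (.leaf 67689)) (.leaf 924759)) (.node (.leaf 621568) (.leaf 1145856))) (.node (.node (.leaf 413696) (.leaf 1053696)) (.node (.leaf 791552) (.leaf 1060046)))))) (.node (.node (.node (.node (.node (.node (.leaf 35840) (.leaf 26899)) (.leaf 376889)) (.node (.leaf 492544) (.leaf 8351))) (.node (.node (.node (.leaf 190707) (.leaf 472112)) (.leaf 980205))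 (.node (.leaf 288861) (.leaf 1173504)))) (.node (.node (.node (.node (.leaf 160768) (.leaf 1090637)) (.leaf 917504)) (.node (.leaf 540944) (.leaf 1029258))) (.node (.node (.leaf 389120) (.leaf 750785)) (.node (.leaf 768000) (.leaf 1210368))))) (.node (.node (.node (.node (.node (.leaf 98304) (.leaf 1239040)) (.leaf 214211)) (.node (.leaf 122998) (.leaf 153806))) (.node (.node (.node (.leaf 335872) (.leaf 480414)) (.leaf 854171)) (.node (.leaf 612402) (.leaf 570647)))) (.node (.node (.node (.node (.leaf 223232) (.leaf 974000)) (.leaf 954368)) (.node (.leaf 645120) (.leaf 20508))) (.node (.node (.leaf 442368) (.leaf 194871)) (.node (.leaf 807936) (.leaf 1096776)))))))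

def sixMvX02 : Janko.Tree (ℕ) :=
  (.node (.node (.node (.node (.node (.node (.node (.leaf 5120) (.leaf 69954)) (.leaf 829440)) (.node (.leaf 466944) (.leaf 1080511))) (.node (.node (.node (.leaf 231613) (.leaf 1198353)) (.leaf 241699)) (.node (.leaf 125079) (.leaf 1166336)))) (.node (.node (.node (.node (.leaf 131072) (.leaf 809997)) (.leaf 229390)) (.node (.leaf 573440) (.leaf 1132544))) (.node (.node (.node (.leaf 363520) (.leaf 1256453)) (.leaf 55485)) (.node (.leaf 749568) (.leaf 2048))))) (.node (.node (.node (.node (.node (.leaf 68608) (.leaf 1114277)) (.leaf 741606)) (.node (.leaf 525312) (.leaf 785456))) (.node (.node (.node (.leaf 299190) (.leaf 1251574)) (.leaf 999424)) (.node (.leaf 710656) (.leaf 1034318)))) (.node (.node (.node (.node (.leaf 193536) (.leaf 677208)) (.leaf 474176)) (.node (.leaf 508224) (.leaf 283778))) (.node (.node (.leaf 415744) (.leaf 622695)) (.node (.leaf 793600) (.leaf 666864)))))) (.node (.node (.node (.node (.node (.node (.leaf 37888) (.leaf 1073218)) (.leaf 846848)) (.node (.leaf 494592) (.leaf 815329))) (.node (.node (.node (.leaf 281600) (.leaf 444768)) (.leaf 620657))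 (.node (.leaf 614605) (.leaf 103513)))) (.node (.node (.node (.node (.leaf 162816) (.leaf 1194241)) (.leaf 412923)) (.node (.leaf 595968) (.leaf 1017183))) (.node (.node (.leaf 390144) (.leaf 1039360)) (.node (.leaf 769024) (.leaf 638145))))) (.node (.node (.node (.node (.node (.leaf 100352) (.leaf 505923)) (.leaf 882688)) (.node (.leaf 545792) (.leaf 1120256))) (.node (.node (.node (.leaf 337920) (.leaf 1098913)) (.leaf 994523)) (.node (.leaf 587854) (.leaf 461087)))) (.node (.node (.node (.node (.leaf 225280) (.leaf 555323)) (.leaf 956416)) (.node (.leaf 646144) (.leaf 1020943))) (.node (.node (.leaf 443392) (.leaf 82214)) (.node (.leaf 773223) (.leaf 912491)))))))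

def sixMvX03 : Janko.Tree (ℕ) :=
  (.node (.node (.node (.node (.node (.node (.node (.leaf 7168) (.leaf 1158373)) (.leaf 210953)) (.node (.leaf 468992) (.leaf 913642))) (.node (.node (.node (.leaf 254976) (.leaf 1250559)) (.leaf 969728)) (.node (.leaf 501865) (.leaf 780490)))) (.node (.node (.node (.node (.leaf 133120) (.leaf 986463)) (.leaf 903168)) (.node (.leaf 575488) (.leaf 435533))) (.node (.node (.node (.leaf 365568) (.leaf 991260)) (.leaf 734371)) (.node (.leaf 751616) (.leaf 28704))))) (.node (.node (.node (.node (.node (.leaf 70656) (.leaf 437328)) (.leaf 869376)) (.node (.leaf 526336) (.leaf 952538))) (.node (.node (.node (.leaf 312320) (.leaf 1254467)) (.leaf 1000448)) (.node (.leaf 458042) (.leaf 1009680)))) (.node (.node (.node (.node (.leaf 195584) (.leaf 1121418)) (.leaf 937984)) (.node (.leaf 624640) (.leaf 163911))) (.node (.node (.leaf 417792) (.leaf 1054720)) (.node (.leaf 286858) (.leaf 1038504)))))) (.node (.node (.node (.node (.node (.node (.leaf 39936) (.leaf 595280)) (.leaf 258208)) (.node (.leaf 496640) (.leaf 1097728))) (.node (.node (.node (.leaf 282624) (.leaf 12404)) (.leaf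 834645)) (.node (.leaf 196642) (.leaf 679016)))) (.node (.node (.node (.node (.leaf 164864) (.leaf 1215789)) (.leaf 920576)) (.node (.leaf 596992) (.leaf 779555))) (.node (.node (.leaf 392192) (.leaf 1040384)) (.node (.leaf 47104) (.leaf 1211392))))) (.node (.node (.node (.node (.node (.leaf 102400) (.leaf 1087762)) (.leaf 883712)) (.node (.leaf 547840) (.leaf 1122304))) (.node (.node (.node (.leaf 339968) (.leaf 1007694)) (.leaf 1011712)) (.node (.leaf 731136) (.leaf 668987)))) (.node (.node (.node (.node (.leaf 142380) (.leaf 1139834)) (.leaf 957440)) (.node (.leaf 648192) (.leaf 1157120))) (.node (.node (.leaf 291030) (.leaf 1069056)) (.node (.leaf 811008) (.leaf 1219584)))))))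

def sixMvX04 : Janko.Tree (ℕ) :=
  (.node (.node (.node (.node (.node (.node (.node (.leaf 9216) (.leaf 1174713)) (.leaf 424012)) (.node (.leaf 471040) (.leaf 1083392))) (.node (.node (.node (.leaf 257024) (.leaf 841757)) (.leaf 970752)) (.node (.leaf 671744) (.leaf 1167360)))) (.node (.node (.node (.node (.leaf 135168) (.leaf 736469)) (.leaf 823422)) (.node (.leaf 577536) (.leaf 686372))) (.node (.node (.node (.leaf 367616) (.leaf 1190025)) (.leaf 1026048)) (.node (.leaf 752640) (.leaf 1200128))))) (.node (.node (.node (.node (.node (.leaf 72704) (.leaf 708817)) (.leaf 37196)) (.node (.leaf 527360) (.leaf 51353))) (.node (.node (.node (.leaf 314368) (.leaf 795707)) (.leaf 1002496)) (.node (.leaf 712704) (.leaf 1102069)))) (.node (.node (.node (.node (.leaf 197632) (.leaf 1176805)) (.leaf 818324)) (.node (.leaf 626688) (.leaf 866487))) (.node (.node (.leaf 418816) (.leaf 955503)) (.node (.leaf 233554) (.leaf 1214464)))))) (.node (.node (.node (.node (.node (.node (.leaf 41984) (.leaf 1230848)) (.leaf 329730)) (.node (.leaf 498688) (.leaf 623900))) (.node (.node (.node (.leaf 284672) (.leaf 1221683)) (.leaf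 987136)) (.node (.leaf 690176) (.leaf 1175552)))) (.node (.node (.node (.node (.leaf 166912) (.leaf 1227953)) (.leaf 922624)) (.node (.leaf 599040) (.leaf 1135616))) (.node (.node (.leaf 393216) (.leaf 1042432)) (.node (.leaf 772096) (.leaf 372890))))) (.node (.node (.node (.node (.node (.leaf 104448) (.leaf 161798)) (.leaf 885760)) (.node (.leaf 549888) (.leaf 844977))) (.node (.node (.node (.leaf 148526) (.leaf 636034)) (.leaf 266415)) (.node (.leaf 733184) (.leaf 1190912)))) (.node (.node (.node (.node (.leaf 228352) (.leaf 739471)) (.leaf 958464)) (.node (.leaf 650240) (.leaf 313486))) (.node (.node (.leaf 339029) (.leaf 1070080)) (.node (.leaf 75935) (.leaf 1220608)))))))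

def sixMvX05 : Janko.Tree (ℕ) :=
  (.node (.node (.node (.node (.node (.node (.node (.leaf 11264) (.leaf 1061921)) (.leaf 53431)) (.node (.leaf 473088) (.leaf 1084416))) (.node (.node (.node (.leaf 259072) (.leaf 1227054)) (.leaf 56476)) (.node (.leaf 170022) (.leaf 270506)))) (.node (.node (.node (.node (.leaf 137216) (.leaf 1242112)) (.leaf 904192)) (.node (.leaf 181422) (.leaf 175191))) (.node (.node (.node (.leaf 368640) (.leaf 693309)) (.leaf 1027072)) (.node (.leaf 489765) (.leaf 1171754))))) (.node (.node (.node (.node (.node (.leaf 74752) (.leaf 593990)) (.leaf 871424)) (.node (.leaf 528384) (.leaf 1110016))) (.node (.node (.node (.leaf 315392) (.leaf 753731)) (.leaf 892145)) (.node (.leaf 714752) (.leaf 63780)))) (.node (.node (.node (.node (.leaf 199680) (.leaf 538696)) (.leaf 940032)) (.node (.leaf 628736) (.leaf 932158))) (.node (.node (.leaf 420864) (.leaf 1057792)) (.node (.leaf 254260) (.leaf 1130783)))))) (.node (.node (.node (.node (.node (.node (.leaf 44032) (.leaf 1014862)) (.leaf 848896)) (.node (.leaf 500736) (.leaf 350391))) (.node (.node (.node (.leaf 173201) (.leaf 1248520)) (.leaf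 699688)) (.node (.leaf 692224) (.leaf 1126654)))) (.node (.node (.node (.node (.leaf 168960) (.leaf 1245184)) (.leaf 923648)) (.node (.leaf 601088) (.leaf 674883))) (.node (.node (.leaf 395264) (.leaf 1044480)) (.node (.leaf 774144) (.leaf 1186049))))) (.node (.node (.node (.node (.node (.leaf 106496) (.leaf 1235987)) (.leaf 766190)) (.node (.leaf 551936) (.leaf 936156))) (.node (.node (.node (.leaf 78073) (.leaf 529693)) (.leaf 495646)) (.node (.leaf 735232) (.leaf 1191936)))) (.node (.node (.node (.node (.leaf 230400) (.leaf 515096)) (.leaf 960512)) (.node (.leaf 652288) (.leaf 1159168))) (.node (.node (.leaf 447488) (.leaf 932958)) (.node (.leaf 248873) (.leaf 983354)))))))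

def sixMvX06 : Janko.Tree (ℕ) :=
  (.node (.node (.node (.node (.node (.node (.node (.leaf 13312) (.leaf 671069)) (.leaf 316619)) (.node (.leaf 475136) (.leaf 503917))) (.node (.node (.node (.leaf 186487) (.leaf 1005650)) (.leaf 972800)) (.node (.leaf 672768) (.leaf 493707)))) (.node (.node (.node (.node (.leaf 139264) (.leaf 1111231)) (.leaf 905216)) (.node (.leaf 579584) (.leaf 1082503))) (.node (.node (.node (.leaf 369664) (.leaf 1178722)) (.leaf 1028096)) (.node (.leaf 356480) (.leaf 414839))))) (.node (.node (.node (.node (.node (.leaf 76800) (.leaf 732233)) (.leaf 568611)) (.node (.leaf 434387) (.leaf 1051696))) (.node (.node (.node (.leaf 317440) (.leaf 1257472)) (.leaf 993602)) (.node (.leaf 715776) (.leaf 1183744)))) (.node (.node (.node (.node (.leaf 201728) (.leaf 224472)) (.leaf 897332)) (.node (.leaf 629760) (.leaf 1064197))) (.node (.node (.leaf 422912) (.leaf 379086)) (.node (.leaf 584949) (.leaf 1041659)))))) (.node (.node (.node (.node (.node (.node (.leaf 46080) (.leaf 1161464)) (.leaf 850944)) (.node (.leaf 502784) (.leaf 1100800))) (.node (.node (.node (.leaf 287744) (.leaf 921628)) (.leaf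 988160)) (.node (.leaf 580712) (.leaf 16709)))) (.node (.node (.node (.node (.leaf 111972) (.leaf 764159)) (.leaf 607569)) (.node (.leaf 602112) (.leaf 1128470))) (.node (.node (.leaf 396288) (.leaf 640072)) (.node (.leaf 776192) (.leaf 949361))))) (.node (.node (.node (.node (.node (.leaf 108544) (.leaf 867332)) (.leaf 295128)) (.node (.leaf 553984) (.leaf 60691))) (.node (.node (.node (.leaf 342016) (.leaf 1066300)) (.leaf 713774)) (.node (.leaf 737280) (.leaf 870552)))) (.node (.node (.node (.node (.leaf 232448) (.leaf 1249627)) (.leaf 961536)) (.node (.leaf 654336) (.leaf 1160192))) (.node (.node (.leaf 449536) (.leaf 878722)) (.node (.leaf 6349) (.leaf 1222656)))))))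

def sixMvX07 : Janko.Tree (ℕ) :=
  (.node (.node (.node (.node (.node (.node (.node (.leaf 15360) (.leaf 1156382)) (.leaf 833536)) (.node (.leaf 477184) (.leaf 1086464))) (.node (.node (.node (.leaf 261120) (.leaf 1217794)) (.leaf 572605)) (.node (.leaf 651280) (.leaf 1071322)))) (.node (.node (.node (.node (.leaf 141312) (.leaf 1105143)) (.leaf 557351)) (.node (.leaf 581632) (.leaf 916640))) (.node (.node (.node (.leaf 371712) (.leaf 950313)) (.leaf 1030144)) (.node (.leaf 559442) (.leaf 1201180))))) (.node (.node (.node (.node (.node (.leaf 78848) (.leaf 801989)) (.leaf 138329)) (.node (.leaf 530432) (.leaf 1112064))) (.node (.node (.node (.leaf 319488) (.leaf 821512)) (.leaf 1004544)) (.node (.leaf 662589) (.leaf 1184768)))) (.node (.node (.node (.node (.leaf 203776) (.leaf 128328)) (.leaf 943104)) (.node (.leaf 631808) (.leaf 1142064))) (.node (.node (.leaf 424960) (.leaf 155728)) (.node (.leaf 796672) (.leaf 861384)))))) (.node (.node (.node (.node (.node (.node (.leaf 48128) (.leaf 65805)) (.leaf 24612)) (.node (.leaf 504832) (.leaf 1102848))) (.node (.node (.node (.leaf 289792) (.leaf 770252)) (.leaf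 989184)) (.node (.leaf 695296) (.leaf 1177600)))) (.node (.node (.node (.node (.leaf 172032) (.leaf 1246208)) (.leaf 925696)) (.node (.leaf 604160) (.leaf 1016112))) (.node (.node (.leaf 398336) (.leaf 244792)) (.node (.leaf 203102) (.leaf 1212416))))) (.node (.node (.node (.node (.node (.leaf 110592) (.leaf 536592)) (.leaf 889856)) (.node (.leaf 556032) (.leaf 113749))) (.node (.node (.node (.leaf 227330) (.leaf 381208)) (.leaf 246882)) (.node (.leaf 738304) (.leaf 603242)))) (.node (.node (.node (.node (.leaf 234496) (.leaf 1244421)) (.leaf 426126)) (.node (.leaf 655360) (.leaf 927074))) (.node (.node (.leaf 451584) (.leaf 1072128)) (.node (.leaf 814080) (.leaf 216122)))))))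

def sixMvX08 : Janko.Tree (ℕ) :=
  (.node (.node (.node (.node (.node (.node (.node (.leaf 17408) (.leaf 910681)) (.leaf 684294)) (.node (.leaf 479232) (.leaf 491720))) (.node (.node (.node (.leaf 263168) (.leaf 354573)) (.leaf 974848)) (.node (.leaf 675840) (.leaf 720910)))) (.node (.node (.node (.node (.leaf 143360) (.leaf 864553)) (.leaf 906240)) (.node (.leaf 582656) (.leaf 1133568))) (.node (.node (.node (.leaf 373760) (.leaf 704630)) (.leaf 90376)) (.node (.leaf 755712) (.leaf 1203200))))) (.node (.node (.node (.node (.node (.leaf 80896) (.leaf 1202207)) (.leaf 873472)) (.node (.leaf 531456) (.leaf 439370))) (.node (.node (.node (.leaf 320512) (.leaf 745699)) (.leaf 297155)) (.node (.leaf 718848) (.leaf 1186816)))) (.node (.node (.node (.node (.leaf 205824) (.leaf 235595)) (.leaf 945152)) (.node (.leaf 616468) (.leaf 1148928))) (.node (.node (.leaf 427008) (.leaf 1058816)) (.node (.leaf 798720) (.leaf 888021)))))) (.node (.node (.node (.node (.node (.node (.leaf 50176) (.leaf 1136935)) (.leaf 852992)) (.node (.leaf 506880) (.leaf 1103872))) (.node (.node (.node (.leaf 291840) (.leaf 783690)) (.leaf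 959777)) (.node (.leaf 697344) (.leaf 744772)))) (.node (.node (.node (.node (.leaf 174080) (.leaf 448666)) (.leaf 927744)) (.node (.leaf 606208) (.leaf 848137))) (.node (.node (.leaf 400384) (.leaf 144678)) (.node (.leaf 778240) (.leaf 941161))))) (.node (.node (.node (.node (.node (.leaf 112640) (.leaf 600086)) (.leaf 890880)) (.node (.leaf 558080) (.leaf 1125376))) (.node (.node (.node (.leaf 345088) (.leaf 188710)) (.leaf 121070)) (.node (.leaf 200753) (.leaf 1155268)))) (.node (.node (.node (.node (.leaf 236544) (.leaf 1252352)) (.leaf 14504)) (.node (.leaf 657408) (.leaf 335087))) (.node (.node (.leaf 401679) (.leaf 1074176)) (.node (.leaf 84049) (.leaf 80073)))))))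

def sixMvX09 : Janko.Tree (ℕ) :=
  (.node (.node (.node (.node (.node (.node (.node (.leaf 19456) (.leaf 385379)) (.leaf 836608)) (.node (.leaf 278692) (.leaf 1088512))) (.node (.node (.node (.leaf 265216) (.leaf 1255424)) (.leaf 975872)) (.node (.leaf 677888) (.leaf 119130)))) (.node (.node (.node (.node (.leaf 145408) (.leaf 1012905)) (.leaf 907264)) (.node (.leaf 583680) (.leaf 130216))) (.node (.node (.node (.leaf 375808) (.leaf 884813)) (.leaf 1032192)) (.node (.leaf 428200) (.leaf 1204224))))) (.node (.node (.node (.node (.node (.leaf 82944) (.leaf 886858)) (.leaf 874496)) (.node (.leaf 533504) (.leaf 256182))) (.node (.node (.node (.leaf 322560) (.leaf 39019)) (.leaf 127181)) (.node (.leaf 719872) (.leaf 408803)))) (.node (.node (.node (.node (.leaf 207872) (.leaf 813094)) (.leaf 947200)) (.node (.leaf 327712) (.leaf 694312))) (.node (.node (.leaf 429056) (.leaf 280753)) (.node (.leaf 632971) (.leaf 136192)))))) (.node (.node (.node (.node (.node (.node (.leaf 52224) (.leaf 900397)) (.leaf 855040)) (.node (.leaf 455738) (.leaf 592194))) (.node (.node (.node (.leaf 293888) (.leaf 1031250)) (.leaf 992256))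 (.node (.leaf 698368) (.leaf 1123378)))) (.node (.node (.node (.node (.leaf 176128) (.leaf 639244)) (.leaf 366678)) (.node (.leaf 608256) (.leaf 1047864))) (.node (.node (.leaf 391366) (.leaf 140593)) (.node (.leaf 370803) (.leaf 937100))))) (.node (.node (.node (.node (.node (.leaf 114688) (.leaf 1081499)) (.leaf 892928)) (.node (.leaf 560128) (.leaf 564382))) (.node (.node (.node (.leaf 347136) (.leaf 1113287)) (.leaf 794843)) (.node (.leaf 740352) (.leaf 45394)))) (.node (.node (.node (.node (.leaf 238592) (.leaf 1253376)) (.leaf 831668)) (.node (.leaf 618748) (.leaf 1162240))) (.node (.node (.leaf 454656) (.leaf 1075200)) (.node (.leaf 817152) (.leaf 325868)))))))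

def sixMvX010 : Janko.Tree (ℕ) :=
  (.node (.node (.node (.node (.node (.node (.node (.leaf 21504) (.leaf 696457)) (.leaf 837632)) (.node (.leaf 311645) (.leaf 146577))) (.node (.node (.node (.leaf 267264) (.leaf 419851)) (.leaf 976896)) (.node (.leaf 679936) (.leaf 728291)))) (.node (.node (.node (.node (.leaf 147456) (.leaf 1089556)) (.leaf 909312)) (.node (.leaf 485487) (.leaf 1134592))) (.node (.node (.node (.leaf 377856) (.leaf 1259734)) (.leaf 888893)) (.node (.leaf 757760) (.leaf 179276))))) (.node (.node (.node (.node (.node (.leaf 84992) (.leaf 32886)) (.leaf 875520)) (.node (.leaf 534528) (.leaf 1115136))) (.node (.node (.node (.leaf 324608) (.leaf 1127615)) (.leaf 876780)) (.node (.leaf 431244) (.leaf 550932)))) (.node (.node (.node (.node (.leaf 209920) (.leaf 1218805)) (.leaf 948224)) (.node (.leaf 634880) (.leaf 171228))) (.node (.node (.leaf 264546) (.leaf 1060864)) (.node (.leaf 800768) (.leaf 799814)))))) (.node (.node (.node (.node (.node (.node (.leaf 54272) (.leaf 1018981)) (.leaf 856064)) (.node (.leaf 509952) (.leaf 1105920))) (.node (.node (.node (.leaf 295936) (.leaf 1209677)) (.leaf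 919911)) (.node (.leaf 700416) (.leaf 1001734)))) (.node (.node (.node (.node (.leaf 178176) (.leaf 591146)) (.leaf 309437)) (.node (.leaf 441680) (.leaf 1138688))) (.node (.node (.leaf 403456) (.leaf 786581)) (.node (.leaf 781312) (.leaf 643291))))) (.node (.node (.node (.node (.node (.leaf 116736) (.leaf 1093668)) (.leaf 894976)) (.node (.leaf 561152) (.leaf 1078277))) (.node (.node (.node (.leaf 349184) (.leaf 364714)) (.leaf 430155)) (.node (.leaf 664689) (.leaf 1124643)))) (.node (.node (.node (.node (.leaf 240640) (.leaf 445609)) (.leaf 673803)) (.node (.leaf 658432) (.leaf 754967))) (.node (.node (.leaf 301157) (.leaf 835628)) (.node (.leaf 819200) (.leaf 809235)))))))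

def sixMvX011 : Janko.Tree (ℕ) :=
  (.node (.node (.node (.node (.node (.node (.node (.leaf 23552) (.leaf 500001)) (.leaf 838656)) (.node (.leaf 481280) (.leaf 803960))) (.node (.node (.node (.leaf 269312) (.leaf 562182)) (.leaf 977920)) (.node (.leaf 681984) (.leaf 762183)))) (.node (.node (.node (.node (.leaf 149504) (.leaf 1022996)) (.leaf 911360)) (.node (.leaf 586752) (.leaf 775351))) (.node (.node (.node (.leaf 379904) (.leaf 397480)) (.leaf 850143)) (.node (.leaf 759808) (.leaf 1205248))))) (.node (.node (.node (.node (.node (.leaf 87040) (.leaf 1193316)) (.leaf 262355)) (.node (.leaf 388426) (.leaf 218183))) (.node (.node (.node (.leaf 326656) (.leaf 1229909)) (.leaf 968857)) (.node (.leaf 722944) (.leaf 49411)))) (.node (.node (.node (.node (.leaf 211968) (.leaf 576791)) (.leaf 0)) (.node (.leaf 636928) (.leaf 10335))) (.node (.node (.leaf 432128) (.leaf 1062912)) (.node (.leaf 207040) (.leaf 466077)))))) (.node (.node (.node (.node (.node (.node (.leaf 43162) (.leaf 1232911)) (.leaf 858112)) (.node (.leaf 512000) (.leaf 1106944))) (.node (.node (.node (.leaf 297984) (.leaf 718012)) (.leaf 303182))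 (.node (.leaf 633856) (.leaf 453802)))) (.node (.node (.node (.node (.leaf 180224) (.leaf 402509)) (.leaf 929792)) (.node (.leaf 611328) (.leaf 452920))) (.node (.node (.leaf 404480) (.leaf 1046528)) (.node (.leaf 782336) (.leaf 1213440))))) (.node (.node (.node (.node (.node (.leaf 117760) (.leaf 1147989)) (.leaf 702511)) (.node (.leaf 563200) (.leaf 101659))) (.node (.node (.node (.leaf 351232) (.leaf 759064)) (.leaf 1017856)) (.node (.leaf 166105) (.leaf 1196032)))) (.node (.node (.node (.node (.leaf 242688) (.leaf 359646)) (.leaf 107672)) (.node (.leaf 605518) (.leaf 341128))) (.node (.node (.leaf 456704) (.leaf 985325)) (.node (.leaf 820224) (.leaf 1049607)))))))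

def sixMvX012 : Janko.Tree (ℕ) :=
  (.node (.node (.node (.node (.node (.node (.node (.leaf 25600) (.leaf 1085641)) (.leaf 840704)) (.node (.leaf 483328) (.leaf 88177))) (.node (.node (.node (.leaf 271360) (.leaf 237648)) (.leaf 978944)) (.node (.leaf 683008) (.leaf 1169408)))) (.node (.node (.node (.node (.leaf 151552) (.leaf 730167)) (.leaf 520469)) (.node (.leaf 348392) (.leaf 1068344))) (.node (.node (.node (.leaf 381952) (.leaf 1260544)) (.leaf 859383)) (.node (.leaf 476363) (.leaf 1207296))))) (.node (.node (.node (.node (.node (.leaf 89088) (.leaf 1236992)) (.leaf 877568)) (.node (.leaf 30720) (.leaf 1116160))) (.node (.node (.node (.leaf 328704) (.leaf 1189216)) (.leaf 852229)) (.node (.leaf 470338) (.leaf 1056047)))) (.node (.node (.node (.node (.leaf 212992) (.leaf 1099848)) (.leaf 777355)) (.node (.leaf 487740) (.leaf 1149952))) (.node (.node (.leaf 433152) (.leaf 771314)) (.node (.leaf 802816) (.leaf 1181891)))))) (.node (.node (.node (.node (.node (.node (.leaf 57344) (.leaf 272722)) (.leaf 860160)) (.node (.leaf 514048) (.leaf 1056947))) (.node (.node (.node (.leaf 300032) (.leaf 1232034))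 (.leaf 318525)) (.node (.leaf 703488) (.leaf 192843)))) (.node (.node (.node (.node (.leaf 182272) (.leaf 1240348)) (.leaf 930816)) (.node (.leaf 613376) (.leaf 1140736))) (.node (.node (.leaf 405504) (.leaf 332961)) (.node (.leaf 724306) (.leaf 942122))))) (.node (.node (.node (.node (.node (.leaf 119808) (.leaf 394292)) (.leaf 115884)) (.node (.leaf 565248) (.leaf 972118))) (.node (.node (.node (.leaf 353280) (.leaf 1258496)) (.leaf 1019904)) (.node (.leaf 742400) (.leaf 965773)))) (.node (.node (.node (.node (.leaf 243712) (.leaf 1131784)) (.leaf 86315)) (.node (.leaf 660480) (.leaf 1164288))) (.node (.node (.leaf 458752) (.leaf 1077248)) (.node (.leaf 822272) (.leaf 589157)))))))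

def sixMvX013 : Janko.Tree (ℕ) :=
  (.node (.node (.node (.node (.node (.node (.node (.leaf 27648) (.leaf 1228800)) (.leaf 806978)) (.node (.leaf 484352) (.leaf 268402))) (.node (.node (.node (.leaf 273408) (.leaf 1241149)) (.leaf 574500)) (.node (.leaf 450676) (.leaf 1170432)))) (.node (.node (.node (.node (.leaf 152576) (.leaf 659700)) (.leaf 468178)) (.node (.leaf 589824) (.leaf 168098))) (.node (.node (.node (.leaf 204821) (.leaf 918649)) (.leaf 544095)) (.node (.leaf 762880) (.leaf 1206604))))) (.node (.node (.node (.node (.node (.leaf 91136) (.leaf 1179860)) (.leaf 630954)) (.node (.leaf 537600) (.leaf 1117184))) (.node (.node (.node (.leaf 330752) (.leaf 1168566)) (.leaf 1006592)) (.node (.leaf 724992) (.leaf 1187840)))) (.node (.node (.node (.node (.leaf 215040) (.leaf 1195207)) (.leaf 951296)) (.node (.leaf 279615) (.leaf 862488))) (.node (.node (.leaf 406871) (.leaf 1064960)) (.node (.leaf 804864) (.leaf 879768)))))) (.node (.node (.node (.node (.node (.node (.leaf 59392) (.leaf 1233920)) (.leaf 337050)) (.node (.leaf 516096) (.leaf 1107968))) (.node (.node (.node (.leaf 302080) (.leaf 585962))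 (.leaf 995328)) (.node (.leaf 705536) (.leaf 1091723)))) (.node (.node (.node (.node (.leaf 184320) (.leaf 74068)) (.leaf 689267)) (.node (.leaf 615424) (.leaf 1142784))) (.node (.node (.leaf 407552) (.leaf 1048576)) (.node (.leaf 784384) (.leaf 160023))))) (.node (.node (.node (.node (.node (.leaf 121856) (.leaf 680970)) (.leaf 899072)) (.node (.leaf 567296) (.leaf 598099))) (.node (.node (.node (.leaf 355328) (.leaf 1216735)) (.leaf 688352)) (.node (.leaf 743424) (.leaf 1165616)))) (.node (.node (.node (.node (.leaf 245760) (.leaf 553007)) (.leaf 260148)) (.node (.leaf 661504) (.leaf 1163427))) (.node (.node (.leaf 459776) (.leaf 1079296)) (.node (.leaf 544810) (.leaf 1223680)))))))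

def sixMvX014 : Janko.Tree (ℕ) :=
  (.node (.node (.node (.node (.node (.node (.node (.leaf 29696) (.leaf 464043)) (.leaf 843776)) (.node (.leaf 486400) (.leaf 1092608))) (.node (.node (.node (.leaf 275456) (.leaf 222251)) (.leaf 982016)) (.node (.leaf 307500) (.leaf 498006)))) (.node (.node (.node (.node (.leaf 154624) (.leaf 1153206)) (.leaf 914432)) (.node (.leaf 362564) (.leaf 239757))) (.node (.node (.node (.leaf 384000) (.leaf 966900)) (.leaf 609389)) (.node (.leaf 532754) (.leaf 1208320))))) (.node (.node (.node (.node (.node (.leaf 93184) (.leaf 578795)) (.leaf 880640)) (.node (.leaf 539648) (.leaf 647450))) (.node (.node (.node (.leaf 331776) (.leaf 1235301)) (.leaf 34859)) (.node (.leaf 727040) (.leaf 22869)))) (.node (.node (.node (.node (.leaf 217088) (.leaf 722094)) (.leaf 953344)) (.node (.leaf 641024) (.leaf 1152000))) (.node (.node (.leaf 436224) (.leaf 1067008)) (.node (.leaf 346150) (.leaf 691331)))))) (.node (.node (.node (.node (.node (.node (.leaf 61440) (.leaf 656619)) (.leaf 863232)) (.node (.leaf 517120) (.leaf 792733))) (.node (.node (.node (.leaf 304128) (.leaf 812127)) (.leaf 97607))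 (.node (.leaf 357409) (.leaf 653332)))) (.node (.node (.node (.node (.leaf 185344) (.leaf 1137930)) (.leaf 198999)) (.node (.leaf 276544) (.leaf 1143808))) (.node (.node (.leaf 409600) (.leaf 1050624)) (.node (.leaf 649374) (.leaf 1076512))))) (.node (.node (.node (.node (.node (.leaf 123904) (.leaf 1151323)) (.leaf 901120)) (.node (.leaf 72010) (.leaf 726116))) (.node (.node (.node (.leaf 293096) (.leaf 547084)) (.leaf 929023)) (.node (.leaf 209132) (.leaf 1003735)))) (.node (.node (.node (.node (.leaf 247808) (.leaf 685394)) (.leaf 625892)) (.node (.leaf 663552) (.leaf 868423))) (.node (.node (.leaf 461824) (.leaf 944213)) (.node (.leaf 824320) (.leaf 343216)))))))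

def sixMvX015 : Janko.Tree (ℕ) :=
  (.node (.node (.node (.node (.node (.node (.node (.leaf 31744) (.leaf 962718)) (.leaf 845824)) (.node (.leaf 488448) (.leaf 323855))) (.node (.node (.node (.leaf 277504) (.leaf 894281)) (.leaf 984064)) (.node (.leaf 687104) (.leaf 1172480)))) (.node (.node (.node (.node (.leaf 156672) (.leaf 964622)) (.leaf 915456)) (.node (.leaf 592896) (.leaf 1045820))) (.node (.node (.node (.leaf 386048) (.leaf 535889)) (.leaf 1035264)) (.node (.leaf 764928) (.leaf 226336))))) (.node (.node (.node (.node (.node (.leaf 94208) (.leaf 816483)) (.leaf 881664)) (.node (.leaf 513150) (.leaf 1119232))) (.node (.node (.node (.leaf 183455) (.leaf 1247439)) (.leaf 1008640)) (.node (.leaf 416836) (.leaf 832789)))) (.node (.node (.node (.node (.leaf 219136) (.leaf 908342)) (.leaf 150657)) (.node (.leaf 642048) (.leaf 41233))) (.node (.node (.leaf 438272) (.leaf 375047)) (.node (.leaf 805888) (.leaf 701613)))))) (.node (.node (.node (.node (.node (.node (.leaf 62464) (.leaf 1033392)) (.leaf 321630)) (.node (.leaf 519168) (.leaf 410847))) (.node (.node (.node (.leaf 306176) (.leaf 1146964)) (.leaf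 996352)) (.node (.leaf 58425) (.leaf 1180672)))) (.node (.node (.node (.node (.leaf 187392) (.leaf 1243322)) (.leaf 933888)) (.node (.leaf 617472) (.leaf 1144832))) (.node (.node (.leaf 285725) (.leaf 946455)) (.node (.leaf 787456) (.leaf 511257))))) (.node (.node (.node (.node (.node (.leaf 125952) (.leaf 1197208)) (.leaf 383332)) (.node (.leaf 569344) (.leaf 1094789))) (.node (.node (.node (.leaf 358400) (.leaf 446497)) (.leaf 896125)) (.node (.leaf 746496) (.leaf 252175)))) (.node (.node (.node (.node (.leaf 249856) (.leaf 990403)) (.leaf 344074)) (.node (.leaf 665600) (.leaf 109568))) (.node (.node (.leaf 99497) (.leaf 1013887)) (.node (.leaf 825344) (.leaf 1224704)))))))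

def sixMvX0 : Janko.Tree (ℕ) := (.node (.node (.node (.node sixMvX00 sixMvX08) (.node sixMvX04 sixMvX012)) (.node (.node sixMvX02 sixMvX010) (.node sixMvX06 sixMvX014))) (.node (.node (.node sixMvX01 sixMvX09) (.node sixMvX05 sixMvX013)) (.node (.node sixMvX03 sixMvX011) (.node sixMvX07 sixMvX015))))

theorem six_mvX00 : ((List.range 512).all fun i => movesOK sixCert sixT 1232 969283090484280108743175002761274464 sixMvX0 (Nat.add 0 i)) = true := by decide +kernel

theorem six_mvX01 : ((List.range 512).all fun i => movesOK sixCert sixT 1232 969283090484280108743175002761274464 sixMvX0 (Nat.add 512 i)) = true := by decide +kernel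

theorem six_mvX02 : ((List.range 208).all fun i => movesOK sixCert sixT 1232 969283090484280108743175002761274464 sixMvX0 (Nat.add 1024 i)) = true := by decide +kernel

theorem six_mvX0 : ∀ i < 1232, movesOK sixCert sixT 1232 969283090484280108743175002761274464 sixMvX0 i = true := by
  intro i hi
  by_cases h0 : i < 512
  · have := List.all_eq_true.1 six_mvX00 (i - 0) (List.mem_range.2 (by omega)); rwa [show Nat.add 0 (i - 0) = i from Nat.add_sub_cancel' (by omega)] at this
  by_cases h1 : i < 1024
  · have := List.all_eq_true.1 six_mvX01 (i - 512) (List.mem_range.2 (by omega)); rwa [show Nat.add 512 (i - 512) = i from Nat.add_sub_cancel' (by omega)] at this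
  have := List.all_eq_true.1 six_mvX02 (i - 1024) (List.mem_range.2 (by omega)); rwa [show Nat.add 1024 (i - 1024) = i from Nat.add_sub_cancel' (by omega)] at this


def sixMvX10 : Janko.Tree (ℕ) :=
  (.node (.node (.node (.node (.node (.node (.node (.leaf 2048) (.leaf 1140948)) (.leaf 827392)) (.node (.leaf 449551) (.leaf 178361))) (.node (.node (.node (.leaf 251904) (.leaf 789743)) (.leaf 652456)) (.node (.leaf 668672) (.leaf 974941)))) (.node (.node (.node (.node (.leaf 128000) (.leaf 655427)) (.leaf 202004)) (.node (.leaf 21504) (.leaf 1130496))) (.node (.node (.node (.leaf 11264) (.leaf 802866)) (.leaf 1022976)) (.node (.leaf 238870) (.leaf 958646))))) (.node (.node (.node (.node (.node (.leaf 65536) (.leaf 510164)) (.leaf 866304)) (.node (.leaf 522240) (.leaf 351521))) (.node (.node (.node (.leaf 309248) (.leaf 1110307)) (.leaf 998400)) (.node (.leaf 708608) (.leaf 1167368)))) (.node (.node (.node (.node (.leaf 190464) (.leaf 253148)) (.leaf 141537)) (.node (.leaf 620544) (.leaf 248151))) (.node (.node (.leaf 412672) (.leaf 1052672)) (.node (.leaf 790528) (.leaf 1162348)))))) (.node (.node (.node (.node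 (.node (.node (.leaf 34816) (.leaf 1204344)) (.leaf 41984)) (.node (.leaf 491520) (.leaf 909326))) (.node (.node (.node (.leaf 279552) (.leaf 1108115)) (.leaf 985088)) (.node (.leaf 415979) (.leaf 1122514)))) (.node (.node (.node (.node (.leaf 159744) (.leaf 1030155)) (.leaf 916480)) (.node (.leaf 594944) (.leaf 516104))) (.node (.node (.leaf 388096) (.leaf 1037312)) (.node (.leaf 672870) (.leaf 1209344))))) (.node (.node (.node (.node (.node (.leaf 97280) (.leaf 523590)) (.leaf 743638)) (.node (.leaf 543744) (.leaf 860238))) (.node (.node (.node (.leaf 334848) (.leaf 284832)) (.leaf 1009664)) (.node (.leaf 72803) (.leaf 828713)))) (.node (.node (.node (.node (.leaf 222208) (.leaf 490826)) (.leaf 675916)) (.node (.leaf 293944) (.leaf 1135874))) (.node (.node (.leaf 441344) (.leaf 1068032)) (.node (.leaf 554222) (.leaf 824611)))))))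

def sixMvX11 : Janko.Tree (ℕ) :=
  (.node (.node (.node (.node (.node (.node (.node (.leaf 4096) (.leaf 411662)) (.leaf 250889)) (.node (.leaf 465920) (.leaf 1046819))) (.node (.node (.node (.leaf 48435) (.leaf 486599)) (.leaf 778537)) (.node (.leaf 635096) (.leaf 417814)))) (.node (.node (.node (.node (.leaf 130048) (.leaf 1199138)) (.leaf 527633)) (.node (.leaf 572416) (.leaf 1131520))) (.node (.node (.node (.leaf 362496) (.leaf 987396)) (.leaf 667909)) (.node (.leaf 100593) (.leaf 207900))))) (.node (.node (.node (.node (.node (.leaf 67584) (.leaf 911677)) (.leaf 867328)) (.node (.leaf 524288) (.leaf 267373))) (.node (.node (.node (.leaf 172255) (.leaf 781534)) (.leaf 663853)) (.node (.leaf 593065) (.leaf 390187)))) (.node (.node (.node (.node (.leaf 192512) (.leaf 914761)) (.leaf 935936)) (.node (.leaf 622592) (.leaf 747565))) (.node (.node (.leaf 414720) (.leaf 920761)) (.node (.leaf 792576) (.leaf 1166482)))))) (.node (.node (.node (.node (.node (.node (.leaf 36864) (.leaf 1061158)) (.leaf 611407)) (.node (.leaf 493568) (.leaf 1096704))) (.node (.node (.node (.leaf 280576) (.leaf 654689)) (.leaf 83155))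 (.node (.leaf 689152) (.leaf 1174528)))) (.node (.node (.node (.node (.leaf 161792) (.leaf 1244160)) (.leaf 918528)) (.node (.leaf 396619) (.leaf 243821))) (.node (.node (.leaf 300273) (.leaf 1038336)) (.node (.leaf 361697) (.leaf 948539))))) (.node (.node (.node (.node (.node (.leaf 99328) (.leaf 519521)) (.leaf 423153)) (.node (.leaf 544768) (.leaf 147527))) (.node (.node (.node (.leaf 336896) (.leaf 331885)) (.leaf 735468)) (.node (.leaf 730112) (.leaf 698677)))) (.node (.node (.node (.node (.leaf 224256) (.leaf 1048814)) (.leaf 955392)) (.node (.leaf 517154) (.leaf 1155072))) (.node (.node (.leaf 15360) (.leaf 371980)) (.node (.leaf 808960) (.leaf 1217536)))))))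

def sixMvX12 : Janko.Tree (ℕ) :=
  (.node (.node (.node (.node (.node (.node (.node (.leaf 6144) (.leaf 1184082)) (.leaf 561313)) (.node (.leaf 467968) (.leaf 1082368))) (.node (.node (.node (.leaf 253952) (.leaf 978135)) (.leaf 968704)) (.node (.leaf 670720) (.leaf 1069289)))) (.node (.node (.node (.node (.leaf 132096) (.leaf 1212590)) (.leaf 902144)) (.node (.leaf 574464) (.leaf 322802))) (.node (.node (.node (.leaf 364544) (.leaf 1187953)) (.leaf 1025024)) (.node (.leaf 750592) (.leaf 737581))))) (.node (.node (.node (.node (.node (.leaf 69632) (.leaf 1219785)) (.leaf 868352)) (.node (.leaf 504987) (.leaf 507233))) (.node (.node (.node (.leaf 311296) (.leaf 811347)) (.leaf 759858)) (.node (.leaf 711680) (.leaf 104448)))) (.node (.node (.node (.node (.leaf 194560) (.leaf 650359)) (.leaf 936960)) (.node (.leaf 623616) (.leaf 687359))) (.node (.node (.leaf 416768) (.leaf 550186)) (.node (.leaf 774368) (.leaf 1173588)))))) (.node (.node (.node (.node (.node (.node (.leaf 38912) (.leaf 1012014)) (.leaf 644336)) (.node (.leaf 495616) (.leaf 1072319))) (.node (.node (.node (.leaf 119930) (.leaf 763065)) (.leaf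 57344)) (.node (.leaf 259106) (.leaf 1044800)))) (.node (.node (.node (.node (.leaf 163840) (.leaf 904237)) (.leaf 919552)) (.node (.leaf 23552) (.leaf 551982))) (.node (.node (.leaf 391168) (.leaf 925845)) (.node (.leaf 770048) (.leaf 769071))))) (.node (.node (.node (.node (.node (.leaf 101376) (.leaf 1006865)) (.leaf 757961)) (.node (.leaf 546816) (.leaf 1121280))) (.node (.node (.node (.leaf 338944) (.leaf 1237098)) (.leaf 1010688)) (.node (.leaf 331042) (.leaf 1188864)))) (.node (.node (.node (.node (.leaf 226304) (.leaf 1058017)) (.leaf 841016)) (.node (.leaf 647168) (.leaf 1156096))) (.node (.node (.leaf 444416) (.leaf 571697)) (.node (.leaf 809984) (.leaf 1218560)))))))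

def sixMvX13 : Janko.Tree (ℕ) :=
  (.node (.node (.node (.node (.node (.node (.node (.leaf 8192) (.leaf 680130)) (.leaf 94402)) (.node (.leaf 470016) (.leaf 1053874))) (.node (.node (.node (.leaf 256000) (.leaf 1144012)) (.leaf 189441)) (.node (.leaf 669761) (.leaf 957733)))) (.node (.node (.node (.node (.leaf 134144) (.leaf 645289)) (.leaf 776376)) (.node (.leaf 576512) (.leaf 265449))) (.node (.node (.node (.leaf 366592) (.leaf 440537)) (.leaf 137510)) (.node (.leaf 424961) (.leaf 257184))))) (.node (.node (.node (.node (.node (.leaf 71680) (.leaf 953640)) (.leaf 870400)) (.node (.leaf 312422) (.leaf 855247))) (.node (.node (.node (.leaf 313344) (.leaf 710953)) (.leaf 1001472)) (.node (.leaf 234723) (.leaf 1096023)))) (.node (.node (.node (.node (.leaf 196608) (.leaf 1248256)) (.leaf 939008)) (.node (.leaf 625664) (.leaf 1063071))) (.node (.node (.leaf 413815) (.leaf 1055744)) (.node (.leaf 599129) (.leaf 230568)))))) (.node (.node (.node (.node (.node (.node (.leaf 40960) (.leaf 317740)) (.leaf 847872)) (.node (.leaf 497664) (.leaf 281934))) (.node (.node (.node (.leaf 283648) (.leaf 1222912)) (.leaf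 986112)) (.node (.leaf 29696) (.leaf 1149128)))) (.node (.node (.node (.node (.leaf 165888) (.leaf 236689)) (.leaf 921600)) (.node (.leaf 598016) (.leaf 154888))) (.node (.node (.leaf 125958) (.leaf 1041408)) (.node (.leaf 771072) (.leaf 905455))))) (.node (.node (.node (.node (.node (.leaf 103424) (.leaf 1240064)) (.leaf 884736)) (.node (.leaf 548864) (.leaf 521505))) (.node (.node (.node (.leaf 340992) (.leaf 692439)) (.leaf 1012736)) (.node (.leaf 732160) (.leaf 1189888)))) (.node (.node (.node (.node (.leaf 227328) (.leaf 996410)) (.leaf 363652)) (.node (.leaf 649216) (.leaf 315663))) (.node (.node (.leaf 445440) (.leaf 353428)) (.node (.leaf 367690) (.leaf 1182757)))))))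

def sixMvX14 : Janko.Tree (ℕ) :=
  (.node (.node (.node (.node (.node (.node (.node (.leaf 10240) (.leaf 1226752)) (.leaf 830464)) (.node (.leaf 472064) (.leaf 74752))) (.node (.node (.node (.leaf 258048) (.leaf 427197)) (.leaf 971776)) (.node (.leaf 374032) (.leaf 479461)))) (.node (.node (.node (.node (.leaf 136192) (.leaf 951370)) (.leaf 223339)) (.node (.leaf 578560) (.leaf 615658))) (.node (.node (.node (.leaf 263246) (.leaf 1259520)) (.leaf 814219)) (.node (.leaf 438436) (.leaf 1201152))))) (.node (.node (.node (.node (.node (.leaf 73728) (.leaf 1106174)) (.leaf 384126)) (.node (.leaf 289900) (.leaf 1108992))) (.node (.node (.node (.leaf 9216) (.leaf 1103136)) (.leaf 608421)) (.node (.leaf 713728) (.leaf 1024083)))) (.node (.node (.node (.node (.leaf 198656) (.leaf 1120587)) (.leaf 347384)) (.node (.leaf 627712) (.leaf 1146880))) (.node (.node (.leaf 419840) (.leaf 1056768)) (.node (.leaf 37888) (.leaf 906271)))))) (.node (.node (.node (.node (.node (.node (.leaf 43008) (.leaf 1231872)) (.leaf 135478)) (.node (.leaf 499712) (.leaf 1098752))) (.node (.node (.node (.leaf 285696) (.leaf 1083594)) (.leaf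 768118)) (.node (.leaf 691200) (.leaf 1002536)))) (.node (.node (.node (.node (.leaf 167936) (.leaf 398571)) (.leaf 50176)) (.node (.leaf 600064) (.leaf 165117))) (.node (.node (.leaf 394240) (.leaf 1043456)) (.node (.leaf 773120) (.leaf 719184))))) (.node (.node (.node (.node (.node (.leaf 105472) (.leaf 683195)) (.leaf 886784)) (.node (.leaf 550912) (.leaf 1123328))) (.node (.node (.node (.leaf 324703) (.leaf 1032459)) (.leaf 1013760)) (.node (.leaf 734208) (.leaf 129092)))) (.node (.node (.node (.node (.leaf 229376) (.leaf 217224)) (.leaf 959488)) (.node (.leaf 651264) (.leaf 1158144))) (.node (.node (.leaf 446464) (.leaf 836758)) (.node (.leaf 812032) (.leaf 978977)))))))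

def sixMvX15 : Janko.Tree (ℕ) :=
  (.node (.node (.node (.node (.node (.node (.node (.leaf 12288) (.leaf 1000687)) (.leaf 831488)) (.node (.leaf 474112) (.leaf 1085440))) (.node (.node (.node (.leaf 7168) (.leaf 1184841)) (.leaf 940266)) (.node (.leaf 631952) (.leaf 1168384)))) (.node (.node (.node (.node (.leaf 138240) (.leaf 558120)) (.leaf 433333)) (.node (.leaf 277659) (.leaf 1132654))) (.node (.node (.node (.leaf 139545) (.leaf 1246528)) (.leaf 64512)) (.node (.leaf 753664) (.leaf 275709))))) (.node (.node (.node (.node (.node (.leaf 75776) (.leaf 1234944)) (.leaf 872448)) (.node (.leaf 529408) (.leaf 1111040))) (.node (.node (.node (.leaf 316416) (.leaf 583928)) (.leaf 716052)) (.node (.leaf 66740) (.leaf 219298)))) (.node (.node (.node (.node (.leaf 200704) (.leaf 496923)) (.leaf 941056)) (.node (.leaf 380209) (.leaf 1147904))) (.node (.node (.leaf 421888) (.leaf 808193)) (.node (.leaf 794624) (.leaf 542912)))))) (.node (.node (.node (.node (.node (.node (.leaf 45056) (.leaf 502912)) (.leaf 849920)) (.node (.leaf 501760) (.leaf 1099776))) (.node (.node (.node (.leaf 286720) (.leaf 1160346)) (.leaf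 851300)) (.node (.leaf 693248) (.leaf 1176576)))) (.node (.node (.node (.node (.leaf 169984) (.leaf 863540)) (.leaf 924672)) (.node (.leaf 176250) (.leaf 565252))) (.node (.node (.leaf 167246) (.leaf 563527)) (.node (.leaf 775168) (.leaf 665805))))) (.node (.node (.node (.node (.node (.leaf 107520) (.leaf 1077456)) (.leaf 887808)) (.node (.leaf 552960) (.leaf 1124352))) (.node (.node (.node (.leaf 70823) (.leaf 748814)) (.leaf 403517)) (.node (.leaf 736256) (.leaf 1192960)))) (.node (.node (.node (.node (.leaf 231424) (.leaf 531485)) (.leaf 432156)) (.node (.leaf 653312) (.leaf 890025))) (.node (.node (.leaf 448512) (.leaf 1071104)) (.node (.leaf 813056) (.leaf 1221632)))))))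

def sixMvX16 : Janko.Tree (ℕ) :=
  (.node (.node (.node (.node (.node (.node (.node (.leaf 14336) (.leaf 820467)) (.leaf 832512)) (.node (.leaf 476160) (.leaf 731260))) (.node (.node (.node (.leaf 260096) (.leaf 465071)) (.leaf 973824)) (.node (.leaf 673792) (.leaf 890978)))) (.node (.node (.node (.node (.leaf 140288) (.leaf 338255)) (.leaf 707755)) (.node (.leaf 580608) (.leaf 1104057))) (.node (.node (.node (.leaf 370688) (.leaf 1245191)) (.leaf 1029120)) (.node (.leaf 754688) (.leaf 1202176))))) (.node (.node (.node (.node (.node (.leaf 77824) (.leaf 712779)) (.leaf 382080)) (.node (.leaf 19456) (.leaf 407789))) (.node (.node (.node (.leaf 318464) (.leaf 249856)) (.leaf 1003520)) (.node (.leaf 716800) (.leaf 1028325)))) (.node (.node (.node (.node (.leaf 202752) (.leaf 1213707)) (.leaf 942080)) (.node (.leaf 630784) (.leaf 368728))) (.node (.node (.leaf 423936) (.leaf 976076)) (.node (.leaf 795648) (.leaf 1210521)))))) (.node (.node (.node (.node (.node (.node (.leaf 47104) (.leaf 143360)) (.leaf 112925)) (.node (.leaf 503808) (.leaf 1101824))) (.node (.node (.node (.leaf 288768) (.leaf 1239126)) (.leaf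 583011)) (.node (.leaf 694272) (.leaf 869546)))) (.node (.node (.node (.node (.leaf 171008) (.leaf 1159283)) (.leaf 466976)) (.node (.leaf 603136) (.leaf 1136640))) (.node (.node (.leaf 397312) (.leaf 1045504)) (.node (.leaf 777216) (.leaf 525407))))) (.node (.node (.node (.node (.node (.leaf 109568) (.leaf 245891)) (.leaf 888832)) (.node (.leaf 555008) (.leaf 746737))) (.node (.node (.node (.leaf 343040) (.leaf 1152265)) (.leaf 1014784)) (.node (.leaf 700487) (.leaf 560260)))) (.node (.node (.node (.node (.leaf 233472) (.leaf 1238214)) (.leaf 962560)) (.node (.leaf 533720) (.leaf 1125613))) (.node (.node (.leaf 450560) (.leaf 1050660)) (.node (.leaf 606548) (.leaf 1180993)))))))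

def sixMvX17 : Janko.Tree (ℕ) :=
  (.node (.node (.node (.node (.node (.node (.node (.leaf 16384) (.leaf 355367)) (.leaf 834560)) (.node (.leaf 478208) (.leaf 1087488))) (.node (.node (.node (.leaf 262144) (.leaf 613469)) (.leaf 833598)) (.node (.leaf 674816) (.leaf 302127)))) (.node (.node (.node (.node (.leaf 142336) (.leaf 1008867)) (.leaf 847190)) (.node (.leaf 215395) (.leaf 972913))) (.node (.node (.node (.leaf 372736) (.leaf 387190)) (.leaf 1031168)) (.node (.leaf 52302) (.leaf 114688))))) (.node (.node (.node (.node (.node (.leaf 79872) (.leaf 471393)) (.leaf 314474)) (.node (.leaf 310597) (.leaf 865552))) (.node (.node (.node (.leaf 213288) (.leaf 1257586)) (.leaf 938248)) (.node (.leaf 717824) (.leaf 1185792)))) (.node (.node (.node (.node (.leaf 204800) (.leaf 436364)) (.leaf 944128)) (.node (.leaf 78967) (.leaf 1036620))) (.node (.node (.leaf 425984) (.leaf 822464)) (.node (.leaf 797696) (.leaf 1144865)))))) (.node (.node (.node (.node (.node (.node (.leaf 49152) (.leaf 1112332)) (.leaf 851968)) (.node (.leaf 505856) (.leaf 488691))) (.node (.node (.node (.leaf 290816) (.leaf 880846)) (.leaf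 990208)) (.node (.leaf 696320) (.leaf 102400)))) (.node (.node (.node (.node (.leaf 173056) (.leaf 184494)) (.leaf 926720)) (.node (.leaf 605184) (.leaf 1084559))) (.node (.node (.leaf 399360) (.leaf 68608)) (.node (.leaf 389387) (.leaf 469223))))) (.node (.node (.node (.node (.node (.leaf 111616) (.leaf 1241088)) (.leaf 514270)) (.node (.leaf 557056) (.leaf 569429))) (.node (.node (.node (.leaf 344064) (.leaf 539763)) (.leaf 62464)) (.node (.leaf 185571) (.leaf 1018151)))) (.node (.node (.node (.node (.leaf 235520) (.leaf 1075388)) (.leaf 575557)) (.node (.leaf 656384) (.leaf 1065233))) (.node (.node (.leaf 452608) (.leaf 1073152)) (.node (.leaf 815104) (.leaf 703500)))))))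

def sixMvX18 : Janko.Tree (ℕ) :=
  (.node (.node (.node (.node (.node (.node (.node (.leaf 18432) (.leaf 1227776)) (.leaf 835584)) (.node (.leaf 255061) (.leaf 1086633))) (.node (.node (.node (.leaf 264192) (.leaf 1203405)) (.leaf 567610)) (.node (.leaf 676864) (.leaf 131244)))) (.node (.node (.node (.node (.leaf 144384) (.leaf 447662)) (.leaf 340283)) (.node (.leaf 199882) (.leaf 160846))) (.node (.node (.node (.leaf 374784) (.leaf 597121)) (.leaf 858324)) (.node (.leaf 756736) (.leaf 1059017))))) (.node (.node (.node (.node (.node (.leaf 81920) (.leaf 806173)) (.leaf 690465)) (.node (.leaf 532480) (.leaf 1113088))) (.node (.node (.node (.leaf 321536) (.leaf 291911)) (.leaf 149580)) (.node (.leaf 31744) (.leaf 345257)))) (.node (.node (.node (.node (.leaf 206848) (.leaf 961552)) (.leaf 946176)) (.node (.leaf 632832) (.leaf 619775))) (.node (.node (.leaf 428032) (.leaf 1059840)) (.node (.leaf 573508) (.leaf 1215488)))))) (.node (.node (.node (.node (.node (.node (.leaf 51200) (.leaf 885877)) (.leaf 854016)) (.node (.leaf 507904) (.leaf 1104896))) (.node (.node (.node (.leaf 292864) (.leaf 494608)) (.leaf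 991232)) (.node (.leaf 191506) (.leaf 1178624)))) (.node (.node (.node (.node (.leaf 175104) (.leaf 182285)) (.leaf 798874)) (.node (.leaf 607232) (.leaf 1137664))) (.node (.node (.leaf 401408) (.leaf 108731)) (.node (.leaf 779264) (.leaf 787498))))) (.node (.node (.node (.node (.node (.leaf 113664) (.leaf 530777)) (.leaf 891904)) (.node (.leaf 559104) (.leaf 1126400))) (.node (.node (.node (.leaf 346112) (.leaf 1223926)) (.leaf 1015808)) (.node (.leaf 739328) (.leaf 1193984)))) (.node (.node (.node (.node (.leaf 237568) (.leaf 195584)) (.leaf 963584)) (.node (.leaf 456897) (.leaf 1161216))) (.node (.node (.leaf 453632) (.leaf 526388)) (.node (.leaf 816128) (.leaf 1192251)))))))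

def sixMvX19 : Janko.Tree (ℕ) :=
  (.node (.node (.node (.node (.node (.node (.node (.leaf 20480) (.leaf 443693)) (.leaf 54482)) (.node (.leaf 378127) (.leaf 1089536))) (.node (.node (.node (.leaf 266240) (.leaf 764934)) (.leaf 180579)) (.node (.leaf 678912) (.leaf 722956)))) (.node (.node (.node (.node (.leaf 146432) (.leaf 1026374)) (.leaf 908288)) (.node (.leaf 584704) (.leaf 1092685))) (.node (.node (.node (.leaf 376832) (.leaf 661553)) (.leaf 915493)) (.node (.leaf 589882) (.leaf 714841))))) (.node (.node (.node (.node (.node (.leaf 83968) (.leaf 1235968)) (.leaf 752700)) (.node (.leaf 205900) (.leaf 1114112))) (.node (.node (.node (.leaf 323584) (.leaf 672082)) (.leaf 534565)) (.node (.leaf 720896) (.leaf 976946)))) (.node (.node (.node (.node (.leaf 208896) (.leaf 1249280)) (.leaf 740603)) (.node (.leaf 633856) (.leaf 462004))) (.node (.node (.leaf 430080) (.leaf 1022083)) (.node (.leaf 799744) (.leaf 1186915)))))) (.node (.node (.node (.node (.node (.node (.leaf 53248) (.leaf 1232896)) (.leaf 853268)) (.node (.leaf 508928) (.leaf 156923))) (.node (.node (.node (.leaf 294912) (.leaf 1070107)) (.leaf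 968008)) (.node (.leaf 699392) (.leaf 846095)))) (.node (.node (.node (.node (.leaf 177152) (.leaf 404817)) (.leaf 928768)) (.node (.leaf 609280) (.leaf 947558))) (.node (.node (.leaf 402432) (.leaf 163073)) (.node (.leaf 780288) (.leaf 999488))))) (.node (.node (.node (.node (.node (.leaf 115712) (.leaf 405714)) (.leaf 893952)) (.node (.leaf 454897) (.leaf 1127424))) (.node (.node (.node (.leaf 348160) (.leaf 1231152)) (.leaf 749888)) (.node (.leaf 601444) (.leaf 873614)))) (.node (.node (.node (.node (.leaf 239616) (.leaf 1088722)) (.leaf 964608)) (.node (.leaf 484570) (.leaf 658433))) (.node (.node (.leaf 442469) (.leaf 1042782)) (.node (.leaf 818176) (.leaf 1134884)))))))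

def sixMvX110 : Janko.Tree (ℕ) :=
  (.node (.node (.node (.node (.node (.node (.node (.leaf 22528) (.leaf 751764)) (.leaf 805025)) (.node (.leaf 480256) (.leaf 637206))) (.node (.node (.node (.leaf 268288) (.leaf 1233985)) (.leaf 877722)) (.node (.leaf 680960) (.leaf 1067315)))) (.node (.node (.node (.node (.leaf 148480) (.leaf 630039)) (.leaf 910336)) (.node (.leaf 585728) (.leaf 152743))) (.node (.node (.node (.leaf 378880) (.leaf 1101048)) (.leaf 556377)) (.node (.leaf 758784) (.leaf 927791))))) (.node (.node (.node (.node (.node (.leaf 86016) (.leaf 193605)) (.leaf 228536)) (.node (.leaf 475360) (.leaf 624651))) (.node (.node (.node (.leaf 325632) (.leaf 1177926)) (.leaf 709788)) (.node (.leaf 721920) (.leaf 899191)))) (.node (.node (.node (.node (.leaf 210944) (.leaf 875864)) (.leaf 882920)) (.node (.leaf 635904) (.leaf 1138870))) (.node (.node (.leaf 431104) (.leaf 1061888)) (.node (.leaf 59654) (.leaf 306487)))))) (.node (.node (.node (.node (.node (.node (.leaf 55296) (.leaf 1117371)) (.leaf 857088)) (.node (.leaf 510976) (.leaf 158812))) (.node (.node (.node (.leaf 296960) (.leaf 1107160)) (.leaf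 993280)) (.node (.leaf 701440) (.leaf 641116)))) (.node (.node (.node (.node (.leaf 179200) (.leaf 956753)) (.leaf 460033)) (.node (.leaf 610304) (.leaf 358602))) (.node (.node (.leaf 96292) (.leaf 481355)) (.node (.leaf 528527) (.leaf 429305))))) (.node (.node (.node (.node (.node (.leaf 77119) (.leaf 989504)) (.leaf 896000)) (.node (.leaf 562176) (.leaf 1128448))) (.node (.node (.node (.leaf 350208) (.leaf 1196078)) (.leaf 1016832)) (.node (.leaf 579829) (.leaf 1195008)))) (.node (.node (.node (.node (.leaf 241664) (.leaf 1254400)) (.leaf 418968)) (.node (.leaf 659456) (.leaf 1163264))) (.node (.node (.leaf 455680) (.leaf 1076224)) (.node (.leaf 39936) (.leaf 796884)))))))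

def sixMvX111 : Janko.Tree (ℕ) :=
  (.node (.node (.node (.node (.node (.node (.node (.leaf 24576) (.leaf 1172494)) (.leaf 839680)) (.node (.leaf 482304) (.leaf 1090560))) (.node (.node (.node (.leaf 270336) (.leaf 1256448)) (.leaf 856175)) (.node (.leaf 326890) (.leaf 392419)))) (.node (.node (.node (.node (.leaf 150528) (.leaf 1224781)) (.leaf 912384)) (.node (.leaf 587776) (.leaf 725330))) (.node (.node (.node (.leaf 380928) (.leaf 629067)) (.leaf 970827)) (.node (.leaf 760832) (.leaf 1206272))))) (.node (.node (.node (.node (.node (.leaf 88064) (.leaf 169019)) (.leaf 876544)) (.node (.leaf 535552) (.leaf 988321))) (.node (.node (.node (.leaf 327680) (.leaf 1169534)) (.leaf 365679)) (.node (.leaf 660724) (.leaf 342058)))) (.node (.node (.node (.node (.leaf 5120) (.leaf 695385)) (.leaf 949248)) (.node (.leaf 637952) (.leaf 733330))) (.node (.node (.leaf 91400) (.leaf 1063936)) (.node (.leaf 801792) (.leaf 595989)))))) (.node (.node (.node (.node (.node (.node (.leaf 56320) (.leaf 621818)) (.leaf 859136)) (.node (.leaf 513024) (.leaf 901183))) (.node (.node (.node (.leaf 299008) (.leaf 1208627)) (.leaf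 287937)) (.node (.leaf 702464) (.leaf 800990)))) (.node (.node (.node (.node (.leaf 181248) (.leaf 1247232)) (.leaf 81016)) (.node (.leaf 612352) (.leaf 1139712))) (.node (.node (.leaf 13312) (.leaf 1047552)) (.node (.leaf 783360) (.leaf 121856))))) (.node (.node (.node (.node (.node (.leaf 118784) (.leaf 1143004)) (.leaf 897024)) (.node (.leaf 564224) (.leaf 1129472))) (.node (.node (.node (.leaf 352256) (.leaf 1040430)) (.leaf 1018880)) (.node (.leaf 741376) (.leaf 369924)))) (.node (.node (.node (.node (.leaf 27669) (.leaf 1116266)) (.leaf 829498)) (.node (.leaf 44352) (.leaf 826402))) (.node (.node (.leaf 457728) (.leaf 960738)) (.node (.leaf 821248) (.leaf 133120)))))))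

def sixMvX112 : Janko.Tree (ℕ) :=
  (.node (.node (.node (.node (.node (.node (.node (.leaf 26624) (.leaf 1097989)) (.leaf 841728)) (.node (.leaf 17408) (.leaf 1091584))) (.node (.node (.node (.leaf 272384) (.leaf 1255465)) (.leaf 979968)) (.node (.leaf 684032) (.leaf 933927)))) (.node (.node (.node (.node (.leaf 3072) (.leaf 892997)) (.leaf 913408)) (.node (.leaf 588800) (.leaf 492589))) (.node (.node (.node (.leaf 382976) (.leaf 1079634)) (.leaf 1033216)) (.node (.leaf 761856) (.leaf 221317))))) (.node (.node (.node (.node (.node (.leaf 90112) (.leaf 784536)) (.leaf 878592)) (.node (.leaf 536576) (.leaf 110849))) (.node (.node (.node (.leaf 329728) (.leaf 545864)) (.leaf 1005568)) (.node (.leaf 723968) (.leaf 1170534)))) (.node (.node (.node (.node (.leaf 214016) (.leaf 1207448)) (.leaf 950272)) (.node (.leaf 638976) (.leaf 93184))) (.node (.node (.leaf 434176) (.leaf 1054782)) (.node (.leaf 803840) (.leaf 1164628)))))) (.node (.node (.node (.node (.node (.node (.leaf 58368) (.leaf 727226)) (.leaf 861184)) (.node (.leaf 515072) (.leaf 871565))) (.node (.node (.node (.leaf 301056) (.leaf 874821)) (.leaf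 994304)) (.node (.leaf 704512) (.leaf 336002)))) (.node (.node (.node (.node (.leaf 183296) (.leaf 838706)) (.leaf 931840)) (.node (.leaf 614400) (.leaf 1141760))) (.node (.node (.leaf 406528) (.leaf 458928)) (.node (.leaf 772261) (.leaf 682217))))) (.node (.node (.node (.node (.node (.leaf 120832) (.leaf 935209)) (.leaf 898048)) (.node (.leaf 566272) (.leaf 84992))) (.node (.node (.node (.leaf 354304) (.leaf 1175789)) (.leaf 1020928)) (.node (.leaf 46272) (.leaf 848940)))) (.node (.node (.node (.node (.leaf 244736) (.leaf 1214763)) (.leaf 965632)) (.node (.leaf 586962) (.leaf 360593))) (.node (.node (.leaf 298235) (.leaf 1078272)) (.node (.leaf 304440) (.leaf 197928)))))))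

def sixMvX113 : Janko.Tree (ℕ) :=
  (.node (.node (.node (.node (.node (.node (.node (.leaf 28672) (.leaf 1220863)) (.leaf 842752)) (.node (.leaf 485376) (.leaf 819505))) (.node (.node (.node (.leaf 274432) (.leaf 1252453)) (.leaf 980992)) (.node (.leaf 685056) (.leaf 742430)))) (.node (.node (.node (.node (.leaf 153600) (.leaf 1243136)) (.leaf 212108)) (.node (.leaf 590848) (.leaf 451668))) (.node (.node (.node (.leaf 271642) (.leaf 1258643)) (.leaf 1034240)) (.node (.leaf 35840) (.leaf 992579))))) (.node (.node (.node (.node (.node (.leaf 92160) (.leaf 1205358)) (.leaf 879616)) (.node (.leaf 538624) (.leaf 791836))) (.node (.node (.node (.leaf 117789) (.leaf 296144)) (.leaf 61440)) (.node (.leaf 726016) (.leaf 106496)))) (.node (.node (.node (.node (.leaf 216064) (.leaf 1250304)) (.leaf 952320)) (.node (.leaf 640000) (.leaf 1150976))) (.node (.node (.leaf 435200) (.leaf 1065984)) (.node (.leaf 617514) (.leaf 1216512)))))) (.node (.node (.node (.node (.node (.node (.leaf 60416) (.leaf 825359)) (.leaf 862208)) (.node (.leaf 473190) (.leaf 319531))) (.node (.node (.node (.leaf 303104) (.leaf 837939)) (.leaf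 174363)) (.node (.leaf 349202) (.leaf 1146009)))) (.node (.node (.node (.node (.leaf 34099) (.leaf 648227)) (.leaf 932864)) (.node (.leaf 616448) (.leaf 1115195))) (.node (.node (.leaf 408576) (.leaf 1049600)) (.node (.leaf 785408) (.leaf 1211588))))) (.node (.node (.node (.node (.node (.leaf 122880) (.leaf 1074220)) (.leaf 900096)) (.node (.leaf 568320) (.leaf 581963))) (.node (.node (.node (.leaf 356352) (.leaf 1253677)) (.leaf 187647)) (.node (.leaf 744448) (.leaf 1154251)))) (.node (.node (.node (.node (.leaf 246784) (.leaf 642129)) (.leaf 966656)) (.node (.leaf 662528) (.leaf 1020225))) (.node (.node (.leaf 460800) (.leaf 738608)) (.node (.leaf 823296) (.leaf 282664)))))))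

def sixMvX114 : Janko.Tree (ℕ) :=
  (.node (.node (.node (.node (.node (.node (.node (.leaf 30720) (.leaf 1229824)) (.leaf 844800)) (.node (.leaf 487424) (.leaf 1093632))) (.node (.node (.node (.leaf 276480) (.leaf 705734)) (.leaf 983040)) (.node (.leaf 686080) (.leaf 1171456)))) (.node (.node (.node (.node (.leaf 155648) (.leaf 1039384)) (.leaf 547980)) (.node (.leaf 591872) (.leaf 87040))) (.node (.node (.node (.leaf 385024) (.leaf 1260712)) (.leaf 917507)) (.node (.leaf 763904) (.leaf 1119235))))) (.node (.node (.node (.node (.node (.leaf 1024) (.leaf 1157124)) (.leaf 145732)) (.node (.leaf 540672) (.leaf 1118208))) (.node (.node (.node (.leaf 332800) (.leaf 261120)) (.leaf 1007616)) (.node (.leaf 728064) (.leaf 1035285)))) (.node (.node (.node (.node (.leaf 218112) (.leaf 1251328)) (.leaf 483682)) (.node (.leaf 25600) (.leaf 1153024))) (.node (.node (.leaf 437248) (.leaf 203940)) (.node (.leaf 328738) (.leaf 604446)))))) (.node (.node (.node (.node (.node (.node (.leaf 0) (.leaf 1200373)) (.leaf 477506)) (.node (.leaf 518144) (.leaf 602404))) (.node (.node (.node (.leaf 305152) (.leaf 982123)) (.leaf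 782445)) (.node (.leaf 706560) (.leaf 1179648)))) (.node (.node (.node (.node (.leaf 186368) (.leaf 242729)) (.leaf 817353)) (.node (.leaf 537658) (.leaf 923975))) (.node (.node (.leaf 240655) (.leaf 1051648)) (.node (.leaf 786432) (.leaf 1133706))))) (.node (.node (.node (.node (.node (.leaf 124928) (.leaf 697653)) (.leaf 895072)) (.node (.leaf 225520) (.leaf 907583))) (.node (.node (.node (.leaf 357376) (.leaf 308224)) (.leaf 409794)) (.node (.leaf 745472) (.leaf 1197056)))) (.node (.node (.node (.node (.leaf 248832) (.leaf 881821)) (.leaf 930826)) (.node (.leaf 664576) (.leaf 1165312))) (.node (.node (.leaf 462848) (.leaf 1080320)) (.node (.leaf 512144) (.leaf 421164)))))))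

def sixMvX115 : Janko.Tree (ℕ) :=
  (.node (.node (.node (.node (.node (.node (.node (.leaf 32768) (.leaf 657429)) (.leaf 498746)) (.node (.leaf 489472) (.leaf 1094656))) (.node (.node (.node (.leaf 278528) (.leaf 375858)) (.leaf 577722)) (.node (.leaf 688128) (.leaf 843828)))) (.node (.node (.node (.node (.leaf 157696) (.leaf 1242250)) (.leaf 500819)) (.node (.leaf 593920) (.leaf 720187))) (.node (.node (.node (.leaf 98455) (.leaf 903444)) (.leaf 929892)) (.node (.leaf 765952) (.leaf 116736))))) (.node (.node (.node (.node (.node (.leaf 95232) (.leaf 1228977)) (.leaf 151566)) (.node (.leaf 541696) (.leaf 884005))) (.node (.node (.node (.leaf 320651) (.leaf 646277)) (.leaf 943397)) (.node (.leaf 729088) (.leaf 984075)))) (.node (.node (.node (.node (.leaf 220160) (.leaf 793823)) (.leaf 269640)) (.node (.leaf 643072) (.leaf 273581))) (.node (.node (.leaf 439296) (.leaf 232498)) (.node (.leaf 806912) (.leaf 1150148)))))) (.node (.node (.node (.node (.node (.node (.leaf 63488) (.leaf 945427)) (.leaf 864256)) (.node (.leaf 520192) (.leaf 210202))) (.node (.node (.node (.leaf 307200) (.leaf 1027274)) (.leaf 395577))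 (.node (.leaf 678099) (.leaf 1181696)))) (.node (.node (.node (.node (.leaf 188416) (.leaf 1004894)) (.leaf 386116)) (.node (.leaf 618496) (.leaf 922766))) (.node (.node (.leaf 410624) (.leaf 89107)) (.node (.leaf 788480) (.leaf 954511))))) (.node (.node (.node (.node (.node (.leaf 126976) (.leaf 1225936)) (.leaf 626721)) (.node (.leaf 570368) (.leaf 995406))) (.node (.node (.node (.leaf 359424) (.leaf 755919)) (.leaf 997411)) (.node (.leaf 400561) (.leaf 1198080)))) (.node (.node (.node (.node (.leaf 124069) (.leaf 1191247)) (.leaf 393569)) (.node (.leaf 666624) (.leaf 334013))) (.node (.node (.leaf 463872) (.leaf 1081344)) (.node (.leaf 767218) (.leaf 970000)))))))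

def sixMvX1 : Janko.Tree (ℕ) := (.node (.node (.node (.node sixMvX10 sixMvX18) (.node sixMvX14 sixMvX112)) (.node (.node sixMvX12 sixMvX110) (.node sixMvX16 sixMvX114))) (.node (.node (.node sixMvX11 sixMvX19) (.node sixMvX15 sixMvX113)) (.node (.node sixMvX13 sixMvX111) (.node sixMvX17 sixMvX115))))

theorem six_mvX10 : ((List.range 512).all fun i => movesOK sixCert sixT 1232 959447366293016975966859141519023456 sixMvX1 (Nat.add 0 i)) = true := by decide +kernel

theorem six_mvX11 : ((List.range 512).all fun i => movesOK sixCert sixT 1232 959447366293016975966859141519023456 sixMvX1 (Nat.add 512 i)) = true := by decide +kernel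

theorem six_mvX12 : ((List.range 208).all fun i => movesOK sixCert sixT 1232 959447366293016975966859141519023456 sixMvX1 (Nat.add 1024 i)) = true := by decide +kernel

theorem six_mvX1 : ∀ i < 1232, movesOK sixCert sixT 1232 959447366293016975966859141519023456 sixMvX1 i = true := by
  intro i hi
  by_cases h0 : i < 512
  · have := List.all_eq_true.1 six_mvX10 (i - 0) (List.mem_range.2 (by omega)); rwa [show Nat.add 0 (i - 0) = i from Nat.add_sub_cancel' (by omega)] at this
  by_cases h1 : i < 1024
  · have := List.all_eq_true.1 six_mvX11 (i - 512) (List.mem_range.2 (by omega)); rwa [show Nat.add 512 (i - 512) = i from Nat.add_sub_cancel' (by omega)] at this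
  have := List.all_eq_true.1 six_mvX12 (i - 1024) (List.mem_range.2 (by omega)); rwa [show Nat.add 1024 (i - 1024) = i from Nat.add_sub_cancel' (by omega)] at this


def sixMv00 : Janko.Tree (ℕ) :=
  (.node (.node (.node (.node (.node (.node (.node (.leaf 182) (.leaf 161082)) (.leaf 302154)) (.node (.leaf 1053772) (.leaf 268483))) (.node (.node (.node (.leaf 778457) (.leaf 331944)) (.leaf 707936)) (.node (.leaf 54468) (.leaf 793891)))) (.node (.node (.node (.node (.leaf 291057) (.leaf 897124)) (.leaf 504081)) (.node (.leaf 345372) (.leaf 564270))) (.node (.node (.node (.leaf 1247488) (.leaf 4164)) (.leaf 694281)) (.node (.leaf 917505) (.leaf 539950))))) (.node (.node (.node (.node (.node (.leaf 1190998) (.leaf 541818)) (.leaf 750634)) (.node (.leaf 17669) (.leaf 1046637))) (.node (.node (.node (.leaf 397408) (.leaf 61586)) (.leaf 606418)) (.node (.leaf 10313) (.leaf 1058122)))) (.node (.node (.node (.node (.leaf 55312) (.leaf 608597)) (.leaf 752910)) (.node (.leaf 502802) (.leaf 487782))) (.node (.node (.leaf 1109174) (.leaf 890901)) (.node (.leaf 642189) (.leaf 159920)))))) (.node (.node (.node (.node (.node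 (.node (.leaf 1015076) (.leaf 1232003)) (.leaf 614441)) (.node (.leaf 226515) (.leaf 424169))) (.node (.node (.node (.leaf 383188) (.leaf 786551)) (.leaf 509264)) (.node (.leaf 169034) (.leaf 494778)))) (.node (.node (.node (.node (.leaf 82226) (.leaf 14473)) (.leaf 233497)) (.node (.leaf 293910) (.leaf 953514))) (.node (.node (.leaf 1258576) (.leaf 591141)) (.node (.leaf 630938) (.leaf 1016910))))) (.node (.node (.node (.node (.node (.leaf 975953) (.leaf 346463)) (.leaf 803887)) (.node (.leaf 315727) (.leaf 1235202))) (.node (.node (.node (.leaf 1166440) (.leaf 734363)) (.leaf 1047647)) (.node (.leaf 1217656) (.leaf 563547)))) (.node (.node (.node (.node (.leaf 282776) (.leaf 819472)) (.leaf 822426)) (.node (.leaf 1051789) (.leaf 799071))) (.node (.node (.leaf 1214573) (.leaf 845957)) (.node (.leaf 37030) (.leaf 530611)))))))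

def sixMv01 : Janko.Tree (ℕ) :=
  (.node (.node (.node (.node (.node (.node (.node (.leaf 940235) (.leaf 635162)) (.leaf 343241)) (.node (.leaf 459938) (.leaf 1025312))) (.node (.node (.node (.leaf 894309) (.leaf 633127)) (.leaf 109911)) (.node (.leaf 18486) (.leaf 180539)))) (.node (.node (.node (.node (.leaf 86109) (.leaf 1052729)) (.leaf 22834)) (.node (.leaf 453928) (.leaf 1099954))) (.node (.node (.node (.leaf 1097943) (.leaf 679062)) (.leaf 943299)) (.node (.leaf 887883) (.leaf 673007))))) (.node (.node (.node (.node (.node (.leaf 644434) (.leaf 152787)) (.leaf 114715)) (.node (.leaf 405773) (.leaf 1001708))) (.node (.node (.node (.leaf 411858) (.leaf 638243)) (.leaf 506195)) (.node (.leaf 1210647) (.leaf 325964)))) (.node (.node (.node (.node (.leaf 303303) (.leaf 809264)) (.leaf 984265)) (.node (.leaf 46365) (.leaf 850030))) (.node (.node (.leaf 593984) (.leaf 1199121)) (.node (.leaf 998460) (.leaf 388127)))))) (.node (.node (.node (.node (.node (.node (.leaf 921884) (.leaf 554223)) (.leaf 837642)) (.node (.leaf 738508) (.leaf 561341))) (.node (.node (.node (.leaf 522419) (.leaf 782410)) (.leaf 623900))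 (.node (.leaf 474386) (.leaf 450696)))) (.node (.node (.node (.node (.leaf 906398) (.leaf 789618)) (.leaf 1159494)) (.node (.leaf 596054) (.leaf 731437))) (.node (.node (.leaf 56433) (.leaf 893091)) (.node (.leaf 1105226) (.leaf 465036))))) (.node (.node (.node (.node (.node (.leaf 1249351) (.leaf 781670)) (.leaf 740407)) (.node (.leaf 714941) (.leaf 854248))) (.node (.node (.node (.leaf 601202) (.leaf 116792)) (.leaf 1067110)) (.node (.leaf 741424) (.leaf 616787)))) (.node (.node (.node (.node (.leaf 113970) (.leaf 728245)) (.leaf 1240311)) (.node (.leaf 449691) (.leaf 1194151))) (.node (.node (.leaf 246890) (.leaf 338143)) (.node (.leaf 989400) (.leaf 1033527)))))))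

def sixMv02 : Janko.Tree (ℕ) :=
  (.node (.node (.node (.node (.node (.node (.node (.leaf 729169) (.leaf 1147982)) (.leaf 336125)) (.node (.leaf 1133579) (.leaf 1160427))) (.node (.node (.node (.leaf 349325) (.leaf 866628)) (.leaf 1137905)) (.node (.leaf 1042505) (.leaf 650334)))) (.node (.node (.node (.node (.leaf 427168) (.leaf 1238294)) (.leaf 1107979)) (.node (.leaf 281656) (.leaf 690330))) (.node (.node (.node (.leaf 52506) (.leaf 986133)) (.leaf 835700)) (.node (.leaf 972125) (.leaf 985286))))) (.node (.node (.node (.node (.node (.leaf 445568) (.leaf 1013964)) (.leaf 88112)) (.node (.leaf 72001) (.leaf 347286))) (.node (.node (.node (.leaf 444586) (.leaf 84164)) (.leaf 836853)) (.node (.leaf 1139893) (.leaf 214239)))) (.node (.node (.node (.node (.leaf 785561) (.leaf 757049)) (.leaf 1187025)) (.node (.leaf 713006) (.leaf 1019167))) (.node (.node (.leaf 1209431) (.leaf 288893)) (.node (.leaf 868395) (.leaf 235814)))))) (.node (.node (.node (.node (.node (.node (.leaf 350329) (.leaf 1111111)) (.leaf 1259812)) (.node (.leaf 923906) (.leaf 227646))) (.node (.node (.node (.leaf 164015) (.leaf 133300)) (.leaf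 477338)) (.node (.leaf 469184) (.leaf 844132)))) (.node (.node (.node (.node (.leaf 246047) (.leaf 433220)) (.leaf 568331)) (.node (.leaf 197939) (.leaf 278709))) (.node (.node (.leaf 395360) (.leaf 403770)) (.node (.leaf 1004700) (.leaf 964951))))) (.node (.node (.node (.node (.node (.leaf 1090641) (.leaf 1013064)) (.leaf 979157)) (.node (.leaf 1181831) (.leaf 1081450))) (.node (.node (.node (.leaf 1092617) (.leaf 1066103)) (.leaf 428254)) (.node (.leaf 390481) (.leaf 26934)))) (.node (.node (.node (.node (.leaf 691324) (.leaf 528522)) (.leaf 976912)) (.node (.leaf 549091) (.leaf 801063))) (.node (.node (.leaf 222440) (.leaf 12515)) (.node (.leaf 1049631) (.leaf 588845)))))))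

def sixMv03 : Janko.Tree (ℕ) :=
  (.node (.node (.node (.node (.node (.node (.node (.leaf 1071349) (.leaf 890199)) (.leaf 1048845)) (.node (.leaf 603338) (.leaf 138349))) (.node (.node (.node (.leaf 417846) (.leaf 927047)) (.leaf 914776)) (.node (.leaf 626906) (.leaf 1142003)))) (.node (.node (.node (.node (.leaf 585832) (.leaf 556288)) (.leaf 1241252)) (.node (.leaf 1164337) (.leaf 49412))) (.node (.node (.node (.leaf 557218) (.leaf 189525)) (.leaf 234826)) (.node (.leaf 1093909) (.leaf 196856))))) (.node (.node (.node (.node (.node (.leaf 938030) (.leaf 479429)) (.leaf 1168688)) (.node (.leaf 1165533) (.leaf 455781))) (.node (.node (.node (.leaf 351332) (.leaf 949604)) (.leaf 1229887)) (.node (.leaf 103551) (.leaf 493722)))) (.node (.node (.node (.node (.leaf 1064276) (.leaf 296093)) (.leaf 408815)) (.node (.leaf 1083481) (.leaf 263438))) (.node (.node (.leaf 730153) (.leaf 76958)) (.node (.leaf 406793) (.leaf 1096863)))))) (.node (.node (.node (.node (.node (.node (.leaf 1218685) (.leaf 167072)) (.leaf 1000776)) (.node (.leaf 144550) (.leaf 732385))) (.node (.node (.node (.leaf 546882) (.leaf 773277))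 (.leaf 939115)) (.node (.leaf 381216) (.leaf 210137)))) (.node (.node (.node (.node (.leaf 230468) (.leaf 974952)) (.leaf 414757)) (.node (.leaf 779268) (.leaf 354319))) (.node (.node (.leaf 66846) (.leaf 1202283)) (.node (.leaf 1117229) (.leaf 791866))))) (.node (.node (.node (.node (.node (.leaf 1101989) (.leaf 797030)) (.leaf 654372)) (.node (.leaf 790746) (.leaf 903444))) (.node (.node (.node (.leaf 170207) (.leaf 663556)) (.leaf 463113)) (.node (.leaf 243968) (.leaf 317465)))) (.node (.node (.node (.node (.leaf 636184) (.leaf 918807)) (.leaf 387180)) (.node (.leaf 637143) (.leaf 1070275))) (.node (.node (.leaf 171285) (.leaf 754775)) (.node (.leaf 29764) (.leaf 788501)))))))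

def sixMv04 : Janko.Tree (ℕ) :=
  (.node (.node (.node (.node (.node (.node (.node (.leaf 856097) (.leaf 250028)) (.leaf 298261)) (.node (.leaf 482604) (.leaf 1220823))) (.node (.node (.node (.leaf 366749) (.leaf 1158165)) (.leaf 431195)) (.node (.leaf 149784) (.leaf 295100)))) (.node (.node (.node (.node (.leaf 45122) (.leaf 1254513)) (.leaf 85239)) (.node (.leaf 566311) (.leaf 1245325))) (.node (.node (.node (.leaf 141669) (.leaf 1121501)) (.leaf 665663)) (.node (.leaf 655659) (.leaf 1063046))))) (.node (.node (.node (.node (.node (.leaf 1203255) (.leaf 946471)) (.leaf 573511)) (.node (.leaf 1023159) (.leaf 1116213))) (.node (.node (.node (.leaf 342154) (.leaf 269542)) (.leaf 828743)) (.node (.leaf 124077) (.leaf 480509)))) (.node (.node (.node (.node (.leaf 13457) (.leaf 1207442)) (.leaf 676978)) (.node (.leaf 924911) (.leaf 1027077))) (.node (.node (.leaf 688191) (.leaf 20562)) (.node (.leaf 122092) (.leaf 280883)))))) (.node (.node (.node (.node (.node (.node (.leaf 811241) (.leaf 958659)) (.leaf 8388)) (.node (.leaf 558174) (.leaf 309548))) (.node (.node (.node (.leaf 971044) (.leaf 1161432)) (.leaf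 879968)) (.node (.leaf 529549) (.leaf 677986)))) (.node (.node (.node (.node (.leaf 216299) (.leaf 1248308)) (.leaf 597302)) (.node (.leaf 1127702) (.leaf 593099))) (.node (.node (.leaf 380105) (.leaf 959836)) (.node (.leaf 79063) (.leaf 481523))))) (.node (.node (.node (.node (.node (.leaf 874803) (.leaf 198820)) (.leaf 567539)) (.node (.leaf 456916) (.leaf 1260692))) (.node (.node (.node (.leaf 41214) (.leaf 1142810)) (.leaf 399579)) (.node (.leaf 44223) (.leaf 1122635)))) (.node (.node (.node (.node (.leaf 713815) (.leaf 859221)) (.leaf 1062145)) (.node (.leaf 208967) (.leaf 1016096))) (.node (.node (.leaf 1115155) (.leaf 1072360)) (.node (.leaf 982167) (.leaf 99486)))))))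

def sixMv05 : Janko.Tree (ℕ) :=
  (.node (.node (.node (.node (.node (.node (.node (.leaf 643413) (.leaf 179304)) (.leaf 586876)) (.node (.leaf 686193) (.leaf 965917))) (.node (.node (.node (.leaf 1045799) (.leaf 1075411)) (.leaf 1222938)) (.node (.leaf 305201) (.leaf 1104080)))) (.node (.node (.node (.node (.leaf 153875) (.leaf 102617)) (.leaf 42293)) (.node (.leaf 1088825) (.leaf 358410))) (.node (.node (.node (.leaf 32021) (.leaf 927926)) (.leaf 70932)) (.node (.leaf 524484) (.leaf 645156))))) (.node (.node (.node (.node (.node (.leaf 158942) (.leaf 389237)) (.leaf 364835)) (.node (.leaf 1183011) (.leaf 704775))) (.node (.node (.node (.leaf 514329) (.leaf 784568)) (.leaf 96455)) (.node (.leaf 93195) (.leaf 258084)))) (.node (.node (.node (.node (.leaf 326904) (.leaf 328789)) (.leaf 511133)) (.node (.leaf 89331) (.leaf 376890))) (.node (.node (.leaf 600416) (.leaf 265478)) (.node (.leaf 867446) (.leaf 422232)))))) (.node (.node (.node (.node (.node (.node (.leaf 248082) (.leaf 1110347)) (.leaf 174345)) (.node (.leaf 579647) (.leaf 1100938))) (.node (.node (.node (.leaf 628911) (.leaf 966878)) (.leaf 396445))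 (.node (.leaf 57393) (.leaf 523323)))) (.node (.node (.node (.node (.leaf 371862) (.leaf 895252)) (.leaf 761101)) (.node (.leaf 1198230) (.leaf 100699))) (.node (.node (.leaf 1073279) (.leaf 98515)) (.node (.leaf 1102946) (.leaf 674147))))) (.node (.node (.node (.node (.node (.leaf 794848) (.leaf 954544)) (.leaf 807212)) (.node (.leaf 700554) (.leaf 1255505))) (.node (.node (.node (.leaf 664797) (.leaf 1157438)) (.leaf 118787)) (.node (.leaf 656647) (.leaf 618611)))) (.node (.node (.node (.node (.leaf 607434) (.leaf 534807)) (.leaf 370789)) (.node (.leaf 272524) (.leaf 471042))) (.node (.node (.leaf 913663) (.leaf 876883)) (.node (.leaf 172093) (.leaf 615467)))))))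

def sixMv06 : Janko.Tree (ℕ) :=
  (.node (.node (.node (.node (.node (.node (.node (.leaf 516355) (.leaf 368747)) (.leaf 703742)) (.node (.leaf 1196079) (.leaf 221466))) (.node (.node (.node (.leaf 751950) (.leaf 361729)) (.leaf 490678)) (.node (.leaf 899314) (.leaf 1020164)))) (.node (.node (.node (.node (.leaf 310415) (.leaf 882929)) (.leaf 327910)) (.node (.leaf 398401) (.leaf 232670))) (.node (.node (.node (.leaf 25705) (.leaf 1225782)) (.leaf 1098770)) (.node (.leaf 544007) (.leaf 671907))))) (.node (.node (.node (.node (.node (.leaf 634071) (.leaf 625714)) (.leaf 1201196)) (.node (.leaf 1200208) (.leaf 869512))) (.node (.node (.node (.leaf 239905) (.leaf 1007891)) (.leaf 777235)) (.node (.leaf 137288) (.leaf 3428)))) (.node (.node (.node (.node (.leaf 719082) (.leaf 430355)) (.leaf 1082569)) (.node (.leaf 466088) (.leaf 519222))) (.node (.node (.leaf 912409) (.leaf 1232929)) (.node (.leaf 425252) (.leaf 308289)))))) (.node (.node (.node (.node (.node (.node (.leaf 737283) (.leaf 956671)) (.leaf 457977)) (.node (.leaf 260210) (.leaf 1050892))) (.node (.node (.node (.leaf 726105) (.leaf 574474)) (.leaf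 36057)) (.node (.leaf 862285) (.leaf 841801)))) (.node (.node (.node (.node (.leaf 439500) (.leaf 386132)) (.leaf 120968)) (.node (.leaf 394307) (.leaf 878624))) (.node (.node (.leaf 575693) (.leaf 1180903)) (.node (.leaf 392223) (.leaf 154760))))) (.node (.node (.node (.node (.node (.leaf 742556) (.leaf 501773)) (.leaf 1191978)) (.node (.leaf 483507) (.leaf 1298))) (.node (.node (.node (.leaf 1086688) (.leaf 723108)) (.leaf 1246214)) (.node (.leaf 612367) (.leaf 955677)))) (.node (.node (.node (.node (.leaf 448837) (.leaf 589999)) (.leaf 780487)) (.node (.leaf 768094) (.leaf 660497))) (.node (.node (.leaf 273698) (.leaf 255006)) (.node (.leaf 409827) (.leaf 948316)))))))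

def sixMv07 : Janko.Tree (ℕ) :=
  (.node (.node (.node (.node (.node (.node (.node (.leaf 1162362) (.leaf 156995)) (.leaf 185387)) (.node (.leaf 1008767) (.leaf 459043))) (.node (.node (.node (.leaf 1131853) (.leaf 990393)) (.leaf 321841)) (.node (.leaf 104485) (.leaf 562432)))) (.node (.node (.node (.node (.leaf 168033) (.leaf 50215)) (.leaf 190723)) (.node (.leaf 1005774) (.leaf 241726))) (.node (.node (.node (.leaf 261404) (.leaf 997423)) (.leaf 330879)) (.node (.leaf 135477) (.leaf 624646))))) (.node (.node (.node (.node (.node (.leaf 517250) (.leaf 565411)) (.leaf 401696)) (.node (.leaf 464148) (.leaf 733311))) (.node (.node (.node (.leaf 357468) (.leaf 931990)) (.leaf 276774)) (.node (.leaf 64871) (.leaf 229431)))) (.node (.node (.node (.node (.leaf 193670) (.leaf 378998)) (.leaf 1080667)) (.node (.leaf 880687) (.leaf 355547))) (.node (.node (.leaf 599225) (.leaf 188484)) (.node (.leaf 991269) (.leaf 769122)))))) (.node (.node (.node (.node (.node (.node (.leaf 1106095) (.leaf 860330)) (.leaf 451888)) (.node (.leaf 1242165) (.leaf 223513))) (.node (.node (.node (.leaf 335034) (.leaf 508033)) (.leaf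 710922)) (.node (.leaf 1125725) (.leaf 1174766)))) (.node (.node (.node (.node (.leaf 764177) (.leaf 944134)) (.leaf 993304)) (.node (.leaf 1068293) (.leaf 545856))) (.node (.node (.leaf 341131) (.leaf 683228)) (.node (.leaf 1126622) (.leaf 745544))))) (.node (.node (.node (.node (.node (.leaf 952365) (.leaf 962913)) (.leaf 131257)) (.node (.leaf 1252640) (.leaf 1244486))) (.node (.node (.node (.leaf 187658) (.leaf 236633)) (.leaf 352284)) (.node (.leaf 192677) (.leaf 1234276)))) (.node (.node (.node (.node (.leaf 47156) (.leaf 929982)) (.leaf 1151002)) (.node (.leaf 871725) (.leaf 584739))) (.node (.node (.leaf 288025) (.leaf 720913)) (.node (.leaf 1190205) (.leaf 372867)))))))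

def sixMv08 : Janko.Tree (ℕ) :=
  (.node (.node (.node (.node (.node (.node (.node (.leaf 799800) (.leaf 1224952)) (.leaf 1211676)) (.node (.leaf 540890) (.leaf 393519))) (.node (.node (.node (.leaf 224544) (.leaf 886074)) (.leaf 1065032)) (.node (.leaf 852248) (.leaf 909319)))) (.node (.node (.node (.node (.leaf 919604) (.leaf 151618)) (.leaf 525371)) (.node (.leaf 1237253) (.leaf 774157))) (.node (.node (.node (.leaf 362536) (.leaf 861531)) (.leaf 324717)) (.node (.leaf 203084) (.leaf 992357))))) (.node (.node (.node (.node (.node (.leaf 128133) (.leaf 814351)) (.leaf 332853)) (.node (.leaf 1036605) (.leaf 576702))) (.node (.node (.node (.leaf 1026240) (.leaf 314703)) (.leaf 9355)) (.node (.leaf 521360) (.leaf 583704)))) (.node (.node (.node (.node (.leaf 1143999) (.leaf 846963)) (.leaf 31063)) (.node (.leaf 571497) (.leaf 279900))) (.node (.node (.leaf 1120334) (.leaf 74936)) (.node (.leaf 139437) (.leaf 256057)))))) (.node (.node (.node (.node (.node (.node (.leaf 108834) (.leaf 76091)) (.leaf 1154218)) (.node (.leaf 367682) (.leaf 757876))) (.node (.node (.node (.leaf 105626) (.leaf 382235)) (.leaf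 51280)) (.node (.leaf 587846) (.leaf 699720)))) (.node (.node (.node (.node (.leaf 532560) (.leaf 68850)) (.leaf 270574)) (.node (.leaf 697502) (.leaf 767263))) (.node (.node (.leaf 996678) (.leaf 581763)) (.node (.leaf 970006) (.leaf 19573))))) (.node (.node (.node (.node (.node (.leaf 609301) (.leaf 1060954)) (.leaf 1006596)) (.node (.leaf 761919) (.leaf 1205435))) (.node (.node (.node (.leaf 611637) (.leaf 526528)) (.leaf 205050)) (.node (.leaf 1141080) (.leaf 264357)))) (.node (.node (.node (.node (.leaf 842890) (.leaf 220280)) (.leaf 908612)) (.node (.leaf 1213740) (.leaf 549927))) (.node (.node (.leaf 1037571) (.leaf 580898)) (.node (.leaf 555115) (.leaf 613479)))))))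

def sixMv09 : Janko.Tree (ℕ) :=
  (.node (.node (.node (.node (.node (.node (.node (.leaf 275704) (.leaf 667679)) (.leaf 340194)) (.node (.leaf 1136777) (.leaf 845024))) (.node (.node (.node (.leaf 748567) (.leaf 267400)) (.leaf 531715)) (.node (.leaf 488589) (.leaf 300174)))) (.node (.node (.node (.node (.leaf 319504) (.leaf 1215585)) (.leaf 1236008)) (.node (.leaf 933104) (.leaf 995425))) (.node (.node (.node (.leaf 497848) (.leaf 684090)) (.leaf 858209)) (.node (.leaf 130237) (.leaf 498824))))) (.node (.node (.node (.node (.node (.leaf 1012016) (.leaf 680284)) (.leaf 1179749)) (.node (.leaf 24868) (.leaf 882022))) (.node (.node (.node (.leaf 28700) (.leaf 764942)) (.leaf 711875)) (.node (.leaf 126064) (.leaf 443576)))) (.node (.node (.node (.node (.leaf 203902) (.leaf 7515)) (.leaf 462109)) (.node (.leaf 749775) (.leaf 864516))) (.node (.node (.leaf 202046) (.leaf 436548)) (.node (.leaf 213242) (.leaf 289901)))))) (.node (.node (.node (.node (.node (.node (.leaf 467084) (.leaf 1041725)) (.leaf 925703)) (.node (.leaf 1107014) (.leaf 629867))) (.node (.node (.node (.leaf 863340) (.leaf 936243)) (.leaf 1170669))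 (.node (.leaf 101393) (.leaf 126994)))) (.node (.node (.node (.node (.leaf 63818) (.leaf 706583)) (.leaf 254173)) (.node (.leaf 994451) (.leaf 910497))) (.node (.node (.leaf 21515) (.leaf 468004)) (.node (.leaf 756054) (.leaf 1216552))))) (.node (.node (.node (.node (.node (.leaf 1089639) (.leaf 252964)) (.leaf 1173627)) (.node (.leaf 682042) (.leaf 292148))) (.node (.node (.node (.leaf 1134593) (.leaf 823532)) (.leaf 709753)) (.node (.leaf 242976) (.leaf 855258)))) (.node (.node (.node (.node (.leaf 1153283) (.leaf 813249)) (.leaf 715834)) (.node (.leaf 271682) (.leaf 818388))) (.node (.node (.leaf 797791) (.leaf 821540)) (.node (.leaf 145649) (.leaf 830699)))))))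

def sixMv010 : Janko.Tree (ℕ) :=
  (.node (.node (.node (.node (.node (.node (.node (.leaf 801986) (.leaf 725193)) (.leaf 560203)) (.node (.leaf 1204461) (.leaf 808289))) (.node (.node (.node (.leaf 1243316) (.leaf 928858)) (.leaf 1059033)) (.node (.leaf 191505) (.leaf 470089)))) (.node (.node (.node (.node (.leaf 218313) (.leaf 666976)) (.leaf 724271)) (.node (.leaf 701483) (.leaf 293191))) (.node (.node (.node (.leaf 533785) (.leaf 1256749)) (.leaf 825474)) (.node (.leaf 165188) (.leaf 1040432))))) (.node (.node (.node (.node (.node (.leaf 591953) (.leaf 942234)) (.leaf 815347)) (.node (.leaf 334125) (.leaf 902303))) (.node (.node (.node (.leaf 875702) (.leaf 907451)) (.leaf 717913)) (.node (.leaf 1029452) (.leaf 826371)))) (.node (.node (.node (.node (.leaf 304432) (.leaf 974004)) (.leaf 743486)) (.node (.leaf 33998) (.leaf 977987))) (.node (.node (.leaf 183371) (.leaf 365611)) (.node (.leaf 922921) (.leaf 513190)))))) (.node (.node (.node (.node (.node (.node (.leaf 1095828) (.leaf 653401)) (.leaf 569392)) (.node (.leaf 484580) (.leaf 81034))) (.node (.node (.node (.leaf 337027) (.leaf 901363)) (.leaf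 375961)) (.node (.leaf 1030156) (.leaf 657531)))) (.node (.node (.node (.node (.leaf 62495) (.leaf 934969)) (.leaf 1028310)) (.node (.leaf 384323) (.leaf 53426))) (.node (.node (.leaf 520270) (.leaf 661670)) (.node (.leaf 848999) (.leaf 39109))))) (.node (.node (.node (.node (.node (.leaf 551000) (.leaf 43306)) (.leaf 1069139)) (.node (.leaf 1044663) (.leaf 437575))) (.node (.node (.node (.leaf 610518) (.leaf 891989)) (.leaf 225360)) (.node (.leaf 435521) (.leaf 963613)))) (.node (.node (.node (.node (.leaf 1034348) (.leaf 1112146)) (.leaf 961707)) (.node (.leaf 491871) (.leaf 369756))) (.node (.node (.leaf 945505) (.leaf 988325)) (.node (.leaf 391518) (.leaf 215042)))))))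

def sixMv011 : Janko.Tree (ℕ) :=
  (.node (.node (.node (.node (.node (.node (.node (.leaf 353366) (.leaf 251216)) (.leaf 95342)) (.node (.leaf 356424) (.leaf 776374))) (.node (.node (.node (.leaf 617599) (.leaf 486568)) (.leaf 111805)) (.node (.leaf 1039439) (.leaf 515221)))) (.node (.node (.node (.node (.leaf 1148996) (.leaf 504960)) (.leaf 685259)) (.node (.leaf 316635) (.leaf 1055991))) (.node (.node (.node (.leaf 802888) (.leaf 840850)) (.leaf 423066)) (.node (.leaf 1250551) (.leaf 11344))))) (.node (.node (.node (.node (.node (.leaf 848047) (.leaf 900222)) (.leaf 1147237)) (.node (.leaf 1022090) (.leaf 1074345))) (.node (.node (.node (.leaf 65717) (.leaf 1219834)) (.leaf 1091809)) (.node (.leaf 770238) (.leaf 259410)))) (.node (.node (.node (.node (.leaf 447524) (.leaf 916558)) (.leaf 1009826)) (.node (.leaf 60738) (.leaf 1144960))) (.node (.node (.leaf 1114212) (.leaf 1043671)) (.node (.leaf 832669) (.leaf 980993)))))) (.node (.node (.node (.node (.node (.node (.leaf 518174) (.leaf 142565)) (.leaf 1193211)) (.node (.leaf 787695) (.leaf 58529))) (.node (.node (.node (.leaf 1177749) (.leaf 646197))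 (.leaf 78097)) (.node (.leaf 951324) (.leaf 1024303)))) (.node (.node (.node (.node (.leaf 659554) (.leaf 257090)) (.leaf 1076366)) (.node (.leaf 1239108) (.leaf 833852))) (.node (.node (.leaf 499892) (.leaf 489612)) (.node (.leaf 33027) (.leaf 651282))))) (.node (.node (.node (.node (.node (.leaf 87373) (.leaf 957789)) (.leaf 647428)) (.node (.leaf 512021) (.leaf 97627))) (.node (.node (.node (.leaf 739656) (.leaf 1079354)) (.leaf 146721)) (.node (.leaf 1152294) (.leaf 1135953)))) (.node (.node (.node (.node (.leaf 452880) (.leaf 1176591)) (.leaf 73924)) (.node (.leaf 999638) (.leaf 1018013))) (.node (.node (.leaf 920786) (.leaf 727349)) (.node (.leaf 753704) (.leaf 1221846)))))))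

def sixMv012 : Janko.Tree (ℕ) :=
  (.node (.node (.node (.node (.node (.node (.node (.leaf 162987) (.leaf 23851)) (.leaf 620727)) (.node (.leaf 344385) (.leaf 1206447))) (.node (.node (.node (.leaf 407776) (.leaf 283873)) (.leaf 950459)) (.node (.leaf 1150021) (.leaf 681181)))) (.node (.node (.node (.node (.leaf 744752) (.leaf 266538)) (.leaf 1227014)) (.node (.leaf 206958) (.leaf 132301))) (.node (.node (.node (.leaf 412982) (.leaf 1130684)) (.leaf 960587)) (.node (.leaf 83075) (.leaf 1253582))))) (.node (.node (.node (.node (.node (.leaf 1175841) (.leaf 631988)) (.leaf 59674)) (.node (.leaf 1197081) (.leaf 129256))) (.node (.node (.node (.leaf 359773) (.leaf 178365)) (.leaf 339106)) (.node (.leaf 937144) (.leaf 476277)))) (.node (.node (.node (.node (.leaf 1038364) (.leaf 120122)) (.leaf 510080)) (.node (.leaf 404823) (.leaf 240740))) (.node (.node (.leaf 1167539) (.leaf 689495)) (.node (.leaf 1169710) (.leaf 967916)))))) (.node (.node (.node (.node (.node (.node (.leaf 48141) (.leaf 1212509)) (.leaf 285924)) (.node (.leaf 175241) (.leaf 577875))) (.node (.node (.node (.leaf 905368) (.leaf 622804)) (.leaf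 1118328)) (.node (.leaf 440368) (.leaf 374826)))) (.node (.node (.node (.node (.leaf 698583) (.leaf 760010)) (.leaf 460956)) (.node (.leaf 252010) (.leaf 286781))) (.node (.node (.leaf 312375) (.leaf 911381)) (.node (.leaf 720051) (.leaf 595276))))) (.node (.node (.node (.node (.node (.leaf 1077539) (.leaf 904458)) (.leaf 1138826)) (.node (.leaf 117762) (.leaf 446669))) (.node (.node (.node (.leaf 378115) (.leaf 872459)) (.leaf 161968)) (.node (.leaf 419884) (.leaf 219463)))) (.node (.node (.node (.node (.leaf 722166) (.leaf 69790)) (.leaf 604279)) (.node (.leaf 186577) (.leaf 1060051))) (.node (.node (.leaf 972985) (.leaf 307495)) (.node (.leaf 810039) (.leaf 662528)))))))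

def sixMv013 : Janko.Tree (ℕ) :=
  (.node (.node (.node (.node (.node (.node (.node (.leaf 1119359) (.leaf 5126)) (.leaf 92464)) (.node (.leaf 696631) (.leaf 544976))) (.node (.node (.node (.leaf 330011) (.leaf 1145882)) (.leaf 687322)) (.node (.leaf 933913) (.leaf 143392)))) (.node (.node (.node (.node (.leaf 1084578) (.leaf 79960)) (.leaf 758798)) (.node (.leaf 1171805) (.leaf 1094745))) (.node (.node (.node (.leaf 438593) (.leaf 500837)) (.leaf 472355)) (.node (.leaf 1228973) (.leaf 792714))))) (.node (.node (.node (.node (.node (.leaf 1185838) (.leaf 195818)) (.leaf 839863)) (.node (.leaf 306192) (.leaf 360475))) (.node (.node (.node (.leaf 716897) (.leaf 572707)) (.leaf 771397)) (.node (.leaf 559294) (.leaf 641078)))) (.node (.node (.node (.node (.leaf 1124667) (.leaf 1035451)) (.leaf 323865)) (.node (.leaf 136397) (.leaf 831634))) (.node (.node (.leaf 547879) (.leaf 775171)) (.node (.leaf 417056) (.leaf 763100)))))) (.node (.node (.node (.node (.node (.node (.leaf 627985) (.leaf 176174)) (.leaf 1231009)) (.node (.leaf 795852) (.leaf 496902))) (.node (.node (.node (.leaf 527591) (.leaf 619550)) (.leaf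 181318)) (.node (.leaf 806216) (.leaf 434507)))) (.node (.node (.node (.node (.leaf 473097) (.leaf 783421)) (.leaf 231478)) (.node (.leaf 249028) (.leaf 692265))) (.node (.node (.leaf 870485) (.leaf 199914)) (.node (.leaf 735359) (.leaf 853278))))) (.node (.node (.node (.node (.node (.leaf 537866) (.leaf 705616)) (.leaf 413703)) (.node (.leaf 2137) (.leaf 15641))) (.node (.node (.node (.leaf 155869) (.leaf 553088)) (.leaf 94258)) (.node (.leaf 639141) (.leaf 91314)))) (.node (.node (.node (.node (.leaf 184611) (.leaf 941224)) (.leaf 492752)) (.node (.leaf 166217) (.leaf 736435))) (.node (.node (.leaf 649274) (.leaf 106842)) (.node (.leaf 947269) (.leaf 374062)))))))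

def sixMv014 : Janko.Tree (ℕ) :=
  (.node (.node (.node (.node (.node (.node (.node (.leaf 1257530) (.leaf 1129597)) (.leaf 695340)) (.node (.leaf 538774) (.leaf 838721))) (.node (.node (.node (.leaf 40117) (.leaf 829683)) (.leaf 896121)) (.node (.leaf 931051) (.leaf 1223800)))) (.node (.node (.node (.node (.leaf 348413) (.leaf 148700)) (.leaf 1010898)) (.node (.leaf 73008) (.leaf 313428))) (.node (.node (.node (.leaf 211226) (.leaf 621697)) (.leaf 402753)) (.node (.leaf 535772) (.leaf 318691))))) (.node (.node (.node (.node (.node (.leaf 495938) (.leaf 968837)) (.leaf 1054783)) (.node (.leaf 578860) (.leaf 675849))) (.node (.node (.node (.leaf 1057076) (.leaf 834869)) (.leaf 115986)) (.node (.leaf 1021161) (.leaf 820486)))) (.node (.node (.node (.node (.leaf 212194) (.leaf 301279)) (.leaf 217357)) (.node (.leaf 1085612) (.leaf 708808))) (.node (.node (.leaf 35014) (.leaf 147736)) (.node (.leaf 766042) (.leaf 454770)))))) (.node (.node (.node (.node (.node (.node (.leaf 475474) (.leaf 640020)) (.leaf 6448)) (.node (.leaf 415972) (.leaf 1227902))) (.node (.node (.node (.leaf 177289) (.leaf 67855)) (.leaf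 1189002)) (.node (.leaf 208164) (.leaf 110727)))) (.node (.node (.node (.node (.leaf 244798) (.leaf 669903)) (.leaf 277569)) (.node (.leaf 1178648) (.leaf 237899))) (.node (.node (.leaf 228677) (.leaf 432406)) (.node (.leaf 140494) (.leaf 363875))))) (.node (.node (.node (.node (.node (.leaf 980021) (.leaf 582960)) (.leaf 134147)) (.node (.leaf 421055) (.leaf 1188049))) (.node (.node (.node (.leaf 817194) (.leaf 200830)) (.leaf 400702)) (.node (.leaf 311437) (.leaf 888841)))) (.node (.node (.node (.node (.leaf 898110) (.leaf 38090)) (.leaf 1184942)) (.node (.leaf 27809) (.leaf 506972))) (.node (.node (.leaf 1113385) (.leaf 442371)) (.node (.leaf 1128795) (.leaf 1163483)))))))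

def sixMv015 : Janko.Tree (ℕ) :=
  (.node (.node (.node (.node (.node (.node (.node (.leaf 485632) (.leaf 419175)) (.leaf 1031497)) (.node (.leaf 536771) (.leaf 426037))) (.node (.node (.node (.leaf 648448) (.leaf 915483)) (.leaf 112871)) (.node (.leaf 1087635) (.leaf 158016)))) (.node (.node (.node (.node (.leaf 1172670) (.leaf 987238)) (.leaf 16419)) (.node (.leaf 598358) (.leaf 816383))) (.node (.node (.node (.leaf 670725) (.leaf 570480)) (.leaf 658461)) (.node (.leaf 851288) (.leaf 652376))))) (.node (.node (.node (.node (.node (.leaf 173085) (.leaf 887009)) (.leaf 1251618)) (.node (.leaf 297102) (.leaf 602162))) (.node (.node (.node (.leaf 262369) (.leaf 194635)) (.leaf 1032197)) (.node (.leaf 441456) (.leaf 1002841)))) (.node (.node (.node (.node (.leaf 702521) (.leaf 1156295)) (.leaf 385179)) (.node (.leaf 320617) (.leaf 182461))) (.node (.node (.leaf 693452) (.leaf 299343)) (.node (.leaf 1195062) (.leaf 983157)))))) (.node (.node (.node (.node (.node (.node (.leaf 238614) (.leaf 812370)) (.leaf 478472)) (.node (.leaf 274749) (.leaf 877771))) (.node (.node (.node (.leaf 772348) (.leaf 90375)) (.leaf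 883879)) (.node (.leaf 205826) (.leaf 1123481)))) (.node (.node (.node (.node (.leaf 1155364) (.leaf 552125)) (.leaf 542943)) (.node (.leaf 1078521) (.leaf 668980))) (.node (.node (.leaf 804998) (.leaf 1208428)) (.node (.leaf 747540) (.leaf 605331))))) (.node (.node (.node (.node (.node (.leaf 1132868) (.leaf 285025)) (.leaf 124978)) (.node (.leaf 429070) (.leaf 410738))) (.node (.node (.node (.leaf 865629) (.leaf 123146)) (.leaf 885059)) (.node (.leaf 150579) (.leaf 322637)))) (.node (.node (.node (.node (.leaf 746611) (.leaf 857128)) (.leaf 827706)) (.node (.leaf 1003788) (.leaf 1183903))) (.node (.node (.leaf 107677) (.leaf 873510)) (.node (.leaf 674826) (.leaf 824378)))))))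

def sixMv0 : Janko.Tree (ℕ) := (.node (.node (.node (.node sixMv00 sixMv08) (.node sixMv04 sixMv012)) (.node (.node sixMv02 sixMv010) (.node sixMv06 sixMv014))) (.node (.node (.node sixMv01 sixMv09) (.node sixMv05 sixMv013)) (.node (.node sixMv03 sixMv011) (.node sixMv07 sixMv015))))

theorem six_mv00 : ((List.range 512).all fun i => movesOK sixCert sixT 1232 (sixElt.get 182) sixMv0 (Nat.add 0 i)) = true := by decide +kernel

theorem six_mv01 : ((List.range 512).all fun i => movesOK sixCert sixT 1232 (sixElt.get 182) sixMv0 (Nat.add 512 i)) = true := by decide +kernel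

theorem six_mv02 : ((List.range 208).all fun i => movesOK sixCert sixT 1232 (sixElt.get 182) sixMv0 (Nat.add 1024 i)) = true := by decide +kernel

theorem six_mv0 : ∀ i < 1232, movesOK sixCert sixT 1232 (sixElt.get 182) sixMv0 i = true := by
  intro i hi
  by_cases h0 : i < 512
  · have := List.all_eq_true.1 six_mv00 (i - 0) (List.mem_range.2 (by omega)); rwa [show Nat.add 0 (i - 0) = i from Nat.add_sub_cancel' (by omega)] at this
  by_cases h1 : i < 1024
  · have := List.all_eq_true.1 six_mv01 (i - 512) (List.mem_range.2 (by omega)); rwa [show Nat.add 512 (i - 512) = i from Nat.add_sub_cancel' (by omega)] at this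
  have := List.all_eq_true.1 six_mv02 (i - 1024) (List.mem_range.2 (by omega)); rwa [show Nat.add 1024 (i - 1024) = i from Nat.add_sub_cancel' (by omega)] at this


def sixMv10 : Janko.Tree (ℕ) :=
  (.node (.node (.node (.node (.node (.node (.node (.leaf 302) (.leaf 547910)) (.leaf 1026398)) (.node (.leaf 576733) (.leaf 456737))) (.node (.node (.node (.leaf 558416) (.leaf 459035)) (.leaf 186579)) (.node (.leaf 497670) (.leaf 450904)))) (.node (.node (.node (.node (.leaf 909578) (.leaf 703829)) (.leaf 241792)) (.node (.leaf 1072370) (.leaf 61550))) (.node (.node (.node (.leaf 759139) (.leaf 1109145)) (.leaf 417796)) (.node (.leaf 935096) (.leaf 123176))))) (.node (.node (.node (.node (.node (.leaf 422112) (.leaf 342323)) (.leaf 600371)) (.node (.leaf 482609) (.leaf 481320))) (.node (.node (.node (.leaf 9248) (.leaf 529681)) (.leaf 625879)) (.node (.leaf 891090) (.leaf 510033)))) (.node (.node (.node (.node (.leaf 143362) (.leaf 955641)) (.leaf 1094865)) (.node (.leaf 253089) (.leaf 538968))) (.node (.node (.leaf 459990) (.leaf 849118)) (.node (.leaf 1237302) (.leaf 475300)))))) (.node (.node (.node (.node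 (.node (.node (.leaf 585783) (.leaf 857333)) (.leaf 423097)) (.node (.leaf 1038582) (.leaf 179226))) (.node (.node (.node (.leaf 934166) (.leaf 315472)) (.leaf 1117414)) (.node (.leaf 1242256) (.leaf 770095)))) (.node (.node (.node (.node (.leaf 441564) (.leaf 260364)) (.leaf 408674)) (.node (.leaf 119883) (.leaf 817435))) (.node (.node (.leaf 850189) (.leaf 575776)) (.node (.leaf 210052) (.leaf 731392))))) (.node (.node (.node (.node (.node (.leaf 1201212) (.leaf 112654)) (.leaf 561404)) (.node (.leaf 337138) (.leaf 1259717))) (.node (.node (.node (.leaf 281621) (.leaf 740496)) (.leaf 923828)) (.node (.leaf 559373) (.leaf 928043)))) (.node (.node (.node (.node (.leaf 25859) (.leaf 1003799)) (.leaf 639084)) (.node (.leaf 472152) (.leaf 783407))) (.node (.node (.leaf 443516) (.leaf 147714)) (.node (.leaf 272549) (.leaf 1101887)))))))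

def sixMv11 : Janko.Tree (ℕ) :=
  (.node (.node (.node (.node (.node (.node (.node (.leaf 619752) (.leaf 395341)) (.leaf 366902)) (.node (.leaf 4393) (.leaf 307504))) (.node (.node (.node (.leaf 1110220) (.leaf 1134922)) (.leaf 713874)) (.node (.leaf 866648) (.leaf 329973)))) (.node (.node (.node (.node (.leaf 390330) (.leaf 1221883)) (.leaf 979109)) (.node (.leaf 111624) (.leaf 429117))) (.node (.node (.node (.leaf 671070) (.leaf 369827)) (.leaf 1041666)) (.node (.leaf 856070) (.leaf 204870))))) (.node (.node (.node (.node (.node (.leaf 688274) (.leaf 1082535)) (.leaf 203074)) (.node (.leaf 804934) (.leaf 145552))) (.node (.node (.node (.leaf 598292) (.leaf 1052851)) (.leaf 448810)) (.node (.leaf 844845) (.leaf 248844)))) (.node (.node (.node (.node (.leaf 769091) (.leaf 464997)) (.leaf 712996)) (.node (.leaf 616767) (.leaf 1184830))) (.node (.node (.leaf 74905) (.leaf 989225)) (.node (.leaf 1152036) (.leaf 825449)))))) (.node (.node (.node (.node (.node (.node (.leaf 1126695) (.leaf 895119)) (.leaf 72885)) (.node (.leaf 794966) (.leaf 573611))) (.node (.node (.node (.leaf 921775) (.leaf 221430)) (.leaf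 362807)) (.node (.leaf 672930) (.leaf 1179724)))) (.node (.node (.node (.node (.leaf 1031182) (.leaf 1210620)) (.leaf 261209)) (.node (.leaf 860283) (.leaf 646223))) (.node (.node (.leaf 1059022) (.leaf 393291)) (.node (.leaf 71835) (.leaf 677179))))) (.node (.node (.node (.node (.node (.leaf 701790) (.leaf 403483)) (.leaf 376889)) (.node (.leaf 847975) (.leaf 1205524))) (.node (.node (.node (.leaf 1069317) (.leaf 1149004)) (.leaf 1256768)) (.node (.leaf 708742) (.leaf 1118306)))) (.node (.node (.node (.node (.leaf 705816) (.leaf 766149)) (.leaf 821573)) (.node (.leaf 1226035) (.leaf 922775))) (.node (.node (.leaf 82171) (.leaf 599217)) (.node (.leaf 556316) (.leaf 985116)))))))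

def sixMv12 : Janko.Tree (ℕ) :=
  (.node (.node (.node (.node (.node (.node (.node (.leaf 1002742) (.leaf 1000694)) (.leaf 193674)) (.node (.leaf 521478) (.leaf 39153))) (.node (.node (.node (.leaf 507142) (.leaf 775513)) (.leaf 918844)) (.node (.leaf 1057808) (.leaf 824386)))) (.node (.node (.node (.node (.leaf 795892) (.leaf 916539)) (.leaf 121985)) (.node (.leaf 657715) (.leaf 935980))) (.node (.node (.node (.leaf 240832) (.leaf 265443)) (.leaf 542849)) (.node (.leaf 296061) (.leaf 211059))))) (.node (.node (.node (.node (.node (.leaf 930045) (.leaf 668835)) (.leaf 1006757)) (.node (.leaf 1037328) (.leaf 200843))) (.node (.node (.node (.leaf 872713) (.leaf 741584)) (.leaf 843785)) (.node (.leaf 1239353) (.leaf 665656)))) (.node (.node (.node (.node (.leaf 1122537) (.leaf 32056)) (.leaf 1206456)) (.node (.leaf 410661) (.leaf 941189))) (.node (.node (.leaf 718170) (.leaf 251046)) (.node (.leaf 194792) (.leaf 100459)))))) (.node (.node (.node (.node (.node (.node (.leaf 313627) (.leaf 840982)) (.leaf 381236)) (.node (.leaf 919719) (.leaf 460945))) (.node (.node (.node (.leaf 696541) (.leaf 915804)) (.leaf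 655458)) (.node (.leaf 525360) (.leaf 1112381)))) (.node (.node (.node (.node (.leaf 959685) (.leaf 22640)) (.leaf 258295)) (.node (.leaf 212118) (.leaf 110691))) (.node (.node (.leaf 950301) (.leaf 627736)) (.node (.leaf 707788) (.leaf 40001))))) (.node (.node (.node (.node (.node (.leaf 124206) (.leaf 103670)) (.leaf 433391)) (.node (.leaf 767186) (.leaf 168199))) (.node (.node (.node (.leaf 597323) (.leaf 1135756)) (.leaf 355536)) (.node (.leaf 593035) (.leaf 1145067)))) (.node (.node (.node (.node (.leaf 756827) (.leaf 755851)) (.leaf 914626)) (.node (.leaf 432252) (.leaf 1065088))) (.node (.node (.leaf 334142) (.leaf 59445)) (.node (.leaf 215260) (.leaf 62705)))))))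

def sixMv13 : Janko.Tree (ℕ) :=
  (.node (.node (.node (.node (.node (.node (.node (.leaf 547102) (.leaf 1229087)) (.leaf 242970)) (.node (.leaf 1141944) (.leaf 67729))) (.node (.node (.node (.leaf 744507) (.leaf 823328)) (.leaf 53343)) (.node (.leaf 1147917) (.leaf 196879)))) (.node (.node (.node (.node (.leaf 351337) (.leaf 1199213)) (.leaf 216294)) (.node (.leaf 505888) (.leaf 563477))) (.node (.node (.node (.leaf 234817) (.leaf 604372)) (.leaf 1005634)) (.node (.leaf 109869) (.leaf 603242))))) (.node (.node (.node (.node (.node (.leaf 496971) (.leaf 225419)) (.leaf 1154288)) (.node (.leaf 484377) (.leaf 822452))) (.node (.node (.node (.leaf 1014860) (.leaf 1060867)) (.leaf 77048)) (.node (.leaf 515140) (.leaf 1227932)))) (.node (.node (.node (.node (.leaf 360642) (.leaf 228356)) (.leaf 33899)) (.node (.leaf 883959) (.leaf 1245192))) (.node (.node (.leaf 1133623) (.leaf 238858)) (.node (.leaf 845903) (.leaf 1174545)))))) (.node (.node (.node (.node (.node (.node (.leaf 320779) (.leaf 16569)) (.leaf 626887)) (.node (.leaf 1137667) (.leaf 414797))) (.node (.node (.node (.leaf 1102895) (.leaf 672002)) (.leaf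 169041)) (.node (.leaf 1235174) (.leaf 905289)))) (.node (.node (.node (.node (.leaf 762211) (.leaf 947496)) (.leaf 540856)) (.node (.leaf 141624) (.leaf 306416))) (.node (.node (.leaf 444420) (.leaf 1051806)) (.node (.leaf 754818) (.leaf 1029300))))) (.node (.node (.node (.node (.node (.leaf 1114364) (.leaf 608556)) (.leaf 423962)) (.node (.leaf 877783) (.leaf 663800))) (.node (.node (.node (.leaf 898170) (.leaf 358570)) (.leaf 1086525)) (.node (.leaf 681108) (.leaf 541871)))) (.node (.node (.node (.node (.leaf 635930) (.leaf 144393)) (.leaf 526646)) (.node (.leaf 931884) (.leaf 888853))) (.node (.node (.leaf 24635) (.leaf 509077)) (.node (.leaf 1098803) (.leaf 1009785)))))))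

def sixMv14 : Janko.Tree (ℕ) :=
  (.node (.node (.node (.node (.node (.node (.node (.leaf 957444) (.leaf 765127)) (.leaf 288889)) (.node (.leaf 148750) (.leaf 910498))) (.node (.node (.node (.leaf 164970) (.leaf 300269)) (.leaf 125002)) (.node (.leaf 275776) (.leaf 266457)))) (.node (.node (.node (.node (.leaf 353624) (.leaf 1186117)) (.leaf 319758)) (.node (.leaf 917691) (.leaf 229564))) (.node (.node (.node (.leaf 640094) (.leaf 771305)) (.leaf 1055884)) (.node (.leaf 389152) (.leaf 1160315))))) (.node (.node (.node (.node (.node (.leaf 1204459) (.leaf 40966)) (.leaf 804067)) (.node (.leaf 759857) (.leaf 1158430))) (.node (.node (.node (.leaf 317509) (.leaf 45276)) (.leaf 38239)) (.node (.leaf 1045668) (.leaf 3389)))) (.node (.node (.node (.node (.leaf 571471) (.leaf 999594)) (.leaf 809270)) (.node (.leaf 839714) (.leaf 893986))) (.node (.node (.leaf 1087810) (.leaf 733507)) (.node (.leaf 584912) (.leaf 73784)))))) (.node (.node (.node (.node (.node (.node (.leaf 960806) (.leaf 140424)) (.leaf 75788)) (.node (.leaf 467160) (.leaf 1218722))) (.node (.node (.node (.leaf 235561) (.leaf 552125)) (.leaf 1096031))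 (.node (.leaf 564331) (.leaf 867407)))) (.node (.node (.node (.node (.leaf 166066) (.leaf 651522)) (.leaf 293065)) (.node (.leaf 504139) (.leaf 86174))) (.node (.node (.leaf 1219837) (.leaf 399369)) (.node (.leaf 312578) (.leaf 490504))))) (.node (.node (.node (.node (.node (.leaf 963694) (.leaf 897183)) (.leaf 820414)) (.node (.leaf 933013) (.leaf 6193))) (.node (.node (.node (.leaf 356502) (.leaf 1036510)) (.leaf 246039)) (.node (.leaf 79168) (.leaf 912737)))) (.node (.node (.node (.node (.leaf 1093804) (.leaf 348367)) (.leaf 1192130)) (.node (.leaf 723267) (.leaf 30857))) (.node (.node (.leaf 1043777) (.leaf 386227)) (.node (.leaf 65892) (.leaf 1023200)))))))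

def sixMv15 : Janko.Tree (ℕ) :=
  (.node (.node (.node (.node (.node (.node (.node (.leaf 579736) (.leaf 654543)) (.leaf 401759)) (.node (.leaf 1044669) (.leaf 763139))) (.node (.node (.node (.leaf 1090825) (.leaf 500791)) (.leaf 875700)) (.node (.leaf 146449) (.leaf 1091757)))) (.node (.node (.node (.node (.leaf 87267) (.leaf 368793)) (.leaf 243739)) (.node (.leaf 1157390) (.leaf 903254))) (.node (.node (.node (.leaf 691375) (.leaf 49509)) (.leaf 60647)) (.node (.leaf 172154) (.leaf 828608))))) (.node (.node (.node (.node (.node (.leaf 780322) (.leaf 477258)) (.leaf 570419)) (.node (.leaf 1238038) (.leaf 280888))) (.node (.node (.node (.leaf 552981) (.leaf 88253)) (.leaf 834645)) (.node (.leaf 1034518) (.leaf 807980)))) (.node (.node (.node (.node (.leaf 1190065) (.leaf 666702)) (.leaf 727378)) (.node (.leaf 764150) (.leaf 734268))) (.node (.node (.leaf 154975) (.leaf 920645)) (.node (.leaf 1211467) (.leaf 318738)))))) (.node (.node (.node (.node (.node (.node (.leaf 305193) (.leaf 1027256)) (.leaf 504924)) (.node (.leaf 1162309) (.leaf 1146930))) (.node (.node (.node (.leaf 152670) (.leaf 1250608)) (.leaf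 1050966)) (.node (.leaf 614514) (.leaf 514163)))) (.node (.node (.node (.node (.leaf 126035) (.leaf 995414)) (.leaf 36935)) (.node (.leaf 1195203) (.leaf 970802))) (.node (.node (.leaf 1024147) (.leaf 930860)) (.node (.leaf 1071244) (.leaf 462853))))) (.node (.node (.node (.node (.node (.leaf 425067) (.leaf 956428)) (.leaf 19798)) (.node (.leaf 346251) (.leaf 113670))) (.node (.node (.node (.leaf 870562) (.leaf 1039655)) (.leaf 461988)) (.node (.leaf 118849) (.leaf 405715)))) (.node (.node (.node (.node (.leaf 203858) (.leaf 378909)) (.leaf 606324)) (.node (.leaf 761172) (.leaf 983078))) (.node (.node (.leaf 1165322) (.leaf 350342)) (.node (.leaf 629985) (.leaf 962851)))))))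

def sixMv16 : Janko.Tree (ℕ) :=
  (.node (.node (.node (.node (.node (.node (.node (.leaf 364594) (.leaf 454780)) (.leaf 199000)) (.node (.leaf 311452) (.leaf 787537))) (.node (.node (.node (.leaf 534530) (.leaf 967785)) (.leaf 1046672)) (.node (.leaf 1214658) (.leaf 650560)))) (.node (.node (.node (.node (.leaf 615776) (.leaf 162851)) (.leaf 774278)) (.node (.leaf 716109) (.leaf 264315))) (.node (.node (.node (.leaf 131208) (.leaf 473139)) (.leaf 739637)) (.node (.leaf 396478) (.leaf 478416))))) (.node (.node (.node (.node (.node (.leaf 1129803) (.leaf 370698)) (.leaf 470037)) (.node (.leaf 1145936) (.leaf 1207297))) (.node (.node (.node (.leaf 831530) (.leaf 681994)) (.leaf 587824)) (.node (.leaf 1168722) (.leaf 150571)))) (.node (.node (.node (.node (.leaf 1123430) (.leaf 136241)) (.leaf 629019)) (.node (.leaf 411941) (.leaf 15419))) (.node (.node (.leaf 785484) (.leaf 303419)) (.node (.leaf 738324) (.leaf 649303)))))) (.node (.node (.node (.node (.node (.node (.leaf 219411) (.leaf 457911)) (.leaf 954393)) (.node (.leaf 980157) (.leaf 543935))) (.node (.node (.node (.leaf 371945) (.leaf 889899)) (.leaf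 816260)) (.node (.leaf 182358) (.leaf 231655)))) (.node (.node (.node (.node (.leaf 745750) (.leaf 345114)) (.leaf 330910)) (.node (.leaf 1181963) (.leaf 641167))) (.node (.node (.leaf 1132675) (.leaf 189577)) (.node (.leaf 747594) (.leaf 750912))))) (.node (.node (.node (.node (.node (.leaf 407784) (.leaf 942107)) (.leaf 1156381)) (.node (.leaf 837850) (.leaf 1209360))) (.node (.node (.node (.leaf 673904) (.leaf 621629)) (.leaf 911474)) (.node (.leaf 728106) (.leaf 796816)))) (.node (.node (.node (.node (.leaf 1164502) (.leaf 859211)) (.leaf 881838)) (.node (.leaf 494911) (.leaf 174113))) (.node (.node (.leaf 1085733) (.leaf 693344)) (.node (.leaf 285755) (.leaf 664663)))))))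

def sixMv17 : Janko.Tree (ℕ) :=
  (.node (.node (.node (.node (.node (.node (.node (.leaf 643249) (.leaf 56641)) (.leaf 226459)) (.node (.leaf 1175813) (.leaf 1140961))) (.node (.node (.node (.leaf 427275) (.leaf 901201)) (.leaf 711764)) (.node (.leaf 949604) (.leaf 1260804)))) (.node (.node (.node (.node (.leaf 969938) (.leaf 338216)) (.leaf 415909)) (.node (.leaf 557229) (.leaf 1127461))) (.node (.node (.node (.leaf 344130) (.leaf 33007)) (.leaf 689323)) (.node (.leaf 469247) (.leaf 798795))))) (.node (.node (.node (.node (.node (.leaf 567600) (.leaf 973885)) (.leaf 1077445)) (.node (.leaf 513324) (.leaf 142564))) (.node (.node (.node (.leaf 108548) (.leaf 27909)) (.leaf 139497)) (.node (.leaf 737605) (.leaf 263376)))) (.node (.node (.node (.node (.leaf 491556) (.leaf 751884)) (.leaf 302369)) (.node (.leaf 55622) (.leaf 498800))) (.node (.node (.leaf 50389) (.leaf 1203291)) (.node (.leaf 1139989) (.leaf 1233043)))))) (.node (.node (.node (.node (.node (.node (.leaf 400706) (.leaf 271488)) (.leaf 359476)) (.node (.leaf 939154) (.leaf 721927))) (.node (.node (.node (.leaf 199957) (.leaf 382010)) (.leaf 749706))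 (.node (.leaf 907396) (.leaf 735402)))) (.node (.node (.node (.node (.leaf 365775) (.leaf 180270)) (.leaf 170201)) (.node (.leaf 605261) (.leaf 1125718))) (.node (.node (.leaf 1208506) (.leaf 777485)) (.node (.leaf 522297) (.leaf 442724))))) (.node (.node (.node (.node (.node (.leaf 725172) (.leaf 310428)) (.leaf 282912)) (.node (.leaf 486400) (.leaf 471257))) (.node (.node (.node (.leaf 187484) (.leaf 1121379)) (.leaf 686380)) (.node (.leaf 572599) (.leaf 404610)))) (.node (.node (.node (.node (.leaf 647352) (.leaf 595140)) (.leaf 388301)) (.node (.leaf 308507) (.leaf 1108221))) (.node (.node (.leaf 101388) (.leaf 134194)) (.node (.leaf 853262) (.leaf 565438)))))))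

def sixMv18 : Janko.Tree (ℕ) :=
  (.node (.node (.node (.node (.node (.node (.node (.leaf 218456) (.leaf 1224824)) (.leaf 678247)) (.node (.leaf 732360) (.leaf 206098))) (.node (.node (.node (.leaf 487563) (.leaf 653489)) (.leaf 1178721)) (.node (.leaf 1212580) (.leaf 322786)))) (.node (.node (.node (.node (.leaf 1047757) (.leaf 1018114)) (.leaf 135294)) (.node (.leaf 155755) (.leaf 1136748))) (.node (.node (.node (.leaf 851155) (.leaf 1066209)) (.leaf 791806)) (.node (.leaf 580811) (.leaf 706763))))) (.node (.node (.node (.node (.node (.leaf 252258) (.leaf 363611)) (.leaf 1234011)) (.node (.leaf 299359) (.leaf 802925))) (.node (.node (.node (.leaf 1080453) (.leaf 818186)) (.leaf 277665)) (.node (.leaf 730322) (.leaf 748718)))) (.node (.node (.node (.node (.leaf 990280) (.leaf 679175)) (.leaf 438592)) (.node (.leaf 419903) (.leaf 54491))) (.node (.node (.leaf 12508) (.leaf 340200)) (.node (.leaf 885077) (.leaf 8347)))))) (.node (.node (.node (.node (.node (.node (.leaf 951513) (.leaf 256300)) (.leaf 137251)) (.node (.leaf 98500) (.leaf 826619))) (.node (.node (.node (.leaf 387242) (.leaf 611580)) (.leaf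 430264)) (.node (.leaf 683109) (.leaf 1194217)))) (.node (.node (.node (.node (.leaf 938308) (.leaf 167138)) (.leaf 806200)) (.node (.leaf 1189109) (.leaf 394504))) (.node (.node (.leaf 1025376) (.leaf 1217549)) (.node (.leaf 1081488) (.leaf 376158))))) (.node (.node (.node (.node (.node (.leaf 270587) (.leaf 104469)) (.leaf 784625)) (.node (.leaf 533791) (.leaf 582932))) (.node (.node (.node (.leaf 508159) (.leaf 105522)) (.leaf 474131)) (.node (.leaf 331871) (.leaf 434382)))) (.node (.node (.node (.node (.leaf 906562) (.leaf 752789)) (.leaf 591971)) (.node (.leaf 1115475) (.leaf 512219))) (.node (.node (.leaf 1104906) (.leaf 114847)) (.node (.leaf 924936) (.leaf 183445)))))))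

def sixMv19 : Janko.Tree (ℕ) :=
  (.node (.node (.node (.node (.node (.node (.node (.leaf 536660) (.leaf 1049609)) (.leaf 594060)) (.node (.leaf 327878) (.leaf 789668))) (.node (.node (.node (.leaf 181296) (.leaf 321792)) (.leaf 278835)) (.node (.leaf 1019233) (.leaf 1116367)))) (.node (.node (.node (.node (.leaf 206855) (.leaf 1106005)) (.leaf 1249432)) (.node (.leaf 268532) (.leaf 554132))) (.node (.node (.node (.leaf 279567) (.leaf 361822)) (.leaf 974849)) (.node (.leaf 1198275) (.leaf 428103))))) (.node (.node (.node (.node (.node (.leaf 34959) (.leaf 1153347)) (.leaf 793829)) (.node (.leaf 421053) (.leaf 159056))) (.node (.node (.node (.leaf 1161503) (.leaf 385183)) (.leaf 267519)) (.node (.leaf 726228) (.leaf 899139)))) (.node (.node (.node (.node (.leaf 274588) (.leaf 5289)) (.leaf 656690)) (.node (.leaf 97480) (.leaf 904235))) (.node (.node (.leaf 116919) (.leaf 729149)) (.node (.leaf 886024) (.leaf 1197278)))))) (.node (.node (.node (.node (.node (.node (.leaf 778533) (.leaf 520333)) (.leaf 982105)) (.node (.leaf 1064214) (.leaf 524309))) (.node (.node (.node (.leaf 952562) (.leaf 1173789)) (.leaf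 1011996)) (.node (.leaf 832594) (.leaf 830790)))) (.node (.node (.node (.node (.leaf 1130664) (.leaf 891940)) (.leaf 476350)) (.node (.leaf 1008687) (.leaf 177340))) (.node (.node (.leaf 398621) (.leaf 349243)) (.node (.leaf 1060113) (.leaf 69782))))) (.node (.node (.node (.node (.node (.leaf 1014011) (.leaf 419025)) (.leaf 690484)) (.node (.leaf 578824) (.leaf 138597))) (.node (.node (.node (.leaf 1010846) (.leaf 1183824)) (.leaf 631972)) (.node (.leaf 1078415) (.leaf 966889)))) (.node (.node (.node (.node (.leaf 373947) (.leaf 493889)) (.leaf 21817)) (.node (.leaf 596173) (.leaf 717109))) (.node (.node (.leaf 96551) (.leaf 1243285)) (.node (.leaf 815445) (.leaf 810249)))))))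

def sixMv110 : Janko.Tree (ℕ) :=
  (.node (.node (.node (.node (.node (.node (.node (.leaf 519287) (.leaf 863368)) (.leaf 548979)) (.node (.leaf 188715) (.leaf 568339))) (.node (.node (.node (.leaf 1240135) (.leaf 1099931)) (.leaf 156707)) (.node (.leaf 511126) (.leaf 976030)))) (.node (.node (.node (.node (.leaf 945465) (.leaf 652584)) (.leaf 335105)) (.node (.leaf 1236315) (.leaf 1092694))) (.node (.node (.node (.leaf 230444) (.leaf 702464)) (.leaf 1151007)) (.node (.leaf 343340) (.leaf 239830))))) (.node (.node (.node (.node (.node (.leaf 495816) (.leaf 902205)) (.leaf 1001534)) (.node (.leaf 648311) (.leaf 501868))) (.node (.node (.node (.leaf 417003) (.leaf 545849)) (.leaf 1360)) (.node (.leaf 324708) (.leaf 1076224)))) (.node (.node (.node (.node (.leaf 325908) (.leaf 372917)) (.leaf 1248500)) (.node (.leaf 233634) (.leaf 1253624))) (.node (.node (.leaf 129071) (.leaf 89220)) (.node (.leaf 699729) (.leaf 812323)))))) (.node (.node (.node (.node (.node (.node (.leaf 669871) (.leaf 213281)) (.leaf 237698)) (.node (.leaf 913712) (.leaf 868363))) (.node (.node (.node (.leaf 786654) (.leaf 1143939)) (.leaf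 807223)) (.node (.leaf 1119421) (.leaf 1166506)))) (.node (.node (.node (.node (.leaf 659707) (.leaf 566424)) (.leaf 1254452)) (.node (.leaf 1022020) (.leaf 976962))) (.node (.node (.leaf 943351) (.leaf 819430)) (.node (.leaf 10338) (.leaf 1063237))))) (.node (.node (.node (.node (.node (.leaf 882993) (.leaf 47160)) (.leaf 489624)) (.node (.leaf 352567) (.leaf 383222))) (.node (.node (.node (.leaf 862466) (.leaf 992547)) (.leaf 446465)) (.node (.leaf 153737) (.leaf 736329)))) (.node (.node (.node (.node (.leaf 92396) (.leaf 836946)) (.leaf 354539)) (.node (.leaf 335984) (.leaf 847140))) (.node (.node (.leaf 799998) (.leaf 692544)) (.node (.leaf 380069) (.leaf 667885)))))))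

def sixMv111 : Janko.Tree (ℕ) :=
  (.node (.node (.node (.node (.node (.node (.node (.leaf 269478) (.leaf 298025)) (.leaf 378179)) (.node (.leaf 946238) (.leaf 244980))) (.node (.node (.node (.leaf 811236) (.leaf 440438)) (.leaf 492549)) (.node (.leaf 1088527) (.leaf 1012852)))) (.node (.node (.node (.node (.leaf 202000) (.leaf 660752)) (.leaf 958697)) (.node (.leaf 1097961) (.leaf 214202))) (.node (.node (.node (.leaf 1053788) (.leaf 115851)) (.leaf 57448)) (.node (.leaf 855392) (.leaf 1216870))))) (.node (.node (.node (.node (.node (.leaf 1084725) (.leaf 190718)) (.leaf 973009)) (.node (.leaf 259258) (.leaf 223309))) (.node (.node (.node (.leaf 926020) (.leaf 391344)) (.leaf 829479)) (.node (.leaf 768276) (.leaf 384335)))) (.node (.node (.node (.node (.leaf 709758) (.leaf 1182904)) (.leaf 987349)) (.node (.leaf 452622) (.leaf 675980))) (.node (.node (.leaf 530787) (.leaf 1213732)) (.node (.leaf 288052) (.leaf 864569)))))) (.node (.node (.node (.node (.node (.node (.leaf 217280) (.leaf 20644)) (.leaf 48155)) (.node (.leaf 782494) (.leaf 1083750))) (.node (.node (.node (.leaf 988506) (.leaf 1016908)) (.leaf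 720993)) (.node (.leaf 357503) (.leaf 545048)))) (.node (.node (.node (.node (.leaf 588879) (.leaf 1247575)) (.leaf 758080)) (.node (.leaf 991355) (.leaf 968889))) (.node (.node (.leaf 720205) (.leaf 601203)) (.node (.leaf 1021199) (.leaf 743769))))) (.node (.node (.node (.node (.node (.leaf 435465) (.leaf 888043)) (.leaf 43147)) (.node (.leaf 175400) (.leaf 710778))) (.node (.node (.node (.leaf 29949) (.leaf 347302)) (.leaf 248117)) (.node (.leaf 1124572) (.leaf 861236)))) (.node (.node (.node (.node (.leaf 70672) (.leaf 402739)) (.leaf 704831)) (.node (.leaf 869594) (.leaf 873776))) (.node (.node (.leaf 986138) (.leaf 191796)) (.node (.leaf 485653) (.leaf 638040)))))))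

def sixMv112 : Janko.Tree (ℕ) :=
  (.node (.node (.node (.node (.node (.node (.node (.leaf 551150) (.leaf 719083)) (.leaf 164010)) (.node (.leaf 1159250) (.leaf 106561))) (.node (.node (.node (.leaf 286943) (.leaf 7181)) (.leaf 635194)) (.node (.leaf 227420) (.leaf 42303)))) (.node (.node (.node (.node (.leaf 694631) (.leaf 1128659)) (.leaf 255043)) (.node (.leaf 85206) (.leaf 1070165))) (.node (.node (.node (.leaf 835762) (.leaf 285014)) (.leaf 617488)) (.node (.leaf 539693) (.leaf 1230911))))) (.node (.node (.node (.node (.node (.leaf 994512) (.leaf 447731)) (.leaf 1120367)) (.node (.leaf 792761) (.leaf 613713))) (.node (.node (.node (.leaf 527640) (.leaf 178529)) (.leaf 197646)) (.node (.leaf 159794) (.leaf 297097)))) (.node (.node (.node (.node (.leaf 185550) (.leaf 107826)) (.leaf 1042503)) (.node (.leaf 332812) (.leaf 1032440))) (.node (.node (.leaf 80135) (.leaf 120876)) (.node (.leaf 1167712) (.leaf 684200)))))) (.node (.node (.node (.node (.node (.node (.leaf 301310) (.leaf 414024)) (.leaf 675087)) (.node (.leaf 550200) (.leaf 964963))) (.node (.node (.node (.leaf 631132) (.leaf 865475)) (.leaf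 46154)) (.node (.leaf 1252543) (.leaf 128070)))) (.node (.node (.node (.node (.leaf 841911) (.leaf 99370)) (.leaf 1150275)) (.node (.leaf 374961) (.leaf 742493))) (.node (.node (.leaf 44158) (.leaf 1155310)) (.node (.leaf 695485) (.leaf 445788))))) (.node (.node (.node (.node (.node (.leaf 586777) (.leaf 981180)) (.leaf 1068372)) (.node (.leaf 118108) (.leaf 479396))) (.node (.node (.node (.leaf 1251463) (.leaf 66650)) (.leaf 790676)) (.node (.leaf 13317) (.leaf 64869)))) (.node (.node (.node (.node (.leaf 1074389) (.leaf 11437)) (.leaf 1180720)) (.node (.leaf 1004556) (.leaf 528416))) (.node (.node (.leaf 1100948) (.leaf 996692)) (.node (.leaf 127244) (.leaf 697455)))))))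

def sixMv113 : Janko.Tree (ℕ) :=
  (.node (.node (.node (.node (.node (.node (.node (.leaf 1054826) (.leaf 283890)) (.leaf 93303)) (.node (.leaf 620801) (.leaf 1073447))) (.node (.node (.node (.leaf 944284) (.leaf 173257)) (.leaf 814106)) (.node (.leaf 437276) (.leaf 880953)))) (.node (.node (.node (.node (.leaf 715065) (.leaf 1169626)) (.leaf 257102)) (.node (.leaf 622782) (.leaf 220255))) (.node (.node (.node (.leaf 1016098) (.leaf 1188153)) (.leaf 1202209)) (.node (.leaf 574684) (.leaf 290004))))) (.node (.node (.node (.node (.node (.leaf 1028134) (.leaf 341227)) (.leaf 555319)) (.node (.leaf 961730) (.leaf 1107168))) (.node (.node (.node (.leaf 314570) (.leaf 535821)) (.leaf 236597)) (.node (.leaf 581640) (.leaf 658435)))) (.node (.node (.node (.node (.leaf 998507) (.leaf 633998)) (.leaf 323775)) (.node (.leaf 51333) (.leaf 1040524))) (.node (.node (.leaf 176246) (.leaf 18537)) (.node (.leaf 1222694) (.leaf 2261)))))) (.node (.node (.node (.node (.node (.node (.leaf 781644) (.leaf 160866)) (.leaf 977944)) (.node (.leaf 1131737) (.leaf 532811))) (.node (.node (.node (.leaf 451711) (.leaf 94461)) (.leaf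 583933)) (.node (.leaf 609523) (.leaf 232493)))) (.node (.node (.node (.node (.leaf 449744) (.leaf 624772)) (.leaf 698646)) (.node (.leaf 304219) (.leaf 1177658))) (.node (.node (.leaf 948491) (.leaf 724074)) (.node (.leaf 1097021) (.leaf 326840))))) (.node (.node (.node (.node (.node (.leaf 431265) (.leaf 1255707)) (.leaf 852166)) (.node (.leaf 965662) (.leaf 801816))) (.node (.node (.node (.leaf 642226) (.leaf 523432)) (.leaf 940372)) (.node (.leaf 455783) (.leaf 1257728)))) (.node (.node (.node (.node (.leaf 273417) (.leaf 488563)) (.leaf 453927)) (.node (.leaf 1241428) (.leaf 874624))) (.node (.node (.leaf 871593) (.leaf 1187071)) (.node (.leaf 858213) (.leaf 680281)))))))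

def sixMv114 : Janko.Tree (ℕ) :=
  (.node (.node (.node (.node (.node (.node (.node (.leaf 1113335) (.leaf 1035323)) (.leaf 499762)) (.node (.leaf 224512) (.leaf 1231953))) (.node (.node (.node (.leaf 577827) (.leaf 1104208)) (.leaf 833596)) (.node (.leaf 367860) (.leaf 518459)))) (.node (.node (.node (.node (.leaf 589976) (.leaf 17410)) (.leaf 632835)) (.node (.leaf 483683) (.leaf 876570))) (.node (.node (.node (.leaf 1033382) (.leaf 208921)) (.leaf 886827)) (.node (.leaf 192852) (.leaf 1191258))))) (.node (.node (.node (.node (.node (.leaf 908338) (.leaf 896334)) (.leaf 1030272)) (.node (.leaf 1007649) (.leaf 26971))) (.node (.node (.node (.leaf 1056888) (.leaf 797730)) (.leaf 1111280)) (.node (.leaf 997633) (.leaf 517262)))) (.node (.node (.node (.node (.leaf 339081) (.leaf 1193316)) (.leaf 1223766)) (.node (.leaf 184369) (.leaf 84133))) (.node (.node (.leaf 1170729) (.leaf 406670)) (.node (.leaf 612607) (.leaf 102677)))))) (.node (.node (.node (.node (.node (.node (.leaf 937184) (.leaf 779280)) (.leaf 562478)) (.node (.leaf 900374) (.leaf 813208))) (.node (.node (.node (.leaf 1220962) (.leaf 292135))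 (.leaf 662834)) (.node (.leaf 262175) (.leaf 531679)))) (.node (.node (.node (.node (.leaf 602171) (.leaf 879802)) (.leaf 397614)) (.node (.leaf 801077) (.leaf 772168))) (.node (.node (.leaf 971816) (.leaf 560301)) (.node (.leaf 685348) (.leaf 687157))))) (.node (.node (.node (.node (.node (.leaf 14484) (.leaf 854256)) (.leaf 78075)) (.node (.leaf 171348) (.leaf 1075325))) (.node (.node (.node (.leaf 1172502) (.leaf 1079376)) (.leaf 1215806)) (.node (.leaf 157796) (.leaf 132207)))) (.node (.node (.node (.node (.leaf 993471) (.leaf 645449)) (.leaf 1258622)) (.node (.leaf 637236) (.leaf 468149))) (.node (.node (.leaf 91196) (.leaf 439655)) (.node (.leaf 295198) (.leaf 392400)))))))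

def sixMv115 : Janko.Tree (ℕ) :=
  (.node (.node (.node (.node (.node (.node (.node (.leaf 426316) (.leaf 502821)) (.leaf 842979)) (.node (.leaf 149574) (.leaf 753991))) (.node (.node (.node (.leaf 222507) (.leaf 746526)) (.leaf 700770)) (.node (.leaf 644096) (.leaf 1196158)))) (.node (.node (.node (.node (.leaf 953435) (.leaf 788558)) (.leaf 68923)) (.node (.leaf 466070) (.leaf 90245))) (.node (.node (.node (.leaf 316505) (.leaf 516254)) (.leaf 878743)) (.node (.leaf 623723) (.leaf 328712))))) (.node (.node (.node (.node (.node (.leaf 1200368) (.leaf 1176753)) (.leaf 95397)) (.node (.leaf 254056) (.leaf 776285))) (.node (.node (.node (.leaf 827577) (.leaf 80943)) (.leaf 52357)) (.node (.leaf 247000) (.leaf 436445)))) (.node (.node (.node (.node (.leaf 1067155) (.leaf 1061890)) (.leaf 250189)) (.node (.leaf 309482) (.leaf 610554))) (.node (.node (.leaf 1227104) (.leaf 1142812)) (.node (.leaf 130283) (.leaf 1244517)))))) (.node (.node (.node (.node (.node (.node (.leaf 1229893) (.leaf 463956)) (.leaf 773461)) (.node (.leaf 607570) (.leaf 162100))) (.node (.node (.node (.leaf 569380) (.leaf 36078)) (.leaf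 58654)) (.node (.leaf 893178) (.leaf 23556)))) (.node (.node (.node (.node (.leaf 1246444) (.leaf 29015)) (.leaf 413003)) (.node (.leaf 1048693) (.leaf 1089831))) (.node (.node (.leaf 618835) (.leaf 195758)) (.node (.leaf 1163469) (.leaf 1138891))))) (.node (.node (.node (.node (.node (.leaf 591055) (.leaf 63782)) (.leaf 537917)) (.node (.leaf 929036) (.leaf 984198))) (.node (.node (.node (.leaf 1171769) (.leaf 83234)) (.leaf 276828)) (.node (.leaf 480516) (.leaf 291084)))) (.node (.node (.node (.node (.leaf 133256) (.leaf 838992)) (.leaf 207893)) (.node (.leaf 661849) (.leaf 926816))) (.node (.node (.leaf 294202) (.leaf 151611)) (.node (.leaf 409740) (.leaf 1020097)))))))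

def sixMv1 : Janko.Tree (ℕ) := (.node (.node (.node (.node sixMv10 sixMv18) (.node sixMv14 sixMv112)) (.node (.node sixMv12 sixMv110) (.node sixMv16 sixMv114))) (.node (.node (.node sixMv11 sixMv19) (.node sixMv15 sixMv113)) (.node (.node sixMv13 sixMv111) (.node sixMv17 sixMv115))))

theorem six_mv10 : ((List.range 512).all fun i => movesOK sixCert sixT 1232 (sixElt.get 302) sixMv1 (Nat.add 0 i)) = true := by decide +kernel

theorem six_mv11 : ((List.range 512).all fun i => movesOK sixCert sixT 1232 (sixElt.get 302) sixMv1 (Nat.add 512 i)) = true := by decide +kernel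

theorem six_mv12 : ((List.range 208).all fun i => movesOK sixCert sixT 1232 (sixElt.get 302) sixMv1 (Nat.add 1024 i)) = true := by decide +kernel

theorem six_mv1 : ∀ i < 1232, movesOK sixCert sixT 1232 (sixElt.get 302) sixMv1 i = true := by
  intro i hi
  by_cases h0 : i < 512
  · have := List.all_eq_true.1 six_mv10 (i - 0) (List.mem_range.2 (by omega)); rwa [show Nat.add 0 (i - 0) = i from Nat.add_sub_cancel' (by omega)] at this
  by_cases h1 : i < 1024
  · have := List.all_eq_true.1 six_mv11 (i - 512) (List.mem_range.2 (by omega)); rwa [show Nat.add 512 (i - 512) = i from Nat.add_sub_cancel' (by omega)] at this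
  have := List.all_eq_true.1 six_mv12 (i - 1024) (List.mem_range.2 (by omega)); rwa [show Nat.add 1024 (i - 1024) = i from Nat.add_sub_cancel' (by omega)] at this


theorem six_comm : CoverCocycle.mI sixCert 182 302 = CoverCocycle.mI sixCert 302 182 := by decide +kernel

theorem six_value0a : ((CoverTable.evalSum sixCert sixVala.get 1232 (fun j => sixMv0.get j % 1024) (fun j => sixMv1.get j / 1024) (fun j => sixMv1.get j % 1024) : ℕ) : ZMod 3) - ((CoverTable.evalSum sixCert sixVala.get 1232 (fun j => sixMv1.get j % 1024) (fun j => sixMv0.get j / 1024) (fun j => sixMv0.get j % 1024) : ℕ) : ZMod 3) = 2 := by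
  decide +kernel

end Cfsg.Agent.Lie.MTwentyTwoMult
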