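import Cfsg.Agent.Lib.Lie.GolayCover

/-!
A central table on a Sylow 3-subgroup of the Mathieu group of degree 22 (generated).
-/

set_option autoImplicit false
set_option maxRecDepth 100000
set_option maxHeartbeats 0
set_option Elab.async false

namespace Cfsg.Agent.Lie.MTwentyTwoMult

open Cfsg.Agent.Lie GolayCover

/-- generators of the subgroup -/
def threeGens : List (ℕ × ℕ) := [(958859278816185502195413196447601024, 982199264581022831289156621286529568),
  (958453641155375736492891744534548512, 981915320934034666097934502000318496)]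

def threeElt : Janko.Tree (ℕ) :=
  (.node (.node (.node (.node (.leaf 984818244535754528103549039458486304) (.leaf 958575329238961928044241627159646752)) (.leaf 981793627098718837992788608548329856)) (.node (.leaf 958453641155375736492891744534548512) (.leaf 984412577579649684110189433278761504))) (.node (.node (.leaf 958859278816185502195413196447601024) (.leaf 981915320934034666097934502000318496)) (.node (.leaf 982199264581022831289156621286529568) (.leaf 984534280267966686541359815455213952))))

def threeNext : Janko.Tree (ℕ) :=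
  (.node (.node (.node (.node (.node (.leaf 1) (.leaf 5)) (.leaf 6)) (.node (.leaf 4) (.leaf 2))) (.node (.node (.leaf 3) (.leaf 7)) (.node (.leaf 0) (.leaf 8)))) (.node (.node (.node (.node (.leaf 2) (.leaf 3)) (.leaf 7)) (.node (.leaf 5) (.leaf 8))) (.node (.node (.leaf 4) (.leaf 0)) (.node (.leaf 6) (.leaf 1)))))

def threeWord : Janko.Tree (ℕ) :=
  (.node (.node (.node (.node (.leaf 1) (.leaf 65553)) (.leaf 257)) (.node (.leaf 17) (.leaf 4097))) (.node (.node (.leaf 16) (.leaf 273)) (.node (.leaf 256) (.leaf 4113))))

def threePar : Janko.Tree (ℕ) :=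
  (.node (.node (.node (.node (.leaf 0) (.leaf 97)) (.leaf 17)) (.node (.leaf 1) (.leaf 49))) (.node (.node (.leaf 0) (.leaf 33)) (.node (.leaf 16) (.leaf 65))))

def threeL : Janko.Tree (List ℤ) :=
  (.node (.node (.node (.node (.node (.leaf []) (.leaf [-1, -2, 2])) (.leaf [-1, -1, 1])) (.node (.node (.leaf [-1, -1, 1]) (.leaf [0, 0, 1])) (.leaf [0, -1, 1]))) (.node (.node (.node (.leaf []) (.leaf [1, 0, 0])) (.leaf [1, 1, -1])) (.node (.leaf [1]) (.leaf [1, 1, -1])))) (.node (.node (.node (.node (.leaf []) (.leaf [0, 1])) (.leaf [])) (.node (.node (.leaf []) (.leaf [-1, -1, 2])) (.leaf []))) (.node (.node (.node (.leaf []) (.leaf [0, 1, 0])) (.leaf [0, 1])) (.node (.leaf []) (.leaf [0, 1])))))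

def threeKind : Janko.Tree (ℕ) :=
  (.node (.node (.node (.node (.node (.leaf 0) (.leaf 3)) (.leaf 3)) (.node (.node (.leaf 3) (.leaf 2)) (.leaf 3))) (.node (.node (.node (.leaf 0) (.leaf 2)) (.leaf 3)) (.node (.leaf 3) (.leaf 3)))) (.node (.node (.node (.node (.leaf 0) (.leaf 3)) (.leaf 0)) (.node (.node (.leaf 0) (.leaf 3)) (.leaf 0))) (.node (.node (.node (.leaf 0) (.leaf 2)) (.leaf 3)) (.node (.leaf 0) (.leaf 3)))))

def threeRank : Janko.Tree (ℕ) :=
  (.node (.node (.node (.node (.node (.leaf 0) (.leaf 20)) (.leaf 15)) (.node (.node (.leaf 16) (.leaf 14)) (.leaf 18))) (.node (.node (.node (.leaf 2) (.leaf 8)) (.leaf 21)) (.node (.leaf 9) (.leaf 19)))) (.node (.node (.node (.node (.leaf 1) (.leaf 11)) (.leaf 6)) (.node (.node (.leaf 4) (.leaf 17)) (.leaf 7))) (.node (.node (.node (.leaf 3) (.leaf 10)) (.leaf 13)) (.node (.leaf 5) (.leaf 12)))))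

def threeVia : Janko.Tree (ℕ × ℕ) :=
  (.node (.node (.node (.node (.node (.leaf (0, 0)) (.leaf (3, 7))) (.leaf (2, 3))) (.node (.node (.leaf (2, 1)) (.leaf (2, 0))) (.leaf (3, 6)))) (.node (.node (.node (.leaf (0, 0)) (.leaf (0, 0))) (.leaf (3, 8))) (.node (.leaf (0, 3)) (.leaf (2, 6))))) (.node (.node (.node (.node (.leaf (0, 0)) (.leaf (1, 8))) (.leaf (0, 0))) (.node (.node (.leaf (0, 0)) (.leaf (3, 2))) (.leaf (0, 0)))) (.node (.node (.node (.leaf (0, 0)) (.leaf (1, 0))) (.leaf (1, 5))) (.node (.leaf (0, 0)) (.leaf (1, 7))))))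

def threeOrd : Janko.Tree (ℕ) :=
  (.node (.node (.node (.node (.leaf 2) (.leaf 0)) (.leaf 5)) (.node (.leaf 1) (.leaf 6))) (.node (.node (.leaf 8) (.leaf 3)) (.node (.leaf 4) (.leaf 7))))

def threeRels : List (List ℕ) := [[0, 0, 0],
  [1, 1, 1],
  [0, 0, 1, 0, 1, 1],
  [0, 0, 1, 1, 0, 1]]

/-- the certificate -/
def threeCert : CentralLocal.Cert :=
  { act := actP threeGens, one := idP, N := 9, k := 2, q := 0, rels := threeRels, P := 3,
    elt := threeElt, next := threeNext, word := threeWord, par := threePar, L := threeL, kind := threeKind, rank := threeRank,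
    via := threeVia, pv := [18, 19, 20] }

theorem three_edges0 : ((List.range 9).all fun i => threeCert.edgeCheck (Nat.add 0 i)) = true := by decide +kernel

theorem three_edges : ∀ i < 9, threeCert.edgeCheck i = true := by
  intro i hi
  have := List.all_eq_true.1 three_edges0 (i - 0) (List.mem_range.2 (by omega)); rwa [show Nat.add 0 (i - 0) = i from Nat.add_sub_cancel' (by omega)] at this


theorem three_tree0 : ((List.range 9).all fun i => threeCert.treeCheck (Nat.add 0 i)) = true := by decide +kernel

theorem three_tree : ∀ i < 9, threeCert.treeCheck i = true := by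
  intro i hi
  have := List.all_eq_true.1 three_tree0 (i - 0) (List.mem_range.2 (by omega)); rwa [show Nat.add 0 (i - 0) = i from Nat.add_sub_cancel' (by omega)] at this


theorem three_vars0 : ((List.range 22).all fun i => threeCert.varCheck (Nat.add 0 i)) = true := by decide +kernel

theorem three_vars : ∀ i < 22, threeCert.varCheck i = true := by
  intro i hi
  have := List.all_eq_true.1 three_vars0 (i - 0) (List.mem_range.2 (by omega)); rwa [show Nat.add 0 (i - 0) = i from Nat.add_sub_cancel' (by omega)] at this


theorem three_ord0 : ((List.range 9).all fun i => threeCert.ordCheck threeOrd (Nat.add 0 i)) = true := by decide +kernel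

theorem three_ord : ∀ i < 9, threeCert.ordCheck threeOrd i = true := by
  intro i hi
  have := List.all_eq_true.1 three_ord0 (i - 0) (List.mem_range.2 (by omega)); rwa [show Nat.add 0 (i - 0) = i from Nat.add_sub_cancel' (by omega)] at this


theorem three_rels : (threeCert.rels.all fun w => threeCert.relCheck w) = true := by decide +kernel

theorem three_valid : threeCert.Valid where
  npos := Nat.succ_pos _
  kpos := Nat.succ_pos _
  edges := three_edges
  tree := three_tree
  rels := List.all_eq_true.1 three_rels
  vars := three_vars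

/-- the lattice -/
def threeLat : CentralBound.Lat :=
  { basis := [[-1, -1, 1]],
    compl := [[1, 0, 0], [0, 1, 0]],
    counts := [[3, 0], [0, 3]],
    piv := [0, 1],
    coord := [([0], [1, 0]),
      ([0], [0, 1]),
      ([1], [1, 1])],
    gens := [[-1, -1, 1]],
    ord := [3],
    red := [([1], ([], []), [0])],
    kill := [(([], [(1, (0, 2))]), [0])] }

/-- conjugate commuting pairs -/
def threeSpecs : List Spec := []

theorem three_gens : threeGens.all (memOK [23, 0]) = true ∧ threeSpecs.all (specOK [23, 0] threeCert threeGens) = true := by decide +kernel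

theorem three_lat : CentralBound.latOK threeCert (threeSpecs.map extOf) (3 ^ 2) threeLat = true := by decide +kernel

end Cfsg.Agent.Lie.MTwentyTwoMult
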