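import Cfsg.Agent.Lib.Lie.MTwentyTwoMult.Two
import Cfsg.Agent.Lib.Lie.MTwentyTwoMult.Gens

/-!
Cocycles and cosets for the part at 2 of the covering of the Mathieu group of degree 22 (generated).
-/

set_option autoImplicit false
set_option maxRecDepth 100000
set_option maxHeartbeats 0
set_option Elab.async false

namespace Cfsg.Agent.Lie.MTwentyTwoMult

open Cfsg.Agent.Lie GolayCover

def twoVala0 : Janko.Tree (ℕ) :=
  (.node (.node (.node (.node (.node (.node (.node (.leaf 0) (.leaf 3)) (.leaf 0)) (.node (.node (.leaf 0) (.leaf 1)) (.leaf 2))) (.node (.node (.node (.leaf 1) (.leaf 0)) (.leaf 0)) (.node (.node (.leaf 0) (.leaf 0)) (.leaf 0)))) (.node (.node (.node (.node (.leaf 0) (.leaf 1)) (.leaf 0)) (.node (.node (.leaf 0) (.leaf 2)) (.leaf 3))) (.node (.node (.node (.leaf 0) (.leaf 0)) (.leaf 0)) (.node (.node (.leaf 0) (.leaf 1)) (.leaf 0))))) (.node (.node (.node (.node (.node (.leaf 0) (.leaf 2)) (.leaf 0)) (.node (.node (.leaf 0) (.leaf 0)) (.leaf 1))) (.node (.node (.node (.leaf 0) (.leaf 0)) (.leaf 1)) (.node (.node (.leaf 0) (.leaf 0)) (.leaf 2)))) (.node (.node (.node (.node (.leaf 0) (.leaf 1)) (.leaf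 0)) (.node (.node (.leaf 0) (.leaf 0)) (.leaf 0))) (.node (.node (.node (.leaf 0) (.leaf 0)) (.leaf 0)) (.node (.node (.leaf 1) (.leaf 1)) (.leaf 1)))))) (.node (.node (.node (.node (.node (.node (.leaf 0) (.leaf 0)) (.leaf 0)) (.node (.node (.leaf 1) (.leaf 3)) (.leaf 2))) (.node (.node (.node (.leaf 0) (.leaf 1)) (.leaf 1)) (.node (.node (.leaf 1) (.leaf 3)) (.leaf 0)))) (.node (.node (.node (.node (.leaf 0) (.leaf 2)) (.leaf 0)) (.node (.node (.leaf 0) (.leaf 0)) (.leaf 1))) (.node (.node (.node (.leaf 3) (.leaf 1)) (.leaf 0)) (.node (.node (.leaf 1) (.leaf 0)) (.leaf 2))))) (.node (.node (.node (.node (.node (.leaf 0) (.leaf 2)) (.leaf 0)) (.node (.node (.leaf 3) (.leaf 3)) (.leaf 0))) (.node (.node (.node (.leaf 0) (.leaf 0)) (.leaf 0)) (.node (.node (.leaf 0) (.leaf 2)) (.leaf 3)))) (.node (.node (.node (.node (.leaf 0) (.leaf 1)) (.leaf 0)) (.node (.node (.leaf 0) (.leaf 3)) (.leaf 0))) (.node (.node (.node (.leaf 0) (.leaf 3)) (.leaf 1)) (.node (.node (.leaf 0) (.leaf 1)) (.leaf 3)))))))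

def twoVala1 : Janko.Tree (ℕ) :=
  (.node (.node (.node (.node (.node (.node (.node (.leaf 0) (.leaf 0)) (.leaf 3)) (.node (.node (.leaf 0) (.leaf 2)) (.leaf 0))) (.node (.node (.node (.leaf 0) (.leaf 2)) (.leaf 2)) (.node (.node (.leaf 0) (.leaf 1)) (.leaf 1)))) (.node (.node (.node (.node (.leaf 1) (.leaf 3)) (.leaf 1)) (.node (.node (.leaf 0) (.leaf 1)) (.leaf 0))) (.node (.node (.node (.leaf 0) (.leaf 1)) (.leaf 1)) (.node (.node (.leaf 0) (.leaf 3)) (.leaf 0))))) (.node (.node (.node (.node (.node (.leaf 0) (.leaf 2)) (.leaf 0)) (.node (.node (.leaf 0) (.leaf 1)) (.leaf 0))) (.node (.node (.node (.leaf 1) (.leaf 0)) (.leaf 1)) (.node (.node (.leaf 0) (.leaf 0)) (.leaf 0)))) (.node (.node (.node (.node (.leaf 0) (.leaf 0)) (.leaf 0)) (.node (.node (.leaf 0) (.leaf 1)) (.leaf 0))) (.node (.node (.node (.leaf 0) (.leaf 3)) (.leaf 0)) (.node (.node (.leaf 0) (.leaf 3)) (.leaf 0)))))) (.node (.node (.node (.node (.node (.node (.leaf 0) (.leaf 0)) (.leaf 0)) (.node (.node (.leaf 0) (.leaf 2)) (.leaf 0))) (.node (.node (.node (.leaf 0) (.leaf 3)) (.leaf 0)) (.node (.node (.leaf 1) (.leaf 0)) (.leaf 0)))) (.node (.node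 (.node (.node (.leaf 0) (.leaf 0)) (.leaf 1)) (.node (.node (.leaf 3) (.leaf 1)) (.leaf 0))) (.node (.node (.node (.leaf 1) (.leaf 3)) (.leaf 0)) (.node (.node (.leaf 0) (.leaf 0)) (.leaf 0))))) (.node (.node (.node (.node (.node (.leaf 0) (.leaf 2)) (.leaf 0)) (.node (.node (.leaf 0) (.leaf 2)) (.leaf 0))) (.node (.node (.node (.leaf 0) (.leaf 2)) (.leaf 1)) (.node (.node (.leaf 3) (.leaf 0)) (.leaf 0)))) (.node (.node (.node (.node (.leaf 0) (.leaf 0)) (.leaf 2)) (.node (.node (.leaf 0) (.leaf 0)) (.leaf 1))) (.node (.node (.node (.leaf 0) (.leaf 0)) (.leaf 0)) (.node (.node (.leaf 0) (.leaf 0)) (.leaf 3)))))))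

def twoVala2 : Janko.Tree (ℕ) :=
  (.node (.node (.node (.node (.node (.node (.node (.leaf 0) (.leaf 0)) (.leaf 3)) (.node (.node (.leaf 0) (.leaf 2)) (.leaf 0))) (.node (.node (.node (.leaf 0) (.leaf 0)) (.leaf 0)) (.node (.node (.leaf 0) (.leaf 1)) (.leaf 1)))) (.node (.node (.node (.node (.leaf 0) (.leaf 0)) (.leaf 0)) (.node (.node (.leaf 0) (.leaf 0)) (.leaf 0))) (.node (.node (.node (.leaf 0) (.leaf 0)) (.leaf 0)) (.node (.node (.leaf 0) (.leaf 0)) (.leaf 1))))) (.node (.node (.node (.node (.node (.leaf 0) (.leaf 1)) (.leaf 0)) (.node (.node (.leaf 1) (.leaf 3)) (.leaf 1))) (.node (.node (.node (.leaf 0) (.leaf 0)) (.leaf 1)) (.node (.node (.leaf 0) (.leaf 1)) (.leaf 2)))) (.node (.node (.node (.node (.leaf 1) (.leaf 2)) (.leaf 0)) (.node (.node (.leaf 0) (.leaf 3)) (.leaf 2))) (.node (.node (.node (.leaf 0) (.leaf 0)) (.leaf 3)) (.node (.node (.leaf 1) (.leaf 0)) (.leaf 0)))))) (.node (.node (.node (.node (.node (.node (.leaf 0) (.leaf 2)) (.leaf 0)) (.node (.node (.leaf 1) (.leaf 2)) (.leaf 0))) (.node (.node (.node (.leaf 0) (.leaf 0)) (.leaf 0)) (.node (.node (.leaf 0) (.leaf 2)) (.leaf 0)))) (.node (.node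 (.node (.node (.leaf 0) (.leaf 2)) (.leaf 0)) (.node (.node (.leaf 1) (.leaf 2)) (.leaf 2))) (.node (.node (.node (.leaf 0) (.leaf 3)) (.leaf 0)) (.node (.node (.leaf 2) (.leaf 1)) (.leaf 1))))) (.node (.node (.node (.node (.node (.leaf 0) (.leaf 2)) (.leaf 0)) (.node (.node (.leaf 0) (.leaf 0)) (.leaf 1))) (.node (.node (.node (.leaf 0) (.leaf 0)) (.leaf 0)) (.node (.node (.leaf 0) (.leaf 1)) (.leaf 1)))) (.node (.node (.node (.node (.leaf 0) (.leaf 0)) (.leaf 1)) (.node (.node (.leaf 0) (.leaf 1)) (.leaf 0))) (.node (.node (.node (.leaf 1) (.leaf 0)) (.leaf 0)) (.node (.node (.leaf 0) (.leaf 0)) (.leaf 1)))))))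

def twoVala3 : Janko.Tree (ℕ) :=
  (.node (.node (.node (.node (.node (.node (.node (.leaf 0) (.leaf 3)) (.leaf 1)) (.node (.node (.leaf 1) (.leaf 1)) (.leaf 0))) (.node (.node (.node (.leaf 0) (.leaf 2)) (.leaf 0)) (.node (.node (.leaf 0) (.leaf 1)) (.leaf 1)))) (.node (.node (.node (.node (.leaf 0) (.leaf 3)) (.leaf 0)) (.node (.node (.leaf 0) (.leaf 2)) (.leaf 0))) (.node (.node (.node (.leaf 0) (.leaf 0)) (.leaf 1)) (.node (.node (.leaf 0) (.leaf 1)) (.leaf 0))))) (.node (.node (.node (.node (.node (.leaf 1) (.leaf 3)) (.leaf 2)) (.node (.node (.leaf 0) (.leaf 0)) (.leaf 0))) (.node (.node (.node (.leaf 0) (.leaf 1)) (.leaf 0)) (.node (.node (.leaf 1) (.leaf 2)) (.leaf 1)))) (.node (.node (.node (.node (.leaf 0) (.leaf 0)) (.leaf 1)) (.node (.node (.leaf 0) (.leaf 1)) (.leaf 0))) (.node (.node (.node (.leaf 0) (.leaf 0)) (.leaf 3)) (.node (.node (.leaf 0) (.leaf 2)) (.leaf 1)))))) (.node (.node (.node (.node (.node (.node (.leaf 0) (.leaf 1)) (.leaf 2)) (.node (.node (.leaf 0) (.leaf 2)) (.leaf 0))) (.node (.node (.node (.leaf 0) (.leaf 1)) (.leaf 0)) (.node (.node (.leaf 1) (.leaf 1)) (.leaf 0)))) (.node (.node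 (.node (.node (.leaf 0) (.leaf 2)) (.leaf 3)) (.node (.node (.leaf 0) (.leaf 2)) (.leaf 1))) (.node (.node (.node (.leaf 0) (.leaf 1)) (.leaf 0)) (.node (.node (.leaf 0) (.leaf 1)) (.leaf 0))))) (.node (.node (.node (.node (.node (.leaf 0) (.leaf 0)) (.leaf 1)) (.node (.node (.leaf 0) (.leaf 2)) (.leaf 0))) (.node (.node (.node (.leaf 1) (.leaf 1)) (.leaf 2)) (.node (.node (.leaf 0) (.leaf 3)) (.leaf 0)))) (.node (.node (.node (.node (.leaf 0) (.leaf 0)) (.leaf 0)) (.node (.node (.leaf 1) (.leaf 0)) (.leaf 0))) (.node (.node (.node (.leaf 0) (.leaf 2)) (.leaf 0)) (.node (.node (.leaf 0) (.leaf 1)) (.leaf 0)))))))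

def twoVala : Janko.Tree (ℕ) := (.node (.node twoVala0 twoVala2) (.node twoVala1 twoVala3))

theorem two_lefta0 : ((List.range 64).all fun i => CoverCocycle.leftOK twoCert twoVala.get 4 (Nat.add 0 i)) = true := by decide +kernel

theorem two_lefta1 : ((List.range 64).all fun i => CoverCocycle.leftOK twoCert twoVala.get 4 (Nat.add 64 i)) = true := by decide +kernel

theorem two_lefta : ∀ i < 128, CoverCocycle.leftOK twoCert twoVala.get 4 i = true := by
  intro i hi
  by_cases h0 : i < 64
  · have := List.all_eq_true.1 two_lefta0 (i - 0) (List.mem_range.2 (by omega)); rwa [show Nat.add 0 (i - 0) = i from Nat.add_sub_cancel' (by omega)] at this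
  have := List.all_eq_true.1 two_lefta1 (i - 64) (List.mem_range.2 (by omega)); rwa [show Nat.add 64 (i - 64) = i from Nat.add_sub_cancel' (by omega)] at this


theorem two_wda0 : ((List.range 128).all fun i => CoverCocycle.treeOK twoCert twoVala.get 4 (Nat.add 0 i)) = true := by decide +kernel

theorem two_wda : ∀ i < 128, CoverCocycle.treeOK twoCert twoVala.get 4 i = true := by
  intro i hi
  have := List.all_eq_true.1 two_wda0 (i - 0) (List.mem_range.2 (by omega)); rwa [show Nat.add 0 (i - 0) = i from Nat.add_sub_cancel' (by omega)] at this


def twoT0 : Janko.Tree (ℕ) :=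
  (.node (.node (.node (.node (.node (.node (.node (.leaf 984818244535754528103549039458486304) (.leaf 983020751675379661774224940589291872)) (.node (.leaf 976295096293610911492176544539251296) (.leaf 969243296176727806774721068213380160))) (.node (.node (.leaf 963621420227896033830451072600262720) (.leaf 975072418120277038202082363976041664)) (.leaf 976723739302431629048627341813855552))) (.node (.node (.node (.leaf 979336357685182982487960814865368160) (.leaf 967599451438302136302348784679552640)) (.node (.leaf 973988213948724821877156306341185728) (.leaf 959858979978833203667717426743257600))) (.node (.node (.leaf 961397086903096216152401391491131808) (.leaf 974992129703708925382840134133254176)) (.leaf 959609807255580596344000233425480160)))) (.node (.node (.node (.node (.leaf 972435742876531644712374991705542144) (.leaf 984475896618376257996229225870733632)) (.node (.leaf 977867038990239154542023181934993632) (.leaf 962003737317376383112142186492514912))) (.node (.node (.leaf 957030969086367626894089112547579232) (.leaf 958404863366642924227795604851040640)) (.leaf 958406297255761885778172673252251232))) (.node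 (.node (.node (.leaf 979222164434701349372001189686852832) (.leaf 979573243148658082025725479900096992)) (.node (.leaf 963805654025078073224001062658200832) (.leaf 971531469513245092190883057724107296))) (.node (.node (.leaf 977761213282611019715340722906703168) (.leaf 983991676448396871148661906096639456)) (.leaf 975585413864645554301870419176901760))))) (.node (.node (.node (.node (.node (.leaf 973118532014561655355462997473974880) (.leaf 961105005457757266817177463673816352)) (.node (.leaf 982773277658458019548412070296065152) (.leaf 973112715756124226297847141973935456))) (.node (.node (.leaf 958480172848328259243554250048341120) (.leaf 980298911385238939522301577032795488)) (.leaf 960638566959075270057538463526533600))) (.node (.node (.node (.leaf 975270088724904922999897715560207488) (.leaf 961309507864392130598594388878341152)) (.node (.leaf 963634335952481109412827209903262944) (.leaf 961078282103804284367014968730881216))) (.node (.node (.leaf 958045259051412403842501747731015264) (.leaf 958286148867935079041896095497114208)) (.leaf 961197463192071475239430361609099936)))) (.node (.node (.node (.node (.leaf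 975108693494503441579367582598927680) (.leaf 966399899086294116063297813183212960)) (.node (.leaf 984655691743560235704822689666507968) (.leaf 982087509202980310454700783361508032))) (.node (.node (.leaf 958898495720652084604142370520551712) (.leaf 957181550211787189454055382919323872)) (.leaf 984189055248354759701061203214514848))) (.node (.node (.node (.leaf 958854009729776420490993591001922784) (.leaf 967973065929553133216727695437174016)) (.leaf 957138885670510391265703569237038144)) (.node (.node (.leaf 976368818105326598596051745369362016) (.leaf 965907104785203320454460711434965600)) (.leaf 972846182901794987287443418682428704)))))) (.node (.node (.node (.node (.node (.node (.leaf 965287517069630065035370937836819840) (.leaf 981837741105418324890689803020617024)) (.node (.leaf 980460138275114862558704420259281024) (.leaf 973700424616078105869678644910144672))) (.node (.node (.leaf 978073986279760442286161367656568512) (.leaf 983309705563227993329549520990877024)) (.leaf 977990503218263735977764185464746240))) (.node (.node (.node (.leaf 982259527411790958455025277879097440) (.leaf 971009555897584238297141183226623520))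 (.node (.leaf 971866300224444091031281939205141664) (.leaf 971798064893379970557792481821511136))) (.node (.node (.leaf 966553756153266480733172318454105120) (.leaf 963926967149789707779306300885800480)) (.leaf 967411980435362969270093761130678368)))) (.node (.node (.node (.node (.leaf 968702627407403119473122351298170016) (.leaf 980956419506935466022442365552238688)) (.node (.leaf 973620806605285747595545291933702816) (.leaf 964731671032967408651880397804284160))) (.node (.node (.leaf 980311458395368204356912505767514176) (.leaf 978183470192636906543551464849383072)) (.leaf 957153827818771882874018138595370624))) (.node (.node (.node (.leaf 968632584170167560058596487122830624) (.leaf 967123135230943777748509063231253632)) (.leaf 967243643102122779422571249641555360)) (.node (.node (.leaf 970095057958355660242243589524397312) (.leaf 963460504528287465164568818448862848)) (.leaf 963482253910461217607088715872961792))))) (.node (.node (.node (.node (.node (.leaf 980899534013487938994656438082936288) (.leaf 971636640494610735153519403425253856)) (.node (.leaf 966182534293939176767276182686743072) (.leaf 982973832089414252025127163303148000)))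 (.node (.node (.leaf 959968330855660428617428333457193248) (.leaf 962217341669571560149753429046265504)) (.leaf 978978854825824650009655189474444544))) (.node (.node (.node (.leaf 976409944751508256318169207211066528) (.leaf 958436438404392346424164031414781152)) (.node (.leaf 978208161917960858087914724298960992) (.leaf 974301641288710167340702147958653088))) (.node (.node (.leaf 980154472235916485943343790281000032) (.leaf 972689424043901784784183103244944064)) (.leaf 973077186365878415441826407834533216)))) (.node (.node (.node (.node (.leaf 976849062591573613178973092515493472) (.leaf 971675232824404020838176113223046272)) (.node (.leaf 978929440371977068231616862219708032) (.leaf 982899599263238203101556849168107808))) (.node (.node (.leaf 977991951043479800982770428694663488) (.leaf 966563555907919838478086371606697440)) (.leaf 958350531400760659777138352478073344))) (.node (.node (.node (.leaf 973089529140510610547820370882243808) (.leaf 981395394626036882984334707714512192)) (.leaf 966596904961985228768084396709658304)) (.node (.node (.leaf 979449264022857554823683741347059104) (.leaf 975244908321079851313107359422121472))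 (.leaf 966387678147859112268992705015754880)))))))

def twoT1 : Janko.Tree (ℕ) :=
  (.node (.node (.node (.node (.node (.node (.node (.leaf 969283090484280108743175002761274464) (.leaf 982983937946183622258956547521665312)) (.node (.leaf 984407171681613906350600599782171232) (.leaf 959525645093857813857895831442955904))) (.node (.node (.leaf 974178461853699902026386794152724096) (.leaf 979321312334836244165451281828382304)) (.leaf 980756122696686354682306936608761088))) (.node (.node (.node (.leaf 957236649609457108365212220795437408) (.leaf 979523824889587376596444409259792608)) (.node (.leaf 958486668166863072529000068802711232) (.leaf 979344111471844295599407704428364416))) (.node (.node (.leaf 966630542250748776501373737786084736) (.leaf 962335132698860069417627337513718080)) (.leaf 970044529573161984448726761132952736)))) (.node (.node (.node (.node (.leaf 980858816765732676425158697331142176) (.leaf 961080105264444065974286112840386656)) (.node (.leaf 978830480898616756506674104612860096) (.leaf 960630308494617089803381617342221984))) (.node (.node (.leaf 968755197448816344509455050236533216) (.leaf 956970216247422690908705995666822848))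 (.leaf 968857017570730365465281381409341728))) (.node (.node (.node (.leaf 957295039176028647891154942623815200) (.leaf 959571202153316458254288062668419552)) (.node (.leaf 984557983486305422869164363650253216) (.leaf 971612653022314218496427451498338720))) (.node (.node (.leaf 969998754107476951471011344655469792) (.leaf 966027586877295258722507224244693216)) (.leaf 961926811381199219293773809041263872))))) (.node (.node (.node (.node (.node (.leaf 971225168693366284803685012448121440) (.leaf 971650943622301840113947966349515360)) (.node (.leaf 963639324775884677131012164029761792) (.leaf 966230160971153963423313519350299104))) (.node (.node (.leaf 981444907028150532537037293214935296) (.leaf 980635689182246489778266435472468448)) (.leaf 975327458405178679252089152051784224))) (.node (.node (.node (.leaf 982933076931104541839885226116229504) (.leaf 958047486720732619625285569448362432)) (.node (.leaf 974179880078565494732391361127566880) (.leaf 983072060395172145692514870823533696))) (.node (.node (.leaf 956927236301237066742858261544225888) (.leaf 969068911066689077266879866808415264)) (.leaf 976866356136479921203787223792821472))))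 (.node (.node (.node (.node (.leaf 962450103595731821174723580023851104) (.leaf 962729309065670858895678417432367648)) (.node (.leaf 984489862521089199238606646960902464) (.leaf 972711490137833658110635646339537536))) (.node (.node (.leaf 981514615717652634471703680311153888) (.leaf 963222224535810634745278266307360416)) (.leaf 961153347769188803874577205728359616))) (.node (.node (.node (.leaf 981589287885308037884245015914976800) (.leaf 983466475865269194893604632506175040)) (.leaf 963518498275148648988540061077324096)) (.node (.node (.leaf 984690016226783425897081976209354336) (.leaf 959850468176431034628118408383241472)) (.leaf 971514874214406394042857119411547360)))))) (.node (.node (.node (.node (.node (.node (.leaf 982931341191162383571772019695009824) (.leaf 964515543422832261774100478797747584)) (.node (.leaf 980185739138766350932168322724541696) (.leaf 959372169272965637261709191134885312))) (.node (.node (.leaf 962483212510354093318219922426728896) (.leaf 964080017510248448399707363258970592)) (.leaf 962659535824877438127445022648567200))) (.node (.node (.node (.leaf 982806030648348308060765502587681120)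 (.leaf 974247189851400112854394715454444960)) (.node (.leaf 969194132766586228055693401747850336) (.leaf 979446651524863386928353828481435744))) (.node (.node (.leaf 965861710365071657390517249681497216) (.leaf 976215966039006495336179386736289216)) (.leaf 958569044552809995841509732590720288)))) (.node (.node (.node (.node (.leaf 959661792154429620275036269868240448) (.leaf 967635915448634729158563069974361440)) (.node (.leaf 975101803829660138458199079546070336) (.leaf 976240611077643071621206571706011936))) (.node (.node (.leaf 967964116632786101251112891485527360) (.leaf 972548765441183191078683458278103168)) (.leaf 960966679246986188641474845277358560))) (.node (.node (.node (.leaf 961923239254658178964482868143045920) (.leaf 967168269672423956439224468398719296)) (.leaf 979561092680611860999365774046173792)) (.node (.node (.leaf 974981306484013497269881538900837664) (.leaf 984817967925994980331277800772644064)) (.leaf 984812995131708947607529699586349472))))) (.node (.node (.node (.node (.node (.leaf 959690873284676882936616626665267872) (.leaf 957388217667879631962778478811123168)) (.node (.leaf 962167187391105228140259670711942496)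 (.leaf 967173860322204903714557684444859904))) (.node (.node (.leaf 963765213004272548534312316871003392) (.leaf 979120213346585005330275653657241792)) (.leaf 970003296064435076549206210194258304))) (.node (.node (.node (.leaf 984528020735230976812115495437740608) (.leaf 965384591066451734018361639528052192)) (.node (.leaf 976198184015628398460977456927443296) (.leaf 960636066233305850782423445562493120))) (.node (.node (.leaf 959330543489277031942221075617225216) (.leaf 959785342819045747457573821020283584)) (.leaf 980358084030366449884424548962647296)))) (.node (.node (.node (.node (.leaf 984607445781105305455471885957083744) (.leaf 956855771050272919054272670451615904)) (.node (.leaf 957012277658866632151560836610530976) (.leaf 966506376862602088025199685291684992))) (.node (.node (.leaf 976658359679396029414431110135488608) (.leaf 959610281813303358886440256619794112)) (.leaf 969099120944294812382537997058573856))) (.node (.node (.node (.leaf 957596463667958430692084600654942304) (.leaf 980253377645921607749710437468870688)) (.leaf 978369660006158595083012006891473984)) (.node (.node (.leaf 962538655304074708084634502809590816)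 (.leaf 973813796622396558576143347135659136)) (.leaf 978803168223136648207569525165994112)))))))

def twoT2 : Janko.Tree (ℕ) :=
  (.node (.node (.node (.node (.node (.node (.node (.leaf 959447366293016975966859141519023456) (.leaf 963552137609185374771393555464458464)) (.node (.leaf 963502302066493428145275160091570688) (.leaf 971269657555112182930457809754798624))) (.node (.node (.leaf 980959064146558451199596311990423936) (.leaf 957218485353119956375240605665110624)) (.leaf 980723688097896452779706324194008352))) (.node (.node (.node (.leaf 974213622832892360503257823972008608) (.leaf 968831230108173545781499124335630784)) (.node (.leaf 981453372423594386347739442576600192) (.leaf 958319257663490569013748516158523904))) (.node (.node (.leaf 973743713393700885752199292095112768) (.leaf 967153573651801374478176007261696096)) (.leaf 959824002600970214917149353062041760)))) (.node (.node (.node (.node (.leaf 980911284424097095421382776580390400) (.leaf 967618264845271736067948666411355200)) (.node (.leaf 957104979525691427581651248406335872) (.leaf 984434996474616420513140201914584640))) (.node (.node (.leaf 971710413652505557488709653209766368)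 (.leaf 982142910722749030702102415708437568)) (.leaf 968989113187399164424487111281236192))) (.node (.node (.node (.leaf 963805197569455457287751647348494496) (.leaf 970363030029233981027335461550033056)) (.node (.leaf 960799578316560651148298745215572352) (.leaf 958885815511608599136408440275122560))) (.node (.node (.leaf 975223070515944744724942627413872160) (.leaf 975225333030327112070938115862580640)) (.leaf 973808540579206339069693526008925344))))) (.node (.node (.node (.node (.node (.leaf 984482274648446319205755311170826336) (.leaf 959929183862093440255269027886190816)) (.node (.leaf 966301143344479456619346018381910496) (.leaf 983272326680912624417890642262500960))) (.node (.node (.leaf 977672048465993340141752301192851904) (.leaf 976582938781827435535598288552118880)) (.leaf 965975966355076636921082662411943424))) (.node (.node (.node (.leaf 963883696403227904963680075059268672) (.leaf 973165955289480674160750467034159744)) (.node (.leaf 975734163641947325805661274798099808) (.leaf 961942010770136026800140435827595776))) (.node (.node (.leaf 968956843351691024011643099213614432) (.leaf 971163744903624260218949511660457152))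 (.leaf 977664768244019221030206158496549536)))) (.node (.node (.node (.node (.leaf 960683199843798449495790971715226976) (.leaf 960179990210679755964227892751548960)) (.node (.leaf 961082031297552075833164588589339744) (.leaf 974270828966596468994181308858243488))) (.node (.node (.leaf 971100515897111787246850144778781984) (.leaf 984023027371513993402945279958028960)) (.leaf 972967789684246537821687092053612608))) (.node (.node (.node (.leaf 977869612782811896444625727070995872) (.leaf 971704007995684111785270638233684384)) (.leaf 975632153289808012391416840650892800)) (.node (.node (.leaf 979011712610174708193325353267449056) (.leaf 976660424659535009601637323734595616)) (.leaf 982060894836306756529343027325583936)))))) (.node (.node (.node (.node (.node (.node (.leaf 963871262945630998171692886809762112) (.leaf 977866444803226027505045150540154944)) (.node (.leaf 958370898411976550695696074131705280) (.leaf 971828575280543586457467107533105184))) (.node (.node (.leaf 978963551888361740426438462781399456) (.leaf 974917762925660314699207512867354304)) (.leaf 979521433234410626913950446159964544))) (.node (.node (.node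 (.leaf 976971232061772849253166095819376896) (.leaf 972920197925804138687577266759944576)) (.node (.leaf 976576041808074872727301650800549504) (.leaf 971010800678913528777936021239679104))) (.node (.node (.leaf 967881026102878198825830738187109632) (.leaf 971581232778928828520316411777687200)) (.leaf 981892586991663334573446541477300448)))) (.node (.node (.node (.node (.leaf 961126927746287874952264441367439520) (.leaf 961926539215960779791255048456286624)) (.node (.leaf 962455013389284416115160277225348192) (.leaf 984769702233875811612942889980024032))) (.node (.node (.leaf 964654616356901011691873471542543456) (.leaf 956888128595514414492834239346936224)) (.leaf 982927981588810912186926248825817600))) (.node (.node (.node (.leaf 979175990509899043354268904542672096) (.leaf 965301395028752035565601450266810464)) (.leaf 957545764168196490582769702421117536)) (.node (.node (.leaf 962185492950094608543598850496344736) (.leaf 976260379348249923578676943241461024)) (.leaf 968932741895153720681005781177586944))))) (.node (.node (.node (.node (.node (.leaf 969801652535888172182761460472521920) (.leaf 977795405426754154204785611343517088))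 (.node (.leaf 979449788428961901653668950085506528) (.leaf 956830968695486595875783953036688896))) (.node (.node (.leaf 974109801740456077667305235259936032) (.leaf 962409779110151853518408703933061408)) (.leaf 976295516536060034673433277403370112))) (.node (.node (.node (.leaf 957582090487425454139764608743321216) (.leaf 977614141220896047230169703479193760)) (.node (.leaf 961196871868667553198635846470156896) (.leaf 966201427081719821764308884697665984))) (.node (.node (.leaf 970071504231232848994611399387822784) (.leaf 970073957711649641544498467653816928)) (.leaf 980741426342985238248470682782766368)))) (.node (.node (.node (.node (.leaf 984291886767693629601277304896014400) (.leaf 971501134179526267909226526123661408)) (.node (.leaf 969059424557361660061519094364709472) (.leaf 975326026804980860698447587295047712))) (.node (.node (.leaf 957270605807300602271336842964276832) (.leaf 970048478275052252658753031047203968)) (.leaf 959328040457855645870291806554728960))) (.node (.node (.node (.leaf 968527388255018646802593130320319840) (.leaf 967197380086153928817369099602954624)) (.leaf 976321729575925552784327801680612992))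 (.node (.node (.leaf 979656039010621050094331382497133888) (.leaf 980864540034968588171947553657758080)) (.leaf 963677558404565312853415155325315488)))))))

def twoT3 : Janko.Tree (ℕ) :=
  (.node (.node (.node (.node (.node (.node (.node (.leaf 966200800611798782867042596427043392) (.leaf 980497521723144415744848803975892224)) (.node (.leaf 958713593628216959159127162994731456) (.leaf 959644945258715616263569658042978336))) (.node (.node (.leaf 967895050904306397245633691789607232) (.leaf 974341858792651009063715373786400992)) (.leaf 965951820248070275296634370410525888))) (.node (.node (.node (.leaf 958695253267638960083651930775401984) (.leaf 977008824372360299960677945286734368)) (.node (.leaf 981759125987704560856056161729041472) (.leaf 963743580524763639125912038902438944))) (.node (.node (.leaf 972609334448865971217220159278259232) (.leaf 957388651288751904198766073667193536)) (.leaf 966197117144519783874002195306429984)))) (.node (.node (.node (.node (.leaf 968939090920438039969241505441304128) (.leaf 979528402641036933836401420294794560)) (.node (.leaf 963660958839502358729390628189818912) (.leaf 966240176255151546785911667274328448)))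 (.node (.node (.leaf 958047833380214970814964382910845088) (.leaf 977751176524985377977732800163976288)) (.leaf 975191817278885505172080926937699904))) (.node (.node (.node (.leaf 973785784220847537638447608797438528) (.leaf 956773419771923490449733114141419872)) (.node (.leaf 971541697992896198687004497574110912) (.leaf 966581098762538846579204922208111712))) (.node (.node (.leaf 975598178425545048566915088600540320) (.leaf 965992922036878322181337270185378912)) (.leaf 972847244468757651628048522280218176))))) (.node (.node (.node (.node (.node (.leaf 961080778931183848617540363749951840) (.leaf 967396250284985498493472536896324800)) (.node (.leaf 967575461217393808728933740519347360) (.leaf 979370668141122191192159072547003008))) (.node (.node (.leaf 976888692096658870924265842311268768) (.leaf 957254005646083208430333164438767712)) (.leaf 962456512778180661197116302462440576))) (.node (.node (.node (.leaf 984147063300831806430379471894195520) (.leaf 971124363189619727552271217915574944)) (.node (.leaf 962122096817476473480778131314945504) (.leaf 957592226614051144275160504264634528))) (.node (.node (.leaf 971049695801318289325732980650452224)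 (.leaf 958722069257118441544310397436480960)) (.leaf 976891737790579061741513083430503616)))) (.node (.node (.node (.node (.leaf 966586596000750721439017130793709024) (.leaf 974188281167716726614182145641058528)) (.node (.leaf 981406474546162383879933705551200608) (.leaf 957293193342731250382557725121131136))) (.node (.node (.leaf 958432010710689249676282793061427424) (.leaf 971049850412261270907970074320737696)) (.leaf 971636807461510075180798771092109952))) (.node (.node (.node (.leaf 976292971321812069492217392058214784) (.leaf 958038633044667103026214510835356032)) (.leaf 977555579452447038466210244740555936)) (.node (.node (.leaf 957277298352301908073052486268735008) (.leaf 983253239681642295771150269941126400)) (.leaf 983299347697770290390912585293912096)))))) (.node (.node (.node (.node (.node (.node (.leaf 972710952070921528609148941723870432) (.leaf 975566598214258304560124237248464192)) (.node (.leaf 981635789908374440385855241108630944) (.leaf 980861225997739518631130387185078816))) (.node (.node (.leaf 979324804053706581890126662316267040) (.leaf 975101623635795494494680200551386560)) (.leaf 957140123169123121372341537477346432)))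 (.node (.node (.node (.leaf 984810348878045244220422570762391840) (.leaf 980751420423879855061774525220162592)) (.node (.leaf 984078676760815086297880757417789088) (.leaf 969792338970241745394755281645242496))) (.node (.node (.leaf 979046541625464693312837492209358240) (.leaf 968540321822270657187288173774247616)) (.leaf 969788570308210148389128287753064864)))) (.node (.node (.node (.node (.leaf 966278601662499998047844703579180608) (.leaf 970476960438701889459507173772250304)) (.node (.leaf 960666998758235506577498698861991264) (.leaf 961970966583828286812706826048622112))) (.node (.node (.leaf 959607954017923135206671703110402176) (.leaf 969108310677545724621860056871457152)) (.leaf 963873886942867770898976067009630912))) (.node (.node (.node (.leaf 964972563856065955975134072918213824) (.leaf 966586685557637918503401333477940640)) (.leaf 969839051292914221555327030962377792)) (.node (.node (.leaf 962422054256786564780109087209725216) (.leaf 966669129519508614289956926005753280)) (.leaf 959817590619354679963421730139576608))))) (.node (.node (.node (.node (.node (.leaf 966216342370885696814644071220038336) (.leaf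 962422032528033508780317908360512096)) (.node (.leaf 959502781882976350649993575566348768) (.leaf 963630689766827263459461354357002528))) (.node (.node (.leaf 958770595541816358397465441749771840) (.leaf 959324513170467869981686435989359264)) (.leaf 958813648617577819012842677087880640))) (.node (.node (.node (.leaf 968547969085869908768414083101802144) (.leaf 976491763971976230917964657498078432)) (.node (.leaf 972434450889351042297873639215315232) (.leaf 972429457546907375696824709391165888))) (.node (.node (.leaf 966268553291842380898245441224903104) (.leaf 965085976845069118730321896939991168)) (.leaf 958526680623121767347565365347059328)))) (.node (.node (.node (.node (.leaf 960947703749786111825368593655662208) (.leaf 958484935826786227735902050281142624)) (.node (.leaf 959949147884258258817960446271104608) (.leaf 970295924742760389403905327229932608))) (.node (.node (.leaf 963258876449269907059151905056428320) (.leaf 971027034832673195307581907558382816)) (.leaf 961478208220965723494922404809461920))) (.node (.node (.node (.leaf 971778460919375428065261538675867904) (.leaf 966603219009082848213130298981386272))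 (.leaf 978289307992212457825388193290265824)) (.node (.node (.leaf 959846364670969378333526809777640832) (.leaf 975505875023958929133943635111744800)) (.leaf 973643788970588192214586366219619712)))))))

def twoT4 : Janko.Tree (ℕ) :=
  (.node (.node (.node (.node (.node (.node (.node (.leaf 967192472596706831576684574626357280) (.leaf 977007930637266686517197220446784832)) (.node (.leaf 981398872934998689437570899143691680) (.leaf 981494131150257415183166590265214144))) (.node (.node (.leaf 965337536118151101143913626125817952) (.leaf 975003854420907590054303071771100416)) (.leaf 970402634239251057925319391964246560))) (.node (.node (.node (.leaf 982001305470058651456641202900939456) (.leaf 962498440394851588651361121066854624)) (.node (.leaf 971133907875693104476137374436558144) (.leaf 965012395621062642868846959879764320))) (.node (.node (.leaf 980594261889439374273679150208636096) (.leaf 962169957587422452250669320071698112)) (.leaf 971050355724893261676904373808272960)))) (.node (.node (.node (.node (.leaf 959822650390477815536195067703544864) (.leaf 963307239761147007730551028366071296)) (.node (.leaf 973662682479286585364149619374183744)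 (.leaf 979384638381250192814816881705102656))) (.node (.node (.leaf 956936353179583464380403497970414016) (.leaf 975239228724576151329841732174329536)) (.leaf 967940262869969143076243247897857216))) (.node (.node (.node (.leaf 975434769839394066844618212049032768) (.leaf 982820209337397573102797813446225312)) (.node (.leaf 958525499446720090453324391779081344) (.leaf 979171616052788374846701299740378208))) (.node (.node (.leaf 961932932150518327309192483399474752) (.leaf 980784094571200165987737080677307008)) (.leaf 961971455788128199889678306615905472))))) (.node (.node (.node (.node (.node (.leaf 981403941056009519935425232448825600) (.leaf 964857858594175383980053801153839552)) (.node (.leaf 978792411471583477078890443648450688) (.leaf 969875932885474493370634544248927776))) (.node (.node (.leaf 977577368372370046041893394996013664) (.leaf 963278075362358479121716766816144736)) (.leaf 979277968461540596608417781225527552))) (.node (.node (.node (.leaf 970197223775157325421722648767377728) (.leaf 957299991266294453936433934030475360)) (.node (.leaf 965956745063112865685065935803098272) (.leaf 977800236247243081399040343656301632)))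 (.node (.node (.leaf 958811954093797689679532092535676192) (.leaf 984524706746476042521504236016178272)) (.leaf 971528945974626366293223087196459328)))) (.node (.node (.node (.node (.leaf 974258659275592220958634394435964384) (.leaf 981556372762534782503545483412853952)) (.node (.leaf 983068668311508651783108112936196576) (.leaf 978003900918030536241365588689758304))) (.node (.node (.leaf 968693152932179182802766534092108448) (.leaf 958811990058173072329385622040168832)) (.leaf 960909084892701279534284088613213824))) (.node (.node (.node (.leaf 977915452372683278934118482554630176) (.leaf 968939236635329713684274722352713856)) (.leaf 966387973967851309623864516732596896)) (.node (.node (.leaf 963270231249596873902136777634063520) (.leaf 963399649345056174934762762837412128)) (.leaf 971019473574800468773730716647806112)))))) (.node (.node (.node (.node (.node (.node (.leaf 971591654310096355605863779150437920) (.leaf 975060706562351765914737245104413056)) (.node (.leaf 965349351678450624256111119448613472) (.leaf 959707927150710195272611151118636160))) (.node (.node (.leaf 957230011273924350951214655579769344) (.leaf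 962455479897575132733620035252473248)) (.leaf 973924046249133818052025554587339424))) (.node (.node (.node (.leaf 958573914542445028607679477458360736) (.leaf 980698147226173480696870844952358208)) (.node (.leaf 974026847039283790243367620115404288) (.leaf 963508361946847710340193018661179040))) (.node (.node (.leaf 963644079297505799840939531298261696) (.leaf 976739431931907406856655964325151904)) (.leaf 975310377924806917600926536652346752)))) (.node (.node (.node (.node (.leaf 971374791970949974605958999350656352) (.leaf 975719667673529468490737021125709248)) (.node (.leaf 978359362743483636658361274991289952) (.leaf 972674183743135056709735308671256032))) (.node (.node (.leaf 970049896881237240288221919350249728) (.leaf 981845146798744127992912937419818080)) (.leaf 984159063890327184582700963472055744))) (.node (.node (.node (.leaf 977546564863752818963747135920712128) (.leaf 981692761595135929248725129385806208)) (.leaf 975181226788483148152865225688160896)) (.node (.node (.leaf 979255346558647704428110917780456672) (.leaf 964046090807060516288587455988745856)) (.leaf 982765958785612305560415002666021056))))) (.node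 (.node (.node (.node (.node (.leaf 967699413127914737033486793646343296) (.leaf 981566309694274555277012974342221472)) (.node (.leaf 981562777580282040025562934737028320) (.leaf 959805539695904552143753054466515552))) (.node (.node (.leaf 982143564592163342537024749495753760) (.leaf 984489922783290639623250503270731200)) (.leaf 982197996811789937703277675556618656))) (.node (.node (.node (.leaf 971777437413697110453761339257208320) (.leaf 972302395595520887542137397406376512)) (.node (.leaf 962546916810408558666523385702492512) (.leaf 984023378774515586339603367836750368))) (.node (.node (.leaf 980670361393452740707480162724776512) (.leaf 978953658027303641973568582314050240)) (.leaf 962624018581673565201631147717593280)))) (.node (.node (.node (.node (.leaf 982102581496434121319587014854088928) (.leaf 978795706825859966513681704109513312)) (.node (.leaf 976337687548916167635075202055392352) (.leaf 967211357632155360685853657707190976))) (.node (.node (.leaf 974390155275491990349381783598964960) (.leaf 965281797819480356436589859838638784)) (.leaf 981928638359150264347033338579688576))) (.node (.node (.node (.leaf 958848797801609700683702762482030880)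 (.leaf 979408587340113690238124493816503680)) (.leaf 960996381838101873711844183449444704)) (.node (.node (.leaf 970201819792605547526463893502675008) (.leaf 962791291378355558493255001818155232)) (.leaf 974912218286171503592824793558270656)))))))

def twoT5 : Janko.Tree (ℕ) :=
  (.node (.node (.node (.node (.node (.node (.node (.leaf 979220005736946233701488405986260160) (.leaf 984198202462037630740704755934547040)) (.node (.leaf 960682948339061117968570222253351232) (.leaf 983094080911501967223693735523074496))) (.node (.node (.leaf 966194676517331214261679048170382848) (.leaf 962324772435812647066954693008730400)) (.leaf 974905882469116949552090864749578752))) (.node (.node (.node (.leaf 984682677555028341951111449240779840) (.leaf 978966100793787405457186300294925856)) (.node (.leaf 974368407203203308305409393368838848) (.leaf 960107514186073875122460075786520960))) (.node (.node (.leaf 980560908043694616710448685750131136) (.leaf 959494349926854203058548529194949248)) (.leaf 983991373391219652586593228065782336)))) (.node (.node (.node (.node (.leaf 970434836466822068055092055717061824) (.leaf 974021370657340290568375112495176384))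 (.node (.leaf 963785010470438575009082562136028608) (.leaf 972867610289651616942853533638083872))) (.node (.node (.leaf 968940388564893460849277894063720864) (.leaf 975605914613831604537088164933946816)) (.leaf 979401653516876677228523057243891392))) (.node (.node (.node (.leaf 962404735726626682807927880138016800) (.leaf 963498660915927970382960344708070784)) (.node (.leaf 960989923701476881043906146466833856) (.leaf 963725388896972349062181870427837024))) (.node (.node (.leaf 964980533316268748606725409837485216) (.leaf 980105021837944287913780250315825824)) (.leaf 979574723564417811222700436952993216))))) (.node (.node (.node (.node (.node (.leaf 983054738319396130096420106464136480) (.leaf 956782725131212900482355639708398816)) (.node (.leaf 957101103701651306864932159220832512) (.leaf 984720267804062828895723702057615520))) (.node (.node (.leaf 976608226123952184166126602051423840) (.leaf 974394065042938379506787088264703456)) (.leaf 980139190061271054361128568586191424))) (.node (.node (.node (.leaf 975358508117027740089689587307972704) (.leaf 973822476730821047217207069096676032)) (.node (.leaf 974265799864618500207106393127570080)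 (.leaf 974377543841267484714255441179822400))) (.node (.node (.leaf 975683460022536171986297619976626208) (.leaf 978200501409368974996372284248602656)) (.leaf 975359100324129624423893057513361920)))) (.node (.node (.node (.node (.leaf 972910489577773371895783013845879968) (.leaf 958557438218929390431283754758875552)) (.node (.leaf 968652984386463199066892309069702816) (.leaf 976783235972527103635488781258642816))) (.node (.node (.leaf 959652794920409806550603255639541952) (.leaf 964978088746142694294636888765189184)) (.leaf 959815693268860716180962701244286336))) (.node (.node (.node (.leaf 976767000513264618995301819626326336) (.leaf 971069256373577836981755765618581120)) (.leaf 972889456311707099065203956595951104)) (.node (.node (.leaf 974384121798541971797401685353537088) (.leaf 971223607523238242980133203659084320)) (.leaf 984211019884056859502688855544408512)))))) (.node (.node (.node (.node (.node (.node (.leaf 957293626538506201731418874103223456) (.leaf 977662318254861038656003413642359904)) (.node (.leaf 977698963673992938182010311371335264) (.leaf 964916942302012626334074105123777120))) (.node (.node (.leaf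 974349316876361921136708025847557632) (.leaf 984486745359787383645752732335740032)) (.leaf 983459918425398861475462274297830528))) (.node (.node (.node (.leaf 981879273455504780762694589341962624) (.leaf 956862234579527154438888564249435232)) (.node (.leaf 972890318504320146972597918580787904) (.leaf 966062804183639754158844163522047424))) (.node (.node (.leaf 974172084113888693457696085670200448) (.leaf 960147248092777591084242978007826464)) (.leaf 975195587774278012805836157823926304)))) (.node (.node (.node (.node (.leaf 984234483575158875974129683268097664) (.leaf 963483119177282933093272379578617152)) (.node (.leaf 976329801757169008091461371847450208) (.leaf 981923874058548093768461574478534240))) (.node (.node (.leaf 966501277462453831372984096956594592) (.leaf 971431807819099815508771078135715264)) (.leaf 961308401027600517857810449810245024))) (.node (.node (.node (.leaf 962280428174729531449307111186640960) (.leaf 977019097906177212765727847746245152)) (.leaf 975394079057463845433668820021631200)) (.node (.node (.leaf 959339497094209104089521806253627040) (.leaf 976206533018014329832150931220961856)) (.leaf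 963630812319608364322426215982991808))))) (.node (.node (.node (.node (.node (.leaf 973056348317197054358837802630820096) (.leaf 983378980981556232125346220816776384)) (.node (.leaf 983375766709235507153034548363870752) (.leaf 975642358918187565573064790345724128))) (.node (.node (.leaf 958112287938594511280936704356655296) (.leaf 961082733565163046455535937683303840)) (.leaf 970045869724605942573763767875080288))) (.node (.node (.node (.leaf 958854126979183919363814303249929920) (.leaf 976748440304395586054939660403591200)) (.node (.leaf 975229023684868593694608892294149472) (.leaf 974256256163800687540389525883303232))) (.node (.node (.leaf 967240806486016873344984786114485440) (.leaf 957436596263972688009330576398440576)) (.leaf 964695635379807443148278249407524128)))) (.node (.node (.node (.node (.leaf 982687958737860473677373254430898720) (.leaf 970240369753254638110001511108514016)) (.node (.leaf 984266894548274045338546126447627616) (.leaf 960008450064397092380614528451788992))) (.node (.node (.leaf 962686323453280120594660011702438176) (.leaf 964563390144000599596899650655304320)) (.leaf 983185178484938345961627068394980608)))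 (.node (.node (.node (.leaf 957105659153013036440174700563801696) (.leaf 961277407337811880956910624812187872)) (.leaf 972716641256697021980269114335283680)) (.node (.node (.leaf 976848118940469388491464808654903680) (.leaf 963360069388102005470949850367939168)) (.leaf 962295441691157269052433140028921984)))))))

def twoT6 : Janko.Tree (ℕ) :=
  (.node (.node (.node (.node (.node (.node (.node (.leaf 957315891003703385904357835310215616) (.leaf 959951284545166854975635828841454048)) (.node (.leaf 982792018972963358603030841385037888) (.leaf 963906603557312254907499027420856608))) (.node (.node (.leaf 967207847795558998622464118845120192) (.leaf 979057797719584885667818600357202016)) (.leaf 962443012683941215657118106852658688))) (.node (.node (.node (.leaf 960624597844003767966657829691299456) (.leaf 984409820948831831340428637295940032)) (.node (.leaf 957256895584622198169445481507925248) (.leaf 966422170809563477252022499664140608))) (.node (.node (.leaf 960181257778788201718771376188995040) (.leaf 982690919812006630273459877193648224)) (.leaf 960992110157461303492351605401531424)))) (.node (.node (.node (.node (.leaf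 975650259643451736949546752274406848) (.leaf 983071458608755622669732909206242368)) (.node (.leaf 984574569029865532326284749251497024) (.leaf 962606393679727858960972215167073888))) (.node (.node (.leaf 971068159388211556790556228039354976) (.leaf 970095777721092348241545548281453664)) (.leaf 957587328284653466673906648475573376))) (.node (.node (.node (.leaf 961360201632631418017201647205747904) (.leaf 960145548328640143426276907764895296)) (.node (.leaf 965910557139643567687475865117334944) (.leaf 980499459021918889545353510054611424))) (.node (.node (.leaf 962290108752573713813970098004926560) (.leaf 967311425937714600746704820489598464)) (.leaf 959562958812218523379951075424904256))))) (.node (.node (.node (.node (.node (.leaf 973808756792695868233500840237273504) (.leaf 964066320892586201269920705135590912)) (.node (.leaf 984473287470044802754651628862947584) (.leaf 964925576290968818987854876884179104))) (.node (.node (.leaf 961392814258418703358592810957258848) (.leaf 974948437038541104997333532943078048)) (.leaf 980866426574216386172539615486040096))) (.node (.node (.node (.leaf 974897723387466755027992947587492192)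 (.leaf 962526085924735115161939358588248640)) (.node (.leaf 972935082458265398952242134568371392) (.leaf 976567063287226781391430542305692256))) (.node (.node (.leaf 962741984959382742946942651839685952) (.leaf 962044972069619904496670666589111872)) (.leaf 961970857329815988783072013771481792)))) (.node (.node (.node (.node (.leaf 980749820088048154216733293607560320) (.leaf 965262869535499920507081035250052128)) (.node (.leaf 959976798299847854275163329212882112) (.leaf 967601134285782314438475770993326560))) (.node (.node (.leaf 984733864999734162645267229398378880) (.leaf 982689686910987266755090493135594816)) (.leaf 970157898295550140356273436100214848))) (.node (.node (.node (.leaf 966027850970503149429490388442786336) (.leaf 975027493201712914245477671865899424)) (.leaf 971164145993253657554371126713461440)) (.node (.node (.leaf 974956874459480251558475383816495680) (.leaf 961290328402886624664967360392415904)) (.leaf 961151209727234016311110294191836576)))))) (.node (.node (.node (.node (.node (.node (.leaf 968581024236918968485074802207660608) (.leaf 976903589487641528928805498685567328)) (.node (.leaf 970204837261919645908687630802340960)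 (.leaf 978071414521594144995883435521642080))) (.node (.node (.leaf 983054605473971320794847440679686720) (.leaf 978934528289050257328524854143523136)) (.leaf 964046562504565370345095356525004032))) (.node (.node (.node (.leaf 965267941217634160421850141038825504) (.leaf 968694783594326514910417853246719328)) (.node (.leaf 957464440592685729805114329895507008) (.leaf 971866607579273008771015183723810112))) (.node (.node (.leaf 958615663605397036593311358439955072) (.leaf 956769874155812073545692886402913920)) (.leaf 962253527279359801369755456353425728)))) (.node (.node (.node (.node (.leaf 961276368402221947066924386963593888) (.leaf 974251055854354989779577351249767520)) (.node (.leaf 978263205678732065928435534337365280) (.leaf 983178993534873239335057299050351200))) (.node (.node (.leaf 967120594960661440318150879238206848) (.leaf 968611116321256914275187534880998912)) (.leaf 971691077447936945752742771528511008))) (.node (.node (.node (.leaf 978882817986235089238445831984777856) (.leaf 984186908833214829341272507560927744)) (.leaf 962363947978114703874106102316143136)) (.node (.node (.leaf 970087845913696044942002606115473600)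 (.leaf 978270499422313485475336539352764512)) (.leaf 984280630467921705249595522886608960))))) (.node (.node (.node (.node (.node (.leaf 971735752218372026292383220610173216) (.leaf 976279409386646265267758642754666176)) (.node (.leaf 976286750641757677699040459418715296) (.leaf 963624494250989865586439839637803296))) (.node (.node (.leaf 981799328505903560817220972219934144) (.leaf 968652724504314767093817954362117216)) (.leaf 975144399124064725621291220855071072))) (.node (.node (.node (.leaf 957109618317281716015466072427182368) (.leaf 977549406941468734221267894242086080)) (.node (.leaf 962168776128381818095376356977193440) (.leaf 971534049225769835528110676687476256))) (.node (.node (.leaf 964797986103565150461266285576078784) (.leaf 964602697959740524895123402441018016)) (.leaf 978181583061785611245978014587108576)))) (.node (.node (.node (.node (.leaf 968622603252575954105357155351805280) (.leaf 981959296895849210475626614399512832)) (.node (.leaf 960034512948134951346114918554737280) (.leaf 979053837349621623779560680846987680))) (.node (.node (.leaf 960866845299279027536751832083795520) (.leaf 974383797253855056422031552806204000))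 (.leaf 960720196827938832339764515345511872))) (.node (.node (.node (.leaf 968492072096558655510917824633314912) (.leaf 981850669219628451360259131038844160)) (.leaf 971572127353301419206413861697979552)) (.node (.node (.leaf 984612391129037251412099495914256448) (.leaf 965293489900237880400931753032209984)) (.leaf 965872924672640720539904598763419296)))))))

def twoT7 : Janko.Tree (ℕ) :=
  (.node (.node (.node (.node (.node (.node (.node (.leaf 975191065902105881017426719484914848) (.leaf 970580892979747963179280558783051936)) (.node (.leaf 970256011267228911058333790725329280) (.leaf 973607060444477140319014029410851040))) (.node (.node (.leaf 979215820255095007595838039095694784) (.leaf 963394237763719257274623488978230528)) (.leaf 974172144501194930089372920195399808))) (.node (.node (.node (.leaf 981614999771656477456061096702251232) (.leaf 970051933734922547035128047584352640)) (.node (.leaf 958775507800430941057421848727950368) (.leaf 964726873652860743654647039026274720))) (.node (.node (.leaf 969833109994046957141543738299068576) (.leaf 958841660854745503374387012855435872)) (.leaf 981854139390197297172539639346613440))))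 (.node (.node (.node (.node (.leaf 982767222610138408022067452561105376) (.leaf 975164846993350344692111892991231136)) (.node (.leaf 958510320254612181087617364163473024) (.leaf 960684654335424376016417639663809984))) (.node (.node (.leaf 958797857810437780236028553115995744) (.leaf 974981343350470725556913585978066272)) (.leaf 958850963789453381566749788587051328))) (.node (.node (.node (.leaf 966557163877916694374601355756776896) (.leaf 967232146219002897261470935988635872)) (.node (.leaf 960820472224404146807455665649693024) (.leaf 978046091875954859007514066111508576))) (.node (.node (.leaf 978878928271902157992665578853672288) (.leaf 965063134004440800129033301814096576)) (.leaf 970363895576313903318855957732531840))))) (.node (.node (.node (.node (.node (.leaf 972847295069602636612514075311645056) (.leaf 971231588367073461888138716081794272)) (.node (.leaf 967770938612569732924856978764992672) (.leaf 970537473575124253777489495083564608))) (.node (.node (.leaf 966642450673036224910835046998989152) (.leaf 962688274990878597381701577615299776)) (.leaf 967376043300300947900718966998972608))) (.node (.node (.node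 (.leaf 962304167648049397272018142760439264) (.leaf 961279338494539957125603036891722848)) (.node (.leaf 970007052904841732951733856624841792) (.leaf 982945929118025133026007812334044544))) (.node (.node (.leaf 973983036305276040363610527060020448) (.leaf 961413479806839101609631303013603424)) (.leaf 961005527163154528644344386846504384)))) (.node (.node (.node (.node (.leaf 980714652646844998140513155718651136) (.leaf 976573345921967233177970352022932672)) (.node (.leaf 969880915600918865171631838023145152) (.leaf 962792094985626193509463140010905024))) (.node (.node (.leaf 973924791879782970329108433111101472) (.leaf 963599752380498254618357762900794464)) (.leaf 965834702165733106349339847997637952))) (.node (.node (.node (.leaf 973174465237745917205386591204782240) (.leaf 975688261881848953509635146025482848)) (.leaf 975152957896959841249030244531542080)) (.node (.node (.leaf 962705190253134476787350081572643872) (.leaf 965211279859813716575378957776588416)) (.leaf 983458845937628386026152933990907488)))))) (.node (.node (.node (.node (.node (.node (.leaf 963480476332392385431197638467167392) (.leaf 974018491343703069830865747072131776))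 (.node (.leaf 975343290426581891210530066872323424) (.leaf 979317384630673038923995334438933760))) (.node (.node (.leaf 963316198753680162174940302642959392) (.leaf 957030018590608736468804563368228960)) (.leaf 984593383943609318000908001067734432))) (.node (.node (.node (.leaf 978226022793261971839777155907736896) (.leaf 964690323148162171246701895076654720)) (.node (.leaf 958281789234770014665302263941639712) (.leaf 983055637881184638555651885416176096))) (.node (.node (.leaf 981552493108355954079156493826112160) (.leaf 973682792871951532580304921703799328)) (.leaf 977943279794480092027456337596731840)))) (.node (.node (.node (.node (.leaf 981570077458008990785156658844817920) (.leaf 962484051719016053002481104184596160)) (.node (.leaf 977017109807548914605402436073036000) (.leaf 965308466258649329004074505554250784))) (.node (.node (.leaf 980314873056133591628509909781694144) (.leaf 971865986984843092810638822794074656)) (.leaf 958032456615794072284484241147215360))) (.node (.node (.node (.leaf 979406765315989398194836243348620352) (.leaf 978911580363538761782544157011917280)) (.leaf 974469140958015768419497876841902432))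 (.node (.node (.leaf 981610922475771792032877174814250272) (.leaf 971019895824594767283377187511162112)) (.leaf 960943418260485164092037138988076672))))) (.node (.node (.node (.node (.node (.leaf 957071457671223898812560045584263744) (.leaf 964603562316394272797251111078729152)) (.node (.leaf 984390788367382763736401740021514816) (.leaf 975727238765468987429140299798062176))) (.node (.node (.leaf 964820740318488815865492691338348608) (.leaf 975599164021707469927551101702380832)) (.leaf 975711381375762057398088419718575360))) (.node (.node (.node (.leaf 968486948301480951932047450028815584) (.leaf 972723237391958485503469088758335616)) (.node (.leaf 961450084879058650443728720923657696) (.leaf 964085416778216674446931529963210912))) (.node (.node (.leaf 965991012447513164666389541932903904) (.leaf 983111530991188060288581482602171904)) (.leaf 979212093085353944957557794398115008)))) (.node (.node (.node (.node (.leaf 959848172689933849228163491635140064) (.leaf 958694086022818212305642974063792512)) (.node (.leaf 969709789293146785398539196851206816) (.leaf 975570770347889577810356711020239936))) (.node (.node (.leaf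 966474853281519048774637014458444832) (.leaf 976278957051116153009212684598192480)) (.leaf 966215453554532852204239890423525792))) (.node (.node (.node (.leaf 971411002259907909771333300459623712) (.leaf 969806834587831249058914677020673440)) (.leaf 963360706682374629473550343652818304)) (.node (.node (.leaf 984273896211413154577550240413930656) (.leaf 966511542398411879812508150797087136)) (.leaf 977909391336557279402620645063165376)))))))

def twoT8 : Janko.Tree (ℕ) :=
  (.node (.node (.node (.node (.node (.node (.node (.leaf 962242330036770720412112697012305472) (.leaf 967781990590742894451673976694053984)) (.node (.leaf 975389090351191175884762375370691648) (.leaf 958615849211851319538862895867872672))) (.node (.node (.leaf 957310270757562144980098355091282336) (.leaf 975595592293719787486828628493643360)) (.leaf 972478298342655448282562542302812416))) (.node (.node (.node (.leaf 983217856431972855639167470222484000) (.leaf 962144359567255457171779470062375008)) (.node (.leaf 959927405171658268539932736166698528) (.leaf 961977107762663687827784391247052224))) (.node (.node (.leaf 966605897064677017377525007562507392)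 (.leaf 981599077932204803585859873911677536)) (.leaf 960792296198485776224701372162476704)))) (.node (.node (.node (.node (.leaf 963643493087833487661509910778422432) (.leaf 962570677931864463526741188751475264)) (.node (.leaf 969148542652653478013188094839365856) (.leaf 965126264010626905629427024973284800))) (.node (.node (.leaf 962575910770643624332826275361530944) (.leaf 972324164504054183326341533625072096)) (.leaf 981615791320698333321833400570545248))) (.node (.node (.node (.leaf 973655856341431559157428326565105312) (.leaf 963670128690561384077757231295612480)) (.node (.leaf 959910883583986946284362608478931456) (.leaf 960950428654081068500659364415606272))) (.node (.node (.leaf 979407430840232408580523858041622144) (.leaf 973657443869916299949664213029759456)) (.leaf 981799673745836742064476544093069376))))) (.node (.node (.node (.node (.node (.leaf 980134386442344573170718009236599840) (.leaf 976245997596921931412705254522927680)) (.node (.leaf 965120976543515844243576466246509120) (.leaf 973159446491247632324676143864455776))) (.node (.node (.leaf 972910514340538479605860264313141504) (.leaf 961227258237375045397968596171883680))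 (.leaf 966230117487625380358591206136301024))) (.node (.node (.node (.leaf 973842652676819177007348931421061792) (.leaf 966435438623050640312878329955561824)) (.node (.leaf 966316392712681629485351666301571392) (.leaf 964811631264126597939014046342326560))) (.node (.node (.leaf 980514315537793342786399408683721888) (.leaf 966627566163146446421751568977738080)) (.leaf 965913179553618261900338072487539104)))) (.node (.node (.node (.node (.leaf 959466344208479460555193124104249504) (.leaf 984065143230082864581302213784358336)) (.node (.leaf 975599433263500198463755055308413056) (.leaf 973151774806645547179350756117758496))) (.node (.node (.leaf 956828582223970580103859121927138496) (.leaf 963400917260508133817400465407160352)) (.leaf 959487568806585487061373448499575840))) (.node (.node (.node (.leaf 971146146253047994031333394554718784) (.leaf 962726255868925082722010444744242784)) (.leaf 962565543206931203064376592879303296)) (.node (.node (.leaf 960881028189185935197406786971453632) (.leaf 982786799476695407645752150507269344)) (.leaf 977598969229108781210550034434955744)))))) (.node (.node (.node (.node (.node (.node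 (.leaf 974272677330235301900500980217552448) (.leaf 980185842715564383720751223008376352)) (.node (.leaf 978857223728425568037811926467759328) (.leaf 963957109264811798135663183934020160))) (.node (.node (.leaf 984390874254421879375121229719126208) (.leaf 963709962409821558833730430234397024)) (.leaf 961481971864123855057323788395497856))) (.node (.node (.node (.leaf 969798547948990164434362282404817120) (.leaf 978196743066599600690684473382387360)) (.node (.leaf 957032079685413411546668690440802656) (.leaf 977758093653724359745701030278991040))) (.node (.node (.leaf 984234945702391984762027277801346496) (.leaf 966178696649487597397558670274965536)) (.leaf 961919473270461745954423197299481664)))) (.node (.node (.node (.node (.leaf 983373975894859970558555396561441472) (.leaf 977739755294204103447338212527507488)) (.node (.leaf 960989566243898882651059801841612032) (.leaf 967727771701018320834909543315625056))) (.node (.node (.leaf 980641380105335875313529710338097280) (.leaf 958160863383671462835499940068407808)) (.leaf 968622307792881559063222224114269728))) (.node (.node (.node (.leaf 957594857234906090347673200584370816)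 (.leaf 957018699050718469984738468311577760)) (.leaf 972448493569621599516143383695985120)) (.node (.node (.leaf 983211556623801166040916904668285152) (.leaf 958391598086024803745506425490676000)) (.leaf 967571889128069833246856681576669312))))) (.node (.node (.node (.node (.node (.leaf 968674313114828649627685071755775008) (.leaf 966425370982732041526957005464812000)) (.node (.leaf 967897543890118380597507941560881728) (.leaf 962365303811201623375082107854435936))) (.node (.node (.leaf 977823190909044691589835129768806016) (.leaf 980268367721309071786852737515523488)) (.leaf 962126575939870673512817843709260064))) (.node (.node (.node (.leaf 971413943682980966759714909669445280) (.leaf 957294702322143586515366405493792160)) (.node (.leaf 962407991485257922855093482613611968) (.leaf 962429064612020526614903542582487104))) (.node (.node (.leaf 967823993687951126353041507535305888) (.leaf 957576023267474666138968168878686880)) (.leaf 963825593007648448487514451631098912)))) (.node (.node (.node (.node (.leaf 969755809761167812365479762071032288) (.leaf 982020055535376222990589123531841600)) (.node (.leaf 966039291747683736915581931252976128)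 (.leaf 962530495277298253242083798036924032))) (.node (.node (.leaf 974109887085404894152439625312423264) (.leaf 977922182743703432672029993233494272)) (.leaf 981715001341590033536496819602920704))) (.node (.node (.node (.leaf 961962224622906251222793807585126944) (.leaf 975301378728158203118972057098436992)) (.leaf 973888561255032171357294184296059968)) (.node (.node (.leaf 960962115728247601337565292482206272) (.leaf 969835345781684987566118052347461024)) (.leaf 976764306326717347422795618184472992)))))))

def twoT9 : Janko.Tree (ℕ) :=
  (.node (.node (.node (.node (.node (.node (.node (.leaf 961319348135034809588361756972072032) (.leaf 979239351535609906104847090243187744)) (.node (.leaf 974988599674781396424892819221090464) (.leaf 959978418864910785156497139290036800))) (.node (.node (.leaf 971753936331517668677738052689503264) (.leaf 972665143394611520816836325182511392)) (.leaf 980211268629455813269201500666837408))) (.node (.node (.node (.leaf 968988811312700862644108362307442016) (.leaf 968490859192271421214621765192007904)) (.node (.leaf 970567112373693833523939918664189440) (.leaf 963217121609309960615185961887183360)))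 (.node (.node (.leaf 967925518812602629584514244409436416) (.leaf 958242781586613797895262741469704352)) (.leaf 972398467303370440218648795544854208)))) (.node (.node (.node (.node (.leaf 984274298169003813156461395725142144) (.leaf 959533113432045570015005456903583232)) (.node (.leaf 960066675830502677873292967189685792) (.leaf 979377390202987731678924312765912352))) (.node (.node (.leaf 979401679773265014196197638775676544) (.leaf 969883603628636460334829845711475104)) (.leaf 977883921084658102548712419045322016))) (.node (.node (.node (.leaf 973075626927700763581616257856851136) (.leaf 973174456037701109684085090721377856)) (.leaf 969891599375066063342901646601750208)) (.node (.node (.leaf 957585220990179286957646141101428384) (.leaf 972840034225878914291127197620585760)) (.leaf 983272292166155990780114392943044224))))) (.node (.node (.node (.node (.node (.leaf 980880307520726202305559919970431296) (.leaf 984755658063715637167956401804882976)) (.node (.leaf 983345339259937187680421426004309088) (.leaf 959983018161372069188979495496440064))) (.node (.node (.leaf 971866692511049954120684429633631520) (.leaf 966685766003914391296758905740896832))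 (.leaf 967689696166915011287280176362274976))) (.node (.node (.node (.leaf 972972626289123653072580252514408640) (.leaf 962062357528281911958227018110524032)) (.node (.leaf 967573046099468332355928352849469536) (.leaf 967154369732125058941776745235855872))) (.node (.node (.leaf 980675272102135010467728540748521024) (.leaf 980251527864148051495933681822512256)) (.leaf 977625164113062764779502193423367200)))) (.node (.node (.node (.node (.leaf 969993787479676079284418412455962176) (.leaf 976423422817271631199632951681099392)) (.node (.leaf 980268558116657096837695308703016192) (.leaf 977049864829215713784390010819753280))) (.node (.node (.leaf 968836457862369277702814700102106560) (.leaf 981796006572380076149310705048685632)) (.leaf 970410041297908894897370326226310464))) (.node (.node (.node (.leaf 981602074878498710564628486595060320) (.leaf 973969576442067692244998743252157536)) (.leaf 960790918461368983897417775153907936)) (.node (.node (.leaf 966477307482971025536035425851934144) (.leaf 969148733343708192013450349035797920)) (.leaf 976606397162704828089484737795700896)))))) (.node (.node (.node (.node (.node (.node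 (.leaf 958202162492826866806009822641706080) (.leaf 966621851326857971178120527972044352)) (.node (.leaf 957497629203544443671149288826883616) (.leaf 958514116809461064975246587812521568))) (.node (.node (.leaf 961197554435067614948660018373319104) (.leaf 975757107370982589704975424658901664)) (.leaf 958289950594998809335050645286814848))) (.node (.node (.node (.leaf 961471757239138015889270330732132768) (.leaf 962247715263532264430029210591441536)) (.node (.leaf 968736630413079078095959007446488544) (.leaf 979196912399288278457078020438689056))) (.node (.node (.leaf 961276140936481928862949782454639008) (.leaf 962667389924383185433757890611722336)) (.leaf 979163989098671200872149071416379008)))) (.node (.node (.node (.node (.leaf 960873620802074804279704656988816064) (.leaf 976851792911606325372540114395320640)) (.node (.leaf 965910919110078035251809565884363040) (.leaf 965080987813203349386933361328131776))) (.node (.node (.leaf 967166997047764803570023141791483520) (.leaf 970010931714085288958910810859591232)) (.leaf 959847651736106691772562746361091584))) (.node (.node (.node (.leaf 963746125826408387306647639463932128)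 (.leaf 963713900467398817977213716022348928)) (.leaf 980875437726340771852822297393211872)) (.node (.node (.leaf 976240715844638919291196776618888864) (.leaf 956982803520339829117701290877728352)) (.leaf 957093367485932420338571483210199712))))) (.node (.node (.node (.node (.node (.leaf 964807107901264899399742080180437184) (.leaf 967979843625637330871386308361663648)) (.node (.leaf 965349537677203774422915431088070688) (.leaf 983416140759913140254910332614739424))) (.node (.node (.leaf 976691326093291423367470282262491840) (.leaf 980782636214929726099921324413857152)) (.leaf 957104542761173321797210406989679232))) (.node (.node (.node (.leaf 958605204580641432903379157058342080) (.leaf 958714332556770160112007255130883232)) (.node (.leaf 981615834475813929358144280364356928) (.leaf 981397866849150782022687239319365280))) (.node (.node (.leaf 978888074336348946272415443710295168) (.leaf 968700181148533643868779674404885856)) (.leaf 976321802697363553701058602717989280)))) (.node (.node (.node (.node (.leaf 975669361471670120260367291477532832) (.leaf 974940345247569885410761829219847872)) (.node (.leaf 980670134896516356806438397783673120)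 (.leaf 979373042587431243488813247222728000))) (.node (.node (.leaf 972752551381540576313982737941286368) (.leaf 976786969766498761725391528497940768)) (.leaf 982936320239760816305035986121214240))) (.node (.node (.node (.leaf 961008516550683020249696253245599904) (.leaf 982727170260370635038200015095403008)) (.leaf 975073180230677690370629295669524512)) (.node (.node (.leaf 982706363041341841248284062947643744) (.leaf 958163435281934993168036943036980736)) (.leaf 978072470058703721445151960223232608)))))))

def twoT10 : Janko.Tree (ℕ) :=
  (.node (.node (.node (.node (.node (.node (.node (.leaf 965827164733223677507026719469016416) (.leaf 956776629348966632962134427823485248)) (.node (.leaf 962323104581254496336103612506284608) (.leaf 980503790261641126796193230632698560))) (.node (.node (.leaf 958750953314749350685037493469388096) (.leaf 983545189745576998905527465247290560)) (.leaf 980396520521970939335267307421742464))) (.node (.node (.node (.leaf 959494987662468527595500060495432160) (.leaf 957546030550273757778642865679077792)) (.node (.leaf 981718678856786800732453490375437440) (.leaf 971611152200259678809131433468792032)))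 (.node (.node (.leaf 973046510107449491382016247773335168) (.leaf 957213330225945663865283913549765056)) (.leaf 971412384522206547170335827231491200)))) (.node (.node (.node (.node (.leaf 960962440568214576676009755079148800) (.leaf 970233871987922358191021654788879040)) (.node (.leaf 977536600903502143278649789687384352) (.leaf 969885277207199824544825437540636704))) (.node (.node (.leaf 959980961439030245164873793593267424) (.leaf 977776398135347091461292729913000128)) (.leaf 976278679948234178577791839634013408))) (.node (.node (.node (.leaf 980335557884580589315486747078567616) (.leaf 957504248498551969943849018229210304)) (.leaf 965949888950207515245295682121537984)) (.node (.node (.leaf 963762014520061303155764460854420992) (.leaf 971506080534639869797057028180459744)) (.leaf 976767032336363317249173397920434400))))) (.node (.node (.node (.node (.node (.leaf 959381269349505558815373856533371104) (.leaf 972966468661701772884816850483269056)) (.node (.leaf 963824087155246901336742607310598496) (.leaf 970013902848671929235875412234977952))) (.node (.node (.leaf 974961115679593076363488417343964576) (.leaf 962306986600315296583605339764178592))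 (.leaf 979357842929812331189074259245122688))) (.node (.node (.node (.leaf 980258151073580719472085763194665664) (.leaf 979080183045880872990518587350553248)) (.node (.leaf 972889517136786562932245911121904768) (.leaf 976971562477860034107423404223695200))) (.node (.node (.leaf 964040769166567801179267569640871424) (.leaf 967240664781845885542922997381746304)) (.leaf 961494215712698789681948793725064224)))) (.node (.node (.node (.node (.leaf 966322625595980859313521026176075872) (.leaf 978360590423629227228037793273923808)) (.node (.leaf 980783189763623125626439944114937120) (.leaf 984113183877424978610720514671587424))) (.node (.node (.leaf 971305189137355203696283921084890176) (.leaf 982198742207614249996232273558690112)) (.leaf 965891645398538147374851594517713280))) (.node (.node (.node (.leaf 983229986686822297147562121872549472) (.leaf 972397905149069075100824490330898784)) (.leaf 966501288585320996738881843251827232)) (.node (.node (.leaf 978122019646309641034662615004230304) (.leaf 963552967585950139017660012245961248)) (.leaf 961402834611505383529288958651940288)))))) (.node (.node (.node (.node (.node (.node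 (.leaf 982102852258681004228587434697628000) (.leaf 967334599508445279426794475876658208)) (.node (.leaf 981835449977949449221143064009411008) (.leaf 971506727022793994191338358398592160))) (.node (.node (.leaf 971837295223739352784176110876337632) (.leaf 966621235333950049144893579929404544)) (.leaf 969236124554003172623170830094015104))) (.node (.node (.node (.leaf 981926554040800678709072468679920224) (.leaf 963920583188745878087317066652234080)) (.node (.leaf 971717650983635573304629741763117536) (.leaf 984531599356041270995022716820766912))) (.node (.node (.leaf 981569921931667101576823418581703264) (.leaf 979520197388851984623755480715965792)) (.leaf 979038785477122831838617410908859456)))) (.node (.node (.node (.node (.leaf 966476673565769860287404453734570112) (.leaf 977670071221352897651087300311227776)) (.node (.leaf 972710459216747427254349685155235392) (.leaf 977993333474772151918585772050109696))) (.node (.node (.leaf 964578301137710108320594770890597632) (.leaf 975243079341820294183623395049609248)) (.leaf 982866884469424133310216361310932032))) (.node (.node (.node (.leaf 974106681202564255090742558159374880)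 (.leaf 974045660623494212758721252097740032)) (.leaf 980914659961428348204934511295237280)) (.node (.node (.leaf 984769619221235766656161688825539776) (.leaf 971186880629649202169041869832520992)) (.leaf 974262360466652473928008094966681696))))) (.node (.node (.node (.node (.node (.leaf 977819529241429542309699616628201920) (.leaf 967812708128359957499292641207097856)) (.node (.leaf 983309653045261259345203171707663552) (.leaf 963907978585473350753719258908624320))) (.node (.node (.leaf 984436662904049306345415805769156736) (.leaf 979401369444621181554679997403309216)) (.leaf 968502135355363158168520433676715680))) (.node (.node (.node (.leaf 962508129645485992914293890853833024) (.leaf 964729725772612138097316655878259808)) (.node (.leaf 983215755514663897259612088917575776) (.leaf 977673607397631160025723539341489600))) (.node (.node (.leaf 957144035405360901363745634349618432) (.leaf 972542947385330619720731134504056960)) (.leaf 978289530657302642954574528455577184)))) (.node (.node (.node (.node (.leaf 980943584926718446220084566110487776) (.leaf 962694568457942155833394097376513152)) (.node (.leaf 980251511901326575227295404538581216)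 (.leaf 956899186937047736787465241133269088))) (.node (.node (.leaf 959576101052925225498659124099031488) (.leaf 970362991647384625237594737593241152)) (.leaf 959657879121928590003822705670401728))) (.node (.node (.node (.leaf 965894397213540840378783876232186432) (.leaf 976571642766465794378533764231975456)) (.leaf 962618808878925940920560300029424960)) (.node (.node (.leaf 968629666284936625184072097862300288) (.leaf 981689168861316468141916645877958336)) (.leaf 978884374731784597103702524429653504)))))))

def twoT11 : Janko.Tree (ℕ) :=
  (.node (.node (.node (.node (.node (.node (.node (.leaf 962143764540510861377641207012342400) (.leaf 963587508668149727022276737987216768)) (.node (.leaf 960913802058102089107273100231488608) (.leaf 984815749841841934719723419459886176))) (.node (.node (.leaf 968736854400210605908728733400946048) (.leaf 963345352664453348814766528569520576)) (.leaf 969081613448376881728488059525662176))) (.node (.node (.node (.leaf 969825378933526303258064849090153952) (.leaf 975243711126640060363790098924869056)) (.node (.leaf 982947902289692601394527568480779520) (.leaf 962257740033326899711046230233632096)))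 (.node (.node (.leaf 957070465418851429856821402883301888) (.leaf 971016683695149605013366989215257184)) (.leaf 982017365371068553771516723049610560)))) (.node (.node (.node (.node (.leaf 976980460742285310623810332933664192) (.leaf 982896443892775068034039043918894720)) (.node (.leaf 976973734985457221465583468651578592) (.leaf 981917823509756957021460770331403456))) (.node (.node (.leaf 970330020426612061747987142240999968) (.leaf 962408062164840406970377534110648000)) (.leaf 977921866458569334449013424762502816))) (.node (.node (.node (.leaf 959729452380712060872686619252302208) (.leaf 969224339401676578686933701700490688)) (.leaf 980261077420599214178345114327006752)) (.node (.node (.leaf 974085007932497767670893024056090304) (.leaf 982806598933670870289146039181289728)) (.leaf 958269240077866663178067658771214848))))) (.node (.node (.node (.node (.node (.leaf 970474094796234094578012028655538720) (.leaf 957354177789664715323089187553028768)) (.node (.leaf 967800864630814605683131212307512960) (.leaf 966312545747846838024636643143042560))) (.node (.node (.leaf 962711076346079006741086231412976000) (.leaf 961079767742257850462853939419397632))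 (.leaf 956896640338616591507937637856428288))) (.node (.node (.node (.leaf 980797893779506136064400281601324160) (.leaf 970153428301203648055986333891647168)) (.node (.leaf 956851120507581685758259895696704928) (.leaf 984810107235043670189232000960877024))) (.node (.node (.leaf 984592233517021660209966295320760864) (.leaf 965991157030796755694390899449826624)) (.leaf 965937639610925351711037717657307456)))) (.node (.node (.node (.node (.leaf 967557483126809198988461513492596064) (.leaf 976331030133661749999764106441459232)) (.node (.leaf 966585026964690433135323781286704320) (.leaf 963307367027979070226565062738662816))) (.node (.node (.leaf 958371914291231585367252230427973248) (.leaf 965083452748640414145640894971355488)) (.leaf 967537582235455800245242246531162176))) (.node (.node (.node (.leaf 976252523642870488233780597210269984) (.leaf 963880126586437487793998247776029280)) (.leaf 962623486313357836062517080300652896)) (.node (.node (.leaf 977046190855758915403790323795921088) (.leaf 960640064861893269029851195625877056)) (.leaf 974943008429066657587692861727491392)))))) (.node (.node (.node (.node (.node (.node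 (.leaf 958720800812659694126843848831514240) (.leaf 971305199431213891283852366962701984)) (.node (.leaf 982738018371065241460438713443439008) (.leaf 958472150285712259250802657501158976))) (.node (.node (.leaf 958249314086188156215991318674250912) (.leaf 978033105863642962902874467029336320)) (.leaf 957029395894988052259822643139074592))) (.node (.node (.node (.leaf 983188748397277109430715625763885664) (.leaf 983138348751428287676689919334723168)) (.node (.leaf 958025212309654398971358277187098784) (.leaf 981690796877955459251085554345427360))) (.node (.node (.leaf 983373934786810415949455429611065952) (.leaf 969963302177651977315564702875143456)) (.leaf 957393618583504529110702533566447232)))) (.node (.node (.node (.node (.leaf 972480086110204185768116652321913472) (.leaf 976897350451229802180635021958169664)) (.node (.leaf 971591173215681553856898597547780128) (.leaf 957149104775338607039794174724512896))) (.node (.node (.leaf 978266687809409507337551536581188896) (.leaf 972837036188536207901251040431278240)) (.leaf 967291804552348531541472099472712192))) (.node (.node (.node (.leaf 982689641024623481069643630654402048)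 (.leaf 962048544138712618350727335442263616)) (.leaf 968932679603743545183849951402660064)) (.node (.node (.leaf 977871347121042598938542237140080224) (.leaf 981768391822999843173498766766919232)) (.leaf 982098565160923003432448464720614880))))) (.node (.node (.node (.node (.node (.leaf 962617465735897946208559957143992384) (.leaf 978894113034785338246885437432257056)) (.node (.leaf 966542624242488063439542965435057280) (.leaf 960861471329217244347158331877609920))) (.node (.node (.leaf 973623216931470183481765439122844288) (.leaf 975676765331149196813664780642977952)) (.leaf 958611530476881334933007774575540928))) (.node (.node (.node (.leaf 978958797958390262235416712259752032) (.leaf 978033067395283345874646500636901728)) (.node (.leaf 976258899485305723298565588610747744) (.leaf 965903593908055526813784332382427456))) (.node (.node (.leaf 971772797884363696469509650261712416) (.leaf 972524083285498107485469028513883776)) (.leaf 977009343063262788406254519808634464)))) (.node (.node (.node (.node (.leaf 980218844043184662725892304652124704) (.leaf 980334370785846315057731998905049408)) (.node (.leaf 967240669580872753899023419613388448)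 (.leaf 973893219499819325455774894920450528))) (.node (.node (.leaf 970354376996471884175384725872190880) (.leaf 981815089427344737669095162471943744)) (.leaf 969947975088625688635470782298340480))) (.node (.node (.node (.leaf 962537524892776132915573501217703488) (.leaf 965369396326632908357114390318320896)) (.leaf 966226479301516115812223662975667264)) (.node (.node (.leaf 959846827572618519129080668487158432) (.leaf 982700618037637186473178420438345920)) (.leaf 962061028793862442454546968821021248)))))))

def twoT12 : Janko.Tree (ℕ) :=
  (.node (.node (.node (.node (.node (.node (.node (.leaf 979324245122105279511863676829218464) (.leaf 973689652055777599307000184092928064)) (.node (.leaf 966151456359729292299716351347634528) (.leaf 977533136799421664522029689336895040))) (.node (.node (.leaf 959579398804546175295697713543616576) (.leaf 971658451622140372335836528778628384)) (.leaf 959931727840702592187434793705351328))) (.node (.node (.node (.leaf 971829539788464742776912457993787904) (.leaf 972837518554382088090083975866927744)) (.node (.leaf 965325486853338945376586793951433856) (.leaf 963879808457251697185631410257648032)))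 (.node (.node (.leaf 968671624359036503750016529430259392) (.leaf 969924660569506663658267313481791808)) (.leaf 973073530969653557118537829982487808)))) (.node (.node (.node (.node (.leaf 984807500446620245996109877441281440) (.leaf 967474796853040195083257003820887744)) (.node (.leaf 961049299161958666429185888110263712) (.leaf 977957316541317245996085959411259552))) (.node (.node (.leaf 981533687166776739078892477158110560) (.leaf 956886440174604747174164062306679296)) (.leaf 976787048603176639629050092702766272))) (.node (.node (.node (.leaf 970293140158623209060195462965994560) (.leaf 963743148349082852984067895985446560)) (.leaf 980785931828392178996781515872015872)) (.node (.node (.leaf 971748718685044706545414046229760320) (.leaf 970452940291513787348023603051832896)) (.leaf 982056849638774396958145789310700224))))) (.node (.node (.node (.node (.node (.leaf 966059186956358652661233627785482400) (.leaf 971539669764742404667644486814805696)) (.node (.leaf 964520231901658849142483719201822368) (.leaf 978192810098705167971539461070689760))) (.node (.node (.leaf 960879975196727618321231244199997472) (.leaf 965865203768022380618423961873061568))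 (.leaf 971251876129538576517200647983581728))) (.node (.node (.node (.leaf 968586646839696665224471157542552832) (.leaf 981962884661128595168761218640164928)) (.node (.leaf 968706158618196339526077843066470784) (.leaf 971341652652114783386291132366897280))) (.node (.node (.leaf 971327788879587223098030135954150528) (.leaf 969028343937167827945777846412805408)) (.leaf 972399056712666272630075249368902784)))) (.node (.node (.node (.node (.leaf 972876876882247539593008971790332544) (.leaf 967971712825693629866231694899625344)) (.node (.leaf 965948076606026849690809472121517696) (.leaf 967253618169272161382941496933824544))) (.node (.node (.leaf 957463337372916691991112628881832000) (.leaf 960058132187096830642892114072061568)) (.leaf 965383694686267046856826303081000000))) (.node (.node (.node (.leaf 984758406917167964320576948980417760) (.leaf 976786033992822531946043522221874560)) (.leaf 978816821541130462267534259658346976)) (.node (.node (.leaf 976697623804516466406286140037434496) (.leaf 980268327984216098290730937411445792)) (.leaf 960861455502945229159074042487391584)))))) (.node (.node (.node (.node (.node (.node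 (.leaf 981394145138371703600341207836308128) (.leaf 958371919943410818251248548428853440)) (.node (.leaf 976567978442062965317397521014759008) (.leaf 971794948077288530226893181754099904))) (.node (.node (.leaf 969276843864598843259901904381301888) (.leaf 962181444504088604454922878453266688)) (.leaf 968753340086086181039839037150138880))) (.node (.node (.node (.leaf 969080150222632711555053013303822432) (.leaf 963274235335118803068255705442270816)) (.node (.leaf 962340186012736215247810558589327392) (.leaf 975144172465098984468324445442147904))) (.node (.node (.leaf 969101336745462701502303481462632544) (.leaf 981688135152124630106075934962552416)) (.leaf 982950698822672205054589262697792928)))) (.node (.node (.node (.node (.leaf 971696897103905076030879319014880928) (.leaf 964080814910314216856708639852277856)) (.node (.leaf 979366119597249759226177035417465184) (.leaf 967571306175763040450097491764985888))) (.node (.node (.leaf 962182624288213364200256737753126464) (.leaf 965091094547298100772599417515907488)) (.leaf 975143248923445778864697119789847840))) (.node (.node (.node (.leaf 963600073021774348757517857140162240)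 (.leaf 961402027656472530408853356095250528)) (.leaf 959817319424167267420210775405044256)) (.node (.node (.leaf 976276259152409045031079216247380576) (.leaf 975308407437685088372059391734822976)) (.leaf 977736420126273810660433978324193760))))) (.node (.node (.node (.node (.node (.leaf 978807824974621899163293662757729920) (.leaf 957151278706299869378883671720169984)) (.node (.leaf 967850149244602825797766942098407680) (.leaf 965047878030308263638721199332862144))) (.node (.node (.leaf 972671137092155931563555860457262752) (.leaf 962734102188620761672823200766513728)) (.leaf 957536934901750251341595501434092832))) (.node (.node (.node (.leaf 959467478191368602338182251679423840) (.leaf 971204783427139736205251238924035680)) (.node (.leaf 967159670968258769912494688450007712) (.leaf 971858690471300619738003018887571104))) (.node (.node (.leaf 958843365297849705471589708840748544) (.leaf 979018449368813413797936782732561920)) (.leaf 960996627372657374146224701316780128)))) (.node (.node (.node (.node (.leaf 967893543096304930483336140671829152) (.leaf 980750098770459139501324269700490336)) (.node (.leaf 959972296273729602473717661485678880)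 (.leaf 980497516505435810758244446253797760))) (.node (.node (.leaf 965983019642950674854381606150785632) (.leaf 983275381330290851335858017157917728)) (.leaf 966632018513108355683401779143818880))) (.node (.node (.node (.leaf 979643603125062338064110328674953248) (.leaf 967287817456391638884661828457109920)) (.leaf 978101523695039727975418473342119392)) (.node (.node (.leaf 975683464952448200810347254960885440) (.leaf 972563905672447144062831511860527584)) (.leaf 982248785864187956851740963542109664)))))))

def twoT13 : Janko.Tree (ℕ) :=
  (.node (.node (.node (.node (.node (.node (.node (.leaf 959386225453596443289369803289218560) (.leaf 984469157863784206089537402918046176)) (.node (.leaf 962670983296309303139233049318021760) (.leaf 975277263127259752270079995629614112))) (.node (.node (.leaf 976495752751654779818954562669786144) (.leaf 966379700424207579035431267840084032)) (.leaf 970376753596613676521455110737834112))) (.node (.node (.node (.leaf 958238759331020712864850642125503168) (.leaf 980150579973944798627390453025279200)) (.node (.leaf 977707868129268748357723004742617344) (.leaf 974211482056358280471985441367167360)))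 (.node (.node (.leaf 964798039940815852896562850325450016) (.leaf 962002346078540088051404766030876000)) (.leaf 980344579203142018467433080651322784)))) (.node (.node (.node (.node (.leaf 974206768126776268012033221727469152) (.leaf 964605191858929941238250980081089664)) (.node (.leaf 966381444491566563489590565176382848) (.leaf 982939064004699954337886770845455776))) (.node (.node (.leaf 982974944396672035336317015040569824) (.leaf 973884039045262892216797427819336192)) (.leaf 961440101990406652368475600635705760))) (.node (.node (.node (.leaf 966379968174566677879176422321670464) (.leaf 958760493683926637801514565499426496)) (.leaf 960099630809903663813351613179315776)) (.node (.node (.leaf 958766040438177741462454466748174432) (.leaf 961169966333884359313522304518113568)) (.leaf 970417835946569166092436959784976928))))) (.node (.node (.node (.node (.node (.leaf 967772761121140495377027164730054208) (.leaf 957380968655669526102894165336839552)) (.node (.leaf 963754242881296138346916544355869376) (.leaf 961187287404293043120309349631830048))) (.node (.node (.leaf 959912385798702701955603922880344224) (.leaf 961935883343313464366676771877533984))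 (.leaf 958686960487135236280890124962203136))) (.node (.node (.node (.leaf 960035233273306306328584152072366368) (.leaf 982856753171275016868706309925746304)) (.node (.leaf 964691679046245747336372374032421568) (.leaf 957257719055782576305259347099072064))) (.node (.node (.leaf 958288972538797639424448447153260800) (.leaf 976518420026078523951576598373113088)) (.leaf 957010644906096473448518849834335648)))) (.node (.node (.node (.node (.leaf 971174404136265038731633167020788384) (.leaf 957220005057253262148232305931556160)) (.node (.leaf 973072056686334232143945586281237728) (.leaf 964820345665345360401387214455911744))) (.node (.node (.leaf 969143075331755586456958860672939648) (.leaf 980429123098341450873541323692056800)) (.leaf 982208825302474636539026119940185440))) (.node (.node (.node (.leaf 967164841954498708648259138637404416) (.leaf 973738647758025922866313996462003520)) (.leaf 959538466543086492101607994914610656)) (.node (.node (.leaf 966422655013547647176564543889823808) (.leaf 966268504231045057558194946238416096)) (.leaf 966482584306771438082330394822263264)))))) (.node (.node (.node (.node (.node (.node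 (.leaf 964739750612073252472025608559429120) (.leaf 969112089461850283120132831759632064)) (.node (.leaf 984073636780140991061647573448476256) (.leaf 970242283555232588706269502586434208))) (.node (.node (.leaf 967742296461094923844816095174863296) (.leaf 984251250035320110660419353079849024)) (.leaf 971701367077410004108642961342288416))) (.node (.node (.node (.leaf 959934024196377077197059034992824672) (.leaf 984352296286445417709163674508901664)) (.node (.leaf 979384975992109911275528348977271104) (.leaf 977678585889071190561897856702230176))) (.node (.node (.leaf 959335882612662964220731525231642976) (.leaf 983991096238584451958789165273359584)) (.leaf 984154894216656944394451396779978784)))) (.node (.node (.node (.node (.leaf 984688541323124696769847762355340608) (.leaf 973733381181767553136206248768080224)) (.node (.leaf 956905926207876085543500553118779872) (.leaf 976867529765076997732517355278468512))) (.node (.node (.leaf 979207618783720667827075309015446720) (.leaf 962049857076703456059718290895243296)) (.leaf 984683910236004073714224170054176032))) (.node (.node (.node (.leaf 984431597246074873805947543813111232)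 (.leaf 966621833111857659092957494205818208)) (.leaf 970447720049922808983941646753674400)) (.node (.node (.leaf 961447283477409934347030278258667776) (.leaf 962499470057825427143981515352356480)) (.leaf 976867178409125140333618485662032032))))) (.node (.node (.node (.node (.node (.leaf 964934625047389558582989320402701856) (.leaf 981629737617938761748001386533565568)) (.node (.leaf 956976911799493170810652515987243392) (.leaf 982739998168475020184158473414980288))) (.node (.node (.leaf 977750660461110925308035761228005696) (.leaf 973972222277382040122230505029634624)) (.leaf 968621239740677948326463863279555808))) (.node (.node (.node (.leaf 969991117902185422044305159375930848) (.leaf 957581344199697306711815352678467872)) (.node (.leaf 982940848418556389590378919236125376) (.leaf 964976960711006820906047608386563264))) (.node (.node (.leaf 969027854065066421927398145650726432) (.leaf 980113559755973577258064041885469248)) (.leaf 972717349779368082358095538462802176)))) (.node (.node (.node (.node (.leaf 965336306837706463679141589393097280) (.leaf 964521449598238900599628328473805472)) (.node (.leaf 970321376828941672947592014335465696)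 (.leaf 973113617564324144284074752559432000))) (.node (.node (.leaf 967799940880893036985097056002901600) (.leaf 976772390123639460456967887231426752)) (.leaf 967313042028088924810800504742876832))) (.node (.node (.node (.leaf 959857643434950585995176067878498496) (.leaf 973075400477660467446683357989079264)) (.leaf 977069989785998065606098259864042656)) (.node (.node (.leaf 980965720777325878349860438871183424) (.leaf 982202902653803349834753457176750336)) (.leaf 982813555289280244360128354802248864)))))))

def twoT14 : Janko.Tree (ℕ) :=
  (.node (.node (.node (.node (.node (.node (.node (.leaf 970478105224202686277638540428267200) (.leaf 961075049138862764426394061019631776)) (.node (.leaf 979527180508828962460296519218401952) (.leaf 975343494757636762322207423407148224))) (.node (.node (.leaf 984311814397495098764199940160401728) (.leaf 972880184767211058613032508868169024)) (.leaf 975529684670355178271669914501024000))) (.node (.node (.node (.leaf 969280318732172291218994488591681984) (.leaf 981818890172603138376298127638530656)) (.node (.leaf 970214311351008653765807817709897888) (.leaf 958673776177600397480270140737245216)))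 (.node (.node (.leaf 977829428153578116313496491205840096) (.leaf 979212318428470192196294133858127328)) (.leaf 980755522937530819656062121458911616)))) (.node (.node (.node (.node (.leaf 973163533025605927110689151074539104) (.leaf 963791040684379666988657121429690016)) (.node (.leaf 972891625376464661389256543305273376) (.leaf 963992928973521788822568900850361408))) (.node (.node (.leaf 976707738776441294058329583491745248) (.leaf 968916629819140013139519606652972160)) (.leaf 966015287826805489928784434811286912))) (.node (.node (.node (.leaf 967282150633483433902923651306980448) (.leaf 960057011028882284013434840788583744)) (.leaf 970522977834929662634806896312631328)) (.node (.node (.leaf 968752789744658978050689098936884576) (.leaf 979412391526740891475202783198624032)) (.leaf 974921101744866178220103207042275840))))) (.node (.node (.node (.node (.node (.leaf 981898433165118616649721106629333216) (.leaf 962211932617713537378604098028650784)) (.node (.leaf 972894206259939866122963492070233376) (.leaf 975239980089012118458497404917817792))) (.node (.node (.leaf 963821859847366050351717120922074528) (.leaf 959785536862785945135139092573965984))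 (.leaf 968569383391941565559293937007761952))) (.node (.node (.node (.leaf 969801418991931163186924689587122752) (.leaf 972836389961416427656761284729750848)) (.node (.leaf 978187048920175058747206691705200768) (.leaf 968617076318401820304378458151302624))) (.node (.node (.leaf 969224665318992655074220222499392928) (.leaf 974422835055820055854818812438287936)) (.leaf 962242601760816109906931866881445504)))) (.node (.node (.node (.node (.leaf 956866455533236412061619007364213248) (.leaf 974228994255960741045973150031623712)) (.node (.leaf 971837611937255123972107667533909536) (.leaf 984110568603809697733905321206259360))) (.node (.node (.leaf 971351633091584125175847226166136032) (.leaf 967798867759440849739809206384080544)) (.leaf 981487431501176320148769418259015328))) (.node (.node (.node (.leaf 965297564391357930772788437530720544) (.leaf 976891106283922784363995535960901312)) (.leaf 970245916497194444188274016528221344)) (.node (.node (.leaf 972952508753426974663207755260705088) (.leaf 980459931597198112459675628448630240)) (.leaf 979382463271028133534379816670011584)))))) (.node (.node (.node (.node (.node (.node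 (.leaf 978025605090758191128819819825670848) (.leaf 984528579787228203262365042012210240)) (.node (.leaf 983222212393480377986610784830143744) (.leaf 975385459306704747294028745085683904))) (.node (.node (.leaf 965367443380916189525088558443564448) (.leaf 981575274701704375137045107229149408)) (.leaf 958028894729858031912196937249904128))) (.node (.node (.node (.leaf 970379687513480801349375238828662016) (.leaf 977505963158400513797574785696862688)) (.node (.leaf 959903748748871700961073968263680384) (.leaf 972933445320280838664846016337562944))) (.node (.node (.leaf 969907496921408191793922502315780352) (.leaf 968935613236319585551824901700297792)) (.leaf 961314089584610746448936722910316864)))) (.node (.node (.node (.node (.leaf 960632255582121344033426975707480160) (.leaf 961005971498341361743584648666591744)) (.node (.leaf 963340310073253416344232682484050400) (.leaf 977661953365510445306302438356163168))) (.node (.node (.leaf 963793845306252976935626785741636672) (.leaf 979092370909945248125316241250505024)) (.leaf 960620146437875683447719206171364576))) (.node (.node (.node (.leaf 960670766920446220337534367865443744)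 (.leaf 973724307617808379138644401166111328)) (.leaf 984280358220894267575641423170031808)) (.node (.node (.leaf 966039207851971566391226142646700320) (.leaf 959540684859401227864977440289491296)) (.leaf 975714925900398216967739520749615744))))) (.node (.node (.node (.node (.node (.leaf 978065265665594322442062982806646272) (.leaf 983344597024731304930509437406327040)) (.node (.leaf 963520080987698286851701261277926080) (.leaf 966135357243255861948390963763252928))) (.node (.node (.leaf 976856987837932468729712300682205280) (.leaf 972391449558745329658595251589500960)) (.leaf 975234161812460479061200042301374688))) (.node (.node (.node (.leaf 981562205550587008086620863975239328) (.leaf 962057217334219876293864110038636928)) (.node (.leaf 968909804943306539986816159834528256) (.leaf 977517354696958597564264266424565856))) (.node (.node (.leaf 960172385450172021618290211150907904) (.leaf 980459669174341023121711318010581024)) (.leaf 975629862092914677428041518914505120)))) (.node (.node (.node (.node (.leaf 963622927142280261465895392912189824) (.leaf 977864778700413098106900080323352768)) (.node (.leaf 966473681235190043376714387635092128)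 (.leaf 971217134780243919484067678346369120))) (.node (.node (.leaf 972466126661229157924661737962320192) (.leaf 984152594044620681875769608269800896)) (.leaf 980594266895055903678922709974268224))) (.node (.node (.node (.leaf 970193312486626572198691738155747776) (.leaf 971834535853011665363555413464011296)) (.leaf 957236612433984299482282197595132160)) (.node (.node (.leaf 980216786898376226585069571045106304) (.leaf 963762128136227029935099601938483424)) (.leaf 960904118428531725882110659653064096)))))))

def twoT15 : Janko.Tree (ℕ) :=
  (.node (.node (.node (.node (.node (.node (.node (.leaf 958598114472283652290683633751464160) (.leaf 973172895040512400146486433411374432)) (.node (.leaf 959670381195427762597325249624756736) (.leaf 961980081873029384038186680427072960))) (.node (.node (.leaf 974291352857205949685821752779212160) (.leaf 971181669795148463207169477145341024)) (.leaf 960618747269419406253601654180066784))) (.node (.node (.node (.leaf 959463801192861662428152277537214880) (.leaf 983256378330816995716188194163937888)) (.node (.leaf 974915103061229490651042776245508192) (.leaf 976721187096881757573991194878553312)))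 (.node (.node (.leaf 962614061375905328253246050787632800) (.leaf 976526269443436688572632489949448800)) (.leaf 959750036597205514717121841356884672)))) (.node (.node (.node (.node (.leaf 977824260906321079319632217114294368) (.leaf 971227404595400805491964249081197664)) (.node (.leaf 971189672974957891957897247609364800) (.leaf 958651086081191008501493164070622432))) (.node (.node (.leaf 984432763659422200272198999308806304) (.leaf 979625865532831480975976172067959200)) (.leaf 973164537941262032953676790926691360))) (.node (.node (.node (.leaf 972567336789162655296991867828809856) (.leaf 967372828034411777762668515260154336)) (.leaf 967965997864490485887880173164544448)) (.node (.node (.leaf 959585445367930203413700142541391328) (.leaf 982701032344968573780657084797489216)) (.leaf 975118203022426698581389555277249056))))) (.node (.node (.node (.node (.node (.leaf 983136863949338911709139886886265376) (.leaf 960026437212517736768290315715328672)) (.node (.leaf 971167981976338606682962730536356064) (.leaf 967165772389411000595169306554312928))) (.node (.node (.leaf 974460847229832113740702287306200448) (.leaf 969763145139853221290127813235625152))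 (.leaf 960033243712395851226997048130910720))) (.node (.node (.node (.leaf 975316926753749867305852685494192160) (.leaf 971499029974005880243825178495336544)) (.node (.leaf 962000451412484689740229453522646656) (.leaf 960988494348463366129920138298427840))) (.node (.node (.leaf 959542307288737045651662613002661248) (.leaf 973055185782693078608067901146710272)) (.leaf 979045917017727219518067992436330144)))) (.node (.node (.node (.node (.leaf 968689805756314265762627811551612608) (.leaf 959504087949532106673795641919216288)) (.node (.leaf 959623442227075433368573309460389440) (.leaf 970352557449481457249216113627372960))) (.node (.node (.leaf 962129442352619369056555209613085088) (.leaf 964535231593002833961004841790255296)) (.leaf 976929064009558200149624870714847296))) (.node (.node (.node (.leaf 982950908416715647018117349888133696) (.leaf 977599089344389497433676986120739264)) (.leaf 980901919902273741126631439184507936)) (.node (.node (.leaf 971619254978215176116260597846914144) (.leaf 970281362132053210474940005362321952)) (.leaf 959894394238799382121683517472913088)))))) (.node (.node (.node (.node (.node (.node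 (.leaf 973122181770973438990522784456880832) (.leaf 973658800778073773378549354867168576)) (.node (.leaf 963707348244911159884533040007419168) (.leaf 975638501761295680404421736573577920))) (.node (.node (.leaf 983235733782333124387440478865862240) (.leaf 969918401731886269965745202625186272)) (.leaf 970569359713651305845929622844820960))) (.node (.node (.node (.leaf 975508618641191405609263877768791328) (.leaf 976560692502710859063228007449665696)) (.node (.leaf 969881384710151396760267819480929344) (.leaf 961197457273672739121263646576223392))) (.node (.node (.leaf 975447434527273472363997275651018016) (.leaf 970442361987917681840676684408476896)) (.leaf 971700478710087141057207436757501152)))) (.node (.node (.node (.node (.leaf 983234423838836497878084361041265120) (.leaf 978001401160326239955038668038814944)) (.node (.leaf 973903877784304176873858142827646112) (.leaf 978831242848709601098156821734203936))) (.node (.node (.leaf 973777787478858446986137208740129408) (.leaf 984158855697765637374575873004447360)) (.leaf 963848125920653395967680446986802784))) (.node (.node (.node (.leaf 971025563668785408801941099448154656)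 (.leaf 980546855721357477888633033769212128)) (.leaf 975224107276228063237107610260523552)) (.node (.node (.leaf 973167886839292483213348731529472576) (.leaf 965866630440796567762062450192227808)) (.leaf 962138553594751585118549156098946720))))) (.node (.node (.node (.node (.node (.leaf 962486639314586914726897111578321440) (.leaf 968819111217611756848813508062828704)) (.node (.leaf 973944967524097974320493227660681344) (.leaf 961959576103383645007537300744220192))) (.node (.node (.leaf 977654716018418606841410715147188576) (.leaf 969149448083754600506092861964927648)) (.leaf 974387969523241992741614860149925472))) (.node (.node (.node (.leaf 983375302744298038705783533644135616) (.leaf 959826178133858401385587631033733440)) (.node (.leaf 959770766683406733316755932049347264) (.leaf 973641117588428423890855844532061312))) (.node (.node (.leaf 976518757587126728795628596849985664) (.leaf 978327861849297556748582003140837472)) (.leaf 960957197621006488751791636146068512)))) (.node (.node (.node (.node (.leaf 974174810130096461373539269685644352) (.leaf 969956307705459085140781265987904928)) (.node (.leaf 967729821186276047925495269322732736)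 (.leaf 956950919478430396518662780798651872))) (.node (.node (.leaf 971700701237843801065885381181999200) (.leaf 958267252067388223102120902865925792)) (.leaf 965864247525378773622026266239708448))) (.node (.node (.node (.leaf 976655190742464106834599912697020096) (.leaf 963278145683144565840772780128583840)) (.leaf 963790398002128660363453953870579104)) (.node (.node (.leaf 967905032314742705572669434651423968) (.leaf 959689413357306199976981325314924032)) (.leaf 967859097265926605777517352312329248)))))))

def twoT16 : Janko.Tree (ℕ) :=
  (.node (.node (.node (.node (.node (.node (.node (.leaf 981558395630839577952433231563733536) (.leaf 971123461927250548926016461098534368)) (.node (.leaf 969950988926386791298700000981210816) (.leaf 974345469552255620281969166282035296))) (.node (.node (.leaf 959741400476024904130960825052246176) (.leaf 982142847509576161865665244005876160)) (.leaf 966198259123608685399857369214169248))) (.node (.node (.node (.leaf 976643240945964756670725175471835680) (.leaf 984170355687720584246215511608018144)) (.node (.leaf 976748423628807159299248717546177728) (.leaf 962533689591360617663795574179467520)))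 (.node (.node (.leaf 978800702180066419118827815847500992) (.leaf 981818813153752489120759972731324512)) (.leaf 970277806728510451353709249937736832)))) (.node (.node (.node (.node (.leaf 976457455613239770314658036377630048) (.leaf 957585013207452529863775983584496992)) (.node (.leaf 975155647902242306558952692248888512) (.leaf 982238420427438081251585043453090336))) (.node (.node (.leaf 980666212321470449279373750133197888) (.leaf 956951367374807103365340853940914560)) (.leaf 970442491977490112515580863271615872))) (.node (.node (.node (.leaf 971676347452571930502903519541561600) (.leaf 967803399489174020391115338735400640)) (.leaf 980428032505667411208578941717680608)) (.node (.node (.leaf 960710130453043989539224210670731872) (.leaf 976398495122511401540855096169681216)) (.leaf 962469634823679277860286350921872896))))) (.node (.node (.node (.node (.node (.leaf 976221098927832938405921894189085856) (.leaf 969708463522649961197436918843290816)) (.node (.leaf 956868409268466663313940429050154656) (.leaf 965287152883913437296479169061391904))) (.node (.node (.leaf 958562299721109872221229885740453920) (.leaf 967209909353581292160334614799719776))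 (.leaf 959939398292328948748093872811885600))) (.node (.node (.node (.leaf 984611644791431097266364296255909952) (.leaf 957474617392986972728721669546460512)) (.node (.leaf 979204973519933372131524431617503904) (.leaf 980600875968362060584108082286018592))) (.node (.node (.leaf 960960328420095253892491469073535456) (.leaf 971738426243806815479186061248780576)) (.leaf 959622059287163025717602752665103968)))) (.node (.node (.node (.node (.leaf 964679744130905900839102979497148704) (.leaf 981688316317172437135355650406238528)) (.node (.leaf 970047298177240021757610567374390304) (.leaf 983421116186374416473185307599439424))) (.node (.node (.leaf 979319950941892089588003979002433920) (.leaf 965257048689985913446518585560797888)) (.leaf 967255766863323404059266983551748608))) (.node (.node (.node (.leaf 963885391372161483050904218378850336) (.leaf 976605793453332954675234589113989536)) (.leaf 980304104331840567867911186409992512)) (.node (.node (.leaf 979091063671917965997264516756835616) (.leaf 980622159527673153961256951371518528)) (.leaf 969886536205261724444374113247637632)))))) (.node (.node (.node (.node (.node (.node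 (.leaf 971207116935179023317195922454644864) (.leaf 973089783533449869623829796022175840)) (.node (.leaf 967110160521413782824761644246277536) (.leaf 978359191870206042332835653591770304))) (.node (.node (.leaf 963725707108808034372873751329717856) (.leaf 975425611592892740263065727030186144)) (.leaf 975019225884672191842831404865997984))) (.node (.node (.node (.leaf 980786743206537930507735956372636064) (.leaf 976237483106456889306315600042602752)) (.node (.leaf 981933732348167326448716736181446688) (.leaf 974207998023796136571652797546308160))) (.node (.node (.leaf 975727905621908624056099041727161984) (.leaf 975636280844649438805510500645411360)) (.leaf 959846544207244875818792450937817664)))) (.node (.node (.node (.node (.leaf 972505073469410410453351383327704672) (.leaf 961471251181316898495616947888568672)) (.node (.leaf 975079744176187200337981627796210112) (.leaf 984312335299275495148006346205929024))) (.node (.node (.leaf 982950360254344013414614139195169472) (.leaf 963347335739721964755674419071358208)) (.leaf 974453612757496949248931877246507616))) (.node (.node (.node (.leaf 958411493837607088478774629746587136)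 (.leaf 972828491455532372406691826065515904)) (.leaf 962167828825321694040519163558168064)) (.node (.node (.leaf 971138705012514210438232219795622944) (.leaf 980859438586286224077354345989385920)) (.leaf 962509534714904080577150877651023040))))) (.node (.node (.node (.node (.node (.leaf 978961739792428545131475887126652416) (.leaf 959907745955219967714919273736901184)) (.node (.leaf 958163475280192475740026569535867232) (.leaf 964090211183374011289643642974184608))) (.node (.node (.leaf 976894697507631445567997800808003040) (.leaf 960050567090119650172995616379164864)) (.leaf 959664081129870325123383817006036224))) (.node (.node (.node (.leaf 976286666979157304475439098113572544) (.leaf 970169103467713445937767025879635040)) (.node (.leaf 969707361367947079933151835469337024) (.leaf 964083226098588529970835970841911968))) (.node (.node (.leaf 984237107856811365013911186909496576) (.leaf 980545786639952877928434102870414400)) (.leaf 962225640905024089644608310642617568)))) (.node (.node (.node (.node (.leaf 958604496406515507403758743534742848) (.leaf 975555518492569598678748077073505664)) (.node (.leaf 980236512026938902276670402729330080)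 (.leaf 961406592418237104045447923673708896))) (.node (.node (.leaf 956819450780942521655802406122957152) (.leaf 982047701442619338015353653386752192)) (.leaf 964891319090506262603838701935497792))) (.node (.node (.node (.leaf 984037042361452061575227810453656704) (.leaf 958436591816134907943574359501129344)) (.leaf 973769947262434592619456633853133184)) (.node (.node (.leaf 965326613894868039306772935510274592) (.leaf 981636080744682213335532537392473216)) (.leaf 965241722728630980643854446833572160)))))))

def twoT17 : Janko.Tree (ℕ) :=
  (.node (.node (.node (.node (.node (.node (.node (.leaf 964654479796976927270835521377568928) (.leaf 969233079365513747969164657021798560)) (.node (.leaf 981475997813560863629859902614550592) (.leaf 984229880063072774764178887846312608))) (.node (.node (.leaf 970286601186311422083273616112355904) (.leaf 973972270124890055923041342091593760)) (.leaf 981568097957775701878562628559354176))) (.node (.node (.node (.leaf 984035573042696110403979758451872256) (.leaf 958281190648192288442720028249800800)) (.node (.leaf 984473507598020792102892709358158272) (.leaf 980148316985010514988312058449569152)))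 (.node (.node (.leaf 962376673107377339493422426053905696) (.leaf 977831646087312382938164854335671776)) (.leaf 966404423783969186738312222634089088)))) (.node (.node (.node (.node (.leaf 978308530219271422805781992661601536) (.leaf 958719676489456400085729420518010144)) (.node (.leaf 962579806364910212921570219971920320) (.leaf 978280369401956307292422067486731296))) (.node (.node (.leaf 967254389589694539858424906243186912) (.leaf 966682665355697613578129924790047872)) (.leaf 975636194206190613830766752301192256))) (.node (.node (.node (.leaf 956904399656272167834682856139172256) (.leaf 980710572656520590244482573705745600)) (.leaf 980345805034756403333378442153795744)) (.node (.node (.leaf 966217491155345841049439074044598880) (.leaf 960963060131753573199115599212784864)) (.leaf 971877817938951105270620615777722944))))) (.node (.node (.node (.node (.node (.leaf 984351225618112447546634492902486592) (.leaf 981605877438384926569103236808754592)) (.node (.leaf 968715315892082330842295468739177664) (.leaf 982931939224102431197973188099288224))) (.node (.node (.leaf 981874122298095464889613135060214080) (.leaf 966586212580368643863306030241853088))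 (.leaf 981730005735958458713027475536023776))) (.node (.node (.node (.leaf 961488471042232939379244596683082368) (.leaf 969135643630627973253421053145006560)) (.node (.leaf 965257964760546919337036473072797824) (.leaf 976292573375166613906043729737263520))) (.node (.node (.leaf 966079467585338038471873626657772704) (.leaf 963469838066743315075219632977793536)) (.leaf 970054545504794246889566504793226848)))) (.node (.node (.node (.node (.leaf 978198133161958261272066817662212320) (.leaf 973724393712682716087722372613390816)) (.node (.leaf 966518991128141263643848483545420992) (.leaf 963959757977958701891079246152017952))) (.node (.node (.leaf 959372775395739939266793367091190816) (.leaf 956829271798653293693304491129100736)) (.leaf 964799091655754467470600512975996608))) (.node (.node (.node (.leaf 967727730231291210280645002459076992) (.leaf 966551259520696047284604499495801952)) (.leaf 967967996557399086919247039850317184)) (.node (.node (.leaf 957062514198329505327824214855003360) (.leaf 980591347894508157764821449739654176)) (.leaf 965817371281107343119485720989416992)))))) (.node (.node (.node (.node (.node (.node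 (.leaf 957587566069545633512102561873832576) (.leaf 959977184842129322164434132969889056)) (.node (.leaf 964888818547261356929628604316861824) (.leaf 979009548862286363714602766014555776))) (.node (.node (.leaf 971612959532648607448599968819157344) (.leaf 980299927968235304396393850105827872)) (.leaf 962729383952206086935457243822759168))) (.node (.node (.node (.leaf 980098147010417448613595189148473728) (.leaf 962494388936173695328834182467565216)) (.node (.leaf 983190134312309794811344197073833280) (.leaf 970338940673865904184693907716805760))) (.node (.node (.leaf 962137439679622941607964231318576800) (.leaf 980496392748273625452529354301277248)) (.leaf 966013550182538597570996195145924160)))) (.node (.node (.node (.node (.leaf 980953236772391295311095852505798944) (.leaf 965944235785641234113641648788518368)) (.node (.leaf 960705073735880028253690725163645536) (.leaf 974291580908621886485601989977166944))) (.node (.node (.leaf 963885210947533416544757517705590912) (.leaf 972769958207341827592069450463525024)) (.leaf 958572366987864186330860842558642464))) (.node (.node (.node (.leaf 968870760706677726522382828014587424)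 (.leaf 971512810162760612217395352482159680)) (.leaf 972645536338531647483871656676833536)) (.node (.node (.leaf 962251592308942038796300775486529600) (.leaf 966232828007896560034591131521469984)) (.leaf 974419428892779483431161371648607648))))) (.node (.node (.node (.node (.node (.leaf 979322286866016395613203276637752448) (.leaf 970276830959670345776129321915732064)) (.node (.leaf 960152047926809072712083328926297376) (.leaf 961130294098223225524941515681793280))) (.node (.node (.leaf 966066837045001412115624796233043424) (.leaf 975141868758992580467439347449476224)) (.leaf 969965894291116237646420514056057120))) (.node (.node (.node (.leaf 984390359346555316456886332627915904) (.leaf 971285476170470947764509877885044832)) (.node (.leaf 963884105493487472920279742209494528) (.leaf 984478555012226652621998269530611136))) (.node (.node (.leaf 974422901497743301834158877962246560) (.leaf 980131639949777364974337875556878976)) (.leaf 979118691398747189182266697739157024)))) (.node (.node (.node (.node (.leaf 981562915166386869791660185353436256) (.leaf 975079754827330548977102233464460320)) (.node (.leaf 980375981070578373822383147300995456)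 (.leaf 971045780352726824073223587146874496))) (.node (.node (.leaf 968825312140999325797807765617642976) (.leaf 974918598574627307256088245828207680)) (.leaf 982871237194218348299244088011008480))) (.node (.node (.node (.leaf 967134542090425566280893153797093760) (.leaf 981962178100580688449149607990444704)) (.leaf 958164095379597619904764550827426848)) (.node (.node (.leaf 961074733467928424424099734459425280) (.leaf 983349654986461274283999910473374976)) (.leaf 979075196901602390789583924376175776)))))))

def twoT18 : Janko.Tree (ℕ) :=
  (.node (.node (.node (.node (.node (.node (.node (.leaf 977776248369606095963322037012091456) (.leaf 963766034221450891007289450836399328)) (.node (.leaf 983100213658067330227846064100161152) (.leaf 974224390470187945213932954930185472))) (.node (.node (.leaf 966399946849984320762268774259370080) (.leaf 960136680728325392466536404181462048)) (.leaf 983400412972556370367851600416027744))) (.node (.node (.node (.leaf 973972327038748804226152136132730400) (.leaf 982050249871278461503565319692802400)) (.node (.leaf 974352407121325232932097778198660160) (.leaf 967694176565653838078131412902720192)))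 (.node (.node (.leaf 978844426406597602826856717033712864) (.leaf 975241123898869042946616244076427968)) (.leaf 967652692576996949559721811079546432)))) (.node (.node (.node (.node (.leaf 976418619452214714332495881332018464) (.leaf 972954901888312110152319082831167840)) (.node (.leaf 960801966225260609027645656927650880) (.leaf 958764965910352359976703550513549888))) (.node (.node (.leaf 964801999660302447177471384903329312) (.leaf 966297656097783666321625995222062560)) (.leaf 973888676251570184815185648678147584))) (.node (.node (.node (.leaf 969121642680059040676836512625823104) (.leaf 967646091145859454063549407186586688)) (.leaf 967919028376341846997153680805082240)) (.node (.node (.leaf 972596927448921712167645106670123296) (.leaf 981836492008480569841283153730578976)) (.leaf 958168134927854416889701734681355296))))) (.node (.node (.node (.node (.node (.leaf 967364995591220017223382428303874624) (.leaf 983227452076090324769203431153025408)) (.node (.leaf 971533174658110378940611408185904448) (.leaf 974997522373502413195923551149009088))) (.node (.node (.leaf 958670300251147388046947655651759328) (.leaf 957599152769948502094481231992394880))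 (.leaf 984200529475037060405441126183088704))) (.node (.node (.node (.leaf 974390310133780876698104720499772960) (.leaf 968902929375774391391797929650375840)) (.node (.leaf 978237456222099642533873388160943360) (.leaf 984393205249614849684744078729252224))) (.node (.node (.leaf 973127680733723566458391676406186112) (.leaf 975327053093832094689494754015127840)) (.leaf 976544089241009022509445973741558016)))) (.node (.node (.node (.node (.leaf 961997756519727017431025390195128992) (.leaf 972605374305809139271732201442105504)) (.node (.leaf 967126540049808496974854529128614336) (.leaf 967919309090345603878257866683067456))) (.node (.node (.leaf 970492013505747672489173322011592000) (.leaf 965937227294727031210056922258850336)) (.leaf 963684524595286236006170557748197792))) (.node (.node (.node (.leaf 965365429039352209784498050372374592) (.leaf 979127555056484947935633204452055296)) (.leaf 964643273417491213773669328266766400)) (.node (.node (.leaf 973620495186426786290541306321577152) (.leaf 979215897044136152591310993386460672)) (.leaf 971412912087272156634314653388850752)))))) (.node (.node (.node (.node (.node (.node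 (.leaf 968544741157951647956616419779088032) (.leaf 964981714424572318780078488556222784)) (.node (.leaf 963263751383062699816104471728343360) (.leaf 959647462045330269769425714088681664))) (.node (.node (.leaf 957384851855119171230782368553556224) (.leaf 975722761962457319727723582831301312)) (.leaf 973982329443252652645140807919575200))) (.node (.node (.node (.leaf 967331936797349596961524381406083104) (.leaf 963393319749112935222441419706354720)) (.node (.leaf 976944628420386315620902581526932864) (.leaf 978853772205798725102843111346133248))) (.node (.node (.leaf 961489255863151434482319670960543232) (.leaf 967255719246077683966066914410678816)) (.leaf 973163175299798005704195431952858208)))) (.node (.node (.node (.node (.leaf 980227568843442111948164895915456736) (.leaf 964027093534006554283976243668207040)) (.node (.leaf 966231415007231237270617507596940896) (.leaf 966481617465308627157993386634457792))) (.node (.node (.leaf 984154826237366854218088721815898752) (.leaf 968513760417752793669844759817440608)) (.leaf 958719851692350627860932439626525920))) (.node (.node (.node (.leaf 969000497640038547535881837068981536)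 (.leaf 957460923258022708156105384234734912)) (.leaf 980780265588589776334940490803743136)) (.node (.node (.leaf 965811192831823952889367956536242272) (.leaf 966316610366473803443437844447836192)) (.leaf 972509930411105559582053060618961280))))) (.node (.node (.node (.node (.node (.leaf 957231662742149456289611334933400832) (.leaf 961068370015830786576173391843734816)) (.node (.leaf 976580958793446266147422720232575584) (.leaf 984411347415750989864602270934669568))) (.node (.node (.leaf 967758049118944383314209252841172128) (.leaf 964960451653632869772857914375741504)) (.leaf 966640791726925961023066252282922560))) (.node (.node (.node (.leaf 958795577718320416852516557960944896) (.leaf 958356853514482278780931815748784480)) (.node (.leaf 965995673854203079114813227615702592) (.leaf 968623531418805791636391907694413472))) (.node (.node (.leaf 972503849075685579232578104274041216) (.leaf 959338135207190840715501593945491520)) (.leaf 970002637519791283714744155074007520)))) (.node (.node (.node (.node (.leaf 958574690655605167474520606297576960) (.leaf 964687319323986159074911833595323584)) (.node (.leaf 979642145996421079234686132645337696)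 (.leaf 958800609139769700796711876647294624))) (.node (.node (.leaf 977009636629105310493075035269865024) (.leaf 982002698609554189995154431798496608)) (.leaf 963928031091905162466136429032049824))) (.node (.node (.node (.leaf 964880714653299064435011299254219840) (.leaf 957181779076878163586140597777582720)) (.leaf 981670458338185793700688653042467136)) (.node (.node (.leaf 965852439604095403810423334274016960) (.leaf 976242332151821102643355406995929376)) (.leaf 961349019032186441581980027836512672)))))))

def twoT19 : Janko.Tree (ℕ) :=
  (.node (.node (.node (.node (.node (.node (.node (.leaf 969872467031511315761612846740507200) (.leaf 974091228711793721084016545002441248)) (.node (.leaf 967843676516552714242178947721203040) (.leaf 973156998565343223210503646017628448))) (.node (.node (.leaf 967292519461394188814487291400195424) (.leaf 969922856164287963009904986669792576)) (.leaf 976292062296611157958712416243764576))) (.node (.node (.node (.leaf 972390859139063552202903904719422976) (.leaf 964696292833974890652498624262584576)) (.node (.leaf 973055815936032171705584572467069568) (.leaf 967599060177911496553310219950741024)))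 (.node (.node (.leaf 969796408971377457364205402047718592) (.leaf 962178007054083239983095556121834624)) (.leaf 966474611323716010582817259318120640)))) (.node (.node (.node (.node (.leaf 979120136667291789987279048821254560) (.leaf 971627094228952780142191444449581536)) (.node (.leaf 966521910229397128252255572759528064) (.leaf 970072657820882405566311533427332128))) (.node (.node (.leaf 965987237620932341647679228782071136) (.leaf 967577953660513182175700575219435680)) (.leaf 972640582633284329636616494593985216))) (.node (.node (.node (.leaf 965211274591468852668338534706594496) (.leaf 958766696112109999368541993155567744)) (.leaf 981615806378942713282604133491381600)) (.node (.node (.leaf 971343792091803473910051829514941664) (.leaf 964535815944713778094931915019923616)) (.leaf 957181032524234982075397179740310720))))) (.node (.node (.node (.node (.node (.leaf 965161780189241577544788288209260576) (.leaf 958883926790100345996223732937672896)) (.node (.leaf 958516899271996564768826690474724448) (.leaf 979046452825783391233456961193776160))) (.node (.node (.leaf 982006699399267224399888312075078176) (.leaf 958796019360518984924783847337870624))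 (.leaf 958345380681187312876832439759748256))) (.node (.node (.node (.leaf 973111218900630382056240397914058240) (.leaf 965182922388045375809830274143325632)) (.node (.leaf 962262899985848766810306996557879712) (.leaf 967159308015450383804122850142881216))) (.node (.node (.leaf 971219471417635066759287505665841408) (.leaf 976853160213070912412201215640947936)) (.leaf 984232349443739942120555261714305312)))) (.node (.node (.node (.node (.leaf 972504323901443653232125789376694304) (.leaf 977676345376420442066931119861900736)) (.node (.leaf 981800937679295235902719562391953056) (.leaf 980185758818904502313472917350995264))) (.node (.node (.leaf 981452384669007006569042987482426592) (.leaf 966484759994354758008553124238264480)) (.leaf 973162953397308526067217071343287840))) (.node (.node (.node (.leaf 983224288825369563543057103481622848) (.leaf 956984182700269613658200305295692064)) (.leaf 966278882695452505133814501412805664)) (.node (.node (.leaf 975101405290683377580890872254451104) (.leaf 974454554270478083579769668023958912)) (.leaf 958610313612094013546505135788277792)))))) (.node (.node (.node (.node (.node (.node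 (.leaf 964982583799409005190145551408644416) (.leaf 959914006493220747194338995316380864)) (.node (.leaf 956782252049584403776684835098694304) (.leaf 961208357371513978081325532654549408))) (.node (.node (.leaf 969031617010147033379558433620168992) (.leaf 975361236917679096202931915709949024)) (.leaf 972407235531741317415183409525990976))) (.node (.node (.node (.leaf 965038925238456968883571884907640128) (.leaf 974292301239564804175935305197210944)) (.node (.leaf 984731745720589595398671616689945664) (.leaf 961049543223604906403358974300306656))) (.node (.node (.leaf 962365183381525031638340362977752352) (.leaf 979318863874016972348854218207143232)) (.leaf 984447378186030645600770446507391616)))) (.node (.node (.node (.node (.leaf 959790760777411089752338609792597248) (.leaf 957145025724166922625072700572974208)) (.node (.leaf 977011556732547167180019968890054752) (.leaf 958529104715201099652966744114837856))) (.node (.node (.leaf 961314336329828298072462546204840608) (.leaf 963336753444992906222332634125216384)) (.leaf 981396860009971500989927194631880224))) (.node (.node (.node (.leaf 959485519797235263732167667929663712)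 (.leaf 973048811502380249435197611295881792)) (.leaf 980101103380476449249998472717095296)) (.node (.node (.leaf 962118021585530282849759261961214464) (.leaf 967572437014836837728763850094228800)) (.leaf 980965482436566378784266165596668960))))) (.node (.node (.node (.node (.node (.leaf 963945889807199917661080126759478688) (.leaf 965871535832334215457962938682847456)) (.node (.leaf 984063862197803948443697414267033184) (.leaf 973891873748297223986748232499878304))) (.node (.node (.leaf 978964070063322710434123084080455808) (.leaf 975286563795730129328967379583061632)) (.leaf 967329300866685056881672650635126816))) (.node (.node (.node (.leaf 965135262939834880117890435681130048) (.leaf 969156375746018576812687392677155488)) (.node (.leaf 957155521806239076180578053711732160) (.leaf 965860411932923946632238546711810080))) (.node (.node (.leaf 959689402118563481161359078947673664) (.leaf 970095586694057450919717281302316672)) (.leaf 981569036432503996938594698952684192)))) (.node (.node (.node (.node (.leaf 981876965793909700175635105351768768) (.leaf 979580308335853717528160937323312192)) (.node (.leaf 979121545203180213633323072905000032)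 (.leaf 968664297689538926957136279747432960))) (.node (.node (.leaf 984193966918485760282990299699135520) (.leaf 964735685619703454368668090444621856)) (.leaf 984083026993144720138754744726793344))) (.node (.node (.node (.leaf 983154949024395900354970468660727104) (.leaf 968463800071280421229616101212063392)) (.leaf 958189818771759817156461164809818336)) (.node (.node (.leaf 972678021383864602050493842037885376) (.leaf 959726412496533531971042151376664128)) (.leaf 966563551035801735649017487094297984)))))))

def twoT20 : Janko.Tree (ℕ) :=
  (.node (.node (.node (.node (.node (.node (.node (.leaf 975601861556783594296622583783149600) (.leaf 958116245077967366284772275964826176)) (.node (.leaf 965258037489765633889694321764675040) (.leaf 980619693875104212926157972729737792))) (.node (.node (.leaf 980617942492215983992523202177090176) (.leaf 966663022806124430014861758554258816)) (.leaf 967898549867497910381823586245938848))) (.node (.node (.node (.leaf 956859773074740303908071966313726528) (.leaf 975107444355715601695599962350535968)) (.node (.leaf 979299747891148924360995978766302720) (.leaf 964979540999541016202085201025014272)))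 (.node (.node (.leaf 983556397361698982926974070190820736) (.leaf 956934327335449647275077528955850240)) (.leaf 967731225726497829400613886483407296)))) (.node (.node (.node (.node (.leaf 956988234165940028089265064525827456) (.leaf 957373136329197835202779607880612320)) (.node (.leaf 962607773217876819677450956266016832) (.leaf 971711839902581137290360724504494752))) (.node (.node (.leaf 967810718250875280110353472162581984) (.leaf 965343196626254092501102710980950624)) (.leaf 980779531692853902704244001219120576))) (.node (.node (.node (.leaf 977499862321016802017901696469227648) (.leaf 982130101753741079757249020655904000)) (.leaf 977628729100012021581425679509168416)) (.node (.node (.leaf 984738105015507546081998737575986432) (.leaf 957544658566833485100090832089363520)) (.leaf 971379919620667351641359122271216704))))) (.node (.node (.node (.node (.node (.leaf 982857740931792141731416773894623424) (.leaf 981510584061383562553625755127154112)) (.node (.leaf 969151271109211778598924144496354656) (.leaf 961005368734448021985273685703433696))) (.node (.node (.leaf 978076150757598100476028693937268352) (.leaf 959993597835366755350056651784898592))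 (.leaf 981641311379841723884518111813178944))) (.node (.node (.node (.leaf 977864020794653252743521819866288256) (.leaf 978123817768188789709289788356603296)) (.node (.leaf 979056062677681656708937661173545344) (.leaf 957097372616057540368876410769149504))) (.node (.node (.leaf 984489211165025024156221853099566240) (.leaf 976883733645045037027349659655478464)) (.leaf 960096517337387234409855043174580448)))) (.node (.node (.node (.node (.leaf 971553632412746151212663417924060480) (.leaf 977579843151112767977610856573982304)) (.node (.leaf 976783510568375658431418268420511424) (.leaf 973160211018010370336014728948227616))) (.node (.node (.leaf 983461562600528484151329656597954080) (.leaf 968547545577561408837206328894492320)) (.leaf 957506043783731469191948335765262880))) (.node (.node (.node (.leaf 963717985544459265464542307065025632) (.leaf 963522881746074779908959540988752480)) (.leaf 967171345601809461199271501433914688)) (.node (.node (.leaf 960666594919457963145178763353302048) (.leaf 982732363301605028274325058190757344)) (.leaf 968976512321480667527507542588769472)))))) (.node (.node (.node (.node (.node (.node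 (.leaf 977539029408303263736815570685843552) (.leaf 969870186338284395418347394859342272)) (.node (.leaf 969203011263928383428040782113251520) (.leaf 961044785792160686918668598744720800))) (.node (.node (.leaf 963925610862843447203150286823924128) (.leaf 960998925055701464707737301762594048)) (.leaf 980510250136738747930347625798322272))) (.node (.node (.node (.leaf 966384150935274399048677532414035168) (.leaf 965122863726397943523017097190492544)) (.node (.leaf 958407846162300576425536366765559136) (.leaf 972406598389071645507026625662274784))) (.node (.node (.leaf 978839611754835585926042852012994784) (.leaf 958390253869279622917582279080946944)) (.leaf 960684356892260431139828075243812512)))) (.node (.node (.node (.node (.leaf 969750674713958613725546528208622880) (.leaf 968988597350889603380508026689197312)) (.node (.leaf 978127653631079221772470128344117600) (.leaf 958331824995864381760189065274377888))) (.node (.node (.leaf 971700578484838590201051327229299008) (.leaf 973905718909158384124001789607612064)) (.leaf 964735722732324267686888944528047264))) (.node (.node (.node (.leaf 969849425065908929543745133099749024)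 (.leaf 957063659825306719097404050711399616)) (.leaf 968876338660379020391778731441740256)) (.node (.node (.leaf 959374030507967286944542204111278528) (.leaf 960964689630572764439148025965327872)) (.leaf 980216033834231848760083487506481472))))) (.node (.node (.node (.node (.node (.leaf 974341021525665377965616720530349440) (.leaf 969098015048990109437690444131028000)) (.node (.leaf 972884441594077367311313952493885664) (.leaf 972632235316001079365039476096373120))) (.node (.node (.leaf 957414880836922955195631845656339712) (.leaf 979330209485021928376847747824438816)) (.leaf 972646168270649455164591855148472704))) (.node (.node (.node (.leaf 978357731491775975431375608308123680) (.leaf 969790275762858008870612128356548672)) (.node (.leaf 963994509113685540713117811967402464) (.leaf 958515051853165361388214630622740032))) (.node (.node (.leaf 969806480629064981449369280577116192) (.leaf 957304603287881796459751268298217920)) (.leaf 983393157328093671910990300334033088)))) (.node (.node (.node (.node (.leaf 965265559721001940238161264695138752) (.leaf 957561204653446950626053669009240704)) (.node (.leaf 964026283437901638104968132551673088)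 (.leaf 964957910154537921653632069163201664))) (.node (.node (.leaf 974465370319054872986847627086795968) (.leaf 967554059122478448665728651133011392)) (.leaf 961049877433603224154209118831688960))) (.node (.node (.node (.leaf 963279703007336290464493577287650400) (.leaf 964536668803444301287519625533561152)) (.leaf 982092242579080306903336923966808608)) (.node (.node (.leaf 971100470675126246391899458866644384) (.leaf 971677811750714188691144200655255744)) (.leaf 972632430191398112353787844303899680)))))))

def twoT21 : Janko.Tree (ℕ) :=
  (.node (.node (.node (.node (.node (.node (.node (.leaf 974978133942792548281480178378644672) (.leaf 981793388834467785090033408901534752)) (.node (.leaf 983010281496905577655265159089168864) (.leaf 970333634448655177860747510467242432))) (.node (.node (.leaf 980588044332882683783517731948714656) (.leaf 967760800789788445384615758738654848)) (.leaf 965341420419044949388943451343629504))) (.node (.node (.node (.leaf 968703471521155139108618940626196512) (.leaf 962452654348847175456830627516891360)) (.node (.leaf 957191847089995608699599510005323456) (.leaf 965832078973215132084875178387126368)))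 (.node (.node (.leaf 976726939677342022083224482428953632) (.leaf 968943493266532364137110795764281024)) (.leaf 979462124835146045799044422821884992)))) (.node (.node (.node (.node (.leaf 964027098713572261962713007850236960) (.leaf 964634384667664452281214066755323328)) (.node (.leaf 978803314957162414635100775411032704) (.leaf 982040688513140027202931874588635840))) (.node (.node (.leaf 978871174559503718700459314239710688) (.leaf 974419447881348988756153570776719040)) (.leaf 980112791964878184262401474964204960))) (.node (.node (.node (.leaf 974379213838036319614799790286836832) (.leaf 978223643511463772458103947728208032)) (.leaf 976478033963481158423702881111950752)) (.node (.node (.leaf 961353337350302800859313317656052000) (.leaf 963843139243766418848070923843849536)) (.leaf 958120313081811235495323966963392128))))) (.node (.node (.node (.node (.node (.leaf 963905460921703288847942796309747136) (.leaf 978320845509878716585849560462572160)) (.node (.leaf 960063423593954834377161916063981024) (.leaf 960829933334011501557838854712723008))) (.node (.node (.leaf 976371526483031279223947193959390880) (.leaf 974178775904842792013561626380310592))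 (.leaf 965336314822027927087548626287333472))) (.node (.node (.node (.leaf 976291418697152301371535680683234560) (.leaf 962574300315413439125298696323998304)) (.node (.leaf 963911468614830214527296450988249728) (.leaf 964860930546629549068754101382759936))) (.node (.node (.leaf 961082399602481445902510048982507072) (.leaf 957341474755218594206519338557884608)) (.leaf 967656356804688938999086733615930016)))) (.node (.node (.node (.node (.leaf 956771351396786057540353518071028096) (.leaf 976616667246608504560560636533447264)) (.node (.leaf 984144468085530121115242424077764736) (.leaf 974353816860872073815114150133809376))) (.node (.node (.leaf 976463705034728268010728251327724704) (.leaf 964970643495825797184424909048627520)) (.leaf 969235037508686949901725542339256832))) (.node (.node (.node (.leaf 972974420955260227338597086720600576) (.leaf 973928996668063400560777062200380000)) (.leaf 956812143728537411179216773589420096)) (.node (.node (.leaf 966590061397111559445893685925256512) (.leaf 967132656358019272422919017569398368)) (.leaf 959493784422049244973798648169677248)))))) (.node (.node (.node (.node (.node (.node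 (.leaf 962307014868592315399874914664266080) (.leaf 965955468709010766140346869970229312)) (.node (.leaf 971261550232081119036102021028820672) (.leaf 966377207783223995311020987523571072))) (.node (.node (.leaf 973621003370673142692794525287687552) (.leaf 961479395487144732425443466541648416)) (.leaf 980671565707993084263058245895325024))) (.node (.node (.node (.leaf 967286124906939614775424842353426976) (.leaf 984778543631896943714094048997509600)) (.node (.leaf 981467269757279056965802142469475808) (.leaf 972836474147890293928468320112389184))) (.node (.node (.leaf 959699705216763578966102898485986976) (.leaf 972357796172332765951371629337910944)) (.leaf 962523425751883286169004798280116704)))) (.node (.node (.node (.node (.leaf 976577200715376806860328859834205440) (.leaf 971572037332491538808454560697419200)) (.node (.leaf 977049547798467315348521410834860512) (.leaf 979658489325547047370248531127419200))) (.node (.node (.leaf 968629944195898097029608900630027616) (.leaf 966515552356264100146472797336878464)) (.leaf 970277854876380848441279250259130944))) (.node (.node (.node (.leaf 975205168008974174155418492774460608)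 (.leaf 968664251696473315512658012115586496)) (.leaf 970088267101077503623636469968621696)) (.node (.node (.leaf 970475511730966700670907182319490464) (.leaf 975557371878901525162899642903482944)) (.leaf 956896729459388929442556217535377984))))) (.node (.node (.node (.node (.node (.leaf 983073831950002503474779311164722656) (.leaf 971095377182989510680503871665677504)) (.node (.leaf 959912268873903935918552770737789120) (.leaf 958287295637402809961262871161144960))) (.node (.node (.leaf 963922092151216404214862765595708576) (.leaf 957227186378169255179905248505515520)) (.leaf 971245390874865751513766077236197440))) (.node (.node (.node (.leaf 970054988548465785577749088576981184) (.leaf 975323601927917820362846248312920704)) (.node (.leaf 958873146762254014368101894256726688) (.leaf 965044271330918406193030111483702944))) (.node (.node (.leaf 967688471645893532896670879841489344) (.leaf 968569462897484778424963458009600416)) (.leaf 958813294837416900962594210807189760)))) (.node (.node (.node (.node (.leaf 978247607865224597177483800521773472) (.leaf 976316017340030435259783681881126240)) (.node (.leaf 973825240072874070012688575429683488)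 (.leaf 982690487009484372620824107205283456))) (.node (.node (.leaf 972435898989313473931563165307652544) (.leaf 970175612290524117895551468586573344)) (.leaf 971782616574359242503745580512629920))) (.node (.node (.node (.leaf 968572154411917841150601269266155808) (.leaf 978834225405358682207776022087258592)) (.leaf 964593541392376389135510529370305696)) (.node (.node (.leaf 984616451015236819816675165235190304) (.leaf 969110707489270198729547743960191104)) (.leaf 971265177699860014913111847242026304)))))))

def twoT22 : Janko.Tree (ℕ) :=
  (.node (.node (.node (.node (.node (.node (.node (.leaf 962344887975205771117041340707849664) (.leaf 959823386682242244522473399412624064)) (.node (.leaf 956967795847054747004710459123781120) (.leaf 966461147233376964232833003073024064))) (.node (.node (.leaf 967846296606403435319598427594406400) (.leaf 962424034161698021527437781109912160)) (.leaf 959450736290459074002134572657268416))) (.node (.node (.node (.leaf 971488857070904149465777800249817280) (.leaf 957179014952822911356589949471430720)) (.node (.leaf 973970436002019348592653270602916256) (.leaf 980334503232466123669490032412444288)))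 (.node (.node (.leaf 984490577855838999638666488854289728) (.leaf 971063758594773784434387769888448960)) (.leaf 957353912359618084313033120373027456)))) (.node (.node (.node (.node (.leaf 973813282648679990325382297997065536) (.leaf 977800353193716172783710924622152096)) (.node (.leaf 970241650517026917319100261841941024) (.leaf 978277745059527183077709030525177024))) (.node (.node (.leaf 957140155392505875485612468384210080) (.leaf 958651385997629039639537978390599104)) (.leaf 968878606036940757092157555994120224))) (.node (.node (.node (.leaf 973118561852869618661680438283913568) (.leaf 976947989665796601537764368860731968)) (.leaf 984318633983918657453361984901988736)) (.node (.node (.leaf 981737482103195054097795677470443072) (.leaf 972995700659909924453890859351017824)) (.leaf 969848353086435195836410082290339520))))) (.node (.node (.node (.node (.node (.leaf 967273425516552274134133576318761632) (.leaf 984349286420740754573073866747562112)) (.node (.leaf 976301558641337975542083484791710368) (.leaf 980794266772091703417250719092743584))) (.node (.node (.leaf 977636706344195244042721376303666688) (.leaf 966433153430388804994266857116217504))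 (.leaf 977696620316681527855498296359035232))) (.node (.node (.node (.leaf 977899450798936915308001145281331616) (.leaf 959530935816863298862968188575450464)) (.node (.leaf 973608446009750362058027785026871968) (.leaf 968904739288477160960494871304946368))) (.node (.node (.leaf 983068199498402185976384342862698848) (.leaf 964845120474082497791164079644776928)) (.leaf 964998134687723475191192922997962944)))) (.node (.node (.node (.node (.leaf 969197098327369263770041455697442880) (.leaf 966565444424226847673798915456116800)) (.node (.leaf 967641438557064839460999827430689152) (.leaf 966510892362515172694216179867731136))) (.node (.node (.leaf 984635342226641984909082405797041728) (.leaf 977550786077209275921391988853889120)) (.leaf 963763941786438170486494622647404096))) (.node (.node (.node (.leaf 971616370133333330181200850181492416) (.leaf 981772829084092181603326186767922432)) (.leaf 971125665904097312590603352961946976)) (.node (.node (.leaf 978358968111549204887957698246053056) (.leaf 963257760993476030534666114006947040)) (.leaf 978979083157792062903820465894609568)))))) (.node (.node (.node (.node (.node (.node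 (.leaf 978874813671630228113118923211617760) (.leaf 980261911697599537226856269738553408)) (.node (.leaf 968992880966067060646057553610182720) (.leaf 972399894207906702798480363841796672))) (.node (.node (.leaf 970090007139708408946794702764818880) (.leaf 965205821796627824158928793118264512)) (.leaf 964642438365005702553677705066954016))) (.node (.node (.node (.leaf 957030754026062752730937285913166400) (.leaf 972975129734335442630402586655788192)) (.node (.leaf 978076424509390841680346346848394400) (.leaf 983148346392517731158516507583087808))) (.node (.node (.leaf 969798412221792964074260334415227072) (.leaf 965119889890465034953728523181368928)) (.leaf 961272588722995271479205013263757792)))) (.node (.node (.node (.node (.leaf 984068330081237583117825747103170848) (.leaf 968535870075026775205027604499706464)) (.node (.leaf 960955749556017061176956015272330912) (.leaf 967900716820707904739147545718239456))) (.node (.node (.leaf 959846312139800495353961098474964448) (.leaf 967122461095353136650234674156115008)) (.leaf 975019264298781029824973034491399360))) (.node (.node (.node (.leaf 982858019597542297556881859906949536)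 (.leaf 962625370995828672346606227917217920)) (.leaf 975003484477656205154949366570177792)) (.node (.node (.leaf 980742380053534366745262260901613664) (.leaf 975435755279578832649654376155285152)) (.leaf 963349294198565896581622043316028512))))) (.node (.node (.node (.node (.node (.leaf 963320269026755350798404611335629984) (.leaf 958444716234019782203183645483212224)) (.node (.leaf 965958095535569166163063548190773312) (.leaf 976866306362359182224552285807224224))) (.node (.node (.leaf 973624649677935455047820701911928384) (.leaf 968987193223071261920607282259434560)) (.leaf 965015682454712860436406175823071744))) (.node (.node (.node (.leaf 975143298154793307809456586311108032) (.leaf 975152526260225659910163908476995968)) (.node (.leaf 981519697123426584125711840670556352) (.leaf 982855793938851174294991392206991680))) (.node (.node (.leaf 980923374279805819822391017353785824) (.leaf 965039042222628578884548369000673824)) (.leaf 982197372735844801562730352785039648)))) (.node (.node (.node (.node (.leaf 976575738979630263198322200079114272) (.leaf 978269011646636637614045566706830592)) (.node (.leaf 983035717346713563027685377450351008)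 (.leaf 966552610898866230839917790665943744))) (.node (.node (.leaf 977964956621249106679058637918489056) (.leaf 973152911466447602205994709874803968)) (.leaf 969039466833601221894747383969405024))) (.node (.node (.node (.leaf 960017335070685975068111074256539872) (.leaf 962329825710733943510347027689232992)) (.leaf 973050430536448357669264971433036000)) (.node (.node (.leaf 961475450042723823468682150261373440) (.leaf 977790259776965833481194816709676224)) (.leaf 984279194790989544126358320799452384)))))))

def twoT23 : Janko.Tree (ℕ) :=
  (.node (.node (.node (.node (.node (.node (.node (.leaf 965309015793862583356438072097161888) (.leaf 976868520292538396836508725555070240)) (.node (.leaf 969078532333039312206219633892576960) (.leaf 967603024376163752665832613483332128))) (.node (.node (.leaf 965251720675997308220705204708292288) (.leaf 974433000979949546708745826145437984)) (.leaf 970495719683272012311048262333940160))) (.node (.node (.node (.leaf 958478284594296724510689077235955136) (.leaf 968453806953427134132673598374328960)) (.node (.leaf 975148372477809985208219107472119328) (.leaf 960186193899185806799389491648447520)))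 (.node (.node (.leaf 984071468003972104496958169606166912) (.leaf 958792027968769269104863574944753056)) (.leaf 958023759166161977792879847526634624)))) (.node (.node (.node (.node (.leaf 975406771766395363846673958868210912) (.leaf 962409817468034706562771499382097504)) (.node (.leaf 980924120422969460693890133656717728) (.leaf 977057599459487240511270017238148736))) (.node (.node (.leaf 971779265656957671177020127369530592) (.leaf 982238570558873507501297129693419936)) (.leaf 959363580077498641937611346757145920))) (.node (.node (.node (.leaf 980722574501990768524929343822564608) (.leaf 962170086977374805142573221282057696)) (.leaf 977695109137148334255160488593101024)) (.node (.node (.leaf 967774046095475062884826281138527488) (.leaf 981430672992727710152282924115140288)) (.leaf 975393252403483671069079251804922496))))) (.node (.node (.node (.node (.node (.leaf 965210029534090022542758122750358720) (.leaf 972343414547783707956879914836569760)) (.node (.leaf 984391872755830928118765240418149568) (.leaf 966441776113867035103793800516064608))) (.node (.node (.leaf 966337878410281100993765526852643520) (.leaf 965983513034667606590116782393509920))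 (.leaf 970190133097608855288820684828251776))) (.node (.node (.node (.leaf 976786474242299242213118722166806912) (.leaf 982243724033291220125782148280485344)) (.node (.leaf 958892876854756643845402212635943264) (.leaf 959783450625383958478312608576755840))) (.node (.node (.leaf 961072043487391463906573953577069152) (.leaf 977746011723253431036096780172474528)) (.leaf 966465188854843766059991285446852000)))) (.node (.node (.node (.node (.leaf 964564593313702637864791898802797600) (.leaf 967843796138365205781218879017225856)) (.node (.leaf 965015115823853470324450794841408576) (.leaf 976787350543019899127516949870430912))) (.node (.node (.leaf 958638210060374755876233535019457696) (.leaf 960907624564620568284542466333395424)) (.leaf 974107259260432744552652083948044320))) (.node (.node (.node (.leaf 957398368885615194417084681351704000) (.leaf 969020618847024367078084827069733472)) (.leaf 958318034818389307635838267455752672)) (.node (.node (.leaf 976329625389419588475940067434737088) (.leaf 958358122400055391124085754845185344)) (.leaf 957416067873405681272858198931100864)))))) (.node (.node (.node (.node (.node (.node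 (.leaf 962045845625618630542452181422474848) (.leaf 980780280834239683220704657208412800)) (.node (.leaf 962774978601724303848941524826203232) (.leaf 965124700483546910202959739105133664))) (.node (.node (.leaf 974977513422296730479484278153664928) (.leaf 977513598741815116565892559324433856)) (.leaf 977785995914578270777214214776394976))) (.node (.node (.node (.leaf 970251557512354171650813148732236000) (.leaf 976363054320991131397997918933038688)) (.node (.leaf 970532532540683302558444182050644416) (.leaf 962010694896876080270986483029259968))) (.node (.node (.leaf 981525859008366145729032694413138208) (.leaf 979278058748918509549629394364602592)) (.leaf 959810130971316543186064855537463904)))) (.node (.node (.node (.node (.leaf 974007195260010376121164346254018112) (.leaf 969230058945734294339340173002063232)) (.node (.leaf 966054208063453879867097377737943232) (.leaf 972872557232228557359125463206222112))) (.node (.node (.leaf 967931355626274263099558655175374304) (.leaf 967168525964386537953486636105551232)) (.leaf 962222924632636218660802014276373952))) (.node (.node (.node (.leaf 963905413799059440404215199099606400)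 (.leaf 962382678587548445036019459494131232)) (.leaf 983303118082238886926126365480659104)) (.node (.node (.leaf 980718014889476966256490831966413152) (.leaf 962704633205547979754383613936875936)) (.leaf 973883492309835976937563787672201568))))) (.node (.node (.node (.node (.node (.leaf 984407306775900672757284535112343680) (.leaf 969753546892018958607288143167631904)) (.node (.leaf 967394925727773032912257560421455488) (.leaf 962427531621276930813261630910113344))) (.node (.node (.leaf 958240680411957269474391642240197728) (.leaf 959482647519547464386626628648355456)) (.leaf 977943342894438906130340188215857856))) (.node (.node (.node (.leaf 975731713667024151308303010340444224) (.leaf 978366753560973730710414185345520096)) (.node (.leaf 965296329458408289576323293154653888) (.leaf 976219296407391417051673527305359808))) (.node (.node (.leaf 980316498900646434844415151725381792) (.leaf 963886365192326415545272823603148928)) (.leaf 965126238972517510801451909913884224)))) (.node (.node (.node (.node (.leaf 984078910213131198976303791128782144) (.leaf 961000310514818649139287866870238816)) (.node (.leaf 958469804586476066174682091288711712)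 (.leaf 963970367316795911302864711851422752))) (.node (.node (.leaf 976238139873863636947895411622347936) (.leaf 980577227869157428984079421053548928)) (.leaf 966588165725760656318867826383300256))) (.node (.node (.node (.leaf 969800416424941989112687308650520224) (.leaf 979367943165488994018556594019144288)) (.leaf 971751059271508483883367619497264672)) (.node (.node (.leaf 981939953286971115704817950077028896) (.leaf 983397926124842911765729616372846016)) (.leaf 960959109398173363559342186858491424)))))))

def twoT24 : Janko.Tree (ℕ) :=
  (.node (.node (.node (.node (.node (.node (.node (.leaf 978307464897481908456499845586835648) (.leaf 972911832638686591266850029695109312)) (.node (.leaf 957425014081357821387968624300892704) (.leaf 972320066431855093380737158077303296))) (.node (.node (.leaf 959699778996939626864187013965907008) (.leaf 983305262235336860437391715465605216)) (.leaf 966566636602455941417265306572891712))) (.node (.node (.node (.leaf 957582239195540904243774353429644768) (.leaf 971392112710685329063200801077922016)) (.node (.leaf 962574484574475052327120430853179904) (.leaf 966387660233579358442141250329067712)))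 (.node (.node (.leaf 981675544371015617161742718355573056) (.leaf 962611465524865402200983165457291648)) (.leaf 968621311488042947858497144181265024)))) (.node (.node (.node (.node (.leaf 962386771677774226661075380382177824) (.leaf 979256502490098472033564316442215008)) (.node (.leaf 980316225157786662766559438049740160) (.leaf 958351514558481581930384604142094848))) (.node (.node (.leaf 958848622867817422009546833520832032) (.leaf 958351597257358155020639999981106720)) (.leaf 970093213562430883620036242107056512))) (.node (.node (.node (.leaf 980946226976814537568846551226297632) (.leaf 963798170626245269123011990507536992)) (.leaf 976732927691502817201517497263989280)) (.node (.node (.leaf 978970254057094893903332159863772576) (.leaf 983463906920656528679519512191026304)) (.leaf 962369401442453629897063079592797856))))) (.node (.node (.node (.node (.node (.leaf 982780442656076247758555356241907392) (.leaf 966540901798755495233656801365103648)) (.node (.leaf 973906050169185307821805779601902272) (.leaf 980334513497904124126141791879213248))) (.node (.node (.leaf 967618718682559690368087841105480832) (.leaf 967716448467708768922044014963137664))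 (.leaf 975353992371668242486586311563135648))) (.node (.node (.node (.leaf 979547143741345502527290388124174816) (.leaf 982827515464076590300384633090156704)) (.node (.leaf 968938068348037658398041299289126144) (.leaf 978112923402630857856373901265128608))) (.node (.node (.leaf 965860485012205296507058481481256544) (.leaf 978992894565221949023798291885871360)) (.leaf 979440465416464647843098783698620448)))) (.node (.node (.node (.node (.leaf 978280491956734013707061382432888128) (.leaf 963511221055282423404227574738769248)) (.node (.leaf 963967669725046620774525040513562720) (.leaf 966229973848613462510392632450630880))) (.node (.node (.leaf 982248519689613783732374685591225920) (.leaf 969271093033525441954870667333063104)) (.leaf 958761725596181887884512540433302720))) (.node (.node (.node (.leaf 969017812364700869327038761364995488) (.leaf 960187232219677396171709944828596832)) (.leaf 968901151634601837276757488327364064)) (.node (.node (.leaf 978262980335154055392203395788054592) (.leaf 977498622774806895995240512770970176)) (.leaf 963318552389485838947793631566054080)))))) (.node (.node (.node (.node (.node (.node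 (.leaf 979084494877741230602574722046831200) (.leaf 964727802956452829956239972250626144)) (.node (.leaf 961169660687100410960927727910570336) (.leaf 966277462756523084413395630525057664))) (.node (.node (.leaf 983298906632557720738401805688645152) (.leaf 956910320728570745163545916050974336)) (.leaf 974987248882032958414381911207333440))) (.node (.node (.node (.leaf 975402236913378929082267607906199072) (.leaf 965821139902929292785864852028918848)) (.node (.leaf 976624903096247074689757083504742560) (.leaf 982243477885265087281539636829161120))) (.node (.node (.leaf 982973141444903135695958359131502816) (.leaf 971586584929459463395415235394701824)) (.leaf 981974453087138264512583131732421952)))) (.node (.node (.node (.node (.leaf 978308697650342774555134523209781440) (.leaf 968672062120737133715454767715956256)) (.node (.leaf 971247331929220305748076222486749344) (.leaf 975144708881385395671132599190888544))) (.node (.node (.leaf 964732101109769910788707174909915296) (.leaf 967517057668277867199359258709809760)) (.leaf 978104072552072135595930203188268224))) (.node (.node (.node (.leaf 984076628145453245054117117809803296)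 (.leaf 984477961976105365014524862734223744)) (.leaf 964072461253342952889015748020276800)) (.node (.node (.leaf 967759157282007125004268200268051712) (.leaf 977613517722848578430797261056743744)) (.leaf 975057948513848009525101392678985344))))) (.node (.node (.node (.node (.node (.leaf 961211807027296909570113427624666368) (.leaf 972883890475246135913885168869857536)) (.node (.leaf 980264323342596047819406141256509504) (.leaf 979242883951357931828950025616235552))) (.node (.node (.leaf 981929266331776297208356388603632992) (.leaf 960822429468785556908537689728851584)) (.leaf 961919164089572570509889917104463296))) (.node (.node (.node (.leaf 976202722642925249052056093657056320) (.leaf 977820143463181583570187945115988128)) (.node (.leaf 978304936553051124368705317708181632) (.leaf 984354205797201378952986866882893216))) (.node (.node (.leaf 967978321491619633923746901781981312) (.leaf 984152487545619684970915536195062400)) (.leaf 978360657471715428263289636377702432)))) (.node (.node (.node (.node (.leaf 974026004172865298509324676430645632) (.leaf 965895290738601190938223814092664416)) (.node (.leaf 959701889323136497166557357820036672)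 (.leaf 974332119765392504462837465558331712))) (.node (.node (.leaf 977881343727247884959580225012865152) (.leaf 982711273168513054688298761403609248)) (.leaf 966434169747046283177888676961749024))) (.node (.node (.node (.leaf 975316001331368387077598434430502080) (.leaf 959908539601689596707768648795869472)) (.leaf 977825569462658370842800834493158432)) (.node (.node (.leaf 983174998615321315837948239765688832) (.leaf 984728024083071957455122517222103584)) (.leaf 982093699385340248506424424241242272)))))))

def twoT25 : Janko.Tree (ℕ) :=
  (.node (.node (.node (.node (.node (.node (.node (.leaf 962548058129573586749516960719026880) (.leaf 962462623292711960068579577423923584)) (.node (.leaf 968423678342729490496904764517950976) (.leaf 977866173229800578555637447230199296))) (.node (.node (.leaf 969799195312635393051975725036972672) (.leaf 968551030190060995701468555105589760)) (.leaf 967841945787795887030157893073050656))) (.node (.node (.node (.leaf 968547738790048939457201498892615840) (.leaf 958108446691437754842469726827893280)) (.node (.leaf 960800625331048187778508804184444448) (.leaf 967171245717979428797074725725678848)))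 (.node (.node (.leaf 983030604019555686677867749010722912) (.leaf 964942304803351875851404649360212128)) (.leaf 959863992816579777531007824223019680)))) (.node (.node (.node (.node (.leaf 960636490662821115576517259280504992) (.leaf 959457060734937882107284451087718752)) (.node (.leaf 967978799789771409221239403894282272) (.leaf 977032317106765069759648460564928576))) (.node (.node (.leaf 969015813821704248822135452419367072) (.leaf 981646249363280243564994036746400256)) (.leaf 964067742648572241406693183248964928))) (.node (.node (.node (.leaf 959658903012894800827462362359616096) (.leaf 967924168352043656028845348912039424)) (.leaf 977546996658214605185779830240621728)) (.node (.node (.leaf 963919818632174715264503136040662720) (.leaf 967287230541002883521636711933614208)) (.leaf 980596318280284854982187183843359968))))) (.node (.node (.node (.node (.node (.leaf 963633305693533184008039989841841280) (.leaf 973091801455390278757924759777487328)) (.node (.leaf 972649791236180255333300868896490624) (.leaf 965366107535365504775657114266090016))) (.node (.node (.leaf 979527703710963430737481120782921344) (.leaf 965374501662878706408338585011275008))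 (.leaf 957174349817000083640468932485697216))) (.node (.node (.node (.leaf 957457022685887981000164279606202528) (.leaf 964961792635593893976999246062366176)) (.node (.leaf 969110491241946122617194174164456032) (.leaf 957025008526561897367522774901398912))) (.node (.node (.leaf 972686174297352628689494764588084512) (.leaf 981892501425633210973846640754108544)) (.leaf 968666861371920426959936553800452352)))) (.node (.node (.node (.node (.leaf 979444155622900936917443989451448384) (.leaf 958722074636778206475315781925788128)) (.node (.leaf 964596322066793452929230682068490496) (.leaf 966354905490591003779715323310345728))) (.node (.node (.leaf 965059957356001865561627137806111840) (.leaf 966420355735952467618282098276096480)) (.leaf 982124545218659040506497543653867968))) (.node (.node (.node (.leaf 971304870802969935126834078753078368) (.leaf 957379332964591546921244745020234400)) (.leaf 959775712465124706798522192248777888)) (.node (.node (.leaf 960990333456638626062221124435102784) (.leaf 963718099564354103566551587401011648)) (.leaf 975678548806180167598851502573659520)))))) (.node (.node (.node (.node (.node (.node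 (.leaf 959827600519025436427456329482449184) (.leaf 978020743136730151163882938099174752)) (.node (.leaf 982082725165892921969038727286577408) (.leaf 976257517338027049929078565486806688))) (.node (.node (.leaf 964082047005414814690111618140118528) (.leaf 979319257664828338025789779544220896)) (.leaf 962328217884386492639480477053668384))) (.node (.node (.node (.leaf 975646596351480818649672134269454496) (.leaf 967475396737181397505152287772847744)) (.node (.leaf 974192108722774539915129280100119648) (.leaf 971089108290808974449776153329062048))) (.node (.node (.leaf 976684628255022224908847755926375072) (.leaf 968550601777088576881983752065031616)) (.leaf 984285120392460117137984130157581792)))) (.node (.node (.node (.node (.leaf 976418241841585441997042011247845824) (.leaf 983063223750581912729950223132505696)) (.node (.leaf 957546743233988091564388037641450624) (.leaf 971146537055394532581717394008161792))) (.node (.node (.leaf 972762210317156345550426705644068000) (.leaf 963797501568200056189638764192645184)) (.leaf 962588351903167439189401581457125056))) (.node (.node (.node (.leaf 961040206765257657336642175447947584)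 (.leaf 967391675912892285672618445090937376)) (.leaf 976286552473935394014772811925995104)) (.node (.node (.leaf 965955676083121224539346058710964832) (.leaf 976254614611601034034562386625244576)) (.leaf 962616297355526658835821731480323744))))) (.node (.node (.node (.node (.node (.leaf 971823465214102796294193485525044384) (.leaf 977551548525127168722868764998149568)) (.node (.leaf 980779305061839030090861060879453824) (.leaf 972636714804407551340006083165312256))) (.node (.node (.leaf 968852260725679615660706341806525728) (.leaf 964816855736400712136902761303725120)) (.leaf 979164250068090695855171424816219552))) (.node (.node (.node (.leaf 984358045933931826587190141130261120) (.leaf 976446704929586921171264559320762944)) (.node (.leaf 974988425023875135186802677295321152) (.leaf 966384016159893699586531030170524000))) (.node (.node (.leaf 964659668274090483063172036096462080) (.leaf 958038517965922372493222181111124064)) (.leaf 970046385906836817661964547174062272)))) (.node (.node (.node (.node (.leaf 972890551001212842198790794570204224) (.leaf 972709121308243805587190300475957536)) (.node (.leaf 967571896526724206649499324627236064)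 (.leaf 976680862364443498945710837909805664))) (.node (.node (.leaf 976300720131298076482331980201310464) (.leaf 960837810307919218749214579439718912)) (.leaf 967974521521062903918061609574158656))) (.node (.node (.node (.leaf 983481771346566390033283551705148832) (.leaf 981920267286296061671088372377528576)) (.leaf 962619965176700242101091062673084608)) (.node (.node (.leaf 980555717314653512389467799233679552) (.leaf 961361391195065407043615815625882112)) (.leaf 980458552340752600399787541922382944)))))))

def twoT26 : Janko.Tree (ℕ) :=
  (.node (.node (.node (.node (.node (.node (.node (.leaf 979667651387957506273638307072423040) (.leaf 979295919231024027733344410081382464)) (.node (.leaf 971222041356218168665516791528835616) (.leaf 984393613656953527237164600478998752))) (.node (.node (.leaf 966215349616153371600916914405421280) (.leaf 959628399052053191592219316878578368)) (.leaf 979139034518297381919295129754096832))) (.node (.node (.node (.leaf 971777243135242243405471978824746112) (.leaf 970192990688398955471467176633482400)) (.node (.leaf 966499072573390288586445994214403584) (.leaf 981879455120056864007798438366532992)))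 (.node (.node (.leaf 969157603167067966864338847766284800) (.leaf 966439905667468029286188873728233824)) (.leaf 976787468542487530561341766245684544)))) (.node (.node (.node (.node (.leaf 983238143775371338542956434001767840) (.leaf 983392680553651812434133853214708928)) (.node (.leaf 964660142477959219140533531063925056) (.leaf 970160306080753097097355330567441632))) (.node (.node (.leaf 960194792242776418313086096066553408) (.leaf 965323860357362424684311768222631456)) (.leaf 984522439676151222001267336149554560))) (.node (.node (.node (.leaf 969960710462303870655370770163127904) (.leaf 964735992022481102074795707774479040)) (.leaf 982257179324372500152629676651847040)) (.node (.node (.leaf 973612953462375177177213396980510848) (.leaf 973621948570372764342059796084928704)) (.leaf 960177691623047108066279452631644512))))) (.node (.node (.node (.node (.node (.leaf 973096864617879750364451424764661120) (.leaf 959749067599793172901979729786340800)) (.node (.leaf 968866825064856026728770489256610080) (.leaf 976502169302744242070097358197720640))) (.node (.node (.leaf 963307503581251207520021105269462336) (.leaf 963701124297385468761402901695940992))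 (.leaf 968467788739250310467694995877055616))) (.node (.node (.node (.leaf 963562282518371135330859587115981952) (.leaf 966674939517282722972296966825235104)) (.node (.leaf 959332710585955263765836555176007264) (.leaf 980225499021906864492210132865394016))) (.node (.node (.leaf 971082935538188087694484425469902048) (.leaf 983157616160928098181948673113918720)) (.leaf 958229262199755423998813952961686912)))) (.node (.node (.node (.node (.leaf 962531282684843946597694691464201568) (.leaf 981389094337039929367844600465789088)) (.node (.leaf 983114241080150062290147749754100128) (.leaf 959463449502199246475778238043434304))) (.node (.node (.leaf 977979295240560147151519915835541856) (.leaf 984675077658228682866207749213179520)) (.leaf 962251563937178573597034220739741088))) (.node (.node (.node (.leaf 958372282529393668407799583714415968) (.leaf 956866658809013349034615271382886784)) (.leaf 977068772957652397771357048985440704)) (.node (.node (.leaf 972518850627729690375899539556370816) (.leaf 981760532412735367625048862513902176)) (.leaf 962728916249143748912721482247314496)))))) (.node (.node (.node (.node (.node (.node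 (.leaf 970149695052516904311819539187894496) (.leaf 961967295892816666391308935858105600)) (.node (.leaf 982700749403813888817940621739594016) (.leaf 967772841036216183992060285377166688))) (.node (.node (.leaf 961128299518880891218716106044774912) (.leaf 975200256488663515878973288164329504)) (.leaf 965284422871155818044669177138424192))) (.node (.node (.node (.leaf 962664548314934413572682600086341184) (.leaf 956781497549571139591272975585879584)) (.node (.leaf 972466291157309833443774691122655584) (.leaf 957549293380641389874358579485945408))) (.node (.node (.leaf 967964702024865644016786724255992224) (.leaf 959625626894340358274118351007860128)) (.leaf 967513188310299185044711049887225024)))) (.node (.node (.node (.node (.leaf 978346289128735140090220176087462976) (.leaf 963295640340462394317331729321472608)) (.node (.leaf 968626336690222181740128023294882048) (.leaf 962424012979427461240156167989727872))) (.node (.node (.leaf 957110712842596041041976307500717152) (.leaf 973775693175666012820009743786990208)) (.leaf 979423752061471953456840334650915968))) (.node (.node (.node (.leaf 966603095492603055745273872454617280)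 (.leaf 965866938302963983028139369803917728)) (.leaf 984390550473647418153382770602546784)) (.node (.node (.leaf 967416682096609200399576436256576096) (.leaf 984772291605236830979992103412710784)) (.leaf 960712150773947437502622870934099456))))) (.node (.node (.node (.node (.node (.leaf 958231688216273194172545392537030208) (.leaf 965001893535442240360794230203993152)) (.node (.leaf 964919973496293010730764243855687200) (.leaf 981795476116171141193962339646754304))) (.node (.node (.leaf 959370895262073198426358195532844256) (.leaf 965993624560330821301183380230481952)) (.leaf 964974407100752080679633664462828640))) (.node (.node (.node (.leaf 974065381954288387946184039061308640) (.leaf 976411089048176753603559510416788832)) (.node (.leaf 965254438180181752617197698386540672) (.leaf 984108902264707410888597296497773664))) (.node (.node (.leaf 959604419892448162188464626468262432) (.leaf 971011928491747155136959150926841536)) (.leaf 957104728529419566555517941522829856)))) (.node (.node (.node (.node (.leaf 978305831857711244778002678694811680) (.leaf 971578684510911848479507438610228448)) (.node (.leaf 964557461110085932524283929511997984)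 (.leaf 970476032723857953887395967977117056))) (.node (.node (.leaf 978928732064920713797819710579562016) (.leaf 958369767817601341157588548068672768)) (.leaf 979340491740072431156066734649843072))) (.node (.node (.node (.leaf 984615103184442521682038825273146400) (.leaf 983188161013896249021114536928775456)) (.leaf 978804112327711209267161884416876992)) (.node (.node (.leaf 980129232957762761744859208516785600) (.leaf 959663937732570403007304366628688128)) (.leaf 980191026459375212889553692738496864)))))))

def twoT27 : Janko.Tree (ℕ) :=
  (.node (.node (.node (.node (.node (.node (.node (.leaf 979125885277855046864423511292265856) (.leaf 960069660358227050224240747214871872)) (.node (.leaf 958553474938340195989531508391282176) (.leaf 957505013857323203915707378172536160))) (.node (.node (.leaf 967687316570614336148372651242654240) (.leaf 975368487494056233860605903895025056)) (.leaf 956992165051072187754164433997928896))) (.node (.node (.node (.leaf 958854257310442446109451043773464832) (.leaf 984640451184353005204789536404179552)) (.node (.leaf 972966293398852274168357764515646752) (.leaf 971291017321581175023046810198496896)))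 (.node (.node (.leaf 960049493063601727330600504498672320) (.leaf 972951638137980405642584106623947008)) (.leaf 984151208944317595767642135265036384)))) (.node (.node (.node (.node (.leaf 963703818606497513575229670537510272) (.leaf 981452546812439266913454161422244320)) (.node (.leaf 966265812989310214781471674757397728) (.leaf 974944390260345674835384718607986208))) (.node (.node (.leaf 959699352797322414615441366104316576) (.leaf 976545317703825742587396388989147712)) (.leaf 961121647904606963952913806243436608))) (.node (.node (.node (.leaf 966620758454796437686012204918325536) (.leaf 963336474173198035518053229715271232)) (.leaf 968861886459872650721751212973730848)) (.node (.node (.leaf 958247132949215400904937585897899648) (.leaf 980155307079855898971184175529496192)) (.leaf 967943393349406687153933274811780256))))) (.node (.node (.node (.node (.node (.leaf 971817255560731555064699892114435136) (.leaf 970297404208840703221173348020234656)) (.node (.leaf 971024346617621485995271524062603840) (.leaf 981387452931229681185987124158277152))) (.node (.node (.leaf 974021730630983446789250380806363232) (.leaf 963915355927121194356761651013146048))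 (.leaf 958114823189634577589753011833675424))) (.node (.node (.node (.leaf 973866996180192764206538939350467840) (.leaf 959907241572107978032020965961377824)) (.node (.leaf 983260187578707860633672831650309376) (.leaf 962526632979598324077458017122605536))) (.node (.node (.leaf 984597693217762026719479520944313600) (.leaf 981759983608834490703075676035518656)) (.leaf 969918023209316998640283692300732864)))) (.node (.node (.node (.node (.leaf 979662212765156742532231592630600160) (.leaf 984432873575085328079416056859631840)) (.node (.leaf 963806246479368699172871088500969856) (.leaf 973971498121932387718847883752489120))) (.node (.node (.leaf 970358736040517754970634221533940352) (.leaf 983221675113839250564418971657150144)) (.leaf 979036552935747988002197048402624896))) (.node (.node (.node (.leaf 969112039444907046455226536972030208) (.leaf 978796457949645930267681332107973856)) (.leaf 984127208754326494459990536269911456)) (.node (.node (.leaf 971544356628736243023961613154111552) (.leaf 958269222867621724856224848105887840)) (.leaf 977555422316419500416818961925612672)))))) (.node (.node (.node (.node (.node (.node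 (.leaf 982244701550284965974338762469410048) (.leaf 979563156889951664161062570236230944)) (.node (.leaf 976398624063932486555268058756796992) (.leaf 971676109171504223697398633053137056))) (.node (.node (.leaf 965836319518606413023883024676562496) (.leaf 962258968150743544599334792380076352)) (.leaf 978316030203783877577181538683325504))) (.node (.node (.node (.leaf 980387717234602128654471285639219392) (.leaf 963238433843724901840602821829348704)) (.node (.leaf 978033100747350446523575965830044288) (.leaf 980171099166352488401925500783745504))) (.node (.node (.leaf 964655108671934482980762767938048384) (.leaf 963963865549440467819398074864871712)) (.leaf 958367073856905497878613415847893504)))) (.node (.node (.node (.node (.leaf 976328346582717338883291014863565440) (.leaf 966543614968953562402007788785539168)) (.node (.leaf 977944492009779473563588759302902336) (.leaf 980505052345765218443574660119608736))) (.node (.node (.leaf 968509827458149677525062416400173408) (.leaf 982089070481414978970448541911368160)) (.leaf 978923546345218723180417260719363456))) (.node (.node (.node (.leaf 967941317069035283149360318770565568)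 (.leaf 967893322286073641530704389178232192)) (.leaf 978247771229653886108744308440143104)) (.node (.node (.leaf 979296455965376014131361945991991584) (.leaf 982943255404185906840545735319313024)) (.leaf 963746080049713914855955727975657600))))) (.node (.node (.node (.node (.node (.leaf 969835645515985539998693049151937024) (.leaf 977947179155267443350444214191509120)) (.node (.leaf 966433538987025165842454527817786816) (.leaf 980467451137798974114363143977877760))) (.node (.node (.leaf 970083175466308849171907877038171808) (.leaf 967797496364721842833977999542619456)) (.leaf 977547537416161417687947814307672416))) (.node (.node (.node (.leaf 972340442210375667672252623357297184) (.leaf 961130601071121409916453537863877248)) (.node (.leaf 978239836267341462011414256761943296) (.leaf 974374646641935969502749378565162208))) (.node (.node (.leaf 970052372916439883055334305611981312) (.leaf 961970188056415353614010307331086976)) (.leaf 968502435053284577572949881035825664)))) (.node (.node (.node (.node (.leaf 976409838394900024563505933793835328) (.leaf 975646853980811849310044673176450144)) (.node (.leaf 983053554388168985133681305640895648)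 (.leaf 967254813114233415544023580474412512))) (.node (.node (.leaf 957022449706886348451781479760566784) (.leaf 981655218486078340907582629245987104)) (.leaf 984687463552312900088953585387314528))) (.node (.node (.node (.leaf 961494561319467401838237874253993280) (.leaf 983110515031676446004574459334757760)) (.leaf 962379320566360702197608103150831264)) (.node (.node (.leaf 959325118647551785043501480696031712) (.leaf 956827017393129755481049538287021120)) (.leaf 970555307138760738283858048305284768)))))))

def twoT28 : Janko.Tree (ℕ) :=
  (.node (.node (.node (.node (.node (.node (.node (.leaf 956968791425173710759521255204503616) (.leaf 970452934393059746336184040264713312)) (.node (.leaf 975119528510166791373841466609109024) (.leaf 961322970296540935401903862146673248))) (.node (.node (.leaf 980907141133339043561783359984371040) (.leaf 964815431028190896179081676395596864)) (.leaf 963508641579287431657280142397486560))) (.node (.node (.node (.leaf 962044822455853149298058681214345664) (.leaf 967518652346491609983872913087202400)) (.node (.leaf 980268283782299063174093620746888768) (.leaf 979614247577785741477511376981694624)))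 (.node (.node (.leaf 970034802384422467389314543413173696) (.leaf 970363324626000030089354352440656320)) (.leaf 973746587821074735420617826477968736)))) (.node (.node (.node (.node (.leaf 984736860871578052881815247893511200) (.leaf 983461731511722347800046715452756128)) (.node (.leaf 967155430683206198424319103901210144) (.leaf 964806576243848906597075999023336128))) (.node (.node (.leaf 969798645513151360073092347171780800) (.leaf 974432936020625256396139643168524480)) (.leaf 978227328620399574473879503717750400))) (.node (.node (.node (.leaf 967321490854048075012327629748066528) (.leaf 958885342716323801267547828782676448)) (.leaf 980379523386957139405391213024888288)) (.node (.node (.leaf 984805128585399437693606889264323008) (.leaf 959329359680401663296419923487047744)) (.leaf 969161395523735358421507076652121664))))) (.node (.node (.node (.node (.node (.leaf 957355382884563766825482604862677312) (.leaf 967296535458642174972410570617326176)) (.node (.leaf 958408847488336072589174327019342880) (.leaf 958798038284026119106447780690965088))) (.node (.node (.leaf 958322954043802719701835585572362592) (.leaf 958605867829778427266165223383609440))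 (.leaf 971547905680405735312928476321925472))) (.node (.node (.node (.leaf 971286788251201930424927291302217184) (.leaf 967410352354419402420063417955105856)) (.node (.leaf 963396318582597416063291005824245024) (.leaf 980617372647352390431529069960138976))) (.node (.node (.leaf 961485949351334007836183355968690464) (.leaf 980466517664421465340645665164940800)) (.leaf 975425935358187491771573700672016800)))) (.node (.node (.node (.node (.leaf 959851930175318743044639246154024416) (.leaf 981766614567563700344134504468367520)) (.node (.leaf 980112441986557762820563728870354176) (.leaf 962464039674589129060404632901659776))) (.node (.node (.leaf 975521323568060661135578703222343328) (.leaf 959503843767188629690001521053967584)) (.leaf 969924723905075490793082188438094144))) (.node (.node (.node (.leaf 959334663055385200146432576947724576) (.leaf 970234894372677309292550941045727424)) (.leaf 974378962386363367354212081164567136)) (.node (.node (.leaf 956786235010496572156657218384010560) (.leaf 971673261892112220821449234752545440)) (.leaf 976987570156256346101915911396039936)))))) (.node (.node (.node (.node (.node (.node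 (.leaf 982822723684156224441007932795070752) (.leaf 957520287515895089424718020472838752)) (.node (.leaf 984533680104893522183854075525321760) (.leaf 958635707135655618591216294093622848))) (.node (.node (.leaf 967476895896401785438194479459802144) (.leaf 968504407833078534729837439844860064)) (.leaf 979138008409480475989716486352786944))) (.node (.node (.node (.leaf 980426980060611836398540287593107904) (.leaf 969794763571046195478387286358603840)) (.node (.leaf 976682486228246503586095359264756384) (.leaf 959824805394370684956941969717344800))) (.node (.node (.leaf 983457853429029048013884183949122592) (.leaf 972393907020987735924215000579186272)) (.leaf 969097814380767096589370386417998368)))) (.node (.node (.node (.node (.leaf 979098504468772786355707991733747392) (.leaf 967846386094076826363354702165850464)) (.node (.leaf 962127199361257991425142668910443136) (.leaf 964837356267540919863955234637354592))) (.node (.node (.leaf 963346658248199953912837336797189760) (.leaf 977908399333751966432811393507279008)) (.leaf 957009895764015999760619158615169088))) (.node (.node (.node (.leaf 979408807811272958237762080647650368)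 (.leaf 958597803602020512129690848208705696)) (.leaf 976930649673883859171426072769644832)) (.node (.node (.leaf 971570844991884995473965228211484768) (.leaf 963876769926399867894916776786498208)) (.leaf 958813265139658882436926631430341728))))) (.node (.node (.node (.node (.node (.leaf 975187626712511829117063417501389504) (.leaf 978004289207446480247375672201851584)) (.node (.leaf 967973778452527027776160125508165024) (.leaf 974957965300031561375051049912538400))) (.node (.node (.leaf 977010578827887205166100145669457952) (.leaf 976532879972916326543890988805530048)) (.leaf 978894318833316161855540990610286880))) (.node (.node (.node (.leaf 977498869542823266410039880857129312) (.leaf 966259661435099309387344633480305312)) (.node (.leaf 962257277495134698112374151798508960) (.leaf 978955030836495556747780663278613120))) (.node (.node (.leaf 966506299397733542138301167583966752) (.leaf 960796166771215954766415296618647936)) (.leaf 971430374532597239918834128574363168)))) (.node (.node (.node (.node (.leaf 978352652798300194956177219322841472) (.leaf 962664254975126482511739273438769504)) (.node (.leaf 963303794797839079221524732090952256)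 (.leaf 983197972849618939624149582022385792))) (.node (.node (.leaf 963722864890120036714847630778718752) (.leaf 975349849115749796947746474040076736)) (.leaf 960631228624476956104611293995222496))) (.node (.node (.node (.leaf 965866860471764020524911879348853952) (.leaf 960147939235433888017770537278527616)) (.leaf 978835928759773844571001418647290048)) (.node (.node (.leaf 966256818011526524294889482403589248) (.leaf 971295507237288793132920553510911200)) (.leaf 967611235288988425597032851421416128)))))))

def twoT29 : Janko.Tree (ℕ) :=
  (.node (.node (.node (.node (.node (.node (.node (.leaf 964037394395012134723843863964304704) (.leaf 976493623889837345591740500075068864)) (.node (.leaf 975753137800161661744442002697136320) (.leaf 965824702626516224969914760345357920))) (.node (.node (.leaf 980311264502865745207897137939261920) (.leaf 965984561648466925905654695070239776)) (.leaf 965009657602921126396491444340936384))) (.node (.node (.node (.leaf 979094661683427974989723543296779680) (.leaf 965101269932436823176722834902853984)) (.node (.leaf 980782671603623351665433486486445088) (.leaf 984724354359796306343561831622658528)))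 (.node (.node (.leaf 980195068516140292652431835498954784) (.leaf 962530479798148639918411475067123296)) (.leaf 972587936214140756287191508377284064)))) (.node (.node (.node (.node (.leaf 961372769302255695617835874487014720) (.leaf 960103675220779429248808347157957024)) (.node (.leaf 979180681790485776081741506034307232) (.leaf 975236730757352908937970211014876480))) (.node (.node (.leaf 966215539794559199561329487339686592) (.leaf 972528012610433941375374714658705856)) (.leaf 977819607084313946675401874626697728))) (.node (.node (.node (.leaf 972630436485316681557658160068233312) (.leaf 981526107250725609982506224956486816)) (.leaf 967619670562806449497398576281818592)) (.node (.node (.leaf 960822473461578205056426223030909344) (.leaf 972715456953467566421521938669438464)) (.leaf 978308488356530589005337810820257984))))) (.node (.node (.node (.node (.node (.leaf 974458367031426043265400002415349056) (.leaf 972544141968217059750307552978840896)) (.node (.leaf 956968663492865182421926269135995072) (.leaf 968409143662317917882100089534797504))) (.node (.node (.leaf 984476568859607445273968865554145888) (.leaf 964656282822784954889635976513235200))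 (.leaf 958534724873379602347417690174752224))) (.node (.node (.node (.leaf 958369943905586418487556201356404896) (.leaf 967203514037959719796298975207184768)) (.node (.leaf 984109431710478550259962055126013504) (.leaf 958570150778082235313503764866246272))) (.node (.node (.leaf 981915191879616075300641323668200000) (.leaf 982773247973121493343672570994806848)) (.leaf 974948858870591103383087358790475360)))) (.node (.node (.node (.node (.leaf 970211854176185965914585671892254880) (.leaf 982779387760676236156592097228686912)) (.node (.leaf 967317616184191089738905705546981792) (.leaf 970449967933387598291336357363488128))) (.node (.node (.leaf 975546172360736179255503560928205312) (.leaf 969835518779113131134131533418875552)) (.leaf 963943706815600283917080822555254464))) (.node (.node (.node (.leaf 976416881625547801736167051164391008) (.leaf 969851722153053293074370242593236032)) (.leaf 979082001254452679842655763102750880)) (.node (.node (.leaf 969199124715750702267522120416412768) (.leaf 969828155727876058397779415160409280)) (.leaf 977745963143356053082484479749215648)))))) (.node (.node (.node (.node (.node (.node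 (.leaf 976966400238912505311257290921554496) (.leaf 963473260169239842918021153612486944)) (.node (.leaf 967676790527829538472358388072294592) (.leaf 965951440530253961590754031820254272))) (.node (.node (.leaf 979260645134559372784342268669940928) (.leaf 963965185533110108102259200598524576)) (.leaf 956988905483564348022046202973952704))) (.node (.node (.node (.leaf 968910458881203401154962607835273888) (.leaf 975205005112870232609608072387808480)) (.node (.leaf 978233574406311181924220299441689088) (.leaf 975239662430226975241407533851948096))) (.node (.node (.leaf 957013553973920779423569090965704128) (.leaf 971425392295323895584728669155444320)) (.leaf 973657552288120991687117245076777376)))) (.node (.node (.node (.node (.leaf 957073046551599455921308021971883136) (.leaf 976370125753363779476004986601024128)) (.node (.leaf 979327933408378775347895282314852000) (.leaf 959818899586620083356641852904447296))) (.node (.node (.leaf 973884874150824577248768178597022368) (.leaf 984808142357067243158614442540959264)) (.leaf 963712914329150815850718116776630592))) (.node (.node (.node (.leaf 957582132535529099291391463458522752)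 (.leaf 981558481985881257667541491361288768)) (.leaf 977842912418928469959091037277425216)) (.node (.node (.leaf 958207321848370381127877976457950560) (.leaf 967733447420857820475719936258482624)) (.leaf 968651845581477285623252743824643424))))) (.node (.node (.node (.node (.node (.leaf 975407749997247431100178534725145024) (.leaf 964027309846536082220494117149164832)) (.node (.leaf 980439426378705328100967341830283808) (.leaf 980333119788217891635321598459943488))) (.node (.node (.leaf 984206979250824079357524904882210112) (.leaf 979036532970668606385956647080436928)) (.leaf 979401405313178731036702800289668704))) (.node (.node (.node (.leaf 976576038705586220096180486286123488) (.leaf 962458063360954776406602078884244096)) (.node (.leaf 979038572548033127607541887021567360) (.leaf 977557796384960650940510525054232768))) (.node (.node (.leaf 967127815323747355795358083653415424) (.leaf 978809147221436488248744884797115712)) (.leaf 958611864372398354145887416357663232)))) (.node (.node (.node (.node (.leaf 976326204520737859882459366940921920) (.leaf 980515424932527032091404956120554688)) (.node (.leaf 971875043682731733071606833568924704)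 (.leaf 958128962760781489376093985007881504))) (.node (.node (.leaf 974066805224974064050648709289677312) (.leaf 974921257685589945229547402464374848)) (.leaf 983223542400319391810676186092554400))) (.node (.node (.node (.leaf 967893821360352287195061545489417664) (.leaf 973612035764404932094127260511260960)) (.leaf 969793686602117918662329684806221952)) (.node (.node (.leaf 967172455408360987406517659065040128) (.leaf 978273436245902126509513371600106624)) (.leaf 976504740389162183939044498743006848)))))))

def twoT30 : Janko.Tree (ℕ) :=
  (.node (.node (.node (.node (.node (.node (.node (.leaf 973818562517985528246074105126404192) (.leaf 984321405926211498143058999921644960)) (.node (.leaf 962058955972716316258924995498479040) (.leaf 971104724477581362057485183744030336))) (.node (.node (.leaf 967964909997237036835525480262742496) (.leaf 978889427998432315555734882154062208)) (.leaf 977940563945677400686241533777988736))) (.node (.node (.node (.leaf 959811207160700931784693215193123424) (.leaf 963388716979289311146520930943469856)) (.node (.leaf 969719359355495232772349183912289728) (.leaf 976534771820260227520459389277868096)))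 (.node (.node (.leaf 967417937715750269881834963381696896) (.leaf 973734820074815784812410375414957152)) (.leaf 967853193035728270746777552973929728)))) (.node (.node (.node (.node (.leaf 971094778139235348784395124548876512) (.leaf 969947199561261413931160167293463136)) (.node (.leaf 957062596482750784638366431194961024) (.leaf 963551897948107496685278015969805952))) (.node (.node (.leaf 967686685182523842243584853752008832) (.leaf 977504606899333301417368953714580608)) (.leaf 976449955543065230539438626679919296))) (.node (.node (.node (.leaf 971261543422784172970723474083565920) (.leaf 965299582189973878636922823676316800)) (.leaf 964963664183470963818353720135305376)) (.node (.node (.leaf 968877007091262362107289832211712096) (.leaf 979532064147997452296153194248145408)) (.leaf 962527602173536685950330947823221440))))) (.node (.node (.node (.node (.node (.leaf 972431718217522655852446219623615584) (.leaf 971674871582819080905465248515079264)) (.node (.leaf 975405416520672344794422598463375424) (.leaf 962533532557072618188696493502042144))) (.node (.node (.leaf 981391292114305998468933579918362912) (.leaf 969156129995358435748684462654298816))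 (.leaf 975349527315828150259259230807140640))) (.node (.node (.node (.leaf 969102534502743667247966913135325312) (.leaf 963601324603410414576015003007239232)) (.node (.leaf 960922796513459937129988702514681888) (.leaf 957024788557596328977673099245295264))) (.node (.node (.leaf 973624213285118215025119507787260288) (.leaf 971334922247338268053326455565959328)) (.leaf 962703711766900428468662884996761184)))) (.node (.node (.node (.node (.leaf 982057060323380468766010616107438528) (.leaf 971700002680082327507092165061184032)) (.node (.leaf 966389913310453739815500340895731392) (.leaf 983095309945075849816373600952267904))) (.node (.node (.leaf 976519552158164404178161939775833792) (.leaf 975187261782390933865130981822497984)) (.leaf 984313622865610984306360983401125312))) (.node (.node (.node (.leaf 984528899711191849282633079428794976) (.leaf 984472060277109456042506321620313472)) (.leaf 973619582476086272603704679574558048)) (.node (.node (.leaf 964554849260465083126058966001856000) (.leaf 958601609028040401544659147592971712)) (.leaf 976850338430492848484020890976590208)))))) (.node (.node (.node (.node (.node (.node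 (.leaf 960942830182291538238683298025461184) (.leaf 974261836644082267276933195791569120)) (.node (.leaf 968948110477163851689356224582270496) (.leaf 971834277549048710659525906486994016))) (.node (.node (.leaf 956788974713097819148974606692489664) (.leaf 975561900462678601381085630262942848)) (.leaf 976579374952179960882151847186807840))) (.node (.node (.node (.leaf 959770024662154484335441873824518336) (.leaf 963863341104695587796416459984492832)) (.node (.leaf 979159331932108107371948390500481088) (.leaf 962466574406538958180620647550107968))) (.node (.node (.leaf 968746261546063586774531595900792224) (.leaf 958025936191243548949719279524515072)) (.leaf 978857578250145220613813198355933824)))) (.node (.node (.node (.node (.leaf 963922205149677308694436633736417920) (.leaf 966299998451465941621024981229160064)) (.node (.leaf 981433014591407563355003203500412192) (.leaf 970167986941167388034873355512628320))) (.node (.node (.leaf 958520633569451056132691015296388608) (.leaf 973163376465217259002806680190990912)) (.leaf 983391498608449690757357618594431264))) (.node (.node (.node (.leaf 963546945048216470765265823157660736)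 (.leaf 961474215479646519705541796685956736)) (.leaf 976441246303179346026527856358140960)) (.node (.node (.leaf 968535212534402786027923656308116736) (.leaf 971631964566519721113753283441342816)) (.leaf 959980439194880466405004757797718496))))) (.node (.node (.node (.node (.node (.leaf 962367782332551753428086209131959712) (.leaf 971351306577005565557638817542883520)) (.node (.leaf 967942967155688575353002843436468768) (.leaf 980761199497296992995685640599844896))) (.node (.node (.leaf 974452655061268276112036366551390592) (.leaf 978263168422131827892975447514142080)) (.leaf 957587268396613750300496167111706208))) (.node (.node (.node (.leaf 977939838568805540090072132688721376) (.leaf 966603325891234966207990732015307296)) (.node (.leaf 957062974839490147965400851114503296) (.leaf 970375705500203540640006387094194208))) (.node (.node (.leaf 980303667261776517966666801178237056) (.leaf 983173650693082466061746508161792352)) (.leaf 958153078606866367459848695693432192)))) (.node (.node (.node (.node (.leaf 966441907179125441919381817855689888) (.leaf 964689965840984103057597277658237568)) (.node (.leaf 957253254776580507545493727646946496)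 (.leaf 981401847085801001325272060030754144))) (.node (.node (.leaf 975750301133686565702498288622940288) (.leaf 961980792179667542989304857594445440)) (.leaf 961352624423754328509629064521636064))) (.node (.node (.node (.leaf 979056365900647908545205336269165632) (.leaf 972665982493675393745037195026420960)) (.leaf 981999780714196208180022406409163136)) (.node (.node (.leaf 981569002911372287176939658136403392) (.leaf 983357519773129884497947318490972512)) (.leaf 984310905169010876179443460309797536)))))))

def twoT31 : Janko.Tree (ℕ) :=
  (.node (.node (.node (.node (.node (.node (.node (.leaf 967165652451631253706199633314140576) (.leaf 958525695504378377746149106726214688)) (.node (.leaf 974065638196309533179648419292135904) (.leaf 957130930531548130487858990429850848))) (.node (.node (.leaf 964931880157201382185375848294661632) (.leaf 974982496353924367807962532100250144)) (.leaf 965038771625617298312315690938381440))) (.node (.node (.node (.leaf 970171685866201762778744525429081696) (.leaf 965186176240229559483986692738235776)) (.node (.leaf 967657823956596073110552796563932800) (.leaf 980227769122608032452717402064859360)))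 (.node (.node (.leaf 964839875620917543479034467906368576) (.leaf 975203895377684447786715311985310016)) (.leaf 980189738359361397626480668029984928)))) (.node (.node (.node (.node (.leaf 958428946314871726014782893447460384) (.leaf 980703287463909274889921208291561792)) (.node (.leaf 963925855756897049037862185268855424) (.leaf 961311793609689127117171311884481728))) (.node (.node (.leaf 980907292316733730704977677460834688) (.leaf 964999521342141560426420888710687936)) (.leaf 978895383509365353834876835011567680))) (.node (.node (.node (.leaf 957535622881551090805767171045203200) (.leaf 966515220395088151510248569911807680)) (.leaf 966676760156812883390565427921406400)) (.node (.node (.leaf 959366157234926858005661308669120864) (.leaf 983035209317084985270456678171682880)) (.leaf 983033060255563683959521436507424896))))) (.node (.node (.node (.node (.node (.leaf 980880480909641990214714290035795296) (.leaf 962135884797002661280741281638698688)) (.node (.leaf 960626984734035008663844723770956000) (.leaf 970174093686381784158253619669449984))) (.node (.node (.leaf 968670578374016720823572061435795712) (.leaf 977915281494192489455969806630039776))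 (.leaf 980552474952539863539085744851827264))) (.node (.node (.node (.leaf 959339404713527578470444748656511232) (.leaf 973701937639221998092386862037025408)) (.node (.leaf 967737557773352347257929456501234752) (.leaf 969764530459510025343662685199942080))) (.node (.node (.leaf 980558457857366811280451711198742848) (.leaf 959521982138798043943558886418101600)) (.leaf 973663712416763127867042314603113568)))) (.node (.node (.node (.node (.leaf 983292966975781458906607767566885280) (.leaf 969017990070728202324012723471795360)) (.node (.leaf 967287816132357371284110868295994496) (.leaf 983030767655033890240799402794332192))) (.node (.node (.leaf 972522897818836196002781384311030432) (.leaf 961349025687093114597820789303164256)) (.leaf 960877263889390437860135073333483936))) (.node (.node (.node (.leaf 973658676788410273476177898278292768) (.leaf 961076520085293052385260769011768384)) (.leaf 960664338502130792426928862938967552)) (.node (.node (.leaf 962167452027347063437332008539897280) (.leaf 968634051403987565283297825182072992)) (.leaf 961031535701781143577862311535687360)))))) (.node (.node (.node (.node (.node (.node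 (.leaf 966077198815438251355622747225659808) (.leaf 964076770854283651168675929975792992)) (.node (.leaf 959819701719272350467205163388671488) (.leaf 983091134809919178879759773005658336))) (.node (.node (.leaf 963224991061270046752034790232831456) (.leaf 974288809443054043722340069067076928)) (.leaf 977943729400976471176654823161380032))) (.node (.node (.node (.leaf 969707323200724058569748885941768896) (.leaf 984156193855255228321924241339071040)) (.node (.leaf 956813423762228521332334229897492096) (.leaf 966540786526478314378318190979265824))) (.node (.node (.leaf 971692469999845018405949280219734624) (.leaf 981773153427750873945098807431736608)) (.leaf 962486006189011938913617712141867232)))) (.node (.node (.node (.node (.leaf 973624751004366842099063124912317088) (.leaf 975277619750090111290829770060240384)) (.node (.leaf 983471559505423791930858648931478752) (.leaf 968866784358099115280816361219572768))) (.node (.node (.leaf 981850433706914794043397817925709504) (.leaf 979279501614454160887149463128707360)) (.leaf 963218422763752710687854570446117088))) (.node (.node (.node (.leaf 973851901506469624955131945536634496)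 (.leaf 978830534061168642917027794435809376)) (.leaf 978880033099460734517852021372146048)) (.node (.node (.leaf 959622977994039045276205027032190240) (.leaf 959326370315063139514237171015238336)) (.leaf 961249788328774878570507543208597088))))) (.node (.node (.node (.node (.node (.leaf 974464853798440108082534688424995360) (.leaf 966063452788943570608644764176193664)) (.node (.leaf 964520337047856866666171989250019616) (.leaf 979665905597030211027637056705239136))) (.node (.node (.leaf 972434546970393264997362569743710272) (.leaf 971022511917193239172849576925860256)) (.leaf 974094748139880258304237537246988512))) (.node (.node (.node (.leaf 976259181422368323003608837159202976) (.leaf 961958666518104019499025710730904928)) (.node (.leaf 963925451410477036896941593192342144) (.leaf 967936496525644104952377283044384448))) (.node (.node (.leaf 980633654508002317425658078492823808) (.leaf 963672163785314373004789290724046304)) (.leaf 970003158545836442435921352368699872)))) (.node (.node (.node (.node (.leaf 967985034059473383113908452110746176) (.leaf 966354680302998554159026055339558976)) (.node (.leaf 968904903777344841197038978603665856)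 (.leaf 957388778827746083778997003322952896))) (.node (.node (.leaf 962049580795785826730815573067008256) (.leaf 963456505967779158077037235244682592)) (.leaf 962017870657298257432589288930488672))) (.node (.node (.node (.leaf 957394664880278118187485039793031808) (.leaf 980131293481280184857686862283724992)) (.leaf 983558118196587850302386574725881920)) (.node (.node (.leaf 983393123120464461167395490386679200) (.leaf 976364238021023377462553139165742336)) (.leaf 967852118446401380277417771245128000)))))))

def twoT : Janko.Tree (ℕ) := (.node (.node (.node (.node (.node twoT0 twoT16) (.node twoT8 twoT24)) (.node (.node twoT4 twoT20) (.node twoT12 twoT28))) (.node (.node (.node twoT2 twoT18) (.node twoT10 twoT26)) (.node (.node twoT6 twoT22) (.node twoT14 twoT30)))) (.node (.node (.node (.node twoT1 twoT17) (.node twoT9 twoT25)) (.node (.node twoT5 twoT21) (.node twoT13 twoT29))) (.node (.node (.node twoT3 twoT19) (.node twoT11 twoT27)) (.node (.node twoT7 twoT23) (.node twoT15 twoT31)))))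

def twoTPar0 : Janko.Tree (ℕ) :=
  (.node (.node (.node (.node (.node (.node (.node (.leaf 0) (.leaf 20512)) (.node (.leaf 9040) (.leaf 37712))) (.node (.node (.leaf 4272) (.leaf 27713)) (.leaf 14512))) (.node (.node (.node (.leaf 2112) (.leaf 23937)) (.node (.leaf 11697) (.leaf 45216))) (.node (.node (.leaf 6592) (.leaf 32016)) (.leaf 17488)))) (.node (.node (.node (.node (.leaf 1025) (.leaf 22224)) (.node (.leaf 10369) (.leaf 41281))) (.node (.node (.leaf 5440) (.leaf 29713)) (.leaf 15953))) (.node (.node (.node (.leaf 3200) (.leaf 25761)) (.node (.leaf 13169) (.leaf 53136))) (.node (.node (.leaf 7809) (.leaf 34528)) (.leaf 19088))))) (.node (.node (.node (.node (.node (.leaf 512) (.leaf 21265)) (.node (.leaf 9696) (.leaf 39392))) (.node (.node (.leaf 4848) (.leaf 28832)) (.leaf 15232))) (.node (.node (.node (.leaf 2657) (.leaf 24865)) (.node (.leaf 12400) (.leaf 48049))) (.node (.node (.leaf 7217) (.leaf 33344)) (.leaf 18288)))) (.node (.node (.node (.node (.leaf 1584) (.leaf 23041)) (.node (.leaf 10993) (.leaf 43089))) (.node (.node (.leaf 6000) (.leaf 30817)) (.leaf 16672))) (.node (.node (.node (.leaf 3728) (.leaf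 26736)) (.leaf 13841)) (.node (.node (.leaf 8432) (.leaf 36033)) (.leaf 19824)))))) (.node (.node (.node (.node (.node (.node (.leaf 241) (.leaf 20849)) (.node (.leaf 9360) (.leaf 38464))) (.node (.node (.leaf 4545) (.leaf 28224)) (.leaf 14897))) (.node (.node (.node (.leaf 2384) (.leaf 24401)) (.node (.leaf 12064) (.leaf 46641))) (.node (.node (.leaf 6928) (.leaf 32641)) (.leaf 17856)))) (.node (.node (.node (.node (.leaf 1296) (.leaf 22577)) (.node (.leaf 10689) (.leaf 42289))) (.node (.node (.leaf 5697) (.leaf 30273)) (.leaf 16305))) (.node (.node (.node (.leaf 3457) (.leaf 26273)) (.leaf 13537)) (.node (.node (.leaf 8112) (.leaf 35249)) (.leaf 19425))))) (.node (.node (.node (.node (.node (.leaf 769) (.leaf 21777)) (.node (.leaf 10017) (.leaf 40288))) (.node (.node (.leaf 5169) (.leaf 29328)) (.leaf 15617))) (.node (.node (.node (.leaf 2928) (.leaf 25344)) (.node (.leaf 12752) (.leaf 50016))) (.node (.node (.leaf 7521) (.leaf 33953)) (.leaf 18657)))) (.node (.node (.node (.node (.leaf 1856) (.leaf 23488)) (.node (.leaf 11344) (.leaf 44176))) (.node (.node (.leaf 6304) (.leaf 31361)) (.leaf 17089))) (.node (.node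 (.node (.leaf 3985) (.leaf 27184)) (.leaf 14161)) (.node (.node (.leaf 8737) (.leaf 36721)) (.leaf 20145)))))))

def twoTPar1 : Janko.Tree (ℕ) :=
  (.node (.node (.node (.node (.node (.node (.node (.leaf 0) (.leaf 20528)) (.node (.leaf 9041) (.leaf 37713))) (.node (.node (.leaf 4273) (.leaf 27728)) (.leaf 14528))) (.node (.node (.node (.leaf 2113) (.leaf 23952)) (.node (.leaf 11712) (.leaf 45281))) (.node (.node (.leaf 6593) (.leaf 32017)) (.leaf 17489)))) (.node (.node (.node (.node (.leaf 1040) (.leaf 22225)) (.node (.leaf 10385) (.leaf 41296))) (.node (.node (.leaf 5441) (.leaf 29728)) (.leaf 15968))) (.node (.node (.node (.leaf 3201) (.leaf 25776)) (.node (.leaf 13184) (.leaf 53488))) (.node (.node (.leaf 7824) (.leaf 34544)) (.leaf 19089))))) (.node (.node (.node (.node (.node (.leaf 513) (.leaf 21280)) (.node (.leaf 9697) (.leaf 39425))) (.node (.node (.leaf 4849) (.leaf 28833)) (.leaf 15248))) (.node (.node (.node (.leaf 2672) (.leaf 24881)) (.node (.leaf 12401) (.leaf 48065))) (.node (.node (.leaf 7232) (.leaf 33361)) (.leaf 18305)))) (.node (.node (.node (.node (.leaf 1585) (.leaf 23056)) (.node (.leaf 11008)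 (.leaf 43137))) (.node (.node (.leaf 6001) (.leaf 30832)) (.leaf 16673))) (.node (.node (.node (.leaf 3729) (.leaf 26752)) (.leaf 13856)) (.node (.node (.leaf 8433) (.leaf 36048)) (.leaf 19825)))))) (.node (.node (.node (.node (.node (.node (.leaf 256) (.leaf 20864)) (.node (.leaf 9361) (.leaf 38528))) (.node (.node (.leaf 4560) (.leaf 28225)) (.leaf 14912))) (.node (.node (.node (.leaf 2385) (.leaf 24416)) (.node (.leaf 12080) (.leaf 46657))) (.node (.node (.leaf 6944) (.leaf 32673)) (.leaf 17888)))) (.node (.node (.node (.node (.leaf 1297) (.leaf 22592)) (.node (.leaf 10704) (.leaf 42320))) (.node (.node (.leaf 5712) (.leaf 30288)) (.leaf 16336))) (.node (.node (.node (.leaf 3472) (.leaf 26288)) (.leaf 13552)) (.node (.node (.leaf 8113) (.leaf 35264)) (.leaf 19440))))) (.node (.node (.node (.node (.node (.leaf 784) (.leaf 21792)) (.node (.leaf 10032) (.leaf 40305))) (.node (.node (.leaf 5184) (.leaf 29329)) (.leaf 15633))) (.node (.node (.node (.leaf 2929) (.leaf 25360)) (.node (.leaf 12753) (.leaf 50080))) (.node (.node (.leaf 7536) (.leaf 33968)) (.leaf 18672)))) (.node (.node (.node (.node (.leaf 1857) (.leaf 23504))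 (.node (.leaf 11345) (.leaf 44257))) (.node (.node (.leaf 6305) (.leaf 31376)) (.leaf 17104))) (.node (.node (.node (.leaf 4000) (.leaf 27232)) (.leaf 14176)) (.node (.node (.leaf 8752) (.leaf 36752)) (.leaf 20160)))))))

def twoTPar2 : Janko.Tree (ℕ) :=
  (.node (.node (.node (.node (.node (.node (.node (.leaf 1) (.leaf 20529)) (.node (.leaf 9056) (.leaf 37744))) (.node (.node (.leaf 4288) (.leaf 27729)) (.leaf 14529))) (.node (.node (.node (.leaf 2129) (.leaf 23984)) (.node (.leaf 11713) (.leaf 45297))) (.node (.node (.leaf 6608) (.leaf 32048)) (.leaf 17505)))) (.node (.node (.node (.node (.leaf 1041) (.leaf 22241)) (.node (.leaf 10401) (.leaf 41344))) (.node (.node (.leaf 5456) (.leaf 29777)) (.leaf 15984))) (.node (.node (.node (.leaf 3216) (.leaf 25777)) (.node (.leaf 13185) (.leaf 53489))) (.node (.node (.leaf 7825) (.leaf 34608)) (.leaf 19104))))) (.node (.node (.node (.node (.node (.leaf 528) (.leaf 21297)) (.node (.leaf 9712) (.leaf 39488))) (.node (.node (.leaf 4864) (.leaf 28897)) (.leaf 15265))) (.node (.node (.node (.leaf 2673) (.leaf 24912)) (.node (.leaf 12416) (.leaf 48129))) (.node (.node (.leaf 7233)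 (.leaf 33376)) (.leaf 18320)))) (.node (.node (.node (.node (.leaf 1600) (.leaf 23072)) (.node (.leaf 11009) (.leaf 43153))) (.node (.node (.leaf 6016) (.leaf 30864)) (.leaf 16704))) (.node (.node (.node (.leaf 3744) (.leaf 26784)) (.leaf 13872)) (.node (.node (.leaf 8448) (.leaf 36064)) (.leaf 19840)))))) (.node (.node (.node (.node (.node (.node (.leaf 257) (.leaf 20865)) (.node (.leaf 9376) (.leaf 38561))) (.node (.node (.leaf 4561) (.leaf 28257)) (.leaf 14913))) (.node (.node (.node (.leaf 2400) (.leaf 24417)) (.node (.leaf 12096) (.leaf 46689))) (.node (.node (.leaf 6945) (.leaf 32720)) (.leaf 17889)))) (.node (.node (.node (.node (.leaf 1312) (.leaf 22625)) (.node (.leaf 10705) (.leaf 42321))) (.node (.node (.leaf 5713) (.leaf 30304)) (.leaf 16352))) (.node (.node (.node (.leaf 3473) (.leaf 26289)) (.leaf 13553)) (.node (.node (.leaf 8129) (.leaf 35313)) (.leaf 19472))))) (.node (.node (.node (.node (.node (.leaf 785) (.leaf 21809)) (.node (.leaf 10033) (.leaf 40321))) (.node (.node (.leaf 5185) (.leaf 29344)) (.leaf 15648))) (.node (.node (.node (.leaf 2944) (.leaf 25361)) (.node (.leaf 12768) (.leaf 50081)))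 (.node (.node (.leaf 7537) (.leaf 34001)) (.leaf 18673)))) (.node (.node (.node (.node (.leaf 1872) (.leaf 23520)) (.node (.leaf 11360) (.leaf 44320))) (.node (.node (.leaf 6321) (.leaf 31377)) (.leaf 17105))) (.node (.node (.node (.leaf 4001) (.leaf 27248)) (.leaf 14177)) (.node (.node (.leaf 8753) (.leaf 36769)) (.leaf 20176)))))))

def twoTPar3 : Janko.Tree (ℕ) :=
  (.node (.node (.node (.node (.node (.node (.node (.leaf 16) (.leaf 20544)) (.node (.leaf 9072) (.leaf 37792))) (.node (.node (.leaf 4304) (.leaf 27745)) (.leaf 14560))) (.node (.node (.node (.leaf 2144) (.leaf 24000)) (.node (.leaf 11729) (.leaf 45313))) (.node (.node (.leaf 6609) (.leaf 32081)) (.leaf 17521)))) (.node (.node (.node (.node (.leaf 1056) (.leaf 22256)) (.node (.leaf 10416) (.leaf 41360))) (.node (.node (.leaf 5457) (.leaf 29793)) (.leaf 16001))) (.node (.node (.node (.leaf 3217) (.leaf 25857)) (.node (.leaf 13200) (.leaf 53537))) (.node (.node (.leaf 7840) (.leaf 34624)) (.leaf 19105))))) (.node (.node (.node (.node (.node (.leaf 529) (.leaf 21312)) (.node (.leaf 9713) (.leaf 39537))) (.node (.node (.leaf 4865) (.leaf 28913)) (.leaf 15280)))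 (.node (.node (.node (.leaf 2688) (.leaf 24913)) (.node (.leaf 12417) (.leaf 48145))) (.node (.node (.leaf 7248) (.leaf 33377)) (.leaf 18321)))) (.node (.node (.node (.node (.leaf 1601) (.leaf 23089)) (.node (.leaf 11024) (.leaf 43168))) (.node (.node (.leaf 6017) (.leaf 30880)) (.leaf 16705))) (.node (.node (.node (.leaf 3745) (.leaf 26785)) (.leaf 13888)) (.node (.node (.leaf 8449) (.leaf 36096)) (.leaf 19841)))))) (.node (.node (.node (.node (.node (.node (.leaf 272) (.leaf 20881)) (.node (.leaf 9377) (.leaf 38592))) (.node (.node (.leaf 4576) (.leaf 28272)) (.leaf 14929))) (.node (.node (.node (.leaf 2401) (.leaf 24432)) (.node (.leaf 12097) (.leaf 46721))) (.node (.node (.leaf 6960) (.leaf 32736)) (.leaf 17904)))) (.node (.node (.node (.node (.leaf 1313) (.leaf 22640)) (.node (.leaf 10720) (.leaf 42337))) (.node (.node (.leaf 5728) (.leaf 30305)) (.leaf 16353))) (.node (.node (.node (.leaf 3488) (.leaf 26320)) (.leaf 13568)) (.node (.node (.leaf 8160) (.leaf 35345)) (.leaf 19473))))) (.node (.node (.node (.node (.node (.leaf 800) (.leaf 21824)) (.node (.leaf 10048) (.leaf 40400))) (.node (.node (.leaf 5200) (.leaf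 29360)) (.leaf 15664))) (.node (.node (.node (.leaf 2945) (.leaf 25376)) (.node (.leaf 12784) (.leaf 50177))) (.node (.node (.leaf 7552) (.leaf 34016)) (.leaf 18688)))) (.node (.node (.node (.node (.leaf 1873) (.leaf 23521)) (.node (.leaf 11361) (.leaf 44400))) (.node (.node (.leaf 6336) (.leaf 31440)) (.leaf 17121))) (.node (.node (.node (.leaf 4016) (.leaf 27264)) (.leaf 14192)) (.node (.node (.leaf 8768) (.leaf 36848)) (.leaf 20177)))))))

def twoTPar4 : Janko.Tree (ℕ) :=
  (.node (.node (.node (.node (.node (.node (.node (.leaf 17) (.leaf 20560)) (.node (.leaf 9073) (.leaf 37808))) (.node (.node (.leaf 4305) (.leaf 27760)) (.leaf 14592))) (.node (.node (.node (.leaf 2145) (.leaf 24016)) (.node (.leaf 11744) (.leaf 45360))) (.node (.node (.leaf 6624) (.leaf 32096)) (.leaf 17537)))) (.node (.node (.node (.node (.leaf 1057) (.leaf 22272)) (.node (.leaf 10417) (.leaf 41376))) (.node (.node (.leaf 5472) (.leaf 29809)) (.leaf 16033))) (.node (.node (.node (.leaf 3232) (.leaf 25872)) (.node (.leaf 13201) (.leaf 53616))) (.node (.node (.leaf 7841) (.leaf 34640)) (.leaf 19136))))) (.node (.node (.node (.node (.node (.leaf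 544) (.leaf 21313)) (.node (.leaf 9728) (.leaf 39553))) (.node (.node (.leaf 4880) (.leaf 28928)) (.leaf 15281))) (.node (.node (.node (.leaf 2704) (.leaf 24929)) (.node (.leaf 12433) (.leaf 48352))) (.node (.node (.leaf 7249) (.leaf 33393)) (.leaf 18337)))) (.node (.node (.node (.node (.leaf 1616) (.leaf 23105)) (.node (.leaf 11025) (.leaf 43185))) (.node (.node (.leaf 6032) (.leaf 30881)) (.leaf 16721))) (.node (.node (.node (.leaf 3760) (.leaf 26801)) (.leaf 13905)) (.node (.node (.leaf 8464) (.leaf 36097)) (.leaf 19857)))))) (.node (.node (.node (.node (.node (.node (.leaf 273) (.leaf 20896)) (.node (.leaf 9392) (.leaf 38608))) (.node (.node (.leaf 4577) (.leaf 28273)) (.leaf 14945))) (.node (.node (.node (.leaf 2416) (.leaf 24433)) (.node (.leaf 12112) (.leaf 46896))) (.node (.node (.leaf 6976) (.leaf 32817)) (.leaf 17905)))) (.node (.node (.node (.node (.leaf 1329) (.leaf 22641)) (.node (.leaf 10736) (.leaf 42384))) (.node (.node (.leaf 5729) (.leaf 30336)) (.leaf 16368))) (.node (.node (.node (.leaf 3489) (.leaf 26337)) (.leaf 13569)) (.node (.node (.leaf 8161) (.leaf 35376)) (.leaf 19504))))) (.node (.node (.node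 (.node (.node (.leaf 801) (.leaf 21840)) (.node (.leaf 10064) (.leaf 40417))) (.node (.node (.leaf 5201) (.leaf 29376)) (.leaf 15665))) (.node (.node (.node (.leaf 2960) (.leaf 25393)) (.node (.leaf 12801) (.leaf 50208))) (.node (.node (.leaf 7568) (.leaf 34032)) (.leaf 18737)))) (.node (.node (.node (.node (.leaf 1888) (.leaf 23537)) (.node (.leaf 11376) (.leaf 44417))) (.node (.node (.leaf 6337) (.leaf 31472)) (.leaf 17136))) (.node (.node (.node (.leaf 4017) (.leaf 27280)) (.leaf 14208)) (.node (.node (.leaf 8769) (.leaf 36849)) (.leaf 20192)))))))

def twoTPar5 : Janko.Tree (ℕ) :=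
  (.node (.node (.node (.node (.node (.node (.node (.leaf 32) (.leaf 20561)) (.node (.leaf 9089) (.leaf 37809))) (.node (.node (.leaf 4320) (.leaf 27761)) (.leaf 14593))) (.node (.node (.node (.leaf 2160) (.leaf 24017)) (.node (.leaf 11760) (.leaf 45376))) (.node (.node (.leaf 6625) (.leaf 32112)) (.leaf 17552)))) (.node (.node (.node (.node (.leaf 1072) (.leaf 22273)) (.node (.leaf 10433) (.leaf 41408))) (.node (.node (.leaf 5473) (.leaf 29824)) (.leaf 16048))) (.node (.node (.node (.leaf 3233) (.leaf 25873)) (.node (.leaf 13216) (.leaf 53665))) (.node (.node (.leaf 7856) (.leaf 34641)) (.leaf 19137))))) (.node (.node (.node (.node (.node (.leaf 545) (.leaf 21344)) (.node (.leaf 9729) (.leaf 39585))) (.node (.node (.leaf 4881) (.leaf 28929)) (.leaf 15296))) (.node (.node (.node (.leaf 2705) (.leaf 24945)) (.node (.leaf 12448) (.leaf 48369))) (.node (.node (.leaf 7264) (.leaf 33408)) (.leaf 18352)))) (.node (.node (.node (.node (.leaf 1617) (.leaf 23120)) (.node (.leaf 11040) (.leaf 43216))) (.node (.node (.leaf 6033) (.leaf 30897)) (.leaf 16736))) (.node (.node (.node (.leaf 3761) (.leaf 26816)) (.leaf 13920)) (.node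 (.node (.leaf 8465) (.leaf 36176)) (.leaf 19872)))))) (.node (.node (.node (.node (.node (.node (.leaf 288) (.leaf 20944)) (.node (.leaf 9393) (.leaf 38624))) (.node (.node (.leaf 4593) (.leaf 28304)) (.leaf 14960))) (.node (.node (.node (.leaf 2417) (.leaf 24448)) (.node (.leaf 12113) (.leaf 46928))) (.node (.node (.leaf 6977) (.leaf 32849)) (.leaf 17920)))) (.node (.node (.node (.node (.leaf 1344) (.leaf 22672)) (.node (.leaf 10737) (.leaf 42400))) (.node (.node (.leaf 5744) (.leaf 30352)) (.leaf 16369))) (.node (.node (.node (.leaf 3504) (.leaf 26352)) (.leaf 13584)) (.node (.node (.leaf 8176) (.leaf 35424)) (.leaf 19505))))) (.node (.node (.node (.node (.node (.leaf 816) (.leaf 21841)) (.node (.leaf 10065) (.leaf 40433))) (.node (.node (.leaf 5216) (.leaf 29377)) (.leaf 15680))) (.node (.node (.node (.leaf 2961) (.leaf 25409)) (.node (.leaf 12816) (.leaf 50241))) (.node (.node (.leaf 7584) (.leaf 34033)) (.leaf 18752)))) (.node (.node (.node (.node (.leaf 1889) (.leaf 23553)) (.node (.leaf 11377) (.leaf 44449))) (.node (.node (.leaf 6353) (.leaf 31488)) (.leaf 17137))) (.node (.node (.node (.leaf 4032) (.leaf 27297))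 (.leaf 14224)) (.node (.node (.leaf 8784) (.leaf 36976)) (.leaf 20193)))))))

def twoTPar6 : Janko.Tree (ℕ) :=
  (.node (.node (.node (.node (.node (.node (.node (.leaf 33) (.leaf 20576)) (.node (.leaf 9105) (.leaf 37824))) (.node (.node (.leaf 4321) (.leaf 27776)) (.leaf 14609))) (.node (.node (.node (.leaf 2161) (.leaf 24033)) (.node (.leaf 11776) (.leaf 45392))) (.node (.node (.leaf 6640) (.leaf 32129)) (.leaf 17553)))) (.node (.node (.node (.node (.leaf 1073) (.leaf 22289)) (.node (.leaf 10448) (.leaf 41440))) (.node (.node (.leaf 5488) (.leaf 29856)) (.leaf 16049))) (.node (.node (.node (.leaf 3248) (.leaf 25889)) (.node (.leaf 13217) (.leaf 53793))) (.node (.node (.leaf 7872) (.leaf 34656)) (.leaf 19152))))) (.node (.node (.node (.node (.node (.leaf 560) (.leaf 21360)) (.node (.leaf 9761) (.leaf 39600))) (.node (.node (.leaf 4896) (.leaf 28944)) (.leaf 15297))) (.node (.node (.node (.leaf 2720) (.leaf 24961)) (.node (.leaf 12449) (.leaf 48432))) (.node (.node (.leaf 7265) (.leaf 33425)) (.leaf 18353)))) (.node (.node (.node (.node (.leaf 1632) (.leaf 23136)) (.node (.leaf 11041) (.leaf 43233))) (.node (.node (.leaf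 6049) (.leaf 30912)) (.leaf 16737))) (.node (.node (.node (.leaf 3777) (.leaf 26833)) (.leaf 13921)) (.node (.node (.leaf 8480) (.leaf 36208)) (.leaf 19873)))))) (.node (.node (.node (.node (.node (.node (.leaf 289) (.leaf 20945)) (.node (.leaf 9408) (.leaf 38625))) (.node (.node (.leaf 4608) (.leaf 28320)) (.leaf 14961))) (.node (.node (.node (.leaf 2432) (.leaf 24449)) (.node (.leaf 12128) (.leaf 46945))) (.node (.node (.leaf 6992) (.leaf 32865)) (.leaf 17921)))) (.node (.node (.node (.node (.leaf 1345) (.leaf 22673)) (.node (.leaf 10752) (.leaf 42401))) (.node (.node (.leaf 5745) (.leaf 30369)) (.leaf 16384))) (.node (.node (.node (.leaf 3505) (.leaf 26353)) (.leaf 13585)) (.node (.node (.leaf 8177) (.leaf 35441)) (.leaf 19520))))) (.node (.node (.node (.node (.node (.leaf 817) (.leaf 21856)) (.node (.leaf 10080) (.leaf 40449))) (.node (.node (.leaf 5217) (.leaf 29392)) (.leaf 15681))) (.node (.node (.node (.leaf 2976) (.leaf 25424)) (.node (.leaf 12817) (.leaf 50273))) (.node (.node (.leaf 7585) (.leaf 34097)) (.leaf 18753)))) (.node (.node (.node (.node (.leaf 1904) (.leaf 23568)) (.node (.leaf 11392) (.leaf 44480)))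 (.node (.node (.leaf 6368) (.leaf 31520)) (.leaf 17152))) (.node (.node (.node (.leaf 4033) (.leaf 27329)) (.leaf 14225)) (.node (.node (.leaf 8785) (.leaf 36992)) (.leaf 20209)))))))

def twoTPar7 : Janko.Tree (ℕ) :=
  (.node (.node (.node (.node (.node (.node (.node (.leaf 48) (.leaf 20577)) (.node (.leaf 9120) (.leaf 37825))) (.node (.node (.leaf 4336) (.leaf 27792)) (.leaf 14624))) (.node (.node (.node (.leaf 2176) (.leaf 24048)) (.node (.leaf 11793) (.leaf 45425))) (.node (.node (.leaf 6641) (.leaf 32144)) (.leaf 17568)))) (.node (.node (.node (.node (.leaf 1088) (.leaf 22304)) (.node (.leaf 10465) (.leaf 41473))) (.node (.node (.leaf 5489) (.leaf 29857)) (.leaf 16064))) (.node (.node (.node (.leaf 3249) (.leaf 25904)) (.node (.leaf 13249) (.leaf 54528))) (.node (.node (.leaf 7873) (.leaf 34657)) (.leaf 19153))))) (.node (.node (.node (.node (.node (.leaf 561) (.leaf 21376)) (.node (.leaf 9776) (.leaf 39616))) (.node (.node (.leaf 4897) (.leaf 28945)) (.leaf 15312))) (.node (.node (.node (.leaf 2721) (.leaf 24976)) (.node (.leaf 12465) (.leaf 48481))) (.node (.node (.leaf 7280) (.leaf 33440)) (.leaf 18368)))) (.node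 (.node (.node (.node (.leaf 1633) (.leaf 23152)) (.node (.leaf 11056) (.leaf 43248))) (.node (.node (.leaf 6064) (.leaf 30913)) (.leaf 16752))) (.node (.node (.node (.leaf 3792) (.leaf 26848)) (.leaf 13936)) (.node (.node (.leaf 8481) (.leaf 36241)) (.leaf 19889)))))) (.node (.node (.node (.node (.node (.node (.leaf 304) (.leaf 20961)) (.node (.leaf 9409) (.leaf 38640))) (.node (.node (.leaf 4609) (.leaf 28321)) (.leaf 14976))) (.node (.node (.node (.leaf 2433) (.leaf 24464)) (.node (.leaf 12145) (.leaf 46961))) (.node (.node (.leaf 6993) (.leaf 32881)) (.leaf 17937)))) (.node (.node (.node (.node (.leaf 1360) (.leaf 22689)) (.node (.leaf 10753) (.leaf 42433))) (.node (.node (.leaf 5760) (.leaf 30384)) (.leaf 16385))) (.node (.node (.node (.leaf 3520) (.leaf 26368)) (.leaf 13600)) (.node (.node (.leaf 8192) (.leaf 35472)) (.leaf 19521))))) (.node (.node (.node (.node (.node (.leaf 832) (.leaf 21873)) (.node (.leaf 10081) (.leaf 40496))) (.node (.node (.leaf 5232) (.leaf 29409)) (.leaf 15696))) (.node (.node (.node (.leaf 2977) (.leaf 25440)) (.node (.leaf 12832) (.leaf 50288))) (.node (.node (.leaf 7600) (.leaf 34112))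 (.leaf 18769)))) (.node (.node (.node (.node (.leaf 1905) (.leaf 23584)) (.node (.leaf 11393) (.leaf 44544))) (.node (.node (.leaf 6369) (.leaf 31537)) (.leaf 17153))) (.node (.node (.node (.leaf 4048) (.leaf 27360)) (.leaf 14256)) (.node (.node (.leaf 8800) (.leaf 37008)) (.leaf 20224)))))))

def twoTPar8 : Janko.Tree (ℕ) :=
  (.node (.node (.node (.node (.node (.node (.node (.leaf 49) (.leaf 20592)) (.node (.leaf 9121) (.leaf 37840))) (.node (.node (.leaf 4337) (.leaf 27808)) (.leaf 14625))) (.node (.node (.node (.leaf 2177) (.leaf 24065)) (.node (.leaf 11808) (.leaf 45473))) (.node (.node (.leaf 6656) (.leaf 32145)) (.leaf 17584)))) (.node (.node (.node (.node (.leaf 1089) (.leaf 22305)) (.node (.leaf 10480) (.leaf 41536))) (.node (.node (.leaf 5504) (.leaf 29889)) (.leaf 16065))) (.node (.node (.node (.leaf 3264) (.leaf 25921)) (.node (.leaf 13264) (.leaf 54576))) (.node (.node (.leaf 7888) (.leaf 34688)) (.leaf 19168))))) (.node (.node (.node (.node (.node (.leaf 576) (.leaf 21392)) (.node (.leaf 9777) (.leaf 39681))) (.node (.node (.leaf 4912) (.leaf 28960)) (.leaf 15328))) (.node (.node (.node (.leaf 2736) (.leaf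 24977)) (.node (.leaf 12480) (.leaf 48497))) (.node (.node (.leaf 7296) (.leaf 33441)) (.leaf 18369)))) (.node (.node (.node (.node (.leaf 1648) (.leaf 23153)) (.node (.leaf 11057) (.leaf 43328))) (.node (.node (.leaf 6080) (.leaf 30928)) (.leaf 16768))) (.node (.node (.node (.leaf 3793) (.leaf 26849)) (.leaf 13937)) (.node (.node (.leaf 8496) (.leaf 36256)) (.leaf 19904)))))) (.node (.node (.node (.node (.node (.node (.leaf 305) (.leaf 20993)) (.node (.leaf 9424) (.leaf 38656))) (.node (.node (.leaf 4624) (.leaf 28336)) (.leaf 14977))) (.node (.node (.node (.leaf 2448) (.leaf 24465)) (.node (.leaf 12160) (.leaf 47025))) (.node (.node (.leaf 7008) (.leaf 32897)) (.leaf 17952)))) (.node (.node (.node (.node (.leaf 1361) (.leaf 22704)) (.node (.leaf 10768) (.leaf 42465))) (.node (.node (.leaf 5761) (.leaf 30385)) (.leaf 16400))) (.node (.node (.node (.leaf 3521) (.leaf 26369)) (.leaf 13601)) (.node (.node (.leaf 8193) (.leaf 35473)) (.leaf 19537))))) (.node (.node (.node (.node (.node (.leaf 833) (.leaf 21888)) (.node (.leaf 10096) (.leaf 40512))) (.node (.node (.leaf 5233) (.leaf 29424)) (.leaf 15697))) (.node (.node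 (.node (.leaf 2992) (.leaf 25456)) (.node (.leaf 12848) (.leaf 50353))) (.node (.node (.leaf 7601) (.leaf 34128)) (.leaf 18784)))) (.node (.node (.node (.node (.leaf 1920) (.leaf 23585)) (.node (.leaf 11408) (.leaf 44545))) (.node (.node (.leaf 6384) (.leaf 31552)) (.leaf 17184))) (.node (.node (.node (.leaf 4065) (.leaf 27361)) (.leaf 14257)) (.node (.node (.leaf 8801) (.leaf 37025)) (.leaf 20225)))))))

def twoTPar9 : Janko.Tree (ℕ) :=
  (.node (.node (.node (.node (.node (.node (.node (.leaf 64) (.leaf 20608)) (.node (.leaf 9136) (.leaf 37873))) (.node (.node (.leaf 4352) (.leaf 27840)) (.leaf 14640))) (.node (.node (.node (.leaf 2192) (.leaf 24081)) (.node (.leaf 11809) (.leaf 45504))) (.node (.node (.leaf 6657) (.leaf 32193)) (.leaf 17600)))) (.node (.node (.node (.node (.leaf 1104) (.leaf 22320)) (.node (.leaf 10481) (.leaf 41569))) (.node (.node (.leaf 5505) (.leaf 29905)) (.leaf 16080))) (.node (.node (.node (.leaf 3265) (.leaf 25936)) (.leaf 13265)) (.node (.node (.leaf 7889) (.leaf 34720)) (.leaf 19169))))) (.node (.node (.node (.node (.node (.leaf 577) (.leaf 21393)) (.node (.leaf 9792) (.leaf 39712))) (.node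 (.node (.leaf 4913) (.leaf 28961)) (.leaf 15329))) (.node (.node (.node (.leaf 2737) (.leaf 24992)) (.node (.leaf 12481) (.leaf 48608))) (.node (.node (.leaf 7297) (.leaf 33457)) (.leaf 18384)))) (.node (.node (.node (.node (.leaf 1649) (.leaf 23185)) (.node (.leaf 11072) (.leaf 43344))) (.node (.node (.leaf 6081) (.leaf 30945)) (.leaf 16769))) (.node (.node (.node (.leaf 3808) (.leaf 26864)) (.leaf 13952)) (.node (.node (.leaf 8497) (.leaf 36272)) (.leaf 19905)))))) (.node (.node (.node (.node (.node (.node (.leaf 320) (.leaf 21008)) (.node (.leaf 9425) (.leaf 38752))) (.node (.node (.leaf 4625) (.leaf 28352)) (.leaf 14993))) (.node (.node (.node (.leaf 2465) (.leaf 24512)) (.node (.leaf 12161) (.leaf 47057))) (.node (.node (.leaf 7009) (.leaf 32912)) (.leaf 17953)))) (.node (.node (.node (.node (.leaf 1376) (.leaf 22705)) (.node (.leaf 10769) (.leaf 42496))) (.node (.node (.leaf 5776) (.leaf 30400)) (.leaf 16401))) (.node (.node (.node (.leaf 3536) (.leaf 26384)) (.leaf 13616)) (.node (.node (.leaf 8208) (.leaf 35488)) (.leaf 19553))))) (.node (.node (.node (.node (.node (.leaf 848) (.leaf 21889)) (.node (.leaf 10097)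 (.leaf 40544))) (.node (.node (.leaf 5248) (.leaf 29425)) (.leaf 15712))) (.node (.node (.node (.leaf 2993) (.leaf 25472)) (.node (.leaf 12864) (.leaf 50465))) (.node (.node (.leaf 7616) (.leaf 34144)) (.leaf 18801)))) (.node (.node (.node (.node (.leaf 1921) (.leaf 23616)) (.node (.leaf 11424) (.leaf 44560))) (.node (.node (.leaf 6385) (.leaf 31553)) (.leaf 17185))) (.node (.node (.node (.leaf 4080) (.leaf 27377)) (.leaf 14272)) (.node (.node (.leaf 8817) (.leaf 37040)) (.leaf 20240)))))))

def twoTPar10 : Janko.Tree (ℕ) :=
  (.node (.node (.node (.node (.node (.node (.node (.leaf 65) (.leaf 20609)) (.node (.leaf 9137) (.leaf 37936))) (.node (.node (.leaf 4353) (.leaf 27856)) (.leaf 14641))) (.node (.node (.node (.leaf 2193) (.leaf 24112)) (.node (.leaf 11824) (.leaf 45632))) (.node (.node (.leaf 6704) (.leaf 32208)) (.leaf 17601)))) (.node (.node (.node (.node (.leaf 1105) (.leaf 22321)) (.node (.leaf 10496) (.leaf 41585))) (.node (.node (.leaf 5520) (.leaf 29921)) (.leaf 16081))) (.node (.node (.node (.leaf 3280) (.leaf 25952)) (.leaf 13280)) (.node (.node (.leaf 7904) (.leaf 34721)) (.leaf 19184))))) (.node (.node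 (.node (.node (.node (.leaf 592) (.leaf 21409)) (.node (.leaf 9793) (.leaf 39745))) (.node (.node (.leaf 4928) (.leaf 28977)) (.leaf 15344))) (.node (.node (.node (.leaf 2752) (.leaf 24993)) (.node (.leaf 12496) (.leaf 48656))) (.node (.node (.leaf 7313) (.leaf 33472)) (.leaf 18400)))) (.node (.node (.node (.node (.leaf 1664) (.leaf 23200)) (.node (.leaf 11073) (.leaf 43345))) (.node (.node (.leaf 6096) (.leaf 30961)) (.leaf 16784))) (.node (.node (.node (.leaf 3809) (.leaf 26865)) (.leaf 13953)) (.node (.node (.leaf 8512) (.leaf 36289)) (.leaf 19920)))))) (.node (.node (.node (.node (.node (.node (.leaf 321) (.leaf 21009)) (.node (.leaf 9440) (.leaf 38800))) (.node (.node (.leaf 4640) (.leaf 28369)) (.leaf 15008))) (.node (.node (.node (.leaf 2480) (.leaf 24528)) (.node (.leaf 12176) (.leaf 47072))) (.node (.node (.leaf 7024) (.leaf 32913)) (.leaf 17968)))) (.node (.node (.node (.node (.leaf 1377) (.leaf 22720)) (.node (.leaf 10784) (.leaf 42529))) (.node (.node (.leaf 5792) (.leaf 30401)) (.leaf 16417))) (.node (.node (.node (.leaf 3537) (.leaf 26385)) (.leaf 13617)) (.node (.node (.leaf 8209) (.leaf 35504)) (.leaf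 19569))))) (.node (.node (.node (.node (.node (.leaf 849) (.leaf 21905)) (.node (.leaf 10112) (.leaf 40560))) (.node (.node (.leaf 5249) (.leaf 29440)) (.leaf 15713))) (.node (.node (.node (.leaf 3008) (.leaf 25488)) (.node (.leaf 12865) (.leaf 50528))) (.node (.node (.leaf 7617) (.leaf 34161)) (.leaf 18816)))) (.node (.node (.node (.node (.leaf 1936) (.leaf 23617)) (.node (.leaf 11425) (.leaf 44561))) (.node (.node (.leaf 6416) (.leaf 31569)) (.leaf 17200))) (.node (.node (.node (.leaf 4081) (.leaf 27392)) (.leaf 14273)) (.node (.node (.leaf 8832) (.leaf 37041)) (.leaf 20257)))))))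

def twoTPar11 : Janko.Tree (ℕ) :=
  (.node (.node (.node (.node (.node (.node (.node (.leaf 80) (.leaf 20624)) (.node (.leaf 9152) (.leaf 37969))) (.node (.node (.leaf 4368) (.leaf 27857)) (.leaf 14656))) (.node (.node (.node (.leaf 2208) (.leaf 24129)) (.node (.leaf 11825) (.leaf 45697))) (.node (.node (.leaf 6720) (.leaf 32224)) (.leaf 17616)))) (.node (.node (.node (.node (.leaf 1120) (.leaf 22337)) (.node (.leaf 10497) (.leaf 41600))) (.node (.node (.leaf 5521) (.leaf 29936)) (.leaf 16096))) (.node (.node (.node (.leaf 3296) (.leaf 25953)) (.leaf 13296)) (.node (.node (.leaf 7905) (.leaf 34769)) (.leaf 19200))))) (.node (.node (.node (.node (.node (.leaf 593) (.leaf 21424)) (.node (.leaf 9808) (.leaf 39760))) (.node (.node (.leaf 4929) (.leaf 28992)) (.leaf 15345))) (.node (.node (.node (.leaf 2753) (.leaf 25009)) (.node (.leaf 12512) (.leaf 48657))) (.node (.node (.leaf 7328) (.leaf 33488)) (.leaf 18401)))) (.node (.node (.node (.node (.leaf 1665) (.leaf 23201)) (.node (.leaf 11088) (.leaf 43377))) (.node (.node (.leaf 6097) (.leaf 31009)) (.leaf 16785))) (.node (.node (.node (.leaf 3824) (.leaf 26880)) (.leaf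 13968)) (.node (.node (.leaf 8513) (.leaf 36305)) (.leaf 19936)))))) (.node (.node (.node (.node (.node (.node (.leaf 336) (.leaf 21024)) (.node (.leaf 9441) (.leaf 38801))) (.node (.node (.leaf 4641) (.leaf 28384)) (.leaf 15024))) (.node (.node (.node (.leaf 2481) (.leaf 24544)) (.node (.leaf 12177) (.leaf 47137))) (.node (.node (.leaf 7025) (.leaf 32929)) (.leaf 17969)))) (.node (.node (.node (.node (.leaf 1392) (.leaf 22721)) (.node (.leaf 10785) (.leaf 42545))) (.node (.node (.leaf 5793) (.leaf 30417)) (.leaf 16432))) (.node (.node (.node (.leaf 3552) (.leaf 26401)) (.leaf 13632)) (.node (.node (.leaf 8224) (.leaf 35520)) (.leaf 19585))))) (.node (.node (.node (.node (.node (.leaf 864) (.leaf 21920)) (.node (.leaf 10128) (.leaf 40640))) (.node (.node (.leaf 5264) (.leaf 29456)) (.leaf 15729))) (.node (.node (.node (.leaf 3009) (.leaf 25489)) (.node (.leaf 12880) (.leaf 50640))) (.node (.node (.leaf 7632) (.leaf 34193)) (.leaf 18817)))) (.node (.node (.node (.node (.leaf 1937) (.leaf 23648)) (.node (.leaf 11440) (.leaf 44577))) (.node (.node (.leaf 6417) (.leaf 31584)) (.leaf 17201))) (.node (.node (.node (.leaf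 4096) (.leaf 27409)) (.leaf 14289)) (.node (.node (.leaf 8833) (.leaf 37152)) (.leaf 20272)))))))

def twoTPar12 : Janko.Tree (ℕ) :=
  (.node (.node (.node (.node (.node (.node (.node (.leaf 81) (.leaf 20625)) (.node (.leaf 9153) (.leaf 37985))) (.node (.node (.leaf 4369) (.leaf 27888)) (.leaf 14657))) (.node (.node (.node (.leaf 2224) (.leaf 24145)) (.node (.leaf 11856) (.leaf 45808))) (.node (.node (.leaf 6721) (.leaf 32240)) (.leaf 17633)))) (.node (.node (.node (.node (.leaf 1121) (.leaf 22352)) (.node (.leaf 10512) (.leaf 41665))) (.node (.node (.leaf 5536) (.leaf 29953)) (.leaf 16097))) (.node (.node (.node (.leaf 3297) (.leaf 25968)) (.leaf 13297)) (.node (.node (.leaf 7920) (.leaf 34832)) (.leaf 19201))))) (.node (.node (.node (.node (.node (.leaf 608) (.leaf 21440)) (.node (.leaf 9809) (.leaf 39777))) (.node (.node (.leaf 4944) (.leaf 28993)) (.leaf 15360))) (.node (.node (.node (.leaf 2768) (.leaf 25024)) (.node (.leaf 12513) (.leaf 48928))) (.node (.node (.leaf 7344) (.leaf 33504)) (.leaf 18416)))) (.node (.node (.node (.node (.leaf 1680) (.leaf 23217)) (.node (.leaf 11121) (.leaf 43392))) (.node (.node (.leaf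 6112) (.leaf 31024)) (.leaf 16817))) (.node (.node (.node (.leaf 3825) (.leaf 26912)) (.leaf 13969)) (.node (.node (.leaf 8529) (.leaf 36320)) (.leaf 19952)))))) (.node (.node (.node (.node (.node (.node (.leaf 337) (.leaf 21025)) (.node (.leaf 9456) (.leaf 38816))) (.node (.node (.leaf 4656) (.leaf 28401)) (.leaf 15025))) (.node (.node (.node (.leaf 2496) (.leaf 24545)) (.node (.leaf 12192) (.leaf 47152))) (.node (.node (.leaf 7040) (.leaf 32944)) (.leaf 17984)))) (.node (.node (.node (.node (.leaf 1393) (.leaf 22752)) (.node (.leaf 10800) (.leaf 42593))) (.node (.node (.leaf 5808) (.leaf 30464)) (.leaf 16465))) (.node (.node (.node (.leaf 3553) (.leaf 26416)) (.leaf 13633)) (.node (.node (.leaf 8225) (.leaf 35600)) (.leaf 19600))))) (.node (.node (.node (.node (.node (.leaf 865) (.leaf 21921)) (.node (.leaf 10129) (.leaf 40705))) (.node (.node (.leaf 5265) (.leaf 29457)) (.leaf 15744))) (.node (.node (.node (.leaf 3024) (.leaf 25505)) (.node (.leaf 12896) (.leaf 50881))) (.node (.node (.leaf 7633) (.leaf 34208)) (.leaf 18832)))) (.node (.node (.node (.node (.leaf 1952) (.leaf 23649)) (.node (.leaf 11456) (.leaf 44593)))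 (.node (.node (.leaf 6432) (.leaf 31585)) (.leaf 17216))) (.node (.node (.node (.leaf 4097) (.leaf 27424)) (.leaf 14320)) (.node (.node (.leaf 8849) (.leaf 37168)) (.leaf 20288)))))))

def twoTPar13 : Janko.Tree (ℕ) :=
  (.node (.node (.node (.node (.node (.node (.node (.leaf 96) (.leaf 20656)) (.node (.leaf 9168) (.leaf 38001))) (.node (.node (.leaf 4384) (.leaf 27905)) (.leaf 14672))) (.node (.node (.node (.leaf 2225) (.leaf 24160)) (.node (.leaf 11857) (.leaf 45809))) (.node (.node (.leaf 6736) (.leaf 32272)) (.leaf 17648)))) (.node (.node (.node (.node (.leaf 1136) (.leaf 22353)) (.node (.leaf 10513) (.leaf 41696))) (.node (.node (.leaf 5537) (.leaf 29969)) (.leaf 16112))) (.node (.node (.node (.leaf 3312) (.leaf 25984)) (.leaf 13328)) (.node (.node (.leaf 7921) (.leaf 34848)) (.leaf 19216))))) (.node (.node (.node (.node (.node (.leaf 609) (.leaf 21456)) (.node (.leaf 9825) (.leaf 39824))) (.node (.node (.leaf 4960) (.leaf 29008)) (.leaf 15361))) (.node (.node (.node (.leaf 2769) (.leaf 25025)) (.node (.leaf 12528) (.leaf 48945))) (.node (.node (.leaf 7345) (.leaf 33520)) (.leaf 18432)))) (.node (.node (.node (.node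 (.leaf 1681) (.leaf 23233)) (.node (.leaf 11136) (.leaf 43393))) (.node (.node (.leaf 6113) (.leaf 31041)) (.leaf 16833))) (.node (.node (.node (.leaf 3840) (.leaf 26928)) (.leaf 13984)) (.node (.node (.leaf 8545) (.leaf 36336)) (.leaf 19953)))))) (.node (.node (.node (.node (.node (.node (.leaf 352) (.leaf 21040)) (.node (.leaf 9457) (.leaf 38832))) (.node (.node (.leaf 4672) (.leaf 28432)) (.leaf 15040))) (.node (.node (.node (.leaf 2497) (.leaf 24560)) (.node (.leaf 12193) (.leaf 47168))) (.node (.node (.leaf 7041) (.leaf 32961)) (.leaf 18000)))) (.node (.node (.node (.node (.leaf 1408) (.leaf 22753)) (.node (.leaf 10801) (.leaf 42625))) (.node (.node (.leaf 5824) (.leaf 30480)) (.leaf 16480))) (.node (.node (.node (.leaf 3568) (.leaf 26417)) (.leaf 13648)) (.node (.node (.leaf 8240) (.leaf 35601)) (.leaf 19601))))) (.node (.node (.node (.node (.node (.leaf 880) (.leaf 21952)) (.node (.leaf 10145) (.leaf 40720))) (.node (.node (.leaf 5280) (.leaf 29472)) (.leaf 15745))) (.node (.node (.node (.leaf 3025) (.leaf 25520)) (.node (.leaf 12912) (.leaf 51025))) (.node (.node (.leaf 7648) (.leaf 34272)) (.leaf 18848))))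 (.node (.node (.node (.node (.leaf 1953) (.leaf 23680)) (.node (.leaf 11457) (.leaf 44608))) (.node (.node (.leaf 6433) (.leaf 31600)) (.leaf 17217))) (.node (.node (.node (.leaf 4112) (.leaf 27456)) (.leaf 14321)) (.node (.node (.leaf 8864) (.leaf 37185)) (.leaf 20289)))))))

def twoTPar14 : Janko.Tree (ℕ) :=
  (.node (.node (.node (.node (.node (.node (.node (.leaf 97) (.leaf 20657)) (.node (.leaf 9169) (.leaf 38016))) (.node (.node (.leaf 4385) (.leaf 27920)) (.leaf 14673))) (.node (.node (.node (.leaf 2240) (.leaf 24176)) (.node (.leaf 11872) (.leaf 45824))) (.node (.node (.leaf 6737) (.leaf 32273)) (.leaf 17649)))) (.node (.node (.node (.node (.leaf 1137) (.leaf 22369)) (.node (.leaf 10528) (.leaf 41712))) (.node (.node (.leaf 5552) (.leaf 30000)) (.leaf 16113))) (.node (.node (.node (.leaf 3313) (.leaf 26000)) (.leaf 13329)) (.node (.node (.leaf 7936) (.leaf 34865)) (.leaf 19217))))) (.node (.node (.node (.node (.node (.leaf 624) (.leaf 21472)) (.node (.leaf 9840) (.leaf 39840))) (.node (.node (.leaf 4976) (.leaf 29024)) (.leaf 15376))) (.node (.node (.node (.leaf 2784) (.leaf 25040)) (.node (.leaf 12529) (.leaf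 49105))) (.node (.node (.leaf 7360) (.leaf 33536)) (.leaf 18448)))) (.node (.node (.node (.node (.leaf 1696) (.leaf 23249)) (.node (.leaf 11137) (.leaf 43457))) (.node (.node (.leaf 6128) (.leaf 31056)) (.leaf 16849))) (.node (.node (.node (.leaf 3841) (.leaf 26945)) (.leaf 13985)) (.node (.node (.leaf 8560) (.leaf 36353)) (.leaf 19969)))))) (.node (.node (.node (.node (.node (.node (.leaf 353) (.leaf 21057)) (.node (.leaf 9488) (.leaf 38833))) (.node (.node (.leaf 4673) (.leaf 28448)) (.leaf 15041))) (.node (.node (.node (.leaf 2512) (.leaf 24592)) (.node (.leaf 12208) (.leaf 47216))) (.node (.node (.leaf 7056) (.leaf 32976)) (.leaf 18001)))) (.node (.node (.node (.node (.leaf 1409) (.leaf 22768)) (.node (.leaf 10816) (.leaf 42640))) (.node (.node (.leaf 5840) (.leaf 30481)) (.leaf 16481))) (.node (.node (.node (.leaf 3569) (.leaf 26432)) (.leaf 13664)) (.node (.node (.leaf 8241) (.leaf 35632)) (.leaf 19632))))) (.node (.node (.node (.node (.node (.leaf 881) (.leaf 21953)) (.node (.leaf 10160) (.leaf 40752))) (.node (.node (.leaf 5281) (.leaf 29473)) (.leaf 15761))) (.node (.node (.node (.leaf 3040) (.leaf 25536))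 (.node (.leaf 12928) (.leaf 51168))) (.node (.node (.leaf 7649) (.leaf 34273)) (.leaf 18864)))) (.node (.node (.node (.node (.leaf 1968) (.leaf 23681)) (.node (.leaf 11472) (.leaf 44609))) (.node (.node (.leaf 6448) (.leaf 31601)) (.leaf 17232))) (.node (.node (.node (.leaf 4113) (.leaf 27457)) (.leaf 14336)) (.node (.node (.leaf 8865) (.leaf 37280)) (.leaf 20321)))))))

def twoTPar15 : Janko.Tree (ℕ) :=
  (.node (.node (.node (.node (.node (.node (.node (.leaf 112) (.leaf 20672)) (.node (.leaf 9184) (.leaf 38017))) (.node (.node (.leaf 4400) (.leaf 27921)) (.leaf 14704))) (.node (.node (.node (.leaf 2241) (.leaf 24177)) (.node (.leaf 11888) (.leaf 45841))) (.node (.node (.leaf 6752) (.leaf 32304)) (.leaf 17664)))) (.node (.node (.node (.node (.leaf 1152) (.leaf 22385)) (.node (.leaf 10529) (.leaf 41728))) (.node (.node (.leaf 5553) (.leaf 30016)) (.leaf 16128))) (.node (.node (.node (.leaf 3328) (.leaf 26017)) (.leaf 13345)) (.node (.node (.leaf 7937) (.leaf 34881)) (.leaf 19232))))) (.node (.node (.node (.node (.node (.leaf 625) (.leaf 21488)) (.node (.leaf 9841) (.leaf 39872))) (.node (.node (.leaf 4977) (.leaf 29025))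 (.leaf 15377))) (.node (.node (.node (.leaf 2785) (.leaf 25041)) (.node (.leaf 12544) (.leaf 49121))) (.node (.node (.leaf 7361) (.leaf 33568)) (.leaf 18449)))) (.node (.node (.node (.node (.leaf 1697) (.leaf 23265)) (.node (.leaf 11168) (.leaf 43553))) (.node (.node (.leaf 6144) (.leaf 31057)) (.leaf 16880))) (.node (.node (.node (.leaf 3856) (.leaf 26960)) (.leaf 14000)) (.node (.node (.leaf 8561) (.leaf 36369)) (.leaf 19984)))))) (.node (.node (.node (.node (.node (.node (.leaf 368) (.leaf 21072)) (.node (.leaf 9489) (.leaf 38848))) (.node (.node (.leaf 4688) (.leaf 28480)) (.leaf 15056))) (.node (.node (.node (.leaf 2513) (.leaf 24593)) (.node (.leaf 12209) (.leaf 47281))) (.node (.node (.leaf 7057) (.leaf 32992)) (.leaf 18016)))) (.node (.node (.node (.node (.leaf 1425) (.leaf 22800)) (.node (.leaf 10817) (.leaf 42657))) (.node (.node (.leaf 5841) (.leaf 30528)) (.leaf 16496))) (.node (.node (.node (.leaf 3584) (.leaf 26449)) (.leaf 13696)) (.node (.node (.leaf 8256) (.leaf 35648)) (.leaf 19633))))) (.node (.node (.node (.node (.node (.leaf 896) (.leaf 21968)) (.node (.leaf 10161) (.leaf 40816))) (.node (.node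 (.leaf 5296) (.leaf 29488)) (.leaf 15776))) (.node (.node (.node (.leaf 3041) (.leaf 25552)) (.node (.leaf 12929) (.leaf 51280))) (.node (.node (.leaf 7664) (.leaf 34289)) (.leaf 18880)))) (.node (.node (.node (.node (.leaf 1969) (.leaf 23696)) (.node (.leaf 11473) (.leaf 44672))) (.node (.node (.leaf 6449) (.leaf 31616)) (.leaf 17248))) (.node (.node (.node (.leaf 4128) (.leaf 27472)) (.leaf 14352)) (.node (.node (.leaf 8880) (.leaf 37297)) (.leaf 20336)))))))

def twoTPar16 : Janko.Tree (ℕ) :=
  (.node (.node (.node (.node (.node (.node (.node (.leaf 113) (.leaf 20673)) (.node (.leaf 9185) (.leaf 38065))) (.node (.node (.leaf 4416) (.leaf 27936)) (.leaf 14705))) (.node (.node (.node (.leaf 2256) (.leaf 24193)) (.node (.leaf 11904) (.leaf 45872))) (.node (.node (.leaf 6753) (.leaf 32321)) (.leaf 17665)))) (.node (.node (.node (.node (.leaf 1153) (.leaf 22400)) (.node (.leaf 10544) (.leaf 41729))) (.node (.node (.leaf 5568) (.leaf 30017)) (.leaf 16144))) (.node (.node (.node (.leaf 3329) (.leaf 26032)) (.leaf 13360)) (.node (.node (.leaf 7952) (.leaf 34896)) (.leaf 19233))))) (.node (.node (.node (.node (.node (.leaf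 640) (.leaf 21489)) (.node (.leaf 9856) (.leaf 39873))) (.node (.node (.leaf 4992) (.leaf 29040)) (.leaf 15408))) (.node (.node (.node (.leaf 2800) (.leaf 25056)) (.node (.leaf 12545) (.leaf 49184))) (.node (.node (.leaf 7376) (.leaf 33569)) (.leaf 18464)))) (.node (.node (.node (.node (.leaf 1712) (.leaf 23281)) (.node (.leaf 11169) (.leaf 43584))) (.node (.node (.leaf 6145) (.leaf 31104)) (.leaf 16928))) (.node (.node (.node (.leaf 3857) (.leaf 26961)) (.leaf 14001)) (.node (.node (.leaf 8576) (.leaf 36384)) (.leaf 19985)))))) (.node (.node (.node (.node (.node (.node (.leaf 369) (.leaf 21073)) (.node (.leaf 9504) (.leaf 38865))) (.node (.node (.leaf 4689) (.leaf 28481)) (.leaf 15057))) (.node (.node (.node (.leaf 2528) (.leaf 24609)) (.node (.leaf 12224) (.leaf 47297))) (.node (.node (.leaf 7072) (.leaf 32993)) (.leaf 18033)))) (.node (.node (.node (.node (.leaf 1441) (.leaf 22816)) (.node (.leaf 10832) (.leaf 42705))) (.node (.node (.leaf 5856) (.leaf 30561)) (.leaf 16497))) (.node (.node (.node (.leaf 3585) (.leaf 26464)) (.leaf 13697)) (.node (.node (.leaf 8257) (.leaf 35665)) (.leaf 19649))))) (.node (.node (.node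 (.node (.node (.leaf 897) (.leaf 21969)) (.node (.leaf 10177) (.leaf 40849))) (.node (.node (.leaf 5297) (.leaf 29489)) (.leaf 15808))) (.node (.node (.node (.leaf 3056) (.leaf 25553)) (.node (.leaf 12944) (.leaf 51377))) (.node (.node (.leaf 7665) (.leaf 34304)) (.leaf 18896)))) (.node (.node (.node (.node (.leaf 1984) (.leaf 23697)) (.node (.leaf 11488) (.leaf 44737))) (.node (.node (.leaf 6464) (.leaf 31617)) (.leaf 17264))) (.node (.node (.node (.leaf 4129) (.leaf 27488)) (.leaf 14353)) (.node (.node (.leaf 8881) (.leaf 37344)) (.leaf 20337)))))))

def twoTPar17 : Janko.Tree (ℕ) :=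
  (.node (.node (.node (.node (.node (.node (.node (.leaf 128) (.leaf 20689)) (.node (.leaf 9200) (.leaf 38096))) (.node (.node (.leaf 4417) (.leaf 27952)) (.leaf 14736))) (.node (.node (.node (.leaf 2257) (.leaf 24208)) (.node (.leaf 11905) (.leaf 45952))) (.node (.node (.leaf 6768) (.leaf 32337)) (.leaf 17680)))) (.node (.node (.node (.node (.leaf 1168) (.leaf 22416)) (.node (.leaf 10545) (.leaf 41744))) (.node (.node (.leaf 5584) (.leaf 30033)) (.leaf 16145))) (.node (.node (.node (.leaf 3344) (.leaf 26048)) (.leaf 13361)) (.node (.node (.leaf 7953) (.leaf 34913)) (.leaf 19248))))) (.node (.node (.node (.node (.node (.leaf 641) (.leaf 21504)) (.node (.leaf 9857) (.leaf 39888))) (.node (.node (.leaf 4993) (.leaf 29056)) (.leaf 15424))) (.node (.node (.node (.leaf 2801) (.leaf 25057)) (.node (.leaf 12560) (.leaf 49264))) (.node (.node (.leaf 7377) (.leaf 33600)) (.leaf 18465)))) (.node (.node (.node (.node (.leaf 1713) (.leaf 23312)) (.node (.leaf 11184) (.leaf 43585))) (.node (.node (.leaf 6160) (.leaf 31137)) (.leaf 16929))) (.node (.node (.node (.leaf 3872) (.leaf 26976)) (.leaf 14016)) (.node (.node (.leaf 8577)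 (.leaf 36385)) (.leaf 20000)))))) (.node (.node (.node (.node (.node (.node (.leaf 384) (.leaf 21088)) (.node (.leaf 9505) (.leaf 38913))) (.node (.node (.leaf 4705) (.leaf 28497)) (.leaf 15073))) (.node (.node (.node (.leaf 2529) (.leaf 24625)) (.node (.leaf 12225) (.leaf 47312))) (.node (.node (.leaf 7073) (.leaf 33024)) (.leaf 18049)))) (.node (.node (.node (.node (.leaf 1456) (.leaf 22817)) (.node (.leaf 10848) (.leaf 42720))) (.node (.node (.leaf 5857) (.leaf 30576)) (.leaf 16512))) (.node (.node (.node (.leaf 3600) (.leaf 26465)) (.leaf 13713)) (.node (.node (.leaf 8273) (.leaf 35680)) (.leaf 19664))))) (.node (.node (.node (.node (.node (.leaf 912) (.leaf 21984)) (.node (.leaf 10193) (.leaf 40865))) (.node (.node (.leaf 5312) (.leaf 29505)) (.leaf 15809))) (.node (.node (.node (.leaf 3057) (.leaf 25568)) (.node (.leaf 12961) (.leaf 51408))) (.node (.node (.leaf 7680) (.leaf 34305)) (.leaf 18897)))) (.node (.node (.node (.node (.leaf 1985) (.leaf 23712)) (.node (.leaf 11489) (.leaf 44752))) (.node (.node (.leaf 6465) (.leaf 31649)) (.leaf 17296))) (.node (.node (.node (.leaf 4144) (.leaf 27489)) (.leaf 14368))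 (.node (.node (.leaf 8912) (.leaf 37345)) (.leaf 20352)))))))

def twoTPar18 : Janko.Tree (ℕ) :=
  (.node (.node (.node (.node (.node (.node (.node (.leaf 129) (.leaf 20704)) (.node (.leaf 9201) (.leaf 38112))) (.node (.node (.leaf 4432) (.leaf 27968)) (.leaf 14737))) (.node (.node (.node (.leaf 2272) (.leaf 24209)) (.node (.leaf 11920) (.leaf 45969))) (.node (.node (.leaf 6769) (.leaf 32352)) (.leaf 17712)))) (.node (.node (.node (.node (.leaf 1169) (.leaf 22432)) (.node (.leaf 10560) (.leaf 41776))) (.node (.node (.leaf 5585) (.leaf 30096)) (.leaf 16176))) (.node (.node (.node (.leaf 3345) (.leaf 26064)) (.leaf 13376)) (.node (.node (.leaf 7968) (.leaf 34929)) (.leaf 19249))))) (.node (.node (.node (.node (.node (.leaf 656) (.leaf 21505)) (.node (.leaf 9872) (.leaf 39905))) (.node (.node (.leaf 5008) (.leaf 29073)) (.leaf 15441))) (.node (.node (.node (.leaf 2816) (.leaf 25089)) (.node (.leaf 12561) (.leaf 49265))) (.node (.node (.leaf 7392) (.leaf 33616)) (.leaf 18496)))) (.node (.node (.node (.node (.leaf 1728) (.leaf 23313)) (.node (.leaf 11185) (.leaf 43617))) (.node (.node (.leaf 6161) (.leaf 31153)) (.leaf 16945)))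 (.node (.node (.node (.leaf 3873) (.leaf 26992)) (.leaf 14017)) (.node (.node (.leaf 8593) (.leaf 36417)) (.leaf 20032)))))) (.node (.node (.node (.node (.node (.node (.leaf 385) (.leaf 21105)) (.node (.leaf 9521) (.leaf 38960))) (.node (.node (.leaf 4720) (.leaf 28528)) (.leaf 15088))) (.node (.node (.node (.leaf 2544) (.leaf 24640)) (.node (.leaf 12240) (.leaf 47329))) (.node (.node (.leaf 7088) (.leaf 33041)) (.leaf 18064)))) (.node (.node (.node (.node (.leaf 1457) (.leaf 22833)) (.node (.leaf 10849) (.leaf 42736))) (.node (.node (.leaf 5872) (.leaf 30593)) (.leaf 16528))) (.node (.node (.node (.leaf 3616) (.leaf 26480)) (.leaf 13728)) (.node (.node (.leaf 8289) (.leaf 35712)) (.leaf 19665))))) (.node (.node (.node (.node (.node (.leaf 913) (.leaf 22000)) (.node (.leaf 10208) (.leaf 40913))) (.node (.node (.leaf 5313) (.leaf 29520)) (.leaf 15824))) (.node (.node (.node (.leaf 3072) (.leaf 25569)) (.node (.leaf 12992) (.leaf 51553))) (.node (.node (.leaf 7681) (.leaf 34320)) (.leaf 18913)))) (.node (.node (.node (.node (.leaf 2000) (.leaf 23728)) (.node (.leaf 11521) (.leaf 44753))) (.node (.node (.leaf 6480) (.leaf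 31664)) (.leaf 17297))) (.node (.node (.node (.leaf 4145) (.leaf 27520)) (.leaf 14369)) (.node (.node (.leaf 8913) (.leaf 37441)) (.leaf 20368)))))))

def twoTPar19 : Janko.Tree (ℕ) :=
  (.node (.node (.node (.node (.node (.node (.node (.leaf 144) (.leaf 20705)) (.node (.leaf 9216) (.leaf 38113))) (.node (.node (.leaf 4433) (.leaf 27969)) (.leaf 14752))) (.node (.node (.node (.leaf 2273) (.leaf 24224)) (.node (.leaf 11921) (.leaf 46080))) (.node (.node (.leaf 6785) (.leaf 32353)) (.leaf 17728)))) (.node (.node (.node (.node (.leaf 1184) (.leaf 22433)) (.node (.leaf 10561) (.leaf 41808))) (.node (.node (.leaf 5600) (.leaf 30097)) (.leaf 16177))) (.node (.node (.node (.leaf 3360) (.leaf 26080)) (.leaf 13393)) (.node (.node (.leaf 7969) (.leaf 34944)) (.leaf 19264))))) (.node (.node (.node (.node (.node (.leaf 657) (.leaf 21536)) (.node (.leaf 9873) (.leaf 39921))) (.node (.node (.leaf 5009) (.leaf 29089)) (.leaf 15456))) (.node (.node (.node (.leaf 2817) (.leaf 25104)) (.node (.leaf 12576) (.leaf 49280))) (.node (.node (.leaf 7393) (.leaf 33633)) (.leaf 18497)))) (.node (.node (.node (.node (.leaf 1744) (.leaf 23328))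 (.node (.leaf 11200) (.leaf 43633))) (.node (.node (.leaf 6176) (.leaf 31168)) (.leaf 16960))) (.node (.node (.node (.leaf 3888) (.leaf 26993)) (.leaf 14032)) (.node (.node (.leaf 8608) (.leaf 36433)) (.leaf 20033)))))) (.node (.node (.node (.node (.node (.node (.leaf 400) (.leaf 21120)) (.node (.leaf 9536) (.leaf 38977))) (.node (.node (.leaf 4721) (.leaf 28544)) (.leaf 15089))) (.node (.node (.node (.leaf 2545) (.leaf 24641)) (.node (.leaf 12241) (.leaf 47345))) (.node (.node (.leaf 7104) (.leaf 33120)) (.leaf 18080)))) (.node (.node (.node (.node (.leaf 1472) (.leaf 22848)) (.node (.leaf 10865) (.leaf 42768))) (.node (.node (.leaf 5873) (.leaf 30608)) (.leaf 16529))) (.node (.node (.node (.leaf 3617) (.leaf 26528)) (.leaf 13729)) (.node (.node (.leaf 8304) (.leaf 35713)) (.leaf 19680))))) (.node (.node (.node (.node (.node (.leaf 928) (.leaf 22001)) (.node (.leaf 10209) (.leaf 40928))) (.node (.node (.leaf 5328) (.leaf 29537)) (.leaf 15825))) (.node (.node (.node (.leaf 3088) (.leaf 25585)) (.node (.leaf 13009) (.leaf 51841))) (.node (.node (.leaf 7696) (.leaf 34321)) (.leaf 18928)))) (.node (.node (.node (.node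 (.leaf 2001) (.leaf 23760)) (.node (.leaf 11536) (.leaf 44768))) (.node (.node (.leaf 6481) (.leaf 31681)) (.leaf 17312))) (.node (.node (.node (.leaf 4160) (.leaf 27521)) (.leaf 14384)) (.node (.node (.leaf 8928) (.leaf 37456)) (.leaf 20369)))))))

def twoTPar20 : Janko.Tree (ℕ) :=
  (.node (.node (.node (.node (.node (.node (.node (.leaf 145) (.leaf 20720)) (.node (.leaf 9217) (.leaf 38128))) (.node (.node (.leaf 4448) (.leaf 27984)) (.leaf 14768))) (.node (.node (.node (.leaf 2288) (.leaf 24240)) (.node (.leaf 11936) (.leaf 46081))) (.node (.node (.leaf 6801) (.leaf 32368)) (.leaf 17729)))) (.node (.node (.node (.node (.leaf 1185) (.leaf 22448)) (.node (.leaf 10576) (.leaf 41825))) (.node (.node (.leaf 5601) (.leaf 30113)) (.leaf 16192))) (.node (.node (.node (.leaf 3361) (.leaf 26081)) (.leaf 13409)) (.node (.node (.leaf 7984) (.leaf 34961)) (.leaf 19280))))) (.node (.node (.node (.node (.node (.leaf 672) (.leaf 21537)) (.node (.leaf 9888) (.leaf 39936))) (.node (.node (.leaf 5040) (.leaf 29105)) (.leaf 15457))) (.node (.node (.node (.leaf 2832) (.leaf 25105)) (.node (.leaf 12577) (.leaf 49297))) (.node (.node (.leaf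 7408) (.leaf 33649)) (.leaf 18529)))) (.node (.node (.node (.node (.leaf 1745) (.leaf 23344)) (.node (.leaf 11216) (.leaf 43697))) (.node (.node (.leaf 6177) (.leaf 31185)) (.leaf 16976))) (.node (.node (.node (.leaf 3889) (.leaf 27008)) (.leaf 14033)) (.node (.node (.leaf 8624) (.leaf 36448)) (.leaf 20048)))))) (.node (.node (.node (.node (.node (.node (.leaf 401) (.leaf 21121)) (.node (.leaf 9537) (.leaf 39024))) (.node (.node (.leaf 4736) (.leaf 28560)) (.leaf 15104))) (.node (.node (.node (.leaf 2560) (.leaf 24672)) (.node (.leaf 12256) (.leaf 47408))) (.node (.node (.leaf 7105) (.leaf 33137)) (.leaf 18081)))) (.node (.node (.node (.node (.leaf 1473) (.leaf 22849)) (.node (.leaf 10880) (.leaf 42800))) (.node (.node (.leaf 5888) (.leaf 30609)) (.leaf 16544))) (.node (.node (.node (.leaf 3632) (.leaf 26544)) (.leaf 13744)) (.node (.node (.leaf 8320) (.leaf 35729)) (.leaf 19681))))) (.node (.node (.node (.node (.node (.leaf 929) (.leaf 22017)) (.node (.leaf 10225) (.leaf 40929))) (.node (.node (.leaf 5329) (.leaf 29552)) (.leaf 15840))) (.node (.node (.node (.leaf 3089) (.leaf 25600)) (.node (.leaf 13024) (.leaf 52096)))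 (.node (.node (.leaf 7697) (.leaf 34336)) (.leaf 18929)))) (.node (.node (.node (.node (.leaf 2016) (.leaf 23761)) (.node (.leaf 11552) (.leaf 44785))) (.node (.node (.leaf 6496) (.leaf 31697)) (.leaf 17313))) (.node (.node (.node (.leaf 4161) (.leaf 27536)) (.leaf 14385)) (.node (.node (.leaf 8929) (.leaf 37489)) (.leaf 20384)))))))

def twoTPar21 : Janko.Tree (ℕ) :=
  (.node (.node (.node (.node (.node (.node (.node (.leaf 160) (.leaf 20721)) (.node (.leaf 9232) (.leaf 38145))) (.node (.node (.leaf 4449) (.leaf 28032)) (.leaf 14769))) (.node (.node (.node (.leaf 2289) (.leaf 24241)) (.node (.leaf 11937) (.leaf 46096))) (.node (.node (.leaf 6816) (.leaf 32369)) (.leaf 17744)))) (.node (.node (.node (.node (.leaf 1200) (.leaf 22464)) (.node (.leaf 10577) (.leaf 41936))) (.node (.node (.leaf 5616) (.leaf 30129)) (.leaf 16193))) (.node (.node (.node (.leaf 3376) (.leaf 26096)) (.leaf 13424)) (.node (.node (.leaf 7985) (.leaf 34976)) (.leaf 19281))))) (.node (.node (.node (.node (.node (.leaf 673) (.leaf 21553)) (.node (.leaf 9889) (.leaf 39953))) (.node (.node (.leaf 5041) (.leaf 29136)) (.leaf 15472))) (.node (.node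 (.node (.leaf 2833) (.leaf 25120)) (.node (.leaf 12592) (.leaf 49392))) (.node (.node (.leaf 7409) (.leaf 33680)) (.leaf 18544)))) (.node (.node (.node (.node (.leaf 1760) (.leaf 23345)) (.node (.leaf 11217) (.leaf 43792))) (.node (.node (.leaf 6192) (.leaf 31200)) (.leaf 16977))) (.node (.node (.node (.leaf 3904) (.leaf 27009)) (.leaf 14049)) (.node (.node (.leaf 8625) (.leaf 36464)) (.leaf 20049)))))) (.node (.node (.node (.node (.node (.node (.leaf 416) (.leaf 21136)) (.node (.leaf 9552) (.leaf 39025))) (.node (.node (.leaf 4737) (.leaf 28625)) (.leaf 15105))) (.node (.node (.node (.leaf 2561) (.leaf 24689)) (.node (.leaf 12257) (.leaf 47569))) (.node (.node (.leaf 7120) (.leaf 33153)) (.leaf 18097)))) (.node (.node (.node (.node (.leaf 1488) (.leaf 22864)) (.node (.leaf 10881) (.leaf 42817))) (.node (.node (.leaf 5904) (.leaf 30640)) (.leaf 16560))) (.node (.node (.node (.leaf 3633) (.leaf 26545)) (.leaf 13760)) (.node (.node (.leaf 8321) (.leaf 35760)) (.leaf 19697))))) (.node (.node (.node (.node (.node (.leaf 944) (.leaf 22032)) (.node (.leaf 10240) (.leaf 40960))) (.node (.node (.leaf 5344) (.leaf 29553)) (.leaf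 15841))) (.node (.node (.node (.leaf 3104) (.leaf 25601)) (.node (.leaf 13056) (.leaf 52128))) (.node (.node (.leaf 7713) (.leaf 34337)) (.leaf 18960)))) (.node (.node (.node (.node (.leaf 2017) (.leaf 23793)) (.node (.leaf 11553) (.leaf 44800))) (.node (.node (.leaf 6497) (.leaf 31728)) (.leaf 17328))) (.node (.node (.node (.leaf 4176) (.leaf 27553)) (.leaf 14400)) (.node (.node (.leaf 8944) (.leaf 37505)) (.leaf 20385)))))))

def twoTPar22 : Janko.Tree (ℕ) :=
  (.node (.node (.node (.node (.node (.node (.node (.leaf 161) (.leaf 20753)) (.node (.leaf 9248) (.leaf 38160))) (.node (.node (.leaf 4464) (.leaf 28080)) (.leaf 14785))) (.node (.node (.node (.leaf 2304) (.leaf 24256)) (.node (.leaf 11953) (.leaf 46112))) (.node (.node (.leaf 6817) (.leaf 32384)) (.leaf 17745)))) (.node (.node (.node (.node (.leaf 1201) (.leaf 22465)) (.node (.leaf 10593) (.leaf 41984))) (.node (.node (.leaf 5617) (.leaf 30144)) (.leaf 16208))) (.node (.node (.node (.leaf 3377) (.leaf 26097)) (.leaf 13425)) (.node (.node (.leaf 8000) (.leaf 35024)) (.leaf 19296))))) (.node (.node (.node (.node (.node (.leaf 688) (.leaf 21585)) (.node (.leaf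 9904) (.leaf 39969))) (.node (.node (.leaf 5056) (.leaf 29153)) (.leaf 15473))) (.node (.node (.node (.leaf 2848) (.leaf 25136)) (.node (.leaf 12593) (.leaf 49424))) (.node (.node (.leaf 7425) (.leaf 33696)) (.leaf 18545)))) (.node (.node (.node (.node (.leaf 1761) (.leaf 23360)) (.node (.leaf 11232) (.leaf 43808))) (.node (.node (.leaf 6193) (.leaf 31201)) (.leaf 16992))) (.node (.node (.node (.leaf 3905) (.leaf 27024)) (.leaf 14064)) (.node (.node (.leaf 8640) (.leaf 36481)) (.leaf 20064)))))) (.node (.node (.node (.node (.node (.node (.leaf 417) (.leaf 21152)) (.node (.leaf 9569) (.leaf 39057))) (.node (.node (.leaf 4752) (.leaf 28656)) (.leaf 15120))) (.node (.node (.node (.leaf 2577) (.leaf 24705)) (.node (.leaf 12273) (.leaf 47617))) (.node (.node (.leaf 7121) (.leaf 33168)) (.leaf 18112)))) (.node (.node (.node (.node (.leaf 1489) (.leaf 22880)) (.node (.leaf 10896) (.leaf 42849))) (.node (.node (.leaf 5905) (.leaf 30641)) (.leaf 16576))) (.node (.node (.node (.leaf 3648) (.leaf 26560)) (.leaf 13761)) (.node (.node (.leaf 8336) (.leaf 35808)) (.leaf 19712))))) (.node (.node (.node (.node (.node (.leaf 945) (.leaf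 22033)) (.node (.leaf 10256) (.leaf 41008))) (.node (.node (.leaf 5345) (.leaf 29584)) (.leaf 15856))) (.node (.node (.node (.leaf 3105) (.leaf 25632)) (.node (.leaf 13057) (.leaf 52224))) (.node (.node (.leaf 7728) (.leaf 34352)) (.leaf 18961)))) (.node (.node (.node (.node (.leaf 2032) (.leaf 23808)) (.node (.leaf 11568) (.leaf 44865))) (.node (.node (.leaf 6512) (.leaf 31745)) (.leaf 17344))) (.node (.node (.node (.leaf 4177) (.leaf 27568)) (.leaf 14416)) (.node (.node (.leaf 8945) (.leaf 37521)) (.leaf 20400)))))))

def twoTPar23 : Janko.Tree (ℕ) :=
  (.node (.node (.node (.node (.node (.node (.node (.leaf 176) (.leaf 20768)) (.node (.leaf 9249) (.leaf 38177))) (.node (.node (.leaf 4465) (.leaf 28097)) (.leaf 14800))) (.node (.node (.node (.leaf 2305) (.leaf 24257)) (.node (.leaf 11968) (.leaf 46145))) (.node (.node (.leaf 6832) (.leaf 32385)) (.leaf 17761)))) (.node (.node (.node (.node (.leaf 1216) (.leaf 22480)) (.node (.leaf 10608) (.leaf 42001))) (.node (.node (.leaf 5632) (.leaf 30145)) (.leaf 16209))) (.node (.node (.node (.leaf 3392) (.leaf 26112)) (.leaf 13440)) (.node (.node (.leaf 8017) (.leaf 35040))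 (.leaf 19312))))) (.node (.node (.node (.node (.node (.leaf 689) (.leaf 21601)) (.node (.leaf 9905) (.leaf 40000))) (.node (.node (.leaf 5072) (.leaf 29185)) (.leaf 15488))) (.node (.node (.node (.leaf 2849) (.leaf 25184)) (.node (.leaf 12625) (.leaf 49425))) (.node (.node (.leaf 7440) (.leaf 33697)) (.leaf 18560)))) (.node (.node (.node (.node (.leaf 1776) (.leaf 23361)) (.node (.leaf 11233) (.leaf 43840))) (.node (.node (.leaf 6208) (.leaf 31217)) (.leaf 16993))) (.node (.node (.node (.leaf 3920) (.leaf 27040)) (.leaf 14065)) (.node (.node (.leaf 8641) (.leaf 36496)) (.leaf 20065)))))) (.node (.node (.node (.node (.node (.node (.leaf 432) (.leaf 21153)) (.node (.leaf 9585) (.leaf 39121))) (.node (.node (.leaf 4753) (.leaf 28657)) (.leaf 15121))) (.node (.node (.node (.leaf 2592) (.leaf 24737)) (.node (.leaf 12288) (.leaf 47665))) (.node (.node (.leaf 7136) (.leaf 33185)) (.leaf 18128)))) (.node (.node (.node (.node (.leaf 1504) (.leaf 22897)) (.node (.leaf 10897) (.leaf 42896))) (.node (.node (.leaf 5920) (.leaf 30672)) (.leaf 16577))) (.node (.node (.node (.leaf 3649) (.leaf 26576)) (.leaf 13776)) (.node (.node (.leaf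 8337) (.leaf 35841)) (.leaf 19713))))) (.node (.node (.node (.node (.node (.leaf 960) (.leaf 22048)) (.node (.leaf 10257) (.leaf 41056))) (.node (.node (.leaf 5360) (.leaf 29585)) (.leaf 15857))) (.node (.node (.node (.leaf 3120) (.leaf 25649)) (.node (.leaf 13072) (.leaf 52256))) (.node (.node (.leaf 7729) (.leaf 34369)) (.leaf 18976)))) (.node (.node (.node (.node (.leaf 2033) (.leaf 23824)) (.node (.leaf 11601) (.leaf 44880))) (.node (.node (.leaf 6513) (.leaf 31761)) (.leaf 17361))) (.node (.node (.node (.leaf 4192) (.leaf 27569)) (.leaf 14417)) (.node (.node (.leaf 8960) (.leaf 37537)) (.leaf 20401)))))))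

def twoTPar24 : Janko.Tree (ℕ) :=
  (.node (.node (.node (.node (.node (.node (.node (.leaf 177) (.leaf 20785)) (.node (.leaf 9280) (.leaf 38192))) (.node (.node (.leaf 4480) (.leaf 28113)) (.leaf 14816))) (.node (.node (.node (.leaf 2320) (.leaf 24272)) (.node (.leaf 11969) (.leaf 46241))) (.node (.node (.leaf 6848) (.leaf 32416)) (.leaf 17776)))) (.node (.node (.node (.node (.leaf 1217) (.leaf 22481)) (.node (.leaf 10609) (.leaf 42017))) (.node (.node (.leaf 5633) (.leaf 30160)) (.leaf 16224))) (.node (.node (.node (.leaf 3393) (.leaf 26128)) (.leaf 13441)) (.node (.node (.leaf 8032) (.leaf 35041)) (.leaf 19313))))) (.node (.node (.node (.node (.node (.leaf 704) (.leaf 21649)) (.node (.leaf 9920) (.leaf 40017))) (.node (.node (.leaf 5073) (.leaf 29200)) (.leaf 15489))) (.node (.node (.node (.leaf 2864) (.leaf 25185)) (.node (.leaf 12640) (.leaf 49472))) (.node (.node (.leaf 7441) (.leaf 33713)) (.leaf 18576)))) (.node (.node (.node (.node (.leaf 1777) (.leaf 23376)) (.node (.leaf 11249) (.leaf 43873))) (.node (.node (.leaf 6209) (.leaf 31248)) (.leaf 17008))) (.node (.node (.node (.leaf 3921) (.leaf 27041)) (.leaf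 14080)) (.node (.node (.leaf 8656) (.leaf 36544)) (.leaf 20080)))))) (.node (.node (.node (.node (.node (.node (.leaf 433) (.leaf 21184)) (.node (.leaf 9600) (.leaf 39153))) (.node (.node (.leaf 4768) (.leaf 28673)) (.leaf 15136))) (.node (.node (.node (.leaf 2593) (.leaf 24752)) (.node (.leaf 12320) (.leaf 47680))) (.node (.node (.leaf 7137) (.leaf 33232)) (.leaf 18144)))) (.node (.node (.node (.node (.leaf 1520) (.leaf 22929)) (.node (.leaf 10913) (.leaf 42912))) (.node (.node (.leaf 5921) (.leaf 30688)) (.leaf 16593))) (.node (.node (.node (.leaf 3664) (.leaf 26609)) (.leaf 13777)) (.node (.node (.leaf 8352) (.leaf 35857)) (.leaf 19728))))) (.node (.node (.node (.node (.node (.leaf 961) (.leaf 22065)) (.node (.leaf 10272) (.leaf 41057))) (.node (.node (.leaf 5361) (.leaf 29600)) (.leaf 15872))) (.node (.node (.node (.leaf 3136) (.leaf 25680)) (.node (.leaf 13073) (.leaf 52257))) (.node (.node (.leaf 7744) (.leaf 34384)) (.leaf 18977)))) (.node (.node (.node (.node (.leaf 2048) (.leaf 23825)) (.node (.leaf 11617) (.leaf 44881))) (.node (.node (.leaf 6528) (.leaf 31776)) (.leaf 17376))) (.node (.node (.node (.leaf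 4193) (.leaf 27584)) (.leaf 14433)) (.node (.node (.leaf 8961) (.leaf 37552)) (.leaf 20416)))))))

def twoTPar25 : Janko.Tree (ℕ) :=
  (.node (.node (.node (.node (.node (.node (.node (.leaf 192) (.leaf 20800)) (.node (.leaf 9281) (.leaf 38225))) (.node (.node (.leaf 4481) (.leaf 28128)) (.leaf 14817))) (.node (.node (.node (.leaf 2321) (.leaf 24273)) (.node (.leaf 11984) (.leaf 46273))) (.node (.node (.leaf 6849) (.leaf 32432)) (.leaf 17777)))) (.node (.node (.node (.node (.leaf 1232) (.leaf 22496)) (.node (.leaf 10624) (.leaf 42064))) (.node (.node (.leaf 5648) (.leaf 30161)) (.leaf 16241))) (.node (.node (.node (.leaf 3408) (.leaf 26160)) (.leaf 13456)) (.node (.node (.leaf 8048) (.leaf 35088)) (.leaf 19328))))) (.node (.node (.node (.node (.node (.leaf 705) (.leaf 21665)) (.node (.leaf 9921) (.leaf 40064))) (.node (.node (.leaf 5088) (.leaf 29201)) (.leaf 15520))) (.node (.node (.node (.leaf 2865) (.leaf 25233)) (.node (.leaf 12656) (.leaf 49552))) (.node (.node (.leaf 7456) (.leaf 33744)) (.leaf 18593)))) (.node (.node (.node (.node (.leaf 1793) (.leaf 23392)) (.node (.leaf 11265) (.leaf 43905))) (.node (.node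 (.leaf 6224) (.leaf 31264)) (.leaf 17009))) (.node (.node (.node (.leaf 3936) (.leaf 27072)) (.leaf 14081)) (.node (.node (.leaf 8672) (.leaf 36592)) (.leaf 20096)))))) (.node (.node (.node (.node (.node (.node (.leaf 448) (.leaf 21185)) (.node (.leaf 9632) (.leaf 39185))) (.node (.node (.leaf 4769) (.leaf 28704)) (.leaf 15137))) (.node (.node (.node (.leaf 2608) (.leaf 24753)) (.node (.leaf 12336) (.leaf 47696))) (.node (.node (.leaf 7152) (.leaf 33248)) (.leaf 18161)))) (.node (.node (.node (.node (.leaf 1521) (.leaf 22944)) (.node (.leaf 10928) (.leaf 42944))) (.node (.node (.leaf 5936) (.leaf 30704)) (.leaf 16608))) (.node (.node (.node (.leaf 3665) (.leaf 26624)) (.leaf 13792)) (.node (.node (.leaf 8368) (.leaf 35888)) (.leaf 19729))))) (.node (.node (.node (.node (.node (.leaf 976) (.leaf 22081)) (.node (.leaf 10273) (.leaf 41105))) (.node (.node (.leaf 5376) (.leaf 29617)) (.leaf 15873))) (.node (.node (.node (.leaf 3137) (.leaf 25681)) (.node (.leaf 13089) (.leaf 52417))) (.node (.node (.leaf 7745) (.leaf 34401)) (.leaf 18992)))) (.node (.node (.node (.node (.leaf 2049) (.leaf 23840)) (.node (.leaf 11632) (.leaf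 44913))) (.node (.node (.leaf 6529) (.leaf 31857)) (.leaf 17377))) (.node (.node (.node (.leaf 4208) (.leaf 27600)) (.leaf 14448)) (.node (.node (.leaf 8976) (.leaf 37553)) (.leaf 20432)))))))

def twoTPar26 : Janko.Tree (ℕ) :=
  (.node (.node (.node (.node (.node (.node (.node (.leaf 193) (.leaf 20801)) (.node (.leaf 9296) (.leaf 38272))) (.node (.node (.leaf 4496) (.leaf 28129)) (.leaf 14832))) (.node (.node (.node (.leaf 2336) (.leaf 24289)) (.node (.leaf 11985) (.leaf 46352))) (.node (.node (.leaf 6864) (.leaf 32497)) (.leaf 17792)))) (.node (.node (.node (.node (.leaf 1248) (.leaf 22513)) (.node (.leaf 10625) (.leaf 42112))) (.node (.node (.leaf 5649) (.leaf 30176)) (.leaf 16256))) (.node (.node (.node (.leaf 3409) (.leaf 26161)) (.leaf 13472)) (.node (.node (.leaf 8049) (.leaf 35104)) (.leaf 19344))))) (.node (.node (.node (.node (.node (.leaf 720) (.leaf 21680)) (.node (.leaf 9937) (.leaf 40080))) (.node (.node (.leaf 5104) (.leaf 29217)) (.leaf 15521))) (.node (.node (.node (.leaf 2880) (.leaf 25248)) (.node (.leaf 12657) (.leaf 49697))) (.node (.node (.leaf 7457) (.leaf 33745)) (.leaf 18609)))) (.node (.node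 (.node (.node (.leaf 1808) (.leaf 23393)) (.node (.leaf 11280) (.leaf 43985))) (.node (.node (.leaf 6225) (.leaf 31296)) (.leaf 17024))) (.node (.node (.node (.leaf 3937) (.leaf 27088)) (.leaf 14096)) (.node (.node (.leaf 8688) (.leaf 36609)) (.leaf 20097)))))) (.node (.node (.node (.node (.node (.node (.leaf 449) (.leaf 21200)) (.node (.leaf 9633) (.leaf 39216))) (.node (.node (.leaf 4785) (.leaf 28720)) (.leaf 15152))) (.node (.node (.node (.leaf 2609) (.leaf 24769)) (.node (.leaf 12337) (.leaf 47712))) (.node (.node (.leaf 7168) (.leaf 33249)) (.leaf 18176)))) (.node (.node (.node (.node (.leaf 1536) (.leaf 22945)) (.node (.leaf 10929) (.leaf 42960))) (.node (.node (.leaf 5952) (.leaf 30705)) (.leaf 16609))) (.node (.node (.node (.leaf 3680) (.leaf 26656)) (.leaf 13793)) (.node (.node (.leaf 8369) (.leaf 35889)) (.leaf 19744))))) (.node (.node (.node (.node (.node (.leaf 977) (.leaf 22112)) (.node (.leaf 10289) (.leaf 41136))) (.node (.node (.leaf 5377) (.leaf 29632)) (.leaf 15888))) (.node (.node (.node (.leaf 3152) (.leaf 25697)) (.node (.leaf 13104) (.leaf 52720))) (.node (.node (.leaf 7760) (.leaf 34417)) (.leaf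 19008)))) (.node (.node (.node (.node (.leaf 2064) (.leaf 23841)) (.node (.leaf 11633) (.leaf 44944))) (.node (.node (.leaf 6544) (.leaf 31920)) (.leaf 17392))) (.node (.node (.node (.leaf 4224) (.leaf 27601)) (.leaf 14449)) (.node (.node (.leaf 8977) (.leaf 37585)) (.leaf 20433)))))))

def twoTPar27 : Janko.Tree (ℕ) :=
  (.node (.node (.node (.node (.node (.node (.node (.leaf 208) (.leaf 20816)) (.node (.leaf 9297) (.leaf 38321))) (.node (.node (.leaf 4497) (.leaf 28145)) (.leaf 14833))) (.node (.node (.node (.leaf 2337) (.leaf 24321)) (.node (.leaf 12001) (.leaf 46433))) (.node (.node (.leaf 6865) (.leaf 32512)) (.leaf 17793)))) (.node (.node (.node (.node (.leaf 1249) (.leaf 22528)) (.node (.leaf 10640) (.leaf 42113))) (.node (.node (.leaf 5664) (.leaf 30192)) (.leaf 16257))) (.node (.node (.node (.leaf 3424) (.leaf 26192)) (.leaf 13488)) (.node (.node (.leaf 8064) (.leaf 35121)) (.leaf 19361))))) (.node (.node (.node (.node (.node (.leaf 721) (.leaf 21681)) (.node (.leaf 9952) (.leaf 40112))) (.node (.node (.leaf 5105) (.leaf 29232)) (.leaf 15537))) (.node (.node (.node (.leaf 2881) (.leaf 25264)) (.node (.leaf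 12672) (.leaf 49776))) (.node (.node (.leaf 7472) (.leaf 33776)) (.leaf 18624)))) (.node (.node (.node (.node (.leaf 1809) (.leaf 23408)) (.node (.leaf 11281) (.leaf 44000))) (.node (.node (.leaf 6240) (.leaf 31313)) (.leaf 17025))) (.node (.node (.node (.leaf 3952) (.leaf 27121)) (.leaf 14097)) (.node (.node (.leaf 8689) (.leaf 36624)) (.leaf 20112)))))) (.node (.node (.node (.node (.node (.node (.leaf 464) (.leaf 21201)) (.node (.leaf 9648) (.leaf 39264))) (.node (.node (.leaf 4800) (.leaf 28721)) (.leaf 15153))) (.node (.node (.node (.leaf 2624) (.leaf 24784)) (.node (.leaf 12352) (.leaf 47728))) (.node (.node (.leaf 7169) (.leaf 33281)) (.leaf 18209)))) (.node (.node (.node (.node (.leaf 1537) (.leaf 22960)) (.node (.leaf 10945) (.leaf 42993))) (.node (.node (.leaf 5953) (.leaf 30721)) (.leaf 16624))) (.node (.node (.node (.leaf 3681) (.leaf 26657)) (.leaf 13808)) (.node (.node (.leaf 8384) (.leaf 35904)) (.leaf 19761))))) (.node (.node (.node (.node (.node (.leaf 992) (.leaf 22113)) (.node (.leaf 10320) (.leaf 41153))) (.node (.node (.leaf 5392) (.leaf 29633)) (.leaf 15889))) (.node (.node (.node (.leaf 3153) (.leaf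 25712)) (.node (.leaf 13105) (.leaf 52785))) (.node (.node (.leaf 7761) (.leaf 34433)) (.leaf 19009)))) (.node (.node (.node (.node (.leaf 2065) (.leaf 23856)) (.node (.leaf 11648) (.leaf 44960))) (.node (.node (.leaf 6545) (.leaf 31921)) (.leaf 17408))) (.node (.node (.node (.leaf 4225) (.leaf 27633)) (.leaf 14464)) (.node (.node (.leaf 8992) (.leaf 37600)) (.leaf 20449)))))))

def twoTPar28 : Janko.Tree (ℕ) :=
  (.node (.node (.node (.node (.node (.node (.node (.leaf 209) (.leaf 20817)) (.node (.leaf 9313) (.leaf 38352))) (.node (.node (.leaf 4512) (.leaf 28161)) (.leaf 14848))) (.node (.node (.node (.leaf 2352) (.leaf 24336)) (.node (.leaf 12016) (.leaf 46465))) (.node (.node (.leaf 6880) (.leaf 32544)) (.leaf 17808)))) (.node (.node (.node (.node (.leaf 1264) (.leaf 22529)) (.node (.leaf 10641) (.leaf 42144))) (.node (.node (.leaf 5665) (.leaf 30208)) (.leaf 16272))) (.node (.node (.node (.leaf 3425) (.leaf 26224)) (.leaf 13505)) (.node (.node (.leaf 8080) (.leaf 35136)) (.leaf 19377))))) (.node (.node (.node (.node (.node (.leaf 736) (.leaf 21697)) (.node (.leaf 9953) (.leaf 40129))) (.node (.node (.leaf 5120)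 (.leaf 29264)) (.leaf 15552))) (.node (.node (.node (.leaf 2896) (.leaf 25281)) (.node (.leaf 12673) (.leaf 49824))) (.node (.node (.leaf 7473) (.leaf 33809)) (.leaf 18625)))) (.node (.node (.node (.node (.leaf 1824) (.leaf 23424)) (.node (.leaf 11297) (.leaf 44016))) (.node (.node (.leaf 6241) (.leaf 31329)) (.leaf 17041))) (.node (.node (.node (.leaf 3953) (.leaf 27137)) (.leaf 14112)) (.node (.node (.leaf 8704) (.leaf 36641)) (.leaf 20113)))))) (.node (.node (.node (.node (.node (.node (.leaf 465) (.leaf 21217)) (.node (.leaf 9649) (.leaf 39265))) (.node (.node (.leaf 4801) (.leaf 28752)) (.leaf 15168))) (.node (.node (.node (.leaf 2625) (.leaf 24816)) (.node (.leaf 12353) (.leaf 47760))) (.node (.node (.leaf 7184) (.leaf 33296)) (.leaf 18224)))) (.node (.node (.node (.node (.leaf 1552) (.leaf 22961)) (.node (.leaf 10960) (.leaf 43009))) (.node (.node (.leaf 5968) (.leaf 30737)) (.leaf 16625))) (.node (.node (.node (.leaf 3696) (.leaf 26672)) (.leaf 13809)) (.node (.node (.leaf 8400) (.leaf 35905)) (.leaf 19777))))) (.node (.node (.node (.node (.node (.leaf 993) (.leaf 22145)) (.node (.leaf 10321) (.leaf 41168)))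 (.node (.node (.leaf 5408) (.leaf 29648)) (.leaf 15905))) (.node (.node (.node (.leaf 3168) (.leaf 25713)) (.node (.leaf 13120) (.leaf 52816))) (.node (.node (.leaf 7776) (.leaf 34464)) (.leaf 19024)))) (.node (.node (.node (.node (.leaf 2080) (.leaf 23857)) (.node (.leaf 11649) (.leaf 44976))) (.node (.node (.leaf 6560) (.leaf 31937)) (.leaf 17409))) (.node (.node (.node (.leaf 4240) (.leaf 27649)) (.leaf 14465)) (.node (.node (.leaf 9008) (.leaf 37616)) (.leaf 20465)))))))

def twoTPar29 : Janko.Tree (ℕ) :=
  (.node (.node (.node (.node (.node (.node (.node (.leaf 224) (.leaf 20832)) (.node (.leaf 9328) (.leaf 38353))) (.node (.node (.leaf 4513) (.leaf 28176)) (.leaf 14880))) (.node (.node (.node (.leaf 2353) (.leaf 24337)) (.node (.leaf 12017) (.leaf 46496))) (.node (.node (.leaf 6896) (.leaf 32561)) (.leaf 17809)))) (.node (.node (.node (.node (.leaf 1265) (.leaf 22545)) (.node (.leaf 10656) (.leaf 42176))) (.node (.node (.leaf 5680) (.leaf 30209)) (.leaf 16288))) (.node (.node (.node (.leaf 3440) (.leaf 26225)) (.leaf 13520)) (.node (.node (.leaf 8081) (.leaf 35152)) (.leaf 19393))))) (.node (.node (.node (.node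 (.node (.leaf 752) (.leaf 21712)) (.node (.leaf 9968) (.leaf 40177))) (.node (.node (.leaf 5136) (.leaf 29280)) (.leaf 15553))) (.node (.node (.node (.leaf 2897) (.leaf 25312)) (.node (.leaf 12688) (.leaf 49888))) (.node (.node (.leaf 7488) (.leaf 33889)) (.leaf 18640)))) (.node (.node (.node (.node (.leaf 1825) (.leaf 23425)) (.node (.leaf 11312) (.leaf 44033))) (.node (.node (.leaf 6256) (.leaf 31344)) (.leaf 17057))) (.node (.node (.node (.leaf 3968) (.leaf 27152)) (.leaf 14128)) (.node (.node (.leaf 8705) (.leaf 36673)) (.leaf 20128)))))) (.node (.node (.node (.node (.node (.node (.leaf 480) (.leaf 21232)) (.node (.leaf 9664) (.leaf 39313))) (.node (.node (.leaf 4816) (.leaf 28785)) (.leaf 15169))) (.node (.node (.node (.leaf 2640) (.leaf 24832)) (.node (.leaf 12368) (.leaf 47856))) (.node (.node (.leaf 7200) (.leaf 33297)) (.leaf 18240)))) (.node (.node (.node (.node (.leaf 1553) (.leaf 22977)) (.node (.leaf 10961) (.leaf 43024))) (.node (.node (.leaf 5969) (.leaf 30753)) (.leaf 16640))) (.node (.node (.node (.leaf 3697) (.leaf 26673)) (.leaf 13824)) (.node (.node (.leaf 8401) (.leaf 35920)) (.leaf 19792))))) (.node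 (.node (.node (.node (.node (.leaf 1008) (.leaf 22161)) (.node (.leaf 10336) (.leaf 41200))) (.node (.node (.leaf 5409) (.leaf 29665)) (.leaf 15920))) (.node (.node (.node (.leaf 3169) (.leaf 25729)) (.node (.leaf 13121) (.leaf 52865))) (.node (.node (.leaf 7777) (.leaf 34481)) (.leaf 19025)))) (.node (.node (.node (.node (.leaf 2081) (.leaf 23904)) (.node (.leaf 11665) (.leaf 45008))) (.node (.node (.leaf 6561) (.leaf 31952)) (.leaf 17425))) (.node (.node (.node (.leaf 4241) (.leaf 27680)) (.leaf 14481)) (.node (.node (.leaf 9009) (.leaf 37649)) (.leaf 20480)))))))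

def twoTPar30 : Janko.Tree (ℕ) :=
  (.node (.node (.node (.node (.node (.node (.node (.leaf 225) (.leaf 20833)) (.node (.leaf 9329) (.leaf 38417))) (.node (.node (.leaf 4528) (.leaf 28192)) (.leaf 14881))) (.node (.node (.node (.leaf 2368) (.leaf 24353)) (.node (.leaf 12033) (.leaf 46529))) (.node (.node (.leaf 6912) (.leaf 32576)) (.leaf 17825)))) (.node (.node (.node (.node (.leaf 1280) (.leaf 22560)) (.node (.leaf 10673) (.leaf 42224))) (.node (.node (.leaf 5681) (.leaf 30240)) (.leaf 16289))) (.node (.node (.node (.leaf 3441) (.leaf 26240)) (.leaf 13521)) (.node (.node (.leaf 8096) (.leaf 35201)) (.leaf 19408))))) (.node (.node (.node (.node (.node (.leaf 753) (.leaf 21713)) (.node (.leaf 10000) (.leaf 40209))) (.node (.node (.leaf 5152) (.leaf 29297)) (.leaf 15568))) (.node (.node (.node (.leaf 2912) (.leaf 25328)) (.node (.leaf 12689) (.leaf 49953))) (.node (.node (.leaf 7504) (.leaf 33920)) (.leaf 18641)))) (.node (.node (.node (.node (.leaf 1840) (.leaf 23440)) (.node (.leaf 11328) (.leaf 44049))) (.node (.node (.leaf 6272) (.leaf 31345)) (.leaf 17072))) (.node (.node (.node (.leaf 3969) (.leaf 27168)) (.leaf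 14145)) (.node (.node (.leaf 8720) (.leaf 36689)) (.leaf 20129)))))) (.node (.node (.node (.node (.node (.node (.leaf 496) (.leaf 21233)) (.node (.leaf 9680) (.leaf 39329))) (.node (.node (.leaf 4817) (.leaf 28801)) (.leaf 15201))) (.node (.node (.node (.leaf 2641) (.leaf 24849)) (.node (.leaf 12384) (.leaf 47889))) (.node (.node (.leaf 7201) (.leaf 33328)) (.leaf 18256)))) (.node (.node (.node (.node (.leaf 1568) (.leaf 22993)) (.node (.leaf 10976) (.leaf 43025))) (.node (.node (.leaf 5984) (.leaf 30769)) (.leaf 16656))) (.node (.node (.node (.leaf 3712) (.leaf 26688)) (.leaf 13825)) (.node (.node (.leaf 8416) (.leaf 35937)) (.leaf 19793))))) (.node (.node (.node (.node (.node (.leaf 1009) (.leaf 22192)) (.node (.leaf 10352) (.leaf 41201))) (.node (.node (.leaf 5424) (.leaf 29681)) (.leaf 15921))) (.node (.node (.node (.leaf 3184) (.leaf 25745)) (.node (.leaf 13137) (.leaf 52897))) (.node (.node (.leaf 7792) (.leaf 34512)) (.leaf 19057)))) (.node (.node (.node (.node (.leaf 2096) (.leaf 23921)) (.node (.leaf 11680) (.leaf 45057))) (.node (.node (.leaf 6576) (.leaf 31968)) (.leaf 17456))) (.node (.node (.node (.leaf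 4256) (.leaf 27681)) (.leaf 14496)) (.node (.node (.leaf 9024) (.leaf 37665)) (.leaf 20481)))))))

def twoTPar31 : Janko.Tree (ℕ) :=
  (.node (.node (.node (.node (.node (.node (.node (.leaf 240) (.leaf 20848)) (.node (.leaf 9344) (.leaf 38432))) (.node (.node (.leaf 4544) (.leaf 28209)) (.leaf 14896))) (.node (.node (.node (.leaf 2369) (.leaf 24369)) (.node (.leaf 12049) (.leaf 46560))) (.node (.node (.leaf 6913) (.leaf 32625)) (.leaf 17840)))) (.node (.node (.node (.node (.leaf 1281) (.leaf 22576)) (.node (.leaf 10688) (.leaf 42240))) (.node (.node (.leaf 5696) (.leaf 30257)) (.leaf 16304))) (.node (.node (.node (.leaf 3456) (.leaf 26272)) (.leaf 13536)) (.node (.node (.leaf 8097) (.leaf 35248)) (.leaf 19424))))) (.node (.node (.node (.node (.node (.leaf 768) (.leaf 21760)) (.node (.leaf 10016) (.leaf 40241))) (.node (.node (.leaf 5168) (.leaf 29313)) (.leaf 15600))) (.node (.node (.node (.leaf 2913) (.leaf 25329)) (.node (.leaf 12705) (.leaf 49968))) (.node (.node (.leaf 7520) (.leaf 33937)) (.leaf 18656)))) (.node (.node (.node (.node (.leaf 1841) (.leaf 23473)) (.node (.leaf 11329) (.leaf 44145))) (.node (.node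 (.leaf 6289) (.leaf 31360)) (.leaf 17073))) (.node (.node (.node (.leaf 3984) (.leaf 27169)) (.leaf 14160)) (.node (.node (.leaf 8736) (.leaf 36705)) (.leaf 20144)))))) (.node (.node (.node (.node (.node (.node (.leaf 497) (.leaf 21249)) (.node (.leaf 9681) (.leaf 39376))) (.node (.node (.leaf 4832) (.leaf 28816)) (.leaf 15216))) (.node (.node (.node (.leaf 2656) (.leaf 24864)) (.node (.leaf 12385) (.leaf 47921))) (.node (.node (.leaf 7216) (.leaf 33329)) (.leaf 18273)))) (.node (.node (.node (.node (.leaf 1569) (.leaf 23024)) (.node (.leaf 10977) (.leaf 43057))) (.node (.node (.leaf 5985) (.leaf 30816)) (.leaf 16657))) (.node (.node (.node (.leaf 3713) (.leaf 26705)) (.leaf 13840)) (.node (.node (.leaf 8417) (.leaf 35969)) (.leaf 19808))))) (.node (.node (.node (.node (.node (.leaf 1024) (.leaf 22209)) (.node (.leaf 10368) (.leaf 41248))) (.node (.node (.leaf 5425) (.leaf 29712)) (.leaf 15937))) (.node (.node (.node (.leaf 3185) (.leaf 25760)) (.node (.leaf 13152) (.leaf 53024))) (.node (.node (.leaf 7793) (.leaf 34513)) (.leaf 19072)))) (.node (.node (.node (.node (.leaf 2097) (.leaf 23936)) (.node (.leaf 11681) (.leaf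 45137))) (.node (.node (.leaf 6577) (.leaf 32000)) (.leaf 17472))) (.node (.node (.node (.leaf 4257) (.leaf 27697)) (.leaf 14497)) (.node (.node (.leaf 9025) (.leaf 37680)) (.leaf 20496)))))))

def twoTPar : Janko.Tree (ℕ) := (.node (.node (.node (.node (.node twoTPar0 twoTPar16) (.node twoTPar8 twoTPar24)) (.node (.node twoTPar4 twoTPar20) (.node twoTPar12 twoTPar28))) (.node (.node (.node twoTPar2 twoTPar18) (.node twoTPar10 twoTPar26)) (.node (.node twoTPar6 twoTPar22) (.node twoTPar14 twoTPar30)))) (.node (.node (.node (.node twoTPar1 twoTPar17) (.node twoTPar9 twoTPar25)) (.node (.node twoTPar5 twoTPar21) (.node twoTPar13 twoTPar29))) (.node (.node (.node twoTPar3 twoTPar19) (.node twoTPar11 twoTPar27)) (.node (.node twoTPar7 twoTPar23) (.node twoTPar15 twoTPar31)))))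

theorem two_T0 : ((List.range 512).all fun i => treeT gensX twoT twoTPar (Nat.add 0 i)) = true := by decide +kernel

theorem two_T1 : ((List.range 512).all fun i => treeT gensX twoT twoTPar (Nat.add 512 i)) = true := by decide +kernel

theorem two_T2 : ((List.range 512).all fun i => treeT gensX twoT twoTPar (Nat.add 1024 i)) = true := by decide +kernel

theorem two_T3 : ((List.range 512).all fun i => treeT gensX twoT twoTPar (Nat.add 1536 i)) = true := by decide +kernel

theorem two_T4 : ((List.range 512).all fun i => treeT gensX twoT twoTPar (Nat.add 2048 i)) = true := by decide +kernel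

theorem two_T5 : ((List.range 512).all fun i => treeT gensX twoT twoTPar (Nat.add 2560 i)) = true := by decide +kernel

theorem two_T6 : ((List.range 393).all fun i => treeT gensX twoT twoTPar (Nat.add 3072 i)) = true := by decide +kernel

theorem two_T : ∀ i < 3465, treeT gensX twoT twoTPar i = true := by
  intro i hi
  by_cases h0 : i < 512
  · have := List.all_eq_true.1 two_T0 (i - 0) (List.mem_range.2 (by omega)); rwa [show Nat.add 0 (i - 0) = i from Nat.add_sub_cancel' (by omega)] at this
  by_cases h1 : i < 1024
  · have := List.all_eq_true.1 two_T1 (i - 512) (List.mem_range.2 (by omega)); rwa [show Nat.add 512 (i - 512) = i from Nat.add_sub_cancel' (by omega)] at this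
  by_cases h2 : i < 1536
  · have := List.all_eq_true.1 two_T2 (i - 1024) (List.mem_range.2 (by omega)); rwa [show Nat.add 1024 (i - 1024) = i from Nat.add_sub_cancel' (by omega)] at this
  by_cases h3 : i < 2048
  · have := List.all_eq_true.1 two_T3 (i - 1536) (List.mem_range.2 (by omega)); rwa [show Nat.add 1536 (i - 1536) = i from Nat.add_sub_cancel' (by omega)] at this
  by_cases h4 : i < 2560
  · have := List.all_eq_true.1 two_T4 (i - 2048) (List.mem_range.2 (by omega)); rwa [show Nat.add 2048 (i - 2048) = i from Nat.add_sub_cancel' (by omega)] at this
  by_cases h5 : i < 3072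
  · have := List.all_eq_true.1 two_T5 (i - 2560) (List.mem_range.2 (by omega)); rwa [show Nat.add 2560 (i - 2560) = i from Nat.add_sub_cancel' (by omega)] at this
  have := List.all_eq_true.1 two_T6 (i - 3072) (List.mem_range.2 (by omega)); rwa [show Nat.add 3072 (i - 3072) = i from Nat.add_sub_cancel' (by omega)] at this


def twoMvX00 : Janko.Tree (ℕ) :=
  (.node (.node (.node (.node (.node (.node (.node (.leaf 1024) (.leaf 2534495)) (.node (.leaf 1742848) (.leaf 2320426))) (.node (.node (.leaf 957440) (.leaf 3265536)) (.leaf 1492033))) (.node (.node (.node (.leaf 502784) (.leaf 2822180)) (.node (.leaf 2094080) (.leaf 373836))) (.node (.node (.leaf 1367040) (.leaf 3090547)) (.leaf 1184772)))) (.node (.node (.node (.node (.leaf 253952) (.leaf 1405029)) (.node (.leaf 1913856) (.leaf 3484730))) (.node (.node (.leaf 1168384) (.leaf 1431563)) (.leaf 2548736))) (.node (.node (.node (.leaf 736256) (.leaf 2987031)) (.node (.leaf 2255872) (.leaf 3535900))) (.node (.node (.leaf 1554432) (.leaf 329752)) (.leaf 2743403))))) (.node (.node (.node (.node (.node (.leaf 130048) (.leaf 2759786)) (.node (.leaf 1829888) (.leaf 2422901)))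 (.node (.node (.leaf 1068032) (.leaf 3299328)) (.leaf 2478080))) (.node (.node (.node (.leaf 618496) (.leaf 236633)) (.node (.leaf 2180096) (.leaf 525400))) (.node (.node (.leaf 1434641) (.leaf 3427328)) (.leaf 2688053)))) (.node (.node (.node (.node (.leaf 378880) (.leaf 3025941)) (.node (.leaf 505968) (.leaf 3528704))) (.node (.node (.leaf 1064982) (.leaf 1763331)) (.leaf 2433074))) (.node (.node (.node (.leaf 845824) (.leaf 3231744)) (.leaf 1379348)) (.node (.node (.leaf 1650688) (.leaf 2114592)) (.leaf 1152047)))))) (.node (.node (.node (.node (.node (.node (.leaf 65536) (.leaf 1967128)) (.node (.leaf 1388644) (.leaf 1472629))) (.node (.node (.leaf 1011712) (.leaf 2658402)) (.leaf 2442358))) (.node (.node (.node (.leaf 563200) (.leaf 1392661)) (.node (.leaf 1770546) (.leaf 2848849))) (.node (.node (.leaf 1382442) (.leaf 3158049)) (.leaf 732163)))) (.node (.node (.node (.node (.leaf 315392) (.leaf 2745400)) (.node (.leaf 1398881) (.leaf 2435170))) (.node (.node (.leaf 1218560) (.leaf 3315775)) (.leaf 66598))) (.node (.node (.node (.leaf 794624) (.leaf 2717795)) (.leaf 1122345)) (.node (.node (.leaf 1601536) (.leaf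 2116646)) (.leaf 2138144))))) (.node (.node (.node (.node (.node (.leaf 190464) (.leaf 2998272)) (.node (.leaf 1872896) (.leaf 3432475))) (.node (.node (.leaf 1118208) (.leaf 3318784)) (.leaf 2513920))) (.node (.node (.node (.leaf 678912) (.leaf 1022033)) (.node (.leaf 1277051) (.leaf 2615380))) (.node (.node (.leaf 1504256) (.leaf 2007143)) (.leaf 2781184)))) (.node (.node (.node (.node (.leaf 441344) (.leaf 921660)) (.node (.leaf 1049704) (.leaf 3504182))) (.node (.node (.leaf 1316864) (.leaf 3382272)) (.leaf 645239))) (.node (.node (.node (.leaf 902144) (.leaf 905265)) (.leaf 1969264)) (.node (.node (.leaf 1695744) (.leaf 658487)) (.leaf 2741339)))))))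

def twoMvX01 : Janko.Tree (ℕ) :=
  (.node (.node (.node (.node (.node (.node (.node (.leaf 3072) (.leaf 2072669)) (.node (.leaf 1744896) (.leaf 968740))) (.node (.node (.leaf 959488) (.leaf 865346)) (.leaf 2406400))) (.node (.node (.node (.leaf 504832) (.leaf 2706535)) (.node (.leaf 2096128) (.leaf 266318))) (.node (.node (.leaf 380988) (.leaf 3309594)) (.leaf 1653810)))) (.node (.node (.node (.node (.leaf 256000) (.leaf 3026944)) (.node (.leaf 1914880) (.leaf 2978860))) (.node (.node (.leaf 1169408) (.leaf 3339264)) (.leaf 2355238))) (.node (.node (.node (.leaf 738304) (.leaf 624667)) (.node (.leaf 2252871) (.leaf 277595))) (.node (.node (.leaf 1555456) (.leaf 1765447)) (.leaf 2140196))))) (.node (.node (.node (.node (.node (.leaf 132096) (.leaf 2146354)) (.node (.leaf 38944) (.leaf 2044995))) (.node (.node (.leaf 1070080) (.leaf 973869)) (.leaf 1156161))) (.node (.node (.node (.leaf 619520) (.leaf 2587719)) (.node (.leaf 1099828) (.leaf 3102783))) (.node (.node (.leaf 1455104) (.leaf 3429376)) (.leaf 2751488)))) (.node (.node (.node (.node (.leaf 379904) (.leaf 2562174)) (.node (.leaf 2000896) (.leaf 3481691))) (.node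 (.node (.leaf 1271808) (.leaf 3229758)) (.leaf 2250785))) (.node (.node (.node (.leaf 847872) (.leaf 2852921)) (.leaf 2332672)) (.node (.node (.leaf 1652736) (.leaf 3169385)) (.leaf 2661486)))))) (.node (.node (.node (.node (.node (.node (.leaf 67584) (.leaf 2945024)) (.node (.leaf 1718384) (.leaf 3410987))) (.node (.node (.leaf 1013760) (.leaf 2449419)) (.leaf 2444288))) (.node (.node (.node (.leaf 565248) (.leaf 2612294)) (.node (.leaf 2139136) (.leaf 3139652))) (.node (.node (.leaf 1414144) (.leaf 2221112)) (.leaf 2711552)))) (.node (.node (.node (.node (.leaf 182276) (.leaf 3024907)) (.node (.leaf 1954816) (.leaf 2536553))) (.node (.node (.leaf 1220608) (.leaf 2671673)) (.leaf 2585600))) (.node (.node (.node (.leaf 432188) (.leaf 643112)) (.leaf 2294784)) (.node (.node (.leaf 1263650) (.leaf 3389545)) (.leaf 2842624))))) (.node (.node (.node (.node (.node (.leaf 192512) (.leaf 3000320)) (.node (.leaf 545887) (.leaf 2095211))) (.node (.node (.leaf 179240) (.leaf 3250286)) (.leaf 2514944))) (.node (.node (.node (.leaf 680960) (.leaf 2957365)) (.node (.leaf 2216960) (.leaf 3500099))) (.node (.node (.leaf 1506304) (.leaf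 1377312)) (.leaf 512076)))) (.node (.node (.node (.node (.leaf 443392) (.leaf 2636812)) (.node (.leaf 2046976) (.leaf 2764860))) (.node (.node (.leaf 122943) (.leaf 3384320)) (.leaf 2651136))) (.node (.node (.node (.leaf 904192) (.leaf 1366071)) (.leaf 2109473)) (.node (.node (.leaf 1697792) (.leaf 3483648)) (.leaf 2896896)))))))

def twoMvX02 : Janko.Tree (ℕ) :=
  (.node (.node (.node (.node (.node (.node (.node (.leaf 5120) (.leaf 1507391)) (.node (.leaf 878709) (.leaf 3489792))) (.node (.node (.leaf 961536) (.leaf 275504)) (.leaf 1668159))) (.node (.node (.node (.leaf 506880) (.leaf 1690737)) (.node (.leaf 2097152) (.leaf 1636400))) (.node (.node (.leaf 1368064) (.leaf 2510953)) (.leaf 2679808)))) (.node (.node (.node (.node (.leaf 258048) (.leaf 3027968)) (.node (.leaf 1916928) (.leaf 2125924))) (.node (.node (.leaf 1171456) (.leaf 2886756)) (.leaf 2549760))) (.node (.node (.node (.leaf 740352) (.leaf 430150)) (.node (.leaf 2258944) (.leaf 3376209))) (.node (.node (.leaf 1557504) (.leaf 2129962)) (.leaf 2215994))))) (.node (.node (.node (.node (.node (.leaf 134144) (.leaf 1532948)) (.node (.leaf 257104) (.leaf 3510272)))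 (.node (.node (.leaf 1071104) (.leaf 2755708)) (.leaf 2480128))) (.node (.node (.node (.leaf 620544) (.leaf 2929748)) (.node (.leaf 2182144) (.leaf 2835551))) (.node (.node (.leaf 186448) (.leaf 3430400)) (.leaf 2753536)))) (.node (.node (.node (.node (.leaf 381952) (.leaf 793630)) (.node (.leaf 939103) (.leaf 3529728))) (.node (.node (.leaf 411730) (.leaf 2370564)) (.leaf 2618368))) (.node (.node (.node (.leaf 848896) (.leaf 3032162)) (.leaf 2333696)) (.node (.node (.leaf 1607687) (.leaf 3383354)) (.leaf 2875392)))))) (.node (.node (.node (.node (.node (.node (.leaf 69632) (.leaf 571514)) (.node (.leaf 1785856) (.leaf 2260992))) (.node (.node (.leaf 1014784) (.leaf 1348689)) (.leaf 2446336))) (.node (.node (.node (.leaf 567296) (.leaf 2348045)) (.node (.leaf 2141184) (.leaf 1054840))) (.node (.node (.leaf 1416192) (.leaf 2922545)) (.leaf 1649749)))) (.node (.node (.node (.node (.leaf 318464) (.leaf 2080805)) (.node (.leaf 1956864) (.leaf 3155040))) (.node (.node (.leaf 1222656) (.leaf 3300394)) (.leaf 2586624))) (.node (.node (.node (.leaf 668721) (.leaf 3180651)) (.leaf 2295808)) (.node (.node (.leaf 1602560) (.leaf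 2768963)) (.leaf 2843648))))) (.node (.node (.node (.node (.node (.leaf 194560) (.leaf 3002368)) (.node (.leaf 1875968) (.leaf 2707511))) (.node (.node (.leaf 710716) (.leaf 3198069)) (.leaf 176154))) (.node (.node (.node (.leaf 683008) (.leaf 3177472)) (.node (.leaf 2219008) (.leaf 283710))) (.node (.node (.leaf 1508352) (.leaf 3304513)) (.leaf 2783232)))) (.node (.node (.node (.node (.leaf 444416) (.leaf 3096576)) (.node (.leaf 2049024) (.leaf 2932744))) (.node (.node (.leaf 1318912) (.leaf 2811990)) (.leaf 2652160))) (.node (.node (.node (.leaf 417867) (.leaf 1162346)) (.leaf 641056)) (.node (.node (.leaf 745529) (.leaf 1556550)) (.leaf 1795098)))))))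

def twoMvX03 : Janko.Tree (ℕ) :=
  (.node (.node (.node (.node (.node (.node (.node (.leaf 7168) (.leaf 1530945)) (.node (.leaf 1747968) (.leaf 2793524))) (.node (.node (.leaf 963584) (.leaf 3266560)) (.leaf 16508))) (.node (.node (.node (.leaf 508928) (.leaf 369670)) (.node (.leaf 2098176) (.leaf 1837065))) (.node (.node (.leaf 1369088) (.leaf 578585)) (.leaf 2680832)))) (.node (.node (.node (.node (.leaf 260096) (.leaf 1651761)) (.node (.leaf 982133) (.leaf 3415118))) (.node (.node (.leaf 1094781) (.leaf 928875)) (.leaf 2551808))) (.node (.node (.node (.leaf 742400) (.leaf 3196928)) (.node (.leaf 2259968) (.leaf 3536964))) (.node (.node (.leaf 1559552) (.leaf 3452928)) (.leaf 666706))))) (.node (.node (.node (.node (.node (.leaf 136192) (.leaf 1032301)) (.node (.leaf 1832960) (.leaf 1613834))) (.node (.node (.leaf 485427) (.leaf 1330256)) (.leaf 1291375))) (.node (.node (.node (.leaf 621568) (.leaf 3155968)) (.node (.leaf 1098753) (.leaf 3055678))) (.node (.node (.leaf 1458176) (.leaf 3005538)) (.leaf 1714252)))) (.node (.node (.node (.node (.leaf 384000) (.leaf 3073024)) (.node (.leaf 2002944) (.leaf 839742))) (.node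 (.node (.leaf 1274880) (.leaf 323610)) (.leaf 712830))) (.node (.node (.node (.leaf 850944) (.leaf 3011664)) (.leaf 2164850)) (.node (.node (.leaf 1654784) (.leaf 270417)) (.leaf 2048126)))))) (.node (.node (.node (.node (.node (.node (.leaf 71680) (.leaf 2947072)) (.node (.leaf 1731666) (.leaf 2488349))) (.node (.node (.leaf 1016832) (.leaf 3039249)) (.leaf 2447360))) (.node (.node (.node (.leaf 569344) (.leaf 605248)) (.node (.leaf 2143232) (.leaf 1129483))) (.node (.node (.leaf 1417216) (.leaf 2774046)) (.leaf 2714624)))) (.node (.node (.node (.node (.leaf 320512) (.leaf 3051520)) (.node (.leaf 1958912) (.leaf 3202122))) (.node (.node (.leaf 1224704) (.leaf 1749072)) (.leaf 2588672))) (.node (.node (.node (.leaf 796672) (.leaf 2436173)) (.leaf 802910)) (.node (.node (.leaf 1604608) (.leaf 3397704)) (.leaf 2770008))))) (.node (.node (.node (.node (.node (.leaf 196608) (.leaf 3004416)) (.node (.leaf 1878016) (.leaf 3344494))) (.node (.node (.leaf 1121280) (.leaf 2364471)) (.leaf 2515968))) (.node (.node (.node (.leaf 685056) (.leaf 2053232)) (.node (.leaf 398402) (.leaf 3463225))) (.node (.node (.leaf 1509376) (.leaf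 3405912)) (.leaf 1175553)))) (.node (.node (.node (.node (.leaf 446464) (.leaf 2477151)) (.node (.leaf 1240175) (.leaf 2903042))) (.node (.node (.leaf 1320960) (.leaf 1535064)) (.leaf 682070))) (.node (.node (.node (.leaf 907264) (.leaf 3251200)) (.leaf 2369536)) (.node (.node (.leaf 1700864) (.leaf 2697226)) (.leaf 2898944)))))))

def twoMvX04 : Janko.Tree (ℕ) :=
  (.node (.node (.node (.node (.node (.node (.node (.leaf 9216) (.leaf 1874030)) (.node (.leaf 1172601) (.leaf 2229318))) (.node (.node (.leaf 965632) (.leaf 897126)) (.leaf 2410496))) (.node (.node (.node (.leaf 510976) (.leaf 2829386)) (.node (.leaf 2100224) (.leaf 1685623))) (.node (.node (.leaf 1371136) (.leaf 3260487)) (.leaf 1666101)))) (.node (.node (.node (.node (.leaf 262144) (.leaf 1104959)) (.node (.leaf 1918976) (.leaf 2734096))) (.node (.node (.leaf 20552) (.leaf 916531)) (.leaf 2553856))) (.node (.node (.node (.leaf 744448) (.leaf 2315377)) (.node (.leaf 2262016) (.leaf 1279101))) (.node (.node (.leaf 1561600) (.leaf 3453952)) (.leaf 2752548))))) (.node (.node (.node (.node (.node (.leaf 138240) (.leaf 2632782)) (.node (.leaf 1833984) (.leaf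 2796546))) (.node (.node (.leaf 1073152) (.leaf 253008)) (.leaf 234573))) (.node (.node (.node (.leaf 623616) (.leaf 2899980)) (.node (.leaf 1242213) (.leaf 1142851))) (.node (.node (.leaf 1460224) (.leaf 1445930)) (.leaf 289816)))) (.node (.node (.node (.node (.leaf 385024) (.leaf 3075072)) (.node (.leaf 2004992) (.leaf 3486746))) (.node (.node (.leaf 1275904) (.leaf 1862724)) (.leaf 1916022))) (.node (.node (.node (.leaf 852992) (.leaf 3234816)) (.leaf 2335744)) (.node (.node (.leaf 1655808) (.leaf 1135689)) (.leaf 1629298)))))) (.node (.node (.node (.node (.node (.node (.leaf 73728) (.leaf 2949120)) (.node (.leaf 1788928) (.leaf 3451908))) (.node (.node (.leaf 1018880) (.leaf 3284992)) (.leaf 1920117))) (.node (.node (.node (.leaf 570368) (.leaf 3080300)) (.node (.leaf 1407056) (.leaf 3380282))) (.node (.node (.leaf 1418240) (.leaf 3418112)) (.leaf 1675299)))) (.node (.node (.node (.node (.leaf 322560) (.leaf 336914)) (.node (.leaf 1959936) (.leaf 442476))) (.node (.node (.leaf 1226752) (.leaf 3358720)) (.leaf 1170554))) (.node (.node (.node (.leaf 797696) (.leaf 3213312)) (.leaf 2157586)) (.node (.node (.leaf 1606656)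 (.leaf 3465216)) (.leaf 2844672))))) (.node (.node (.node (.node (.node (.leaf 198656) (.leaf 64539)) (.node (.leaf 1880064) (.leaf 3426402))) (.node (.node (.leaf 1123328) (.leaf 197670)) (.leaf 1301535))) (.node (.node (.node (.leaf 687104) (.leaf 3178496)) (.node (.leaf 81009) (.leaf 3264561))) (.node (.node (.leaf 1510400) (.leaf 3268713)) (.leaf 2689080)))) (.node (.node (.node (.node (.leaf 448512) (.leaf 1528852)) (.node (.leaf 2050048) (.leaf 3134575))) (.node (.node (.leaf 1313918) (.leaf 3388416)) (.leaf 2654208))) (.node (.node (.node (.leaf 909312) (.leaf 3252224)) (.leaf 212007)) (.node (.node (.leaf 1113118) (.leaf 3171388)) (.leaf 413737)))))))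

def twoMvX05 : Janko.Tree (ℕ) :=
  (.node (.node (.node (.node (.node (.node (.node (.leaf 11264) (.leaf 971845)) (.node (.leaf 1034357) (.leaf 670757))) (.node (.node (.leaf 752704) (.leaf 3219547)) (.leaf 475152))) (.node (.node (.node (.leaf 513024) (.leaf 3076137)) (.node (.leaf 2101248) (.leaf 2865220))) (.node (.node (.leaf 1373184) (.leaf 3159098)) (.leaf 2682880)))) (.node (.node (.node (.node (.leaf 85009) (.leaf 3031040)) (.node (.leaf 552016) (.leaf 3521536))) (.node (.node (.leaf 1174528) (.leaf 1893409)) (.leaf 2459660))) (.node (.node (.node (.leaf 746496) (.leaf 3049490)) (.node (.leaf 1566792) (.leaf 3462161))) (.node (.node (.leaf 1562624) (.leaf 3246193)) (.leaf 2729069))))) (.node (.node (.node (.node (.node (.leaf 140288) (.leaf 1980532)) (.node (.leaf 1835008) (.leaf 2027581))) (.node (.node (.leaf 1075200) (.leaf 3302400)) (.leaf 2482176))) (.node (.node (.node (.leaf 625664) (.leaf 2476107)) (.node (.leaf 818257) (.leaf 419920))) (.node (.node (.leaf 1333364) (.leaf 3385344)) (.leaf 2496523)))) (.node (.node (.node (.node (.leaf 387072) (.leaf 3077120)) (.node (.leaf 300057) (.leaf 3204183)))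 (.node (.node (.leaf 1277952) (.leaf 2778196)) (.leaf 2622464))) (.node (.node (.node (.leaf 855040) (.leaf 2756686)) (.leaf 2067456)) (.node (.node (.leaf 639050) (.leaf 2732064)) (.leaf 1486939)))))) (.node (.node (.node (.node (.node (.node (.leaf 75776) (.leaf 696388)) (.node (.leaf 1789952) (.leaf 1449055))) (.node (.node (.leaf 1020928) (.leaf 405596)) (.leaf 834595))) (.node (.node (.node (.leaf 572416) (.leaf 3132416)) (.node (.leaf 2145280) (.leaf 3487756))) (.node (.node (.leaf 1420288) (.leaf 1957970)) (.leaf 2715648)))) (.node (.node (.node (.node (.leaf 324608) (.leaf 2291726)) (.node (.leaf 1961984) (.leaf 1677397))) (.node (.node (.leaf 1228800) (.leaf 836721)) (.leaf 1858568))) (.node (.node (.node (.leaf 799744) (.leaf 2863169)) (.leaf 2298880)) (.node (.node (.leaf 497691) (.leaf 3466240)) (.leaf 2303087))))) (.node (.node (.node (.node (.node (.leaf 200704) (.leaf 3006464)) (.node (.leaf 1881088) (.leaf 951422))) (.node (.node (.leaf 1125376) (.leaf 1623056)) (.leaf 2518016))) (.node (.node (.node (.leaf 689152) (.leaf 203820)) (.node (.leaf 1474655) (.leaf 415765))) (.node (.node (.leaf 1375297)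 (.leaf 1640517)) (.leaf 2786304)))) (.node (.node (.node (.node (.leaf 450560) (.leaf 2121742)) (.node (.leaf 2052096) (.leaf 3534848))) (.node (.node (.leaf 1323008) (.leaf 3367021)) (.leaf 1804364))) (.node (.node (.node (.leaf 911360) (.leaf 2425895)) (.leaf 193566)) (.node (.node (.leaf 1190930) (.leaf 1594402)) (.leaf 2407539)))))))

def twoMvX06 : Janko.Tree (ℕ) :=
  (.node (.node (.node (.node (.node (.node (.node (.leaf 13312) (.leaf 2238512)) (.node (.leaf 1750016) (.leaf 1370225))) (.node (.node (.leaf 561273) (.leaf 3267584)) (.leaf 2412544))) (.node (.node (.node (.leaf 515072) (.leaf 2118732)) (.node (.leaf 2103296) (.leaf 2111581))) (.node (.node (.leaf 1374208) (.leaf 2901043)) (.leaf 1160289)))) (.node (.node (.node (.node (.leaf 265216) (.leaf 2155619)) (.node (.leaf 1527919) (.leaf 3284044))) (.node (.node (.leaf 1176576) (.leaf 3316764)) (.leaf 509977))) (.node (.node (.node (.leaf 748544) (.leaf 455707)) (.node (.leaf 1703001) (.leaf 557130))) (.node (.node (.leaf 1164344) (.leaf 3070991)) (.leaf 2817024))))) (.node (.node (.node (.node (.node (.leaf 142336) (.leaf 2597956)) (.node (.leaf 1515568)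 (.leaf 3393663))) (.node (.node (.leaf 244833) (.leaf 3067948)) (.leaf 2035773))) (.node (.node (.node (.leaf 627712) (.leaf 1124425)) (.node (.leaf 1221679) (.leaf 3522579))) (.node (.node (.leaf 775218) (.leaf 3208318)) (.leaf 2428930)))) (.node (.node (.node (.node (.leaf 389120) (.leaf 2973764)) (.node (.leaf 110592) (.leaf 2380882))) (.node (.node (.leaf 1280000) (.leaf 2838631)) (.leaf 762970))) (.node (.node (.node (.leaf 857088) (.leaf 2948217)) (.leaf 2337792)) (.node (.node (.leaf 1657856) (.leaf 3356764)) (.leaf 2813018)))))) (.node (.node (.node (.node (.node (.node (.leaf 77824) (.leaf 2951168)) (.node (.leaf 1792000) (.leaf 461845))) (.node (.node (.leaf 1022976) (.leaf 2525282)) (.leaf 2448384))) (.node (.node (.node (.leaf 528502) (.leaf 1441806)) (.node (.leaf 2147328) (.leaf 3447828))) (.node (.node (.leaf 1421312) (.leaf 1466480)) (.leaf 2716672)))) (.node (.node (.node (.node (.leaf 326656) (.leaf 3052544)) (.node (.leaf 1255510) (.leaf 2710599))) (.node (.node (.leaf 1229824) (.leaf 2385001)) (.leaf 2589696))) (.node (.node (.node (.leaf 801792) (.leaf 1540123)) (.leaf 2299904)) (.node (.node (.leaf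 611455) (.leaf 3467264)) (.leaf 2527263))))) (.node (.node (.node (.node (.node (.leaf 202752) (.leaf 2999304)) (.node (.leaf 1883136) (.leaf 2606182))) (.node (.node (.leaf 652357) (.leaf 1642510)) (.leaf 2224232))) (.node (.node (.node (.leaf 691200) (.leaf 2200644)) (.node (.leaf 2222080) (.leaf 3150859))) (.node (.node (.leaf 1512448) (.leaf 1454180)) (.leaf 2787328)))) (.node (.node (.node (.node (.leaf 452608) (.leaf 3100672)) (.node (.leaf 2054144) (.leaf 451682))) (.node (.node (.leaf 1325056) (.leaf 302169)) (.leaf 2487339))) (.node (.node (.node (.leaf 913408) (.leaf 3253248)) (.leaf 2372608)) (.node (.node (.leaf 1704960) (.leaf 2166906)) (.leaf 2902016)))))))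

def twoMvX07 : Janko.Tree (ℕ) :=
  (.node (.node (.node (.node (.node (.node (.node (.leaf 15360) (.leaf 2646079)) (.node (.leaf 1752064) (.leaf 3490816))) (.node (.node (.leaf 969728) (.leaf 2926688)) (.leaf 2223154))) (.node (.node (.node (.leaf 517120) (.leaf 3118080)) (.node (.leaf 2105344) (.leaf 3200098))) (.node (.node (.leaf 1376256) (.leaf 3395612)) (.leaf 850006)))) (.node (.node (.node (.node (.leaf 267264) (.leaf 1268847)) (.node (.leaf 1922048) (.leaf 3133494))) (.node (.node (.leaf 1177600) (.leaf 1341483)) (.leaf 2555904))) (.node (.node (.node (.leaf 750592) (.leaf 3198976)) (.node (.leaf 2264064) (.leaf 3331189))) (.node (.node (.leaf 1565696) (.leaf 3454976)) (.leaf 2819072))))) (.node (.node (.node (.node (.node (.leaf 144384) (.leaf 2309211)) (.node (.leaf 1131573) (.leaf 3513344))) (.node (.node (.leaf 1078272) (.leaf 1995814)) (.leaf 2485248))) (.node (.node (.node (.leaf 629760) (.leaf 2920499)) (.node (.leaf 501826) (.leaf 2737278))) (.node (.node (.leaf 1463296) (.leaf 2750585)) (.leaf 1385505)))) (.node (.node (.node (.node (.leaf 391168) (.leaf 2891893)) (.node (.leaf 1309788) (.leaf 2408556)))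 (.node (.node (.leaf 1282048) (.leaf 573567)) (.leaf 2625536))) (.node (.node (.node (.leaf 859136) (.leaf 3157044)) (.leaf 1605681)) (.node (.node (.leaf 1659904) (.leaf 272466)) (.leaf 440351)))))) (.node (.node (.node (.node (.node (.node (.leaf 79872) (.leaf 1564738)) (.node (.leaf 1794048) (.leaf 3501056))) (.node (.node (.leaf 899161) (.leaf 3099696)) (.leaf 1987614))) (.node (.node (.node (.leaf 575488) (.leaf 2529330)) (.node (.leaf 1631346) (.leaf 1179769))) (.node (.node (.leaf 1422336) (.leaf 2029614)) (.leaf 2626624)))) (.node (.node (.node (.node (.leaf 328704) (.leaf 2312198)) (.node (.leaf 1815638) (.leaf 133140))) (.node (.node (.leaf 471065) (.leaf 2996224)) (.leaf 2590720))) (.node (.node (.node (.leaf 803840) (.leaf 3063934)) (.leaf 2300928)) (.node (.node (.leaf 1610752) (.leaf 3468288)) (.leaf 2847744))))) (.node (.node (.node (.node (.node (.leaf 204800) (.leaf 1926162)) (.node (.leaf 1140773) (.leaf 495671))) (.node (.node (.leaf 1128448) (.leaf 1600548)) (.leaf 2519040))) (.node (.node (.node (.leaf 693248) (.leaf 2993234)) (.node (.leaf 1354869) (.leaf 3269700))) (.node (.node (.leaf 1514496)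 (.leaf 96272)) (.leaf 1394789)))) (.node (.node (.node (.node (.leaf 454656) (.leaf 3101696)) (.node (.leaf 2056192) (.leaf 992333))) (.node (.node (.leaf 1326080) (.leaf 686115)) (.leaf 2657280))) (.node (.node (.node (.leaf 915456) (.leaf 3254272)) (.leaf 2373632)) (.node (.node (.leaf 1705984) (.leaf 221294)) (.leaf 2904064)))))))

def twoMvX08 : Janko.Tree (ℕ) :=
  (.node (.node (.node (.node (.node (.node (.node (.leaf 17408) (.leaf 2179150)) (.node (.leaf 1754112) (.leaf 3492864))) (.node (.node (.leaf 970752) (.leaf 1461280)) (.leaf 1236050))) (.node (.node (.node (.leaf 518144) (.leaf 3119104)) (.node (.leaf 2106368) (.leaf 824361))) (.node (.node (.leaf 1378304) (.leaf 2374739)) (.leaf 917549)))) (.node (.node (.node (.node (.leaf 269312) (.leaf 3034112)) (.node (.leaf 1924096) (.leaf 3113025))) (.node (.node (.leaf 1178624) (.leaf 1569870)) (.leaf 2556928))) (.node (.node (.node (.leaf 751616) (.leaf 2162747)) (.node (.leaf 1839215) (.leaf 1703977))) (.node (.node (.leaf 1567744) (.leaf 3301390)) (.leaf 1899625))))) (.node (.node (.node (.node (.node (.leaf 146432) (.leaf 2979840)) (.node (.leaf 1324144) (.leaf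 1933371))) (.node (.node (.leaf 1080320) (.leaf 3303424)) (.leaf 145431))) (.node (.node (.node (.leaf 631808) (.leaf 3160064)) (.node (.leaf 1884180) (.leaf 3095647))) (.node (.node (.leaf 1465344) (.leaf 264268)) (.leaf 2757632)))) (.node (.node (.node (.node (.leaf 393216) (.leaf 1092665)) (.node (.leaf 407639) (.leaf 3474501))) (.node (.node (.leaf 1284096) (.leaf 118818)) (.leaf 2627584))) (.node (.node (.node (.leaf 860160) (.leaf 3236864)) (.leaf 2339840)) (.node (.node (.leaf 1661952) (.leaf 1478662)) (.leaf 129094)))))) (.node (.node (.node (.node (.node (.node (.leaf 81920) (.leaf 2954240)) (.node (.leaf 1796096) (.leaf 2868270))) (.node (.node (.leaf 1026048) (.leaf 3288064)) (.leaf 2290696))) (.node (.node (.node (.leaf 577536) (.leaf 2297925)) (.node (.leaf 2149376) (.leaf 747627))) (.node (.node (.leaf 1423360) (.leaf 2461729)) (.leaf 263218)))) (.node (.node (.node (.node (.leaf 330752) (.leaf 2874455)) (.node (.leaf 1965056) (.leaf 1484857))) (.node (.node (.leaf 1232896) (.leaf 1772553)) (.leaf 2591744))) (.node (.node (.node (.leaf 57378) (.leaf 2814038)) (.leaf 2293771)) (.node (.node (.leaf 1612800)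 (.leaf 2398257)) (.leaf 2849792))))) (.node (.node (.node (.node (.node (.leaf 206848) (.leaf 2104417)) (.node (.leaf 1827853) (.leaf 3352633))) (.node (.node (.leaf 1130496) (.leaf 3035143)) (.leaf 2521088))) (.node (.node (.node (.leaf 695296) (.leaf 3179520)) (.node (.leaf 607275) (.leaf 2584636))) (.node (.node (.leaf 1516544) (.leaf 2850829)) (.leaf 2789376)))) (.node (.node (.node (.node (.leaf 456704) (.leaf 1062941)) (.node (.leaf 2057216) (.leaf 2009098))) (.node (.node (.leaf 1327104) (.leaf 3390464)) (.leaf 568411))) (.node (.node (.node (.leaf 523356) (.leaf 1790997)) (.leaf 1688694)) (.node (.node (.leaf 279643) (.leaf 2263162)) (.leaf 2906112)))))))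

def twoMvX09 : Janko.Tree (ℕ) :=
  (.node (.node (.node (.node (.node (.node (.node (.leaf 19456) (.leaf 2925568)) (.node (.leaf 1755136) (.leaf 3343417))) (.node (.node (.leaf 972800) (.leaf 2799631)) (.leaf 1195049))) (.node (.node (.node (.leaf 520192) (.leaf 3120128)) (.node (.leaf 2108416) (.leaf 3464279))) (.node (.node (.leaf 967710) (.leaf 562247)) (.leaf 2685952)))) (.node (.node (.node (.node (.leaf 271360) (.leaf 219259)) (.node (.leaf 1925120) (.leaf 2884710))) (.node (.node (.leaf 583743) (.leaf 2060365)) (.leaf 1053813))) (.node (.node (.node (.leaf 636930) (.leaf 3128407)) (.leaf 2266112)) (.node (.node (.leaf 1266780) (.leaf 1519701)) (.leaf 2820096))))) (.node (.node (.node (.node (.node (.leaf 148480) (.leaf 1813570)) (.node (.leaf 1840128) (.leaf 268327))) (.node (.node (.leaf 1081344) (.leaf 2014300)) (.leaf 2107515))) (.node (.node (.node (.leaf 633856) (.leaf 1589316)) (.node (.leaf 1438837) (.leaf 3175510))) (.node (.node (.leaf 1467392) (.leaf 914541)) (.leaf 2624542)))) (.node (.node (.node (.node (.leaf 395264) (.leaf 3053646)) (.node (.leaf 2011136) (.leaf 1696855))) (.node (.node (.leaf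 1286144) (.leaf 3375104)) (.leaf 2628608))) (.node (.node (.node (.leaf 741376) (.leaf 3237888)) (.leaf 2341888)) (.node (.node (.leaf 1052772) (.leaf 2274428)) (.leaf 2069517)))))) (.node (.node (.node (.node (.node (.node (.leaf 83968) (.leaf 2713653)) (.node (.leaf 1611791) (.leaf 1045505))) (.node (.node (.leaf 994421) (.leaf 1542256)) (.leaf 1583181))) (.node (.node (.node (.leaf 579584) (.leaf 2616428)) (.node (.leaf 2151424) (.leaf 347172))) (.node (.node (.leaf 1425408) (.leaf 3121173)) (.leaf 2719744)))) (.node (.node (.node (.node (.leaf 331776) (.leaf 3054592)) (.node (.leaf 1966080) (.leaf 754772))) (.node (.node (.leaf 1234944) (.leaf 3214361)) (.leaf 2592768))) (.node (.node (.node (.leaf 400460) (.leaf 2144301)) (.leaf 1955922)) (.node (.node (.leaf 382989) (.leaf 3469312)) (.leaf 2851840))))) (.node (.node (.node (.node (.node (.leaf 208896) (.leaf 353389)) (.node (.leaf 1886208) (.leaf 2664496))) (.node (.node (.leaf 1132544) (.leaf 3323904)) (.leaf 2453524))) (.node (.node (.node (.leaf 697344) (.leaf 944199)) (.node (.leaf 355446) (.leaf 3493934))) (.node (.node (.leaf 1518592) (.leaf 3274773)) (.leaf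 2790400)))) (.node (.node (.node (.node (.leaf 458752) (.leaf 3103744)) (.node (.leaf 2059264) (.leaf 2608251))) (.node (.node (.leaf 1329152) (.leaf 2898001)) (.leaf 2659328))) (.node (.node (.node (.leaf 918528) (.leaf 1237100)) (.leaf 2376704)) (.node (.node (.leaf 594995) (.leaf 2032729)) (.leaf 2413645)))))))

def twoMvX010 : Janko.Tree (ℕ) :=
  (.node (.node (.node (.node (.node (.node (.node (.leaf 21504) (.leaf 800793)) (.node (.leaf 1757184) (.leaf 3399745))) (.node (.node (.leaf 974848) (.leaf 3021930)) (.leaf 2241609))) (.node (.node (.node (.leaf 522240) (.leaf 2343009)) (.node (.leaf 2017323) (.leaf 1304587))) (.node (.node (.leaf 1381376) (.leaf 3407872)) (.leaf 2686976)))) (.node (.node (.node (.node (.leaf 273408) (.leaf 3036160)) (.node (.leaf 114722) (.leaf 2696291))) (.node (.node (.leaf 293998) (.leaf 3345408)) (.leaf 2557952))) (.node (.node (.node (.leaf 753664) (.leaf 445542)) (.leaf 199692)) (.node (.node (.leaf 1570816) (.leaf 3321927)) (.leaf 2821120))))) (.node (.node (.node (.node (.node (.leaf 150528) (.leaf 1751092)) (.node (.leaf 1842176) (.leaf 2270215))) (.node (.node (.leaf 1083392)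 (.leaf 3305472)) (.leaf 2489344))) (.node (.node (.node (.leaf 635904) (.leaf 2268186)) (.node (.leaf 599096) (.leaf 2992244))) (.node (.node (.leaf 1468416) (.leaf 932917)) (.leaf 2758656)))) (.node (.node (.node (.node (.leaf 397312) (.leaf 890915)) (.node (.leaf 1119348) (.leaf 1845368))) (.node (.node (.leaf 1287168) (.leaf 2438145)) (.leaf 2629632))) (.node (.node (.node (.leaf 863232) (.leaf 3066911)) (.leaf 2343936)) (.node (.node (.leaf 1664000) (.leaf 2968586)) (.leaf 1482848)))))) (.node (.node (.node (.node (.node (.node (.leaf 86016) (.leaf 2956288)) (.node (.leaf 164882) (.leaf 3502080))) (.node (.node (.leaf 1029120) (.leaf 3152999)) (.leaf 2451456))) (.node (.node (.node (.leaf 581632) (.leaf 1317978)) (.node (.leaf 2152448) (.leaf 2024557))) (.node (.node (.leaf 1127447) (.leaf 2113555)) (.leaf 2721792)))) (.node (.node (.node (.node (.leaf 333824) (.leaf 3056640)) (.node (.leaf 1968128) (.leaf 871523))) (.node (.node (.leaf 1030202) (.leaf 1399809)) (.leaf 2227287))) (.node (.node (.node (.leaf 807936) (.leaf 1017975)) (.leaf 2304000)) (.node (.node (.leaf 1615872) (.leaf 3448939)) (.leaf 771157)))))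 (.node (.node (.node (.node (.node (.leaf 210944) (.leaf 3010560)) (.node (.leaf 1887232) (.leaf 1163348))) (.node (.node (.leaf 1134592) (.leaf 1875069)) (.leaf 2522112))) (.node (.node (.node (.leaf 698368) (.leaf 3079239)) (.node (.leaf 1575037) (.leaf 1692779))) (.node (.node (.leaf 1520640) (.leaf 3421221)) (.leaf 609345)))) (.node (.node (.node (.node (.leaf 460800) (.leaf 2225245)) (.node (.leaf 2061312) (.leaf 3235947))) (.node (.node (.leaf 1331200) (.leaf 3136547)) (.leaf 2660352))) (.node (.node (.node (.leaf 920576) (.leaf 2078798)) (.leaf 2378752)) (.node (.node (.leaf 1090605) (.leaf 1154170)) (.leaf 2908160)))))))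

def twoMvX011 : Janko.Tree (ℕ) :=
  (.node (.node (.node (.node (.node (.node (.node (.leaf 23552) (.leaf 2928640)) (.node (.leaf 1758208) (.leaf 3050513))) (.node (.node (.leaf 975872) (.leaf 3270656)) (.leaf 2416640))) (.node (.node (.node (.leaf 524288) (.leaf 3122176)) (.node (.leaf 2110464) (.leaf 127086))) (.node (.node (.leaf 1337365) (.leaf 3353617)) (.leaf 2382911)))) (.node (.node (.node (.node (.leaf 274432) (.leaf 1505343)) (.node (.leaf 1633325) (.leaf 1283079))) (.node (.node (.leaf 1182720) (.leaf 1285223)) (.leaf 1208391))) (.node (.node (.node (.leaf 76897) (.leaf 1296428)) (.leaf 2269184)) (.node (.node (.leaf 1572864) (.leaf 2907177)) (.leaf 1133606))))) (.node (.node (.node (.node (.node (.leaf 152576) (.leaf 2982912)) (.node (.leaf 1843200) (.leaf 3256324))) (.node (.node (.leaf 1085440) (.leaf 2923632)) (.leaf 2491392))) (.node (.node (.node (.leaf 637952) (.leaf 304255)) (.node (.leaf 2189312) (.leaf 3372045))) (.node (.node (.leaf 1469440) (.leaf 2726995)) (.leaf 590936)))) (.node (.node (.node (.node (.leaf 399360) (.leaf 2351225)) (.node (.leaf 2013184) (.leaf 1911854))) (.node (.node (.leaf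 1289216) (.leaf 2917457)) (.leaf 2064490))) (.node (.node (.node (.leaf 864256) (.leaf 3238912)) (.leaf 2344960)) (.node (.node (.leaf 1470548) (.leaf 55335)) (.leaf 2877440)))))) (.node (.node (.node (.node (.node (.node (.leaf 88064) (.leaf 1214466)) (.node (.leaf 1800192) (.leaf 3110965))) (.node (.node (.leaf 1031168) (.leaf 2709597)) (.leaf 2452480))) (.node (.node (.node (.leaf 242786) (.leaf 3137536)) (.node (.leaf 334856) (.leaf 2015327))) (.node (.node (.leaf 895023) (.leaf 739331)) (.leaf 2722816)))) (.node (.node (.node (.node (.leaf 335872) (.leaf 3057664)) (.node (.leaf 1585244) (.leaf 2980864))) (.node (.node (.leaf 1238016) (.leaf 2831478)) (.leaf 1973296))) (.node (.node (.node (.leaf 809984) (.leaf 3217408)) (.leaf 139391)) (.node (.node (.leaf 1616896) (.leaf 622663)) (.leaf 1558564))))) (.node (.node (.node (.node (.node (.leaf 212992) (.leaf 2692182)) (.node (.leaf 10358) (.leaf 2001999))) (.node (.node (.leaf 1136640) (.leaf 2795618)) (.leaf 2524160))) (.node (.node (.node (.leaf 700416) (.leaf 1787913)) (.node (.leaf 2226176) (.leaf 3142742))) (.node (.node (.leaf 1522688) (.leaf 2386960)) (.leaf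 2792448)))) (.node (.node (.node (.node (.leaf 462848) (.leaf 120868)) (.node (.leaf 2063360) (.leaf 3337342))) (.node (.node (.leaf 1108081) (.leaf 2008158)) (.leaf 2662400))) (.node (.node (.node (.leaf 922624) (.leaf 956498)) (.leaf 2379776)) (.node (.node (.leaf 1709056) (.leaf 291938)) (.leaf 2909184)))))))

def twoMvX012 : Janko.Tree (ℕ) :=
  (.node (.node (.node (.node (.node (.node (.node (.leaf 25600) (.leaf 1882174)) (.node (.leaf 1759232) (.leaf 3346439))) (.node (.node (.leaf 977920) (.leaf 2037852)) (.leaf 2046026))) (.node (.node (.node (.leaf 526336) (.leaf 2958386)) (.node (.leaf 2112512) (.leaf 1775623))) (.node (.node (.leaf 1384448) (.leaf 2596870)) (.leaf 1865792)))) (.node (.node (.node (.node (.leaf 276480) (.leaf 781329)) (.node (.leaf 1928192) (.leaf 592906))) (.node (.node (.leaf 690257) (.leaf 2683934)) (.leaf 2561024))) (.node (.node (.node (.leaf 756736) (.leaf 1120345)) (.leaf 2271232)) (.node (.node (.leaf 1573888) (.leaf 1217567)) (.leaf 2824192))))) (.node (.node (.node (.node (.node (.leaf 154624) (.leaf 2396186)) (.node (.leaf 1844224) (.leaf 3480652))) (.node (.node (.leaf 1087488)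 (.leaf 3306496)) (.leaf 394364))) (.node (.node (.node (.leaf 640000) (.leaf 1587290)) (.node (.leaf 377879) (.leaf 2188354))) (.node (.node (.leaf 195668) (.leaf 634999)) (.leaf 340996)))) (.node (.node (.node (.node (.leaf 401408) (.leaf 795694)) (.node (.leaf 1860726) (.leaf 1342521))) (.node (.node (.leaf 1290240) (.leaf 3322897)) (.leaf 2630656))) (.node (.node (.node (.leaf 866304) (.leaf 2070641)) (.leaf 2074684)) (.node (.node (.leaf 1667072) (.leaf 3326078)) (.leaf 694362)))))) (.node (.node (.node (.node (.node (.node (.leaf 90112) (.leaf 2959360)) (.node (.leaf 1340432) (.leaf 2916374))) (.node (.node (.leaf 464951) (.leaf 2913331)) (.leaf 1167370))) (.node (.node (.node (.leaf 584704) (.leaf 1581120)) (.node (.leaf 2154496) (.leaf 3514382))) (.node (.node (.leaf 1427456) (.leaf 2038839)) (.leaf 2723840)))) (.node (.node (.node (.node (.leaf 337920) (.leaf 3058688)) (.node (.leaf 1970176) (.leaf 2833411))) (.node (.node (.leaf 135288) (.leaf 812035)) (.leaf 1710145))) (.node (.node (.node (.leaf 811008) (.leaf 3218432)) (.leaf 647207)) (.node (.node (.leaf 1618944) (.leaf 574515)) (.leaf 162905))))) (.node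 (.node (.node (.node (.node (.leaf 215040) (.leaf 867328)) (.node (.leaf 1890304) (.leaf 1295407))) (.node (.node (.leaf 1138688) (.leaf 934973)) (.leaf 737389))) (.node (.node (.node (.leaf 701440) (.leaf 3181568)) (.node (.leaf 143369) (.leaf 2517032))) (.node (.node (.leaf 1524736) (.leaf 2560077)) (.leaf 2794496)))) (.node (.node (.node (.node (.leaf 178213) (.leaf 3104768)) (.node (.leaf 2065408) (.leaf 153620))) (.node (.node (.leaf 1334272) (.leaf 2186327)) (.leaf 2663424))) (.node (.node (.node (.leaf 923648) (.leaf 3255296)) (.leaf 2381824)) (.node (.node (.leaf 1711104) (.leaf 205905)) (.leaf 2185329)))))))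

def twoMvX013 : Janko.Tree (ℕ) :=
  (.node (.node (.node (.node (.node (.node (.node (.leaf 27648) (.leaf 2930688)) (.node (.leaf 361531) (.leaf 2531423))) (.node (.node (.leaf 978944) (.leaf 3272704)) (.leaf 2419712))) (.node (.node (.node (.leaf 527360) (.leaf 3117115)) (.node (.leaf 14385) (.leaf 3519595))) (.node (.node (.leaf 1386496) (.leaf 2193439)) (.leaf 1082401)))) (.node (.node (.node (.node (.leaf 278528) (.leaf 3037184)) (.node (.leaf 1930240) (.leaf 3523584))) (.node (.node (.leaf 1185792) (.leaf 3347456)) (.leaf 424030))) (.node (.node (.node (.leaf 726049) (.leaf 2498670)) (.leaf 777281)) (.node (.node (.leaf 78848) (.leaf 3458048)) (.leaf 2826240))))) (.node (.node (.node (.node (.node (.leaf 156672) (.leaf 2873378)) (.node (.leaf 1846272) (.leaf 949262))) (.node (.node (.leaf 1089536) (.leaf 1761355)) (.leaf 131094))) (.node (.node (.node (.leaf 642048) (.leaf 3163136)) (.node (.leaf 2192384) (.leaf 3471449))) (.node (.node (.leaf 1471488) (.leaf 137324)) (.leaf 2404386)))) (.node (.node (.node (.node (.leaf 403456) (.leaf 3081216)) (.node (.leaf 2016256) (.leaf 2148358))) (.node (.node (.leaf 1292288)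 (.leaf 191550)) (.leaf 2631680))) (.node (.node (.node (.leaf 868352) (.leaf 2218044)) (.leaf 2345984)) (.node (.node (.leaf 1669120) (.leaf 2988108)) (.leaf 2880512)))))) (.node (.node (.node (.node (.node (.node (.leaf 92160) (.leaf 2960384)) (.node (.leaf 1803264) (.leaf 3078239))) (.node (.node (.leaf 1033216) (.leaf 3060787)) (.leaf 1247291))) (.node (.node (.node (.leaf 586752) (.leaf 632897)) (.node (.leaf 2156544) (.leaf 3146857))) (.node (.node (.leaf 1306638) (.leaf 564293)) (.leaf 2725888)))) (.node (.node (.node (.node (.leaf 339968) (.leaf 1001537)) (.node (.leaf 1972224) (.leaf 1563703))) (.node (.node (.leaf 1241088) (.leaf 1501271)) (.leaf 1148979))) (.node (.node (.node (.leaf 813056) (.leaf 832540)) (.leaf 1067036)) (.node (.node (.leaf 1620992) (.leaf 1027096)) (.leaf 2853888))))) (.node (.node (.node (.node (.node (.leaf 216064) (.leaf 3012608)) (.node (.leaf 1891328) (.leaf 3311617))) (.node (.node (.leaf 479301) (.leaf 2736144)) (.leaf 2526208))) (.node (.node (.node (.leaf 702464) (.leaf 3182592)) (.node (.leaf 2228224) (.leaf 3221626))) (.node (.node (.leaf 1526784) (.leaf 3047550)) (.leaf 1239153))))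 (.node (.node (.node (.node (.leaf 465920) (.leaf 1961085)) (.node (.leaf 2066432) (.leaf 3459112))) (.node (.node (.leaf 1336320) (.leaf 3392512)) (.leaf 453643))) (.node (.node (.node (.leaf 925696) (.leaf 3126392)) (.leaf 2383872)) (.node (.node (.leaf 1713152) (.leaf 477246)) (.leaf 617497)))))))

def twoMvX014 : Janko.Tree (ℕ) :=
  (.node (.node (.node (.node (.node (.node (.node (.leaf 29696) (.leaf 2931712)) (.node (.leaf 1762304) (.leaf 1338386))) (.node (.node (.leaf 980992) (.leaf 2702415)) (.leaf 2142291))) (.node (.node (.node (.leaf 529408) (.leaf 2006018)) (.node (.leaf 2115584) (.leaf 2325525))) (.node (.node (.leaf 1387520) (.leaf 1895541)) (.leaf 1716277)))) (.node (.node (.node (.node (.leaf 280576) (.leaf 3038208)) (.node (.leaf 1932288) (.leaf 3446848))) (.node (.node (.leaf 51259) (.leaf 339001)) (.leaf 2563072))) (.node (.node (.node (.leaf 759808) (.leaf 2583589)) (.leaf 2273280)) (.node (.node (.leaf 1575936) (.leaf 3355760)) (.leaf 1699922))))) (.node (.node (.node (.node (.node (.leaf 157696) (.leaf 2984960)) (.node (.leaf 1322111) (.leaf 108656))) (.node (.node (.leaf 1091584) (.leaf 534548))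 (.leaf 585768))) (.node (.node (.node (.leaf 644096) (.leaf 3164160)) (.node (.leaf 1950816) (.leaf 1010712))) (.node (.node (.leaf 1473536) (.leaf 2310214)) (.leaf 2594858)))) (.node (.node (.node (.node (.leaf 404480) (.leaf 3082240)) (.node (.leaf 2018304) (.leaf 3373179))) (.node (.node (.leaf 1294336) (.leaf 1671255)) (.leaf 172032))) (.node (.node (.node (.leaf 870400) (.leaf 2150495)) (.leaf 1451050)) (.node (.node (.leaf 1159233) (.leaf 3477504)) (.leaf 2881536)))))) (.node (.node (.node (.node (.node (.node (.leaf 94208) (.leaf 2961408)) (.node (.leaf 388147) (.leaf 3503104))) (.node (.node (.leaf 1035264) (.leaf 3290112)) (.leaf 2454528))) (.node (.node (.node (.leaf 588800) (.leaf 3140608)) (.node (.leaf 1727515) (.leaf 3341435))) (.node (.node (.leaf 1429504) (.leaf 325731)) (.leaf 1783907)))) (.node (.node (.node (.node (.leaf 342016) (.leaf 104457)) (.node (.leaf 1974272) (.leaf 699481))) (.node (.node (.leaf 1243136) (.leaf 1538078)) (.leaf 2595840))) (.node (.node (.node (.leaf 815104) (.leaf 3131494)) (.leaf 1042491)) (.node (.node (.leaf 402501) (.leaf 2846816)) (.leaf 224316))))) (.node (.node (.node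 (.node (.node (.leaf 218112) (.leaf 3014656)) (.node (.leaf 1892352) (.leaf 3386462))) (.node (.node (.leaf 1141760) (.leaf 3326976)) (.leaf 1480809))) (.node (.node (.node (.leaf 704512) (.leaf 3183616)) (.node (.leaf 886889) (.leaf 2287694))) (.node (.node (.leaf 459782) (.leaf 1773647)) (.leaf 1901583)))) (.node (.node (.node (.node (.leaf 467968) (.leaf 1849367)) (.node (.leaf 2068480) (.leaf 3508256))) (.node (.node (.leaf 201734) (.leaf 3394560)) (.leaf 2665472))) (.node (.node (.node (.leaf 927744) (.leaf 24627)) (.leaf 1503260)) (.node (.node (.leaf 1715200) (.leaf 3442800)) (.leaf 2062352)))))))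

def twoMvX015 : Janko.Tree (ℕ) :=
  (.node (.node (.node (.node (.node (.node (.node (.leaf 31744) (.leaf 1921080)) (.node (.leaf 1764352) (.leaf 3494912))) (.node (.node (.leaf 983040) (.leaf 3273728)) (.leaf 2420736))) (.node (.node (.node (.leaf 531456) (.leaf 1183826)) (.node (.leaf 2117632) (.leaf 3539968))) (.node (.node (.leaf 1389568) (.leaf 2910285)) (.leaf 809048)))) (.node (.node (.node (.node (.leaf 282624) (.leaf 2670697)) (.node (.leaf 1934336) (.leaf 2538589))) (.node (.node (.leaf 1187840) (.leaf 3349504)) (.leaf 2565120))) (.node (.node (.node (.leaf 761856) (.leaf 1281146)) (.leaf 2275328)) (.node (.node (.leaf 1204278) (.leaf 3245173)) (.leaf 308339))))) (.node (.node (.node (.node (.node (.leaf 159744) (.leaf 2985984)) (.node (.leaf 1848320) (.leaf 3338260))) (.node (.node (.leaf 1093632) (.leaf 3307520)) (.leaf 2368515))) (.node (.node (.node (.leaf 646144) (.leaf 3166208)) (.node (.leaf 1672251) (.leaf 1079312))) (.node (.node (.leaf 1475584) (.leaf 1802339)) (.leaf 2763776)))) (.node (.node (.node (.node (.leaf 406528) (.leaf 988172)) (.node (.leaf 226422) (.leaf 1944592))) (.node (.node (.leaf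 1088578) (.leaf 2861059)) (.leaf 2633728))) (.node (.node (.node (.leaf 872448) (.leaf 2400360)) (.leaf 1038429)) (.node (.node (.leaf 1670144) (.leaf 2284614)) (.leaf 209997)))))) (.node (.node (.node (.node (.node (.node (.leaf 95232) (.leaf 2962432)) (.node (.leaf 1806336) (.leaf 3473415))) (.node (.node (.leaf 1037312) (.leaf 3291136)) (.leaf 2455552))) (.node (.node (.node (.leaf 589824) (.leaf 3141632)) (.node (.leaf 2159616) (.leaf 3009575))) (.node (.node (.leaf 1199209) (.leaf 3420160)) (.leaf 2727936)))) (.node (.node (.node (.node (.leaf 344064) (.leaf 2937865)) (.node (.leaf 1976320) (.leaf 3518574))) (.node (.node (.leaf 798764) (.leaf 3357768)) (.leaf 2220131))) (.node (.node (.node (.leaf 816128) (.leaf 2944107)) (.leaf 1984538)) (.node (.node (.leaf 1624064) (.leaf 3470336)) (.leaf 2854912))))) (.node (.node (.node (.node (.node (.leaf 220160) (.leaf 3015680)) (.node (.leaf 36914) (.leaf 1831977))) (.node (.node (.leaf 1143808) (.leaf 3328000)) (.leaf 2528256))) (.node (.node (.node (.leaf 706560) (.leaf 3185664)) (.node (.leaf 2231296) (.leaf 100441))) (.node (.node (.leaf 1529856) (.leaf 2678886))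 (.leaf 2603036)))) (.node (.node (.node (.node (.leaf 470016) (.leaf 3105792)) (.node (.leaf 34897) (.leaf 1855610))) (.node (.node (.leaf 1339392) (.leaf 314402)) (.leaf 1753110))) (.node (.node (.node (.leaf 929792) (.leaf 2334721)) (.leaf 49232)) (.node (.node (.leaf 1717248) (.leaf 2119765)) (.leaf 1553458)))))))

def twoMvX016 : Janko.Tree (ℕ) :=
  (.node (.node (.node (.node (.node (.node (.node (.leaf 33792) (.leaf 2933760)) (.node (.leaf 1766400) (.leaf 2915425))) (.node (.node (.leaf 985088) (.leaf 2172972)) (.leaf 2421760))) (.node (.node (.node (.leaf 533504) (.leaf 1998873)) (.node (.leaf 1712252) (.leaf 2450432))) (.node (.node (.leaf 1391616) (.leaf 2469948)) (.leaf 2691072)))) (.node (.node (.node (.node (.leaf 284672) (.leaf 2924564)) (.node (.leaf 1936384) (.leaf 1115252))) (.node (.node (.leaf 1189888) (.leaf 3173403)) (.leaf 2567168))) (.node (.node (.node (.leaf 319612) (.leaf 91165)) (.leaf 98345)) (.node (.node (.leaf 1576960) (.leaf 2258045)) (.leaf 2184311))))) (.node (.node (.node (.node (.node (.leaf 161792) (.leaf 2230305)) (.node (.leaf 1850368) (.leaf 984122))) (.node (.node (.leaf 514156)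 (.leaf 3308544)) (.leaf 1656837))) (.node (.node (.node (.leaf 648192) (.leaf 2694232)) (.node (.leaf 2194432) (.leaf 3546112))) (.node (.node (.leaf 1477632) (.leaf 2347015)) (.leaf 2640943)))) (.node (.node (.node (.node (.leaf 408576) (.leaf 3083264)) (.node (.leaf 2021376) (.leaf 966752))) (.node (.node (.leaf 327734) (.leaf 1312867)) (.leaf 365610))) (.node (.node (.node (.leaf 767009) (.leaf 3072080)) (.leaf 2349056)) (.node (.node (.leaf 536642) (.leaf 3167352)) (.leaf 2882560)))))) (.node (.node (.node (.node (.node (.node (.leaf 97280) (.leaf 2963456)) (.node (.leaf 1808384) (.leaf 703528))) (.node (.node (.leaf 1039360) (.leaf 3292160)) (.leaf 2457600))) (.node (.node (.node (.leaf 591872) (.leaf 1074209)) (.node (.leaf 386120) (.leaf 3243101))) (.node (.node (.leaf 1430528) (.leaf 3422208)) (.leaf 2729984)))) (.node (.node (.node (.node (.leaf 346112) (.leaf 2981903)) (.node (.leaf 1977344) (.leaf 2784299))) (.node (.node (.leaf 1246208) (.leaf 2936958)) (.leaf 2598912))) (.node (.node (.node (.leaf 817152) (.leaf 2019417)) (.leaf 367628)) (.node (.node (.leaf 1626112) (.leaf 3428448)) (.leaf 2855936)))))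 (.node (.node (.node (.node (.node (.leaf 2151) (.leaf 158748)) (.node (.leaf 1894400) (.leaf 1595442))) (.node (.node (.leaf 434262) (.leaf 2984012)) (.leaf 2530304))) (.node (.node (.node (.leaf 708608) (.leaf 3186688)) (.node (.leaf 2232320) (.leaf 2296900))) (.node (.node (.leaf 1531904) (.leaf 2429993)) (.leaf 2797568)))) (.node (.node (.node (.node (.leaf 472064) (.leaf 3001421)) (.node (.leaf 2071552) (.leaf 2997293))) (.node (.node (.leaf 717914) (.leaf 3396608)) (.leaf 1058905))) (.node (.node (.node (.leaf 931840) (.leaf 2791451)) (.leaf 1234022)) (.node (.node (.leaf 1719296) (.leaf 543858)) (.leaf 2911232)))))))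

def twoMvX017 : Janko.Tree (ℕ) :=
  (.node (.node (.node (.node (.node (.node (.node (.leaf 35840) (.leaf 2712590)) (.node (.leaf 1767424) (.leaf 3495936))) (.node (.node (.leaf 987136) (.leaf 1439820)) (.leaf 2394162))) (.node (.node (.node (.leaf 535552) (.leaf 2204727)) (.node (.leaf 1180725) (.leaf 3438637))) (.node (.node (.leaf 1393664) (.leaf 1942573)) (.leaf 2693120)))) (.node (.node (.node (.node (.leaf 286720) (.leaf 3040256)) (.node (.leaf 1908742) (.leaf 2921486))) (.node (.node (.leaf 1191936) (.leaf 1413160)) (.leaf 41053))) (.node (.node (.node (.leaf 763904) (.leaf 2445313)) (.leaf 2276352)) (.node (.node (.leaf 503867) (.leaf 1396852)) (.leaf 359490))))) (.node (.node (.node (.node (.node (.leaf 163840) (.leaf 2889765)) (.node (.leaf 1852416) (.leaf 2243635))) (.node (.node (.leaf 1095680) (.leaf 1358925)) (.leaf 2494464))) (.node (.node (.node (.leaf 650240) (.leaf 3168256)) (.node (.leaf 1320053) (.leaf 3410010))) (.node (.node (.leaf 1479680) (.leaf 3434496)) (.leaf 2278495)))) (.node (.node (.node (.node (.leaf 410624) (.leaf 1781800)) (.node (.leaf 2023424) (.leaf 3108881))) (.node (.node (.leaf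 1297408) (.leaf 2132015)) (.leaf 2635776))) (.node (.node (.node (.leaf 875520) (.leaf 1307723)) (.leaf 2350080)) (.node (.node (.leaf 1225812) (.leaf 3423294)) (.leaf 2883584)))))) (.node (.node (.node (.node (.node (.node (.leaf 99328) (.leaf 1299520)) (.node (.leaf 1707103) (.leaf 2257007))) (.node (.node (.leaf 1041408) (.leaf 3294208)) (.leaf 2458624))) (.node (.node (.node (.leaf 593920) (.leaf 1410109)) (.node (.leaf 675871) (.leaf 1799242))) (.node (.node (.leaf 1432576) (.leaf 2975786)) (.leaf 2731008)))) (.node (.node (.node (.node (.leaf 348160) (.leaf 3059712)) (.node (.leaf 1979392) (.leaf 3287147))) (.node (.node (.leaf 1248256) (.leaf 3363840)) (.leaf 749647))) (.node (.node (.node (.leaf 819200) (.leaf 1443876)) (.leaf 2311168)) (.node (.node (.leaf 1628160) (.leaf 3379272)) (.leaf 1212505))))) (.node (.node (.node (.node (.node (.leaf 223232) (.leaf 2840680)) (.node (.leaf 541725) (.leaf 2133084))) (.node (.node (.leaf 1144832) (.leaf 3329024)) (.leaf 2532352))) (.node (.node (.node (.leaf 709632) (.leaf 1328214)) (.node (.leaf 489526) (.leaf 2026548))) (.node (.node (.leaf 1533952) (.leaf 2418693))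 (.leaf 2798592)))) (.node (.node (.node (.node (.leaf 474112) (.leaf 3107840)) (.node (.leaf 2073600) (.leaf 2655268))) (.node (.node (.leaf 1335302) (.leaf 189468)) (.leaf 2667520))) (.node (.node (.node (.leaf 933888) (.leaf 3257344)) (.leaf 2387968)) (.node (.node (.leaf 1720320) (.leaf 2656367)) (.leaf 910460)))))))

def twoMvX018 : Janko.Tree (ℕ) :=
  (.node (.node (.node (.node (.node (.node (.node (.leaf 37888) (.leaf 2878501)) (.node (.leaf 1769472) (.leaf 2805856))) (.node (.node (.leaf 989184) (.leaf 3275776)) (.leaf 2423808))) (.node (.node (.node (.leaf 537600) (.leaf 3124224)) (.node (.leaf 2120704) (.leaf 1665135))) (.node (.node (.leaf 1395712) (.leaf 3242002)) (.leaf 2695168)))) (.node (.node (.node (.node (.leaf 288768) (.leaf 3041280)) (.node (.leaf 952415) (.leaf 22617))) (.node (.node (.leaf 1193984) (.leaf 2816080)) (.leaf 2568192))) (.node (.node (.node (.leaf 765952) (.leaf 2593847)) (.leaf 2277376)) (.node (.node (.leaf 1580032) (.leaf 3189776)) (.leaf 1350675))))) (.node (.node (.node (.node (.node (.leaf 165888) (.leaf 230400)) (.node (.leaf 425990) (.leaf 2195529))) (.node (.node (.leaf 1097728)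 (.leaf 3029049)) (.leaf 1244180))) (.node (.node (.node (.leaf 651264) (.leaf 1929265)) (.node (.leaf 2196480) (.leaf 3478595))) (.node (.node (.leaf 1481728) (.leaf 3387448)) (.leaf 1181708)))) (.node (.node (.node (.node (.leaf 412672) (.leaf 3074109)) (.node (.leaf 2025472) (.leaf 1047638))) (.node (.node (.leaf 1298432) (.leaf 3377152)) (.leaf 2637824))) (.node (.node (.node (.leaf 877568) (.leaf 61563)) (.leaf 2352128)) (.node (.node (.leaf 1673216) (.leaf 779321)) (.leaf 1660980)))))) (.node (.node (.node (.node (.node (.node (.leaf 101376) (.leaf 2964480)) (.node (.leaf 1810432) (.leaf 2860159))) (.node (.node (.leaf 1043456) (.leaf 1551466)) (.leaf 2460672))) (.node (.node (.node (.leaf 595968) (.leaf 3130489)) (.node (.leaf 2163712) (.leaf 3109945))) (.node (.node (.leaf 1223797) (.leaf 2724919)) (.leaf 2733056)))) (.node (.node (.node (.node (.leaf 350208) (.leaf 102491)) (.node (.leaf 1981440) (.leaf 3161091))) (.node (.node (.leaf 1250304) (.leaf 3364864)) (.leaf 2600960))) (.node (.node (.node (.leaf 820224) (.leaf 3220480)) (.leaf 2313216)) (.node (.node (.leaf 1630208) (.leaf 3408923)) (.leaf 2856960)))))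 (.node (.node (.node (.node (.node (.leaf 225280) (.leaf 2102382)) (.node (.leaf 582757) (.leaf 2788426))) (.node (.node (.leaf 1145856) (.leaf 806989)) (.leaf 345208))) (.node (.node (.node (.leaf 711680) (.leaf 654340)) (.node (.leaf 2235392) (.leaf 155732))) (.node (.node (.leaf 1536000) (.leaf 1499141)) (.leaf 1608762)))) (.node (.node (.node (.node (.leaf 476160) (.leaf 151621)) (.node (.leaf 1517633) (.leaf 3537920))) (.node (.node (.leaf 1343488) (.leaf 3340348)) (.leaf 2668544))) (.node (.node (.node (.leaf 935936) (.leaf 2823248)) (.leaf 457808)) (.node (.node (.leaf 1352718) (.leaf 3485696)) (.leaf 2912256)))))))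

def twoMvX019 : Janko.Tree (ℕ) :=
  (.node (.node (.node (.node (.node (.node (.node (.leaf 39936) (.leaf 2462746)) (.node (.leaf 1609824) (.leaf 2841609))) (.node (.node (.leaf 991232) (.leaf 473157)) (.leaf 2409507))) (.node (.node (.node (.leaf 539648) (.leaf 3125248)) (.node (.leaf 106552) (.leaf 2040851))) (.node (.node (.leaf 1397760) (.leaf 3411968)) (.leaf 1137791)))) (.node (.node (.node (.node (.leaf 290816) (.leaf 2879533)) (.node (.leaf 428078) (.leaf 789531))) (.node (.node (.leaf 1196032) (.leaf 1040493)) (.leaf 2569216))) (.node (.node (.node (.leaf 768000) (.leaf 3205120)) (.leaf 758823)) (.node (.node (.leaf 1582080) (.leaf 3461120)) (.leaf 2830336))))) (.node (.node (.node (.node (.node (.leaf 45105) (.leaf 2807882)) (.node (.leaf 1853440) (.leaf 2285615))) (.node (.node (.leaf 519259) (.leaf 32845)) (.leaf 2497536))) (.node (.node (.node (.leaf 653312) (.leaf 3170304)) (.node (.leaf 259165) (.leaf 3547136))) (.node (.node (.leaf 1483776) (.leaf 1831019)) (.leaf 2766848)))) (.node (.node (.node (.node (.leaf 414720) (.leaf 1579096)) (.node (.leaf 468993) (.leaf 3165282))) (.node (.node (.leaf 1300480)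 (.leaf 912455)) (.leaf 2638848))) (.node (.node (.node (.leaf 879616) (.leaf 2623592)) (.leaf 2354176)) (.node (.node (.leaf 1674240) (.leaf 3479552)) (.leaf 2885632)))))) (.node (.node (.node (.node (.node (.node (.leaf 103424) (.leaf 1701973)) (.node (.leaf 1812480) (.leaf 3505152))) (.node (.node (.leaf 1044480) (.leaf 3295232)) (.leaf 250976))) (.node (.node (.node (.leaf 598016) (.leaf 3144704)) (.node (.leaf 2092104) (.leaf 1259536))) (.node (.node (.leaf 1435648) (.leaf 3424256)) (.leaf 2735104)))) (.node (.node (.node (.node (.leaf 352256) (.leaf 3061760)) (.node (.leaf 1983488) (.leaf 1521743))) (.node (.node (.leaf 1252352) (.leaf 2207848)) (.leaf 876595))) (.node (.node (.node (.leaf 822272) (.leaf 3143758)) (.leaf 2314240)) (.node (.node (.leaf 1632256) (.leaf 3223618)) (.leaf 2619441))))) (.node (.node (.node (.node (.node (.leaf 227328) (.leaf 3016704)) (.node (.leaf 1896448) (.leaf 2634847))) (.node (.node (.leaf 1147904) (.leaf 3330048)) (.leaf 2535424))) (.node (.node (.node (.leaf 713728) (.leaf 332816)) (.node (.leaf 2237440) (.leaf 2782292))) (.node (.node (.leaf 1537024) (.leaf 3444736)) (.leaf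 2085966)))) (.node (.node (.node (.node (.leaf 478208) (.leaf 1497214)) (.node (.leaf 2075648) (.leaf 3271774))) (.node (.node (.leaf 1344512) (.leaf 238705)) (.leaf 214020))) (.node (.node (.node (.leaf 937984) (.leaf 3258368)) (.leaf 1408055)) (.node (.node (.leaf 1722368) (.leaf 903183)) (.leaf 2760771)))))))

def twoMvX020 : Janko.Tree (ℕ) :=
  (.node (.node (.node (.node (.node (.node (.node (.leaf 41984) (.leaf 2675822)) (.node (.leaf 1771520) (.leaf 3497984))) (.node (.node (.leaf 993280) (.leaf 3094542)) (.leaf 773212))) (.node (.node (.node (.leaf 540672) (.leaf 2559059)) (.node (.leaf 2122752) (.leaf 3542131))) (.node (.node (.leaf 1302573) (.leaf 3412992)) (.leaf 2698240)))) (.node (.node (.node (.node (.leaf 292864) (.leaf 3043328)) (.node (.leaf 1938432) (.leaf 954439))) (.node (.node (.leaf 1198080) (.leaf 3350528)) (.leaf 2254923))) (.node (.node (.node (.leaf 770048) (.leaf 409725)) (.leaf 2280448)) (.node (.node (.leaf 1584128) (.leaf 2705487)) (.leaf 977007))))) (.node (.node (.node (.node (.node (.leaf 168960) (.leaf 2989056)) (.node (.leaf 1854464) (.leaf 1550339))) (.node (.node (.leaf 1100800)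 (.leaf 2088020)) (.leaf 1380440))) (.node (.node (.node (.leaf 655360) (.leaf 734289)) (.node (.leaf 2198528) (.leaf 3545110))) (.node (.node (.leaf 1485824) (.leaf 3215405)) (.leaf 2767872)))) (.node (.node (.node (.node (.leaf 416768) (.leaf 926757)) (.node (.leaf 995414) (.leaf 3162113))) (.node (.node (.leaf 0) (.leaf 3262478)) (.leaf 2639872))) (.node (.node (.node (.leaf 881664) (.leaf 1424391)) (.leaf 141312)) (.node (.node (.leaf 1676288) (.leaf 1513501)) (.leaf 1578089)))))) (.node (.node (.node (.node (.node (.node (.leaf 105472) (.leaf 2966528)) (.node (.leaf 1814528) (.leaf 3195991))) (.node (.node (.leaf 1046528) (.leaf 1249345)) (.leaf 2202666))) (.node (.node (.node (.leaf 600064) (.leaf 1684483)) (.node (.leaf 2165760) (.leaf 1270900))) (.node (.node (.leaf 1437696) (.leaf 2939910)) (.leaf 1869860)))) (.node (.node (.node (.node (.leaf 354304) (.leaf 3062784)) (.node (.leaf 1985536) (.leaf 1851419))) (.node (.node (.leaf 1254400) (.leaf 3365888)) (.leaf 2601984))) (.node (.node (.node (.leaf 823296) (.leaf 2160674)) (.leaf 2316288)) (.node (.node (.leaf 1634304) (.leaf 2666502)) (.leaf 2859008))))) (.node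 (.node (.node (.node (.node (.leaf 229376) (.leaf 3017728)) (.node (.leaf 1897472) (.leaf 343071))) (.node (.node (.leaf 1149952) (.leaf 2236499)) (.leaf 2537472))) (.node (.node (.node (.leaf 714752) (.leaf 2136187)) (.node (.leaf 566315) (.leaf 2762864))) (.node (.node (.leaf 1310725) (.leaf 2699268)) (.leaf 2800640)))) (.node (.node (.node (.node (.leaf 480256) (.leaf 2512943)) (.node (.leaf 2076672) (.leaf 2870358))) (.node (.node (.leaf 1345536) (.leaf 3232842)) (.leaf 2669568))) (.node (.node (.node (.leaf 940032) (.leaf 3227680)) (.leaf 1923128)) (.node (.node (.leaf 1724416) (.leaf 2392103)) (.leaf 2914304)))))))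

def twoMvX021 : Janko.Tree (ℕ) :=
  (.node (.node (.node (.node (.node (.node (.node (.leaf 44032) (.leaf 2876465)) (.node (.leaf 1103896) (.leaf 757802))) (.node (.node (.leaf 47104) (.leaf 3277824)) (.leaf 2426880))) (.node (.node (.node (.leaf 542720) (.leaf 1857596)) (.node (.leaf 2124800) (.leaf 2456603))) (.node (.node (.leaf 261197) (.leaf 3414016)) (.leaf 2700288)))) (.node (.node (.node (.node (.leaf 294912) (.leaf 3044352)) (.node (.leaf 861242) (.leaf 1139822))) (.node (.node (.leaf 1200128) (.leaf 3351552)) (.leaf 2571264))) (.node (.node (.node (.leaf 772096) (.leaf 1940501)) (.leaf 2282496)) (.node (.node (.leaf 1586176) (.leaf 3431543)) (.leaf 2832384))))) (.node (.node (.node (.node (.node (.leaf 171008) (.leaf 2990080)) (.node (.leaf 1856512) (.leaf 3511319))) (.node (.node (.leaf 1102848) (.leaf 3310592)) (.leaf 2499584))) (.node (.node (.node (.leaf 657408) (.leaf 1743910)) (.node (.leaf 2199552) (.leaf 722024))) (.node (.node (.leaf 1487872) (.leaf 3374099)) (.leaf 2610267)))) (.node (.node (.node (.node (.leaf 418816) (.leaf 3085312)) (.node (.leaf 2028544) (.leaf 2871343))) (.node (.node (.leaf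 998455) (.leaf 2533400)) (.leaf 2641920))) (.node (.node (.node (.leaf 882688) (.leaf 2720839)) (.leaf 1456209)) (.node (.node (.leaf 1678336) (.leaf 1798242)) (.leaf 2483214)))))) (.node (.node (.node (.node (.node (.node (.leaf 107520) (.leaf 2967552)) (.node (.leaf 1816576) (.leaf 3192915))) (.node (.node (.leaf 1048576) (.leaf 3296256)) (.leaf 2463744))) (.node (.node (.node (.leaf 602112) (.leaf 3145728)) (.node (.leaf 958519) (.leaf 3276816))) (.node (.node (.leaf 1227883) (.leaf 3248226)) (.leaf 2738176)))) (.node (.node (.node (.node (.leaf 356352) (.leaf 1346618)) (.node (.leaf 1986560) (.leaf 2867319))) (.node (.node (.leaf 1256448) (.leaf 2390061)) (.leaf 2604032))) (.node (.node (.node (.leaf 825344) (.leaf 3222528)) (.leaf 2318336)) (.node (.node (.leaf 1620040) (.leaf 2279467)) (.leaf 727167))))) (.node (.node (.node (.node (.node (.leaf 231424) (.leaf 3018752)) (.node (.leaf 1898496) (.leaf 2330659))) (.node (.node (.leaf 1150976) (.leaf 1110020)) (.leaf 2440305))) (.node (.node (.node (.leaf 716800) (.leaf 2484273)) (.node (.leaf 2240512) (.leaf 908373))) (.node (.node (.leaf 1539072) (.leaf 3445760))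 (.leaf 1871961)))) (.node (.node (.node (.node (.leaf 482304) (.leaf 1084449)) (.node (.leaf 72800) (.leaf 1879090))) (.node (.node (.leaf 1347584) (.leaf 3398656)) (.leaf 2620490))) (.node (.node (.node (.leaf 851998) (.leaf 1210450)) (.leaf 174144)) (.node (.node (.leaf 1726464) (.leaf 2550896)) (.leaf 743551)))))))

def twoMvX022 : Janko.Tree (ℕ) :=
  (.node (.node (.node (.node (.node (.node (.node (.leaf 46080) (.leaf 2935808)) (.node (.leaf 1774592) (.leaf 2739274))) (.node (.node (.leaf 310362) (.leaf 1206327)) (.leaf 1457215))) (.node (.node (.node (.leaf 544768) (.leaf 2336786)) (.node (.leaf 2126848) (.leaf 3348484))) (.node (.node (.leaf 1400832) (.leaf 2353257)) (.leaf 2701312)))) (.node (.node (.node (.node (.leaf 296960) (.leaf 6144)) (.node (.leaf 1941504) (.leaf 1741887))) (.node (.node (.leaf 493690) (.leaf 3289201)) (.leaf 2573312))) (.node (.node (.node (.leaf 774144) (.leaf 3206144)) (.leaf 2283520)) (.node (.node (.leaf 240709) (.leaf 873594)) (.leaf 2137208))))) (.node (.node (.node (.node (.node (.leaf 173056) (.leaf 2991104)) (.node (.leaf 1778767) (.leaf 3516416))) (.node (.node (.leaf 660581)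 (.leaf 1603601)) (.leaf 2500608))) (.node (.node (.node (.leaf 659456) (.leaf 990277)) (.node (.leaf 2201600) (.leaf 2214986))) (.node (.node (.leaf 1488896) (.leaf 2099273)) (.leaf 2505781)))) (.node (.node (.node (.node (.leaf 420864) (.leaf 222225)) (.node (.leaf 2030592) (.leaf 2501651))) (.node (.node (.leaf 1076257) (.leaf 2247701)) (.leaf 2183242))) (.node (.node (.node (.leaf 883712) (.leaf 3244032)) (.leaf 2356224)) (.node (.node (.leaf 1680384) (.leaf 1918014)) (.leaf 2887680)))))) (.node (.node (.node (.node (.node (.node (.leaf 109568) (.leaf 1598553)) (.node (.leaf 1817600) (.leaf 3506176))) (.node (.node (.leaf 1050624) (.leaf 2621533)) (.leaf 2464768))) (.node (.node (.node (.leaf 603136) (.leaf 89097)) (.node (.leaf 2167808) (.leaf 2302035))) (.node (.node (.leaf 1440768) (.leaf 785466)) (.leaf 2547769)))) (.node (.node (.node (.node (.leaf 358400) (.leaf 3064832)) (.node (.leaf 1988608) (.leaf 3475557))) (.node (.node (.leaf 1197104) (.leaf 2414611)) (.leaf 2605056))) (.node (.node (.node (.leaf 827392) (.leaf 2754679)) (.leaf 2319360)) (.node (.node (.leaf 217214) (.leaf 2566265)) (.leaf 2862080)))))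 (.node (.node (.node (.node (.node (.leaf 233472) (.leaf 3020800)) (.node (.leaf 576600) (.leaf 3449928))) (.node (.node (.leaf 1153024) (.leaf 1888283)) (.leaf 2539520))) (.node (.node (.node (.leaf 718848) (.leaf 3187712)) (.node (.leaf 463999) (.leaf 3320912))) (.node (.node (.leaf 1541120) (.leaf 2965506)) (.leaf 1994843)))) (.node (.node (.node (.node (.leaf 484352) (.leaf 281699)) (.node (.leaf 1028202) (.leaf 3457120))) (.node (.node (.leaf 1349632) (.leaf 3176506)) (.leaf 166938))) (.node (.node (.node (.leaf 942080) (.leaf 554097)) (.leaf 2393088)) (.node (.node (.leaf 1728512) (.leaf 3441727)) (.leaf 2191395)))))))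

def twoMvX023 : Janko.Tree (ℕ) :=
  (.node (.node (.node (.node (.node (.node (.node (.leaf 48128) (.leaf 1681440)) (.node (.leaf 1776640) (.leaf 1663019))) (.node (.node (.leaf 997376) (.leaf 2161746)) (.leaf 1188900))) (.node (.node (.node (.leaf 546816) (.leaf 1464337)) (.node (.leaf 2128896) (.leaf 3543040))) (.node (.node (.leaf 1401856) (.leaf 1885285)) (.leaf 2703360)))) (.node (.node (.node (.node (.leaf 299008) (.leaf 854111)) (.node (.leaf 316522) (.leaf 2520127))) (.node (.node (.leaf 1203200) (.leaf 390231)) (.leaf 2574336))) (.node (.node (.node (.leaf 776192) (.leaf 2093149)) (.leaf 1511521)) (.node (.node (.leaf 1588224) (.leaf 26715)) (.leaf 1822779))))) (.node (.node (.node (.node (.node (.leaf 175104) (.leaf 18439)) (.node (.leaf 1859584) (.leaf 3362884))) (.node (.node (.leaf 4155) (.leaf 1793045)) (.leaf 2502656))) (.node (.node (.node (.leaf 661504) (.leaf 2190446)) (.node (.leaf 724029) (.leaf 3359844))) (.node (.node (.leaf 228406) (.leaf 2468867)) (.leaf 312415)))) (.node (.node (.node (.node (.leaf 422912) (.leaf 3086336)) (.node (.leaf 2031616) (.leaf 1935459))) (.node (.node (.leaf 1303552)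 (.leaf 3378176)) (.leaf 147457))) (.node (.node (.node (.leaf 885760) (.leaf 3106906)) (.leaf 2242667)) (.node (.node (.leaf 1219708) (.leaf 2977833)) (.leaf 2888704)))))) (.node (.node (.node (.node (.node (.node (.leaf 111616) (.leaf 2127993)) (.node (.leaf 1818624) (.leaf 2955329))) (.node (.node (.leaf 1051648) (.leaf 1426456)) (.leaf 2465792))) (.node (.node (.node (.leaf 604160) (.leaf 3147776)) (.node (.leaf 2168832) (.leaf 2690056))) (.node (.node (.leaf 960563) (.leaf 3391603)) (.leaf 2740224)))) (.node (.node (.node (.node (.leaf 360448) (.leaf 2577473)) (.node (.leaf 1989632) (.leaf 167967))) (.node (.node (.leaf 232449) (.leaf 1245231)) (.leaf 2391123))) (.node (.node (.node (.leaf 829440) (.leaf 3138638)) (.leaf 2321408)) (.node (.node (.leaf 1637376) (.leaf 483404)) (.leaf 2864128))))) (.node (.node (.node (.node (.node (.leaf 235520) (.leaf 1372257)) (.node (.leaf 1900544) (.leaf 3512407))) (.node (.node (.leaf 1155072) (.leaf 1201189)) (.leaf 2541568))) (.node (.node (.node (.leaf 720896) (.leaf 2417691)) (.node (.leaf 1476721) (.leaf 2490389))) (.node (.node (.leaf 1543168) (.leaf 1448058)) (.leaf 2802688))))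 (.node (.node (.node (.node (.leaf 486400) (.leaf 1560600)) (.node (.leaf 2079744) (.leaf 2486308))) (.node (.node (.leaf 936986) (.leaf 2427965)) (.leaf 2672640))) (.node (.node (.node (.leaf 943104) (.leaf 3259392)) (.leaf 2395136)) (.node (.node (.leaf 1568840) (.leaf 1036372)) (.leaf 2653214)))))))

def twoMvX024 : Janko.Tree (ℕ) :=
  (.node (.node (.node (.node (.node (.node (.node (.leaf 50176) (.leaf 538656)) (.node (.leaf 1777664) (.leaf 3207229))) (.node (.node (.leaf 999424) (.leaf 3278848)) (.leaf 783366))) (.node (.node (.node (.leaf 548864) (.leaf 3042406)) (.node (.leaf 2130944) (.leaf 3019846))) (.node (.node (.leaf 1403904) (.leaf 2272342)) (.leaf 2704384)))) (.node (.node (.node (.node (.leaf 301056) (.leaf 2474060)) (.node (.leaf 1943552) (.leaf 3003426))) (.node (.node (.leaf 1205248) (.leaf 3354624)) (.leaf 2576384))) (.node (.node (.node (.leaf 778240) (.leaf 3203084)) (.leaf 438391)) (.node (.node (.leaf 1004621) (.leaf 3317832)) (.leaf 2834432))))) (.node (.node (.node (.node (.node (.leaf 177152) (.leaf 941163)) (.node (.leaf 1861632) (.leaf 1056807))) (.node (.node (.leaf 1105920) (.leaf 68634))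 (.leaf 2503680))) (.node (.node (.node (.leaf 663552) (.leaf 3172352)) (.node (.leaf 2203648) (.leaf 3533889))) (.node (.node (.leaf 1489920) (.leaf 3008528)) (.leaf 1725457)))) (.node (.node (.node (.node (.leaf 424960) (.leaf 1117300)) (.node (.leaf 2033664) (.leaf 2892852))) (.node (.node (.leaf 1305600) (.leaf 841801)) (.leaf 2642944))) (.node (.node (.node (.leaf 887808) (.leaf 2650168)) (.leaf 2358272)) (.node (.node (.leaf 1683456) (.leaf 3433502)) (.leaf 1953854)))))) (.node (.node (.node (.node (.node (.node (.leaf 113664) (.leaf 2233357)) (.node (.leaf 1193002) (.leaf 3419226))) (.node (.node (.leaf 680020) (.leaf 626734)) (.leaf 2466816))) (.node (.node (.node (.leaf 606208) (.leaf 2747481)) (.node (.leaf 2169856) (.leaf 2091016))) (.node (.node (.leaf 1442816) (.leaf 3425280)) (.leaf 656475)))) (.node (.node (.node (.node (.leaf 362496) (.leaf 3065856)) (.node (.leaf 1991680) (.leaf 3526656))) (.node (.node (.leaf 1258496) (.leaf 1635376)) (.leaf 2607104))) (.node (.node (.node (.leaf 831488) (.leaf 3201085)) (.leaf 2322432)) (.node (.node (.leaf 1638400) (.leaf 3460140)) (.leaf 2866176))))) (.node (.node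 (.node (.node (.node (.leaf 237568) (.leaf 3022848)) (.node (.leaf 1756254) (.leaf 2443276))) (.node (.node (.leaf 1157120) (.leaf 2972769)) (.leaf 662589))) (.node (.node (.node (.leaf 722944) (.leaf 2331688)) (.node (.leaf 2244608) (.leaf 1864799))) (.node (.node (.leaf 1544192) (.leaf 677998)) (.leaf 1231912)))) (.node (.node (.node (.node (.leaf 488448) (.leaf 2205734)) (.node (.leaf 2081792) (.leaf 3440643))) (.node (.node (.leaf 1351680) (.leaf 1365052)) (.leaf 2673664))) (.node (.node (.node (.leaf 945152) (.leaf 1805404)) (.leaf 2397184)) (.node (.node (.leaf 1730560) (.leaf 2950170)) (.leaf 2281593)))))))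

def twoMvX025 : Janko.Tree (ℕ) :=
  (.node (.node (.node (.node (.node (.node (.node (.leaf 52224) (.leaf 2938880)) (.node (.leaf 1779712) (.leaf 3499008))) (.node (.node (.leaf 375822) (.leaf 3279872)) (.leaf 2432000))) (.node (.node (.node (.leaf 550912) (.leaf 1459322)) (.node (.leaf 1801268) (.leaf 2153485))) (.node (.node (.leaf 1405952) (.leaf 1523727)) (.leaf 947241)))) (.node (.node (.node (.node (.leaf 303104) (.leaf 804919)) (.node (.leaf 1945600) (.leaf 2306062))) (.node (.node (.leaf 1207296) (.leaf 3261560)) (.leaf 2578432))) (.node (.node (.node (.leaf 780288) (.leaf 70709)) (.leaf 2181188)) (.node (.node (.leaf 1590272) (.leaf 2845744)) (.leaf 1904735))))) (.node (.node (.node (.node (.node (.leaf 30759) (.leaf 1993807)) (.node (.leaf 1863680) (.leaf 2825236))) (.node (.node (.leaf 821259) (.leaf 3313664)) (.leaf 2504704))) (.node (.node (.node (.leaf 665600) (.leaf 1951853)) (.node (.leaf 2055267) (.leaf 2367517))) (.node (.node (.leaf 828540) (.leaf 1571914)) (.leaf 2770944)))) (.node (.node (.node (.node (.leaf 427008) (.leaf 3033187)) (.node (.leaf 707644) (.leaf 3342370))) (.node (.node (.leaf 28680)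 (.leaf 2580561)) (.leaf 74758))) (.node (.node (.node (.leaf 888832) (.leaf 2773005)) (.leaf 2360320)) (.node (.node (.leaf 421996) (.leaf 3212322)) (.leaf 2890752)))))) (.node (.node (.node (.node (.node (.node (.leaf 115712) (.leaf 2970624)) (.node (.leaf 1819648) (.leaf 3488778))) (.node (.node (.leaf 351320) (.leaf 3216389)) (.leaf 2467840))) (.node (.node (.node (.leaf 608256) (.leaf 2012221)) (.node (.leaf 2170880) (.leaf 3360826))) (.node (.node (.leaf 1444864) (.leaf 880762)) (.leaf 2742272)))) (.node (.node (.node (.node (.leaf 364544) (.leaf 1101934)) (.node (.leaf 1992704) (.leaf 2617441))) (.node (.node (.leaf 124961) (.leaf 83063)) (.leaf 2609152))) (.node (.node (.node (.leaf 833536) (.leaf 3224576)) (.leaf 2324480)) (.node (.node (.leaf 1639424) (.leaf 1975315)) (.leaf 1126483))))) (.node (.node (.node (.node (.node (.leaf 239616) (.leaf 1736759)) (.node (.leaf 1902592) (.leaf 2481176))) (.node (.node (.leaf 1158144) (.leaf 3333120)) (.leaf 1786962))) (.node (.node (.node (.leaf 724992) (.leaf 3188736)) (.node (.leaf 2245632) (.leaf 2493455))) (.node (.node (.leaf 1545216) (.leaf 3230828)) (.leaf 2804736))))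 (.node (.node (.node (.node (.leaf 490496) (.leaf 3113984)) (.node (.leaf 2082816) (.leaf 3538944))) (.node (.node (.leaf 1353728) (.leaf 3401728)) (.leaf 2674688))) (.node (.node (.node (.leaf 946176) (.leaf 2431021)) (.leaf 2399232)) (.node (.node (.leaf 1732608) (.leaf 1494104)) (.leaf 549964)))))))

def twoMvX026 : Janko.Tree (ℕ) :=
  (.node (.node (.node (.node (.node (.node (.node (.leaf 54272) (.leaf 1964054)) (.node (.leaf 1288275) (.leaf 254985))) (.node (.node (.leaf 1002496) (.leaf 3280896)) (.leaf 2434048))) (.node (.node (.node (.leaf 552960) (.leaf 3127296)) (.node (.leaf 2134016) (.leaf 3541107))) (.node (.node (.leaf 805984) (.leaf 1809442)) (.leaf 2645118)))) (.node (.node (.node (.node (.leaf 43099) (.leaf 2953271)) (.node (.leaf 1946624) (.leaf 1746955))) (.node (.node (.leaf 1209344) (.leaf 2575452)) (.leaf 2579456))) (.node (.node (.node (.leaf 782336) (.leaf 2681896)) (.leaf 2286592)) (.node (.node (.leaf 1592320) (.leaf 2317336)) (.leaf 1797194))))) (.node (.node (.node (.node (.node (.leaf 87052) (.leaf 2994176)) (.node (.leaf 930920) (.leaf 1428550))) (.node (.node (.leaf 1106944) (.leaf 3314688))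 (.leaf 1060890))) (.node (.node (.node (.leaf 667648) (.leaf 1877044)) (.node (.leaf 2206720) (.leaf 2077817))) (.node (.node (.leaf 1492992) (.leaf 3437568)) (.leaf 688217)))) (.node (.node (.node (.node (.leaf 429056) (.leaf 3088384)) (.node (.leaf 2036736) (.leaf 3476544))) (.node (.node (.leaf 1308672) (.leaf 521258)) (.leaf 2305102))) (.node (.node (.node (.leaf 889856) (.leaf 1186926)) (.leaf 1760320)) (.node (.node (.leaf 1686528) (.leaf 3297374)) (.leaf 1096822)))))) (.node (.node (.node (.node (.node (.node (.leaf 117760) (.leaf 2971648)) (.node (.leaf 1821696) (.leaf 3507200))) (.node (.node (.leaf 1055744) (.leaf 1000491)) (.leaf 2197516))) (.node (.node (.node (.leaf 481339) (.leaf 3148800)) (.node (.leaf 1622022) (.leaf 2718741))) (.node (.node (.leaf 1446912) (.leaf 1546278)) (.leaf 2744320)))) (.node (.node (.node (.node (.leaf 366592) (.leaf 2411545)) (.node (.leaf 1971245) (.leaf 3527680))) (.node (.node (.leaf 1260544) (.leaf 3091472)) (.leaf 392204))) (.node (.node (.node (.leaf 835584) (.leaf 3225600)) (.leaf 296052)) (.node (.node (.leaf 1173528) (.leaf 3325013)) (.leaf 1820721))))) (.node (.node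 (.node (.node (.node (.leaf 241664) (.leaf 3023872)) (.node (.leaf 791624) (.leaf 2943030))) (.node (.node (.leaf 764952) (.leaf 3334144)) (.leaf 2542592))) (.node (.node (.node (.leaf 321643) (.leaf 3190784)) (.node (.leaf 2246656) (.leaf 3544150))) (.node (.node (.leaf 1015910) (.leaf 3361818)) (.leaf 843828)))) (.node (.node (.node (.node (.leaf 492544) (.leaf 2239569)) (.node (.leaf 2084864) (.leaf 3435600))) (.node (.node (.leaf 1355776) (.leaf 3402752)) (.leaf 2308209))) (.node (.node (.node (.leaf 948224) (.leaf 2371662)) (.leaf 730165)) (.node (.node (.leaf 1733632) (.leaf 858197)) (.leaf 719988)))))))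

def twoMvX027 : Janko.Tree (ℕ) :=
  (.node (.node (.node (.node (.node (.node (.node (.leaf 56320) (.leaf 2307115)) (.node (.leaf 1436753) (.leaf 3368997))) (.node (.node (.leaf 1003520) (.leaf 2801687)) (.leaf 306221))) (.node (.node (.node (.leaf 555008) (.leaf 1403000)) (.node (.leaf 1614888) (.leaf 3531803))) (.node (.node (.leaf 1012853) (.leaf 3240975)) (.leaf 2020470)))) (.node (.node (.node (.node (.leaf 305152) (.leaf 3046400)) (.node (.leaf 1947648) (.leaf 1024017))) (.node (.node (.leaf 436333) (.leaf 1734728)) (.leaf 1694726))) (.node (.node (.node (.leaf 784384) (.leaf 1927243)) (.leaf 2288640)) (.node (.node (.leaf 1593344) (.leaf 363608)) (.leaf 2377831))))) (.node (.node (.node (.node (.node (.leaf 181248) (.leaf 1390634)) (.node (.leaf 1866752) (.leaf 3293240))) (.node (.node (.leaf 1108992) (.leaf 862248)) (.leaf 2506752))) (.node (.node (.node (.leaf 669696) (.leaf 2554880)) (.node (.leaf 1739805) (.leaf 357500))) (.node (.node (.leaf 1495040) (.leaf 1548392)) (.leaf 2123809)))) (.node (.node (.node (.node (.leaf 431104) (.leaf 3089408)) (.node (.leaf 1077259) (.leaf 1202206))) (.node (.node (.leaf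 507946) (.leaf 1293339)) (.leaf 2643968))) (.node (.node (.node (.leaf 891904) (.leaf 2785379)) (.leaf 2361344)) (.node (.node (.leaf 664671) (.leaf 3013680)) (.leaf 1617998)))))) (.node (.node (.node (.node (.node (.node (.leaf 119808) (.leaf 2544681)) (.node (.leaf 1823744) (.leaf 1903649))) (.node (.node (.leaf 1057792) (.leaf 3286046)) (.leaf 2470912))) (.node (.node (.node (.leaf 610304) (.leaf 3149824)) (.node (.leaf 2173952) (.leaf 1525825))) (.node (.node (.leaf 760904) (.leaf 3416099)) (.leaf 2365512)))) (.node (.node (.node (.node (.leaf 368640) (.leaf 3068928)) (.node (.leaf 1072174) (.leaf 3045379))) (.node (.node (.leaf 1262592) (.leaf 715817)) (.leaf 2611200))) (.node (.node (.node (.leaf 837632) (.leaf 449639)) (.leaf 1251406)) (.node (.node (.leaf 1641472) (.leaf 1257518)) (.leaf 2869248))))) (.node (.node (.node (.node (.node (.leaf 243712) (.leaf 1978444)) (.node (.leaf 1905664) (.leaf 2818080))) (.node (.node (.leaf 1161216) (.leaf 3007495)) (.leaf 2543616))) (.node (.node (.node (.leaf 728064) (.leaf 3191808)) (.node (.leaf 2248704) (.leaf 869437))) (.node (.node (.leaf 1547264) (.leaf 2572400))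 (.leaf 2806784)))) (.node (.node (.node (.node (.leaf 494592) (.leaf 1782848)) (.node (.leaf 2086912) (.leaf 3491902))) (.node (.node (.leaf 1357824) (.leaf 3403776)) (.leaf 979995))) (.node (.node (.node (.leaf 950272) (.leaf 2946162)) (.leaf 2385956)) (.node (.node (.leaf 1735680) (.leaf 2934901)) (.leaf 1838124)))))))

def twoMvX028 : Janko.Tree (ℕ) :=
  (.node (.node (.node (.node (.node (.node (.node (.leaf 58368) (.leaf 2323521)) (.node (.leaf 1086517) (.leaf 1383507))) (.node (.node (.leaf 1005568) (.leaf 3281920)) (.leaf 2437120))) (.node (.node (.node (.leaf 556032) (.leaf 2803783)) (.node (.leaf 287862) (.leaf 3239967))) (.node (.node (.leaf 116834) (.leaf 3417088)) (.leaf 2570277)))) (.node (.node (.node (.node (.leaf 307200) (.leaf 3048448)) (.node (.leaf 1948672) (.leaf 705633))) (.node (.node (.leaf 1211392) (.leaf 3194897)) (.leaf 2581504))) (.node (.node (.node (.leaf 786432) (.leaf 2051196)) (.leaf 1462273)) (.node (.node (.leaf 180308) (.leaf 3406896)) (.leaf 2837504))))) (.node (.node (.node (.node (.node (.leaf 183296) (.leaf 1658900)) (.node (.leaf 1867776) (.leaf 1363012))) (.node (.node (.leaf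 1111040) (.leaf 986118)) (.leaf 2507776))) (.node (.node (.node (.leaf 671744) (.leaf 2003974)) (.node (.leaf 2208768) (.leaf 3524664))) (.node (.node (.leaf 1496064) (.leaf 2827376)) (.leaf 2775040)))) (.node (.node (.node (.node (.leaf 433152) (.leaf 396378)) (.node (.leaf 2039808) (.leaf 3436566))) (.node (.node (.leaf 1311744) (.leaf 3381248)) (.leaf 1723415))) (.node (.node (.node (.leaf 893952) (.leaf 184429)) (.leaf 2362368)) (.node (.node (.leaf 1687552) (.leaf 1682550)) (.leaf 2564134)))))) (.node (.node (.node (.node (.node (.node (.leaf 121856) (.leaf 491605)) (.node (.leaf 1824768) (.leaf 2771968))) (.node (.node (.leaf 1059840) (.leaf 2649186)) (.leaf 2471936))) (.node (.node (.node (.leaf 612352) (.leaf 3151872)) (.node (.leaf 2174976) (.leaf 2836486))) (.node (.node (.leaf 906324) (.leaf 1019951)) (.leaf 2746368)))) (.node (.node (.node (.node (.leaf 370688) (.leaf 516136)) (.node (.leaf 1889330) (.leaf 1356926))) (.node (.node (.leaf 1264640) (.leaf 59510)) (.leaf 2613248))) (.node (.node (.node (.leaf 838656) (.leaf 3226624)) (.leaf 2326528)) (.node (.node (.leaf 1643520) (.leaf 2415623)) (.leaf 2815076)))))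 (.node (.node (.node (.node (.node (.leaf 245760) (.leaf 2289779)) (.node (.leaf 1907712) (.leaf 3456117))) (.node (.node (.leaf 246902) (.leaf 3335168)) (.leaf 2545664))) (.node (.node (.node (.leaf 729088) (.leaf 3193856)) (.node (.leaf 2249728) (.leaf 2749502))) (.node (.node (.leaf 1549312) (.leaf 2540617)) (.leaf 962565)))) (.node (.node (.node (.node (.leaf 496640) (.leaf 2187322)) (.node (.leaf 2088960) (.leaf 3312710))) (.node (.node (.leaf 1359872) (.leaf 3135609)) (.leaf 2359302))) (.node (.node (.node (.leaf 769125) (.leaf 2776168)) (.leaf 2401280)) (.node (.node (.leaf 814119) (.leaf 2492535)) (.leaf 1269779)))))))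

def twoMvX029 : Janko.Tree (ℕ) :=
  (.node (.node (.node (.node (.node (.node (.node (.leaf 60416) (.leaf 2940928)) (.node (.leaf 112661) (.leaf 830532))) (.node (.node (.leaf 1007616) (.leaf 2058273)) (.leaf 2439168))) (.node (.node (.node (.leaf 558080) (.leaf 1906795)) (.node (.leaf 2135040) (.leaf 2265111))) (.node (.node (.leaf 1409024) (.leaf 2329678)) (.leaf 2708480)))) (.node (.node (.node (.node (.leaf 309248) (.leaf 597117)) (.node (.leaf 1949696) (.leaf 3097685))) (.node (.node (.leaf 1213440) (.leaf 298074)) (.leaf 2582528))) (.node (.node (.node (.leaf 788480) (.leaf 3210240)) (.leaf 1721458)) (.node (.node (.leaf 1596416) (.leaf 1166399)) (.leaf 2599998))))) (.node (.node (.node (.node (.node (.leaf 185344) (.leaf 248932)) (.node (.leaf 285799) (.leaf 3517440))) (.node (.node (.leaf 1112064) (.leaf 447577)) (.leaf 2508800))) (.node (.node (.node (.leaf 672768) (.leaf 3174400)) (.node (.leaf 2210816) (.leaf 3509375))) (.node (.node (.leaf 1498112) (.leaf 2357321)) (.leaf 2777088)))) (.node (.node (.node (.node (.leaf 435200) (.leaf 630841)) (.node (.leaf 2041856) (.leaf 2685028))) (.node (.node (.leaf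 1069084) (.leaf 3319843)) (.leaf 2083931))) (.node (.node (.node (.leaf 896000) (.leaf 3247104)) (.leaf 2363392)) (.node (.node (.leaf 1689600) (.leaf 2648134)) (.leaf 2893824)))))) (.node (.node (.node (.node (.node (.node (.leaf 123904) (.leaf 2974720)) (.node (.leaf 587828) (.leaf 1253450))) (.node (.node (.leaf 1061888) (.leaf 3298304)) (.leaf 2472960))) (.node (.node (.node (.leaf 613376) (.leaf 3153920)) (.node (.leaf 2176000) (.leaf 3530849))) (.node (.node (.leaf 1449984) (.leaf 2761825)) (.leaf 2748416)))) (.node (.node (.node (.node (.leaf 372736) (.leaf 2211850)) (.node (.leaf 1996800) (.leaf 1982587))) (.node (.node (.leaf 1265664) (.leaf 1644584)) (.leaf 2614272))) (.node (.node (.node (.leaf 840704) (.leaf 3228672)) (.leaf 2327552)) (.node (.node (.leaf 1645568) (.leaf 3233802)) (.leaf 530531))))) (.node (.node (.node (.node (.node (.leaf 247808) (.leaf 1768563)) (.node (.leaf 1909760) (.leaf 2158663))) (.node (.node (.leaf 1006627) (.leaf 3336192)) (.leaf 2546688))) (.node (.node (.node (.leaf 731136) (.leaf 1780742)) (.node (.leaf 2251776) (.leaf 1990667))) (.node (.node (.leaf 547842) (.leaf 3087394))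 (.leaf 2808832)))) (.node (.node (.node (.node (.leaf 498688) (.leaf 2022464)) (.node (.leaf 2089984) (.leaf 2034804))) (.node (.node (.leaf 1361920) (.leaf 3404800)) (.leaf 371839))) (.node (.node (.node (.leaf 901150) (.leaf 787561)) (.leaf 2402304)) (.node (.node (.leaf 1737728) (.leaf 755749)) (.leaf 2918400)))))))

def twoMvX030 : Janko.Tree (ℕ) :=
  (.node (.node (.node (.node (.node (.node (.node (.leaf 62464) (.leaf 2941952)) (.node (.leaf 1272889) (.leaf 3115110))) (.node (.node (.leaf 1008640) (.leaf 3282944)) (.leaf 2441216))) (.node (.node (.node (.leaf 560128) (.leaf 3129344)) (.node (.leaf 1332245) (.leaf 3525665))) (.node (.node (.leaf 1411072) (.leaf 3098638)) (.leaf 1807407)))) (.node (.node (.node (.node (.leaf 311296) (.leaf 317503)) (.node (.leaf 1708060) (.leaf 3030105))) (.node (.node (.leaf 1215488) (.leaf 1360943)) (.leaf 93258))) (.node (.node (.node (.leaf 790528) (.leaf 3211264)) (.leaf 160813)) (.node (.node (.leaf 1597440) (.leaf 1261689)) (.leaf 2839552))))) (.node (.node (.node (.node (.node (.leaf 187392) (.leaf 2995200)) (.node (.leaf 1868800) (.leaf 3332101))) (.node (.node (.leaf 1114112)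 (.leaf 1931385)) (.leaf 2509824))) (.node (.node (.node (.leaf 674816) (.leaf 2523145)) (.node (.leaf 2212864) (.leaf 3209245))) (.node (.node (.leaf 1500160) (.leaf 3439616)) (.leaf 2779136)))) (.node (.node (.node (.node (.leaf 437248) (.leaf 3092480)) (.node (.leaf 2042880) (.leaf 2424842))) (.node (.node (.leaf 1314816) (.leaf 3184740)) (.leaf 2647040))) (.node (.node (.node (.leaf 898048) (.leaf 3123264)) (.leaf 1937496)) (.node (.node (.leaf 1691648) (.leaf 3482624)) (.leaf 2894848)))))) (.node (.node (.node (.node (.node (.node (.leaf 125952) (.leaf 2479162)) (.node (.leaf 1826816) (.leaf 467062))) (.node (.node (.leaf 1063936) (.leaf 2234373)) (.leaf 2475008))) (.node (.node (.node (.leaf 615424) (.leaf 614488)) (.node (.leaf 2177024) (.leaf 1698915))) (.node (.node (.leaf 1452032) (.leaf 3084355)) (.leaf 673824)))) (.node (.node (.node (.node (.leaf 374784) (.leaf 3069952)) (.node (.leaf 1997824) (.leaf 3249156))) (.node (.node (.leaf 1267712) (.leaf 3369984)) (.leaf 1433665))) (.node (.node (.node (.leaf 842752) (.leaf 874510)) (.leaf 2328576)) (.node (.node (.leaf 1646592) (.leaf 2209869)) (.leaf 559141)))))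 (.node (.node (.node (.node (.node (.leaf 249856) (.leaf 2552921)) (.node (.leaf 1910784) (.leaf 3520512))) (.node (.node (.leaf 1165312) (.leaf 2828326)) (.leaf 1627232))) (.node (.node (.node (.leaf 733184) (.leaf 692226)) (.node (.leaf 2253824) (.leaf 3515492))) (.node (.node (.leaf 601115) (.leaf 3450880)) (.leaf 2809856)))) (.node (.node (.node (.node (.leaf 207950) (.leaf 53258)) (.node (.leaf 1415244) (.leaf 1836078))) (.node (.node (.leaf 1363968) (.leaf 628846)) (.leaf 2338941))) (.node (.node (.node (.leaf 953344) (.leaf 3263488)) (.leaf 2403328)) (.node (.node (.leaf 1738752) (.leaf 487463)) (.leaf 2919424)))))))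

def twoMvX031 : Janko.Tree (ℕ) :=
  (.node (.node (.node (.node (.node (.node (.node (.leaf 63488) (.leaf 12370)) (.node (.leaf 1784832) (.leaf 170016))) (.node (.node (.leaf 1009664) (.leaf 1591416)) (.leaf 1825858))) (.node (.node (.node (.leaf 499800) (.leaf 884825)) (.node (.leaf 1679457) (.leaf 846871))) (.node (.node (.leaf 1412096) (.leaf 1647633)) (.leaf 1939456)))) (.node (.node (.node (.node (.leaf 313344) (.leaf 1625172)) (.node (.leaf 1952768) (.leaf 1745954))) (.node (.node (.leaf 1216512) (.leaf 1273912)) (.leaf 1811496))) (.node (.node (.node (.leaf 792576) (.leaf 2905196)) (.leaf 2292736)) (.node (.node (.leaf 1599488) (.leaf 2495615)) (.leaf 1025064))))) (.node (.node (.node (.node (.node (.leaf 188416) (.leaf 1847396)) (.node (.leaf 1870848) (.leaf 3443808))) (.node (.node (.leaf 1116160) (.leaf 149582)) (.leaf 2511872))) (.node (.node (.node (.leaf 676864) (.leaf 1963075)) (.node (.leaf 2213888) (.leaf 3497045))) (.node (.node (.leaf 1502208) (.leaf 856168)) (.leaf 2780160)))) (.node (.node (.node (.node (.leaf 439296) (.leaf 3093504)) (.node (.leaf 2043904) (.leaf 3532800))) (.node (.node (.leaf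 1315840) (.leaf 3367964)) (.leaf 2172007))) (.node (.node (.node (.leaf 900096) (.leaf 2952240)) (.leaf 2366464)) (.node (.node (.leaf 1693696) (.leaf 964710)) (.leaf 2895872)))))) (.node (.node (.node (.node (.node (.node (.leaf 128000) (.leaf 2976768)) (.node (.leaf 1828864) (.leaf 3111951))) (.node (.node (.leaf 1065984) (.leaf 826383)) (.leaf 2267193))) (.node (.node (.node (.leaf 616448) (.leaf 1729541)) (.node (.leaf 2178048) (.leaf 684085))) (.node (.node (.leaf 1453056) (.leaf 2858040)) (.leaf 2389094)))) (.node (.node (.node (.node (.leaf 376832) (.leaf 2969659)) (.node (.leaf 1999872) (.leaf 2677778))) (.node (.node (.leaf 532522) (.leaf 3371008)) (.leaf 2340895))) (.node (.node (.node (.leaf 844800) (.leaf 8192)) (.leaf 2010225)) (.node (.node (.leaf 1648640) (.leaf 349304)) (.leaf 2872320))))) (.node (.node (.node (.node (.node (.leaf 251904) (.leaf 1491028)) (.node (.leaf 1912832) (.leaf 2765920))) (.node (.node (.leaf 580678) (.leaf 1230954)) (.leaf 1419284))) (.node (.node (.node (.leaf 735232) (.leaf 924762)) (.node (.leaf 1146887) (.leaf 3400755))) (.node (.node (.leaf 1552384) (.leaf 919678)) (.leaf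 2810880)))) (.node (.node (.node (.node (.leaf 500736) (.leaf 3116032)) (.node (.leaf 1841238) (.leaf 3472450))) (.node (.node (.leaf 649245) (.leaf 893029)) (.leaf 2676736))) (.node (.node (.node (.leaf 955392) (.leaf 996362)) (.leaf 2405376)) (.node (.node (.leaf 1740800) (.leaf 2927668)) (.leaf 2375731)))))))

def twoMvX0 : Janko.Tree (ℕ) := (.node (.node (.node (.node (.node twoMvX00 twoMvX016) (.node twoMvX08 twoMvX024)) (.node (.node twoMvX04 twoMvX020) (.node twoMvX012 twoMvX028))) (.node (.node (.node twoMvX02 twoMvX018) (.node twoMvX010 twoMvX026)) (.node (.node twoMvX06 twoMvX022) (.node twoMvX014 twoMvX030)))) (.node (.node (.node (.node twoMvX01 twoMvX017) (.node twoMvX09 twoMvX025)) (.node (.node twoMvX05 twoMvX021) (.node twoMvX013 twoMvX029))) (.node (.node (.node twoMvX03 twoMvX019) (.node twoMvX011 twoMvX027)) (.node (.node twoMvX07 twoMvX023) (.node twoMvX015 twoMvX031)))))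

theorem two_mvX00 : ((List.range 512).all fun i => movesOK twoCert twoT 3465 969283090484280108743175002761274464 twoMvX0 (Nat.add 0 i)) = true := by decide +kernel

theorem two_mvX01 : ((List.range 512).all fun i => movesOK twoCert twoT 3465 969283090484280108743175002761274464 twoMvX0 (Nat.add 512 i)) = true := by decide +kernel

theorem two_mvX02 : ((List.range 512).all fun i => movesOK twoCert twoT 3465 969283090484280108743175002761274464 twoMvX0 (Nat.add 1024 i)) = true := by decide +kernel

theorem two_mvX03 : ((List.range 512).all fun i => movesOK twoCert twoT 3465 969283090484280108743175002761274464 twoMvX0 (Nat.add 1536 i)) = true := by decide +kernel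

theorem two_mvX04 : ((List.range 512).all fun i => movesOK twoCert twoT 3465 969283090484280108743175002761274464 twoMvX0 (Nat.add 2048 i)) = true := by decide +kernel

theorem two_mvX05 : ((List.range 512).all fun i => movesOK twoCert twoT 3465 969283090484280108743175002761274464 twoMvX0 (Nat.add 2560 i)) = true := by decide +kernel

theorem two_mvX06 : ((List.range 393).all fun i => movesOK twoCert twoT 3465 969283090484280108743175002761274464 twoMvX0 (Nat.add 3072 i)) = true := by decide +kernel

theorem two_mvX0 : ∀ i < 3465, movesOK twoCert twoT 3465 969283090484280108743175002761274464 twoMvX0 i = true := by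
  intro i hi
  by_cases h0 : i < 512
  · have := List.all_eq_true.1 two_mvX00 (i - 0) (List.mem_range.2 (by omega)); rwa [show Nat.add 0 (i - 0) = i from Nat.add_sub_cancel' (by omega)] at this
  by_cases h1 : i < 1024
  · have := List.all_eq_true.1 two_mvX01 (i - 512) (List.mem_range.2 (by omega)); rwa [show Nat.add 512 (i - 512) = i from Nat.add_sub_cancel' (by omega)] at this
  by_cases h2 : i < 1536
  · have := List.all_eq_true.1 two_mvX02 (i - 1024) (List.mem_range.2 (by omega)); rwa [show Nat.add 1024 (i - 1024) = i from Nat.add_sub_cancel' (by omega)] at this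
  by_cases h3 : i < 2048
  · have := List.all_eq_true.1 two_mvX03 (i - 1536) (List.mem_range.2 (by omega)); rwa [show Nat.add 1536 (i - 1536) = i from Nat.add_sub_cancel' (by omega)] at this
  by_cases h4 : i < 2560
  · have := List.all_eq_true.1 two_mvX04 (i - 2048) (List.mem_range.2 (by omega)); rwa [show Nat.add 2048 (i - 2048) = i from Nat.add_sub_cancel' (by omega)] at this
  by_cases h5 : i < 3072
  · have := List.all_eq_true.1 two_mvX05 (i - 2560) (List.mem_range.2 (by omega)); rwa [show Nat.add 2560 (i - 2560) = i from Nat.add_sub_cancel' (by omega)] at this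
  have := List.all_eq_true.1 two_mvX06 (i - 3072) (List.mem_range.2 (by omega)); rwa [show Nat.add 3072 (i - 3072) = i from Nat.add_sub_cancel' (by omega)] at this


def twoMvX10 : Janko.Tree (ℕ) :=
  (.node (.node (.node (.node (.node (.node (.node (.leaf 2048) (.leaf 731140)) (.node (.leaf 1743872) (.leaf 1669214))) (.node (.node (.leaf 958464) (.leaf 2174017)) (.leaf 1343533))) (.node (.node (.node (.leaf 503808) (.leaf 701464)) (.node (.leaf 2095104) (.leaf 3485794))) (.node (.node (.leaf 646237) (.leaf 3405824)) (.leaf 2678784)))) (.node (.node (.node (.node (.leaf 254976) (.leaf 2832501)) (.node (.leaf 535578) (.leaf 3492937))) (.node (.node (.leaf 1150052) (.leaf 3338240)) (.leaf 2327583))) (.node (.node (.node (.leaf 737280) (.leaf 3195904)) (.node (.leaf 2256896) (.leaf 3547212))) (.node (.node (.leaf 1033323) (.leaf 1914968)) (.leaf 2812928))))) (.node (.node (.node (.node (.node (.leaf 131072) (.leaf 1116174)) (.node (.leaf 1830912) (.leaf 3509248))) (.node (.node (.leaf 1069056) (.leaf 1008741)) (.leaf 2479104))) (.node (.node (.node (.leaf 322676) (.leaf 1325145)) (.node (.leaf 2181120) (.leaf 3543094)))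 (.node (.node (.leaf 823358) (.leaf 3428352)) (.leaf 678950)))) (.node (.node (.node (.node (.leaf 42061) (.leaf 3070976)) (.node (.leaf 99328) (.leaf 1867816))) (.node (.node (.leaf 1270784) (.leaf 3372032)) (.leaf 2617344))) (.node (.node (.node (.leaf 846848) (.leaf 866323)) (.leaf 2331648)) (.node (.node (.leaf 1651712) (.leaf 3475456)) (.leaf 2873344)))))) (.node (.node (.node (.node (.node (.node (.leaf 66560) (.leaf 2944000)) (.node (.leaf 1235023) (.leaf 2894926))) (.node (.node (.leaf 1012736) (.leaf 3283968)) (.leaf 2443264))) (.node (.node (.node (.leaf 564224) (.leaf 2156577)) (.node (.leaf 2138112) (.leaf 3539976))) (.node (.node (.leaf 1413120) (.leaf 3364977)) (.leaf 2710528)))) (.node (.node (.node (.node (.leaf 316416) (.leaf 2780262)) (.node (.leaf 729193) (.leaf 2528381))) (.node (.node (.leaf 1219584) (.leaf 358400)) (.leaf 2584576))) (.node (.node (.node (.leaf 795648) (.leaf 3212288)) (.leaf 2293760)) (.node (.node (.leaf 1232902) (.leaf 3463168)) (.leaf 811064))))) (.node (.node (.node (.node (.node (.leaf 191488) (.leaf 2999296)) (.node (.leaf 1873920) (.leaf 774265))) (.node (.node (.leaf 1119232)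 (.leaf 1336334)) (.leaf 909376))) (.node (.node (.node (.leaf 679936) (.leaf 1359899)) (.node (.leaf 2215936) (.leaf 1545293))) (.node (.node (.leaf 1505280) (.leaf 422912)) (.leaf 2782208)))) (.node (.node (.node (.node (.leaf 442368) (.leaf 3094528)) (.node (.leaf 2045952) (.leaf 3327066))) (.node (.node (.leaf 1185850) (.leaf 3383296)) (.leaf 2650112))) (.node (.node (.node (.leaf 903168) (.leaf 3250176)) (.leaf 2367488)) (.node (.node (.leaf 1696768) (.leaf 3270693)) (.leaf 1258578)))))))

def twoMvX11 : Janko.Tree (ℕ) :=
  (.node (.node (.node (.node (.node (.node (.node (.leaf 4096) (.leaf 2703436)) (.node (.leaf 1745920) (.leaf 3479609))) (.node (.node (.leaf 960512) (.leaf 2643066)) (.leaf 2407424))) (.node (.node (.node (.leaf 505856) (.leaf 450608)) (.node (.leaf 591888) (.leaf 3534950))) (.node (.node (.leaf 56320) (.leaf 1066057)) (.leaf 356430)))) (.node (.node (.node (.node (.leaf 257024) (.leaf 2124838)) (.node (.leaf 1915904) (.leaf 3238914))) (.node (.node (.leaf 1170432) (.leaf 3340288)) (.leaf 352294))) (.node (.node (.node (.leaf 739328) (.leaf 2740277)) (.node (.leaf 2257920) (.leaf 3225697))) (.node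 (.node (.leaf 1556480) (.leaf 2935861)) (.leaf 2813952))))) (.node (.node (.node (.node (.node (.leaf 133120) (.leaf 2977792)) (.node (.leaf 1831936) (.leaf 1290321))) (.node (.node (.leaf 39936) (.leaf 3300352)) (.leaf 146553))) (.node (.node (.node (.leaf 52328) (.leaf 2231406)) (.node (.leaf 680969) (.leaf 868352))) (.node (.node (.leaf 1456128) (.leaf 1391646)) (.leaf 2752512)))) (.node (.node (.node (.node (.leaf 380928) (.leaf 3072000)) (.node (.leaf 2001920) (.leaf 3059745))) (.node (.node (.leaf 1272832) (.leaf 3373056)) (.leaf 1808483))) (.node (.node (.node (.leaf 29696) (.leaf 3232768)) (.leaf 2134055)) (.node (.node (.leaf 1653760) (.leaf 3476480)) (.leaf 2874368)))))) (.node (.node (.node (.node (.node (.node (.leaf 68608) (.leaf 2946048)) (.node (.leaf 81920) (.leaf 1856631))) (.node (.node (.leaf 364559) (.leaf 849022)) (.leaf 2445312))) (.node (.node (.node (.leaf 566272) (.leaf 1151075)) (.node (.leaf 2140160) (.leaf 3537950))) (.node (.node (.leaf 1415168) (.leaf 2535520)) (.leaf 2712576)))) (.node (.node (.node (.node (.leaf 317440) (.leaf 3050496)) (.node (.leaf 1955840) (.leaf 3414140))) (.node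 (.node (.leaf 1221632) (.leaf 655413)) (.leaf 1260589))) (.node (.node (.node (.leaf 243791) (.leaf 1695816)) (.leaf 1732650)) (.node (.node (.leaf 69632) (.leaf 1177641)) (.leaf 1659916))))) (.node (.node (.node (.node (.node (.leaf 193536) (.leaf 3001344)) (.node (.leaf 1874944) (.leaf 2700351))) (.node (.node (.leaf 476275) (.leaf 3187831)) (.leaf 1652780))) (.node (.node (.node (.leaf 681984) (.leaf 3176448)) (.node (.leaf 2217984) (.leaf 3499099))) (.node (.node (.leaf 1507328) (.leaf 2725928)) (.leaf 2573319)))) (.node (.node (.node (.node (.leaf 13312) (.leaf 3095552)) (.node (.leaf 2048000) (.leaf 920590))) (.node (.node (.leaf 1317888) (.leaf 3385344)) (.leaf 1646642))) (.node (.node (.node (.leaf 905216) (.leaf 3211288)) (.leaf 2368512)) (.node (.node (.leaf 1698816) (.leaf 3484672)) (.leaf 2897920)))))))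

def twoMvX12 : Janko.Tree (ℕ) :=
  (.node (.node (.node (.node (.node (.node (.node (.leaf 6144) (.leaf 2797639)) (.node (.leaf 1746944) (.leaf 2516049))) (.node (.node (.leaf 962560) (.leaf 1667166)) (.leaf 2408448))) (.node (.node (.node (.leaf 507904) (.leaf 1105924)) (.node (.leaf 1835096) (.leaf 2402431))) (.node (.node (.leaf 121930) (.leaf 1262593)) (.leaf 1102899)))) (.node (.node (.node (.node (.leaf 259072) (.leaf 2819162)) (.node (.leaf 1917952) (.leaf 2503749))) (.node (.node (.leaf 1172480) (.leaf 1674303)) (.leaf 2550784))) (.node (.node (.node (.leaf 741376) (.leaf 280576)) (.node (.leaf 324717) (.leaf 3093533))) (.node (.node (.leaf 1558528) (.leaf 3451904)) (.leaf 2814976))))) (.node (.node (.node (.node (.node (.leaf 135168) (.leaf 218112)) (.node (.leaf 1604669) (.leaf 3306503))) (.node (.node (.leaf 1072128) (.leaf 3301376)) (.leaf 663578))) (.node (.node (.node (.leaf 333858) (.leaf 2139257)) (.node (.leaf 2183168) (.leaf 3467296))) (.node (.node (.leaf 1457152) (.leaf 3168305)) (.leaf 1158184)))) (.node (.node (.node (.node (.leaf 382976) (.leaf 2906239)) (.node (.leaf 1925185) (.leaf 3530752)))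 (.node (.node (.leaf 1273856) (.leaf 3114049)) (.leaf 2619392))) (.node (.node (.node (.leaf 849920) (.leaf 3233792)) (.leaf 2334720)) (.node (.node (.leaf 1378343) (.leaf 2244632)) (.leaf 1898585)))))) (.node (.node (.node (.node (.node (.node (.leaf 70656) (.leaf 2226236)) (.node (.leaf 1786880) (.leaf 3500032))) (.node (.node (.leaf 1015808) (.leaf 588896)) (.leaf 2366532))) (.node (.node (.node (.leaf 568320) (.leaf 2885694)) (.node (.leaf 2142208) (.leaf 3545088))) (.node (.node (.leaf 778343) (.leaf 1968169)) (.leaf 2713600)))) (.node (.node (.node (.node (.leaf 319488) (.leaf 1132547)) (.node (.leaf 1957888) (.leaf 1465437))) (.node (.node (.leaf 1223680) (.leaf 3357696)) (.leaf 2587648))) (.node (.node (.node (.leaf 27648) (.leaf 606296)) (.leaf 125952)) (.node (.node (.leaf 1603584) (.leaf 2872446)) (.leaf 975906))))) (.node (.node (.node (.node (.node (.leaf 195584) (.leaf 3003392)) (.node (.leaf 1876992) (.leaf 1508387))) (.node (.node (.leaf 1120256) (.leaf 3319808)) (.leaf 458826))) (.node (.node (.node (.leaf 684032) (.leaf 2881613)) (.node (.leaf 970760) (.leaf 2585633))) (.node (.node (.leaf 567344)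 (.leaf 2041923)) (.leaf 185344)))) (.node (.node (.node (.node (.leaf 445440) (.leaf 3097600)) (.node (.leaf 829516) (.leaf 3082317))) (.node (.node (.leaf 1319936) (.leaf 3386368)) (.leaf 2611262))) (.node (.node (.node (.leaf 906240) (.leaf 3129471)) (.leaf 1176633)) (.node (.node (.leaf 1699840) (.leaf 488448)) (.leaf 1621011)))))))

def twoMvX13 : Janko.Tree (ℕ) :=
  (.node (.node (.node (.node (.node (.node (.node (.leaf 8192) (.leaf 2920448)) (.node (.leaf 1393719) (.leaf 3403902))) (.node (.node (.leaf 964608) (.leaf 1828929)) (.leaf 2409472))) (.node (.node (.node (.leaf 509952) (.leaf 1349738)) (.node (.leaf 2099200) (.leaf 1351768))) (.node (.node (.leaf 1370112) (.leaf 2758656)) (.leaf 2681856)))) (.node (.node (.node (.node (.leaf 261120) (.leaf 3028992)) (.node (.leaf 1404006) (.leaf 3469331))) (.node (.node (.leaf 1173504) (.leaf 3341312)) (.leaf 2552832))) (.node (.node (.node (.leaf 743424) (.leaf 3075076)) (.node (.leaf 2260992) (.leaf 2039881))) (.node (.node (.leaf 1560576) (.leaf 1294416)) (.leaf 2816000))))) (.node (.node (.node (.node (.node (.leaf 137216) (.leaf 2821168)) (.node (.leaf 981004)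 (.leaf 3466315))) (.node (.node (.leaf 403527) (.leaf 2304027)) (.leaf 2481152))) (.node (.node (.node (.leaf 622592) (.leaf 1009721)) (.node (.leaf 2184192) (.leaf 3404825))) (.node (.node (.leaf 1459200) (.leaf 412672)) (.leaf 1894471)))) (.node (.node (.node (.node (.leaf 11264) (.leaf 3074048)) (.node (.leaf 2003968) (.leaf 3310625))) (.node (.node (.leaf 1169505) (.leaf 3145744)) (.leaf 2620416))) (.node (.node (.node (.leaf 851968) (.leaf 2240585)) (.leaf 763921)) (.node (.node (.leaf 1318955) (.leaf 1256535)) (.leaf 198656)))))) (.node (.node (.node (.node (.node (.node (.leaf 72704) (.leaf 2948096)) (.node (.leaf 1787904) (.leaf 3031066))) (.node (.node (.leaf 1017856) (.leaf 2203706)) (.leaf 366610))) (.node (.node (.node (.leaf 274528) (.leaf 548964)) (.node (.leaf 2108531) (.leaf 3506177))) (.node (.node (.leaf 138253) (.leaf 3205203)) (.leaf 885853)))) (.node (.node (.node (.node (.leaf 321536) (.leaf 2839648)) (.node (.leaf 372744) (.leaf 635904))) (.node (.node (.leaf 1225728) (.leaf 1999878)) (.leaf 683119))) (.node (.node (.node (.leaf 524351) (.leaf 736282)) (.leaf 2296832)) (.node (.node (.leaf 1605632)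 (.leaf 3464192)) (.leaf 2817103))))) (.node (.node (.node (.node (.node (.leaf 197632) (.leaf 1572981)) (.node (.leaf 1879040) (.leaf 1095680))) (.node (.node (.leaf 1122304) (.leaf 3320832)) (.leaf 2516992))) (.node (.node (.node (.leaf 686080) (.leaf 720970)) (.node (.leaf 2220032) (.leaf 3213435))) (.node (.node (.leaf 1071138) (.leaf 3440640)) (.leaf 2784256)))) (.node (.node (.node (.node (.leaf 447488) (.leaf 249856)) (.node (.leaf 1087558) (.leaf 3533824))) (.node (.node (.leaf 1321984) (.leaf 3387392)) (.leaf 2653184))) (.node (.node (.node (.leaf 908288) (.leaf 3062837)) (.leaf 1138756)) (.node (.node (.leaf 1701888) (.leaf 959592)) (.leaf 2346019)))))))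

def twoMvX14 : Janko.Tree (ℕ) :=
  (.node (.node (.node (.node (.node (.node (.node (.leaf 10240) (.leaf 420929)) (.node (.leaf 156743) (.leaf 3124335))) (.node (.node (.leaf 966656) (.leaf 1222731)) (.leaf 2411520))) (.node (.node (.node (.leaf 512000) (.leaf 1254403)) (.node (.leaf 1014830) (.leaf 3334230))) (.node (.node (.leaf 1372160) (.leaf 586756)) (.leaf 2147443)))) (.node (.node (.node (.node (.leaf 263168) (.leaf 3030016)) (.node (.leaf 1920000) (.leaf 3294260))) (.node (.node (.leaf 813119) (.leaf 3308640)) (.leaf 2056234))) (.node (.node (.node (.leaf 745472) (.leaf 3197952)) (.node (.leaf 2251901) (.leaf 1654898))) (.node (.node (.leaf 615541) (.leaf 1125414)) (.leaf 2216988))))) (.node (.node (.node (.node (.node (.leaf 139264) (.leaf 2680925)) (.node (.leaf 526357) (.leaf 3511296))) (.node (.node (.leaf 1074176) (.leaf 3265551)) (.leaf 790606))) (.node (.node (.node (.leaf 624640) (.leaf 1488973)) (.node (.leaf 113664) (.leaf 2199579))) (.node (.node (.leaf 1044489) (.leaf 3431424)) (.leaf 181248)))) (.node (.node (.node (.node (.leaf 386048) (.leaf 3076096)) (.node (.leaf 2006016) (.leaf 2643972)))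 (.node (.node (.leaf 1276928) (.leaf 539733)) (.leaf 2621440))) (.node (.node (.node (.leaf 854016) (.leaf 653390)) (.leaf 2336768)) (.node (.node (.leaf 1070154) (.leaf 2504765)) (.leaf 1755184)))))) (.node (.node (.node (.node (.node (.node (.leaf 74752) (.leaf 1730679)) (.node (.leaf 522282) (.leaf 3103771))) (.node (.node (.leaf 1019904) (.leaf 494634)) (.leaf 140288))) (.node (.node (.node (.leaf 571392) (.leaf 3131392)) (.node (.leaf 2144256) (.leaf 3323973))) (.node (.node (.leaf 1419264) (.leaf 2499707)) (.leaf 2530338)))) (.node (.node (.node (.node (.leaf 323584) (.leaf 2455575)) (.node (.leaf 1960960) (.leaf 2989114))) (.node (.node (.leaf 1227776) (.leaf 3359744)) (.leaf 695336))) (.node (.node (.node (.leaf 798720) (.leaf 3010680)) (.leaf 2297856)) (.node (.node (.leaf 1607680) (.leaf 1960051)) (.leaf 2419825))))) (.node (.node (.node (.node (.node (.leaf 199680) (.leaf 3005440)) (.node (.leaf 864364) (.leaf 2659355))) (.node (.node (.leaf 1124352) (.leaf 1610836)) (.leaf 2232321))) (.node (.node (.node (.leaf 688128) (.leaf 2809895)) (.node (.leaf 2221056) (.leaf 1128511))) (.node (.node (.leaf 1400896)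 (.leaf 3441664)) (.leaf 2785280)))) (.node (.node (.node (.node (.leaf 449536) (.leaf 3098624)) (.node (.leaf 2051072) (.leaf 3429402))) (.node (.node (.leaf 674914) (.leaf 3389440)) (.leaf 2655232))) (.node (.node (.node (.leaf 910336) (.leaf 1738771)) (.leaf 2370560)) (.node (.node (.leaf 1702912) (.leaf 2201704)) (.leaf 2899968)))))))

def twoMvX15 : Janko.Tree (ℕ) :=
  (.node (.node (.node (.node (.node (.node (.node (.leaf 12288) (.leaf 2921472)) (.node (.leaf 1748992) (.leaf 3127323))) (.node (.node (.leaf 967680) (.leaf 2665498)) (.leaf 2061388))) (.node (.node (.node (.leaf 514048) (.leaf 2246700)) (.node (.leaf 2102272) (.leaf 1526878))) (.node (.node (.leaf 169084) (.leaf 3406848)) (.leaf 569420)))) (.node (.node (.node (.node (.leaf 264192) (.leaf 337925)) (.node (.leaf 128090) (.leaf 3401790))) (.node (.node (.leaf 1175552) (.leaf 3342336)) (.leaf 2554880))) (.node (.node (.node (.leaf 747520) (.leaf 1455162)) (.node (.leaf 650286) (.leaf 3526716))) (.node (.node (.leaf 1563648) (.leaf 2753558)) (.leaf 433189))))) (.node (.node (.node (.node (.node (.leaf 141312) (.leaf 1417250)) (.node (.leaf 1836032) (.leaf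 3388526))) (.node (.node (.leaf 1076224) (.leaf 2178102)) (.leaf 2483200))) (.node (.node (.node (.leaf 626688) (.leaf 3156992)) (.node (.leaf 2185216) (.leaf 1020974))) (.node (.node (.leaf 1461248) (.leaf 2319467)) (.leaf 2754560)))) (.node (.node (.node (.node (.leaf 388096) (.leaf 2361424)) (.node (.leaf 2007040) (.leaf 2986093))) (.node (.node (.leaf 1278976) (.leaf 3285001)) (.leaf 2623488))) (.node (.node (.node (.leaf 856064) (.leaf 3235840)) (.leaf 1041454)) (.node (.node (.leaf 1656832) (.leaf 2094093)) (.leaf 2673731)))))) (.node (.node (.node (.node (.node (.node (.leaf 76800) (.leaf 2950144)) (.node (.leaf 1790976) (.leaf 2898953))) (.node (.node (.leaf 1021952) (.leaf 2023516)) (.leaf 2381875))) (.node (.node (.node (.leaf 573440) (.leaf 1934347)) (.node (.leaf 2146304) (.leaf 3417161))) (.node (.node (.leaf 1007620) (.leaf 1764456)) (.leaf 2628612)))) (.node (.node (.node (.node (.leaf 325632) (.leaf 993285)) (.node (.leaf 1963008) (.leaf 2018342))) (.node (.node (.leaf 1106959) (.leaf 1792107)) (.leaf 1397804))) (.node (.node (.node (.leaf 800768) (.leaf 1161262)) (.leaf 633885)) (.node (.node (.leaf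 1608704) (.leaf 1023030)) (.leaf 2845696))))) (.node (.node (.node (.node (.node (.leaf 201728) (.leaf 577640)) (.node (.leaf 1882112) (.leaf 2909245))) (.node (.node (.leaf 1126400) (.leaf 3023881)) (.leaf 159809))) (.node (.node (.node (.leaf 690176) (.leaf 2439189)) (.node (.leaf 1624181) (.leaf 3020924))) (.node (.node (.leaf 1511424) (.leaf 1130502)) (.leaf 742522)))) (.node (.node (.node (.node (.leaf 451584) (.leaf 3099648)) (.node (.leaf 2053120) (.leaf 2820214))) (.node (.node (.leaf 1324032) (.leaf 3107855)) (.leaf 165888))) (.node (.node (.node (.leaf 912384) (.leaf 3226714)) (.leaf 2371584)) (.node (.node (.leaf 1703936) (.leaf 1418298)) (.leaf 2900992)))))))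

def twoMvX16 : Janko.Tree (ℕ) :=
  (.node (.node (.node (.node (.node (.node (.node (.leaf 14336) (.leaf 2922496)) (.node (.leaf 1751040) (.leaf 1518674))) (.node (.node (.leaf 968704) (.leaf 3268608)) (.leaf 702529))) (.node (.node (.node (.leaf 516096) (.leaf 1744949)) (.node (.leaf 2104320) (.leaf 2789399))) (.node (.node (.leaf 1375232) (.leaf 3255333)) (.leaf 1414144)))) (.node (.node (.node (.node (.leaf 266240) (.leaf 3032064)) (.node (.leaf 1921024) (.leaf 3437616))) (.node (.node (.leaf 822321) (.leaf 728064)) (.leaf 1554518))) (.node (.node (.node (.leaf 749568) (.leaf 282624)) (.node (.leaf 2263040) (.leaf 3290209))) (.node (.node (.leaf 1564672) (.leaf 1687619)) (.leaf 2818048))))) (.node (.node (.node (.node (.node (.leaf 143360) (.leaf 2978816)) (.node (.leaf 1837056) (.leaf 3512320))) (.node (.node (.leaf 1077248) (.leaf 3120250)) (.leaf 2484224))) (.node (.node (.node (.leaf 628736) (.leaf 3158016)) (.node (.leaf 2186240) (.leaf 3532810))) (.node (.node (.leaf 1462272) (.leaf 2509859)) (.leaf 2755584)))) (.node (.node (.node (.node (.leaf 390144) (.leaf 3078144)) (.node (.leaf 2008064) (.leaf 1061953)))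 (.node (.node (.leaf 1281024) (.leaf 1713192)) (.leaf 2624512))) (.node (.node (.node (.leaf 858112) (.leaf 1988727)) (.leaf 2338816)) (.node (.node (.leaf 1658880) (.leaf 3174489)) (.leaf 1141818)))))) (.node (.node (.node (.node (.node (.node (.leaf 78848) (.leaf 2952192)) (.node (.leaf 1793024) (.leaf 3044417))) (.node (.node (.leaf 1024000) (.leaf 3286016)) (.leaf 2449408))) (.node (.node (.node (.leaf 574464) (.leaf 1818751)) (.node (.leaf 1557558) (.leaf 3418146))) (.node (.node (.leaf 900119) (.leaf 3148853)) (.leaf 1866842)))) (.node (.node (.node (.node (.leaf 327680) (.leaf 1806407)) (.node (.leaf 1452121) (.leaf 974925))) (.node (.node (.leaf 1230848) (.leaf 3360768)) (.leaf 1489931))) (.node (.node (.node (.leaf 802816) (.leaf 2738264)) (.leaf 1039389)) (.node (.node (.leaf 1609728) (.leaf 915576)) (.leaf 2846720))))) (.node (.node (.node (.node (.node (.leaf 203776) (.leaf 3007488)) (.node (.leaf 613467) (.leaf 979065))) (.node (.node (.leaf 1127424) (.leaf 3321856)) (.leaf 1091610))) (.node (.node (.node (.leaf 692224) (.leaf 2742327)) (.node (.leaf 2223104) (.leaf 1565738))) (.node (.node (.leaf 1513472)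 (.leaf 3442688)) (.leaf 2788352)))) (.node (.node (.node (.node (.leaf 453632) (.leaf 2349163)) (.node (.leaf 2055168) (.leaf 2075677))) (.node (.node (.leaf 945205) (.leaf 1363974)) (.leaf 2656256))) (.node (.node (.node (.leaf 914432) (.leaf 2149405)) (.leaf 132096)) (.node (.node (.leaf 75776) (.leaf 3122247)) (.leaf 2903040)))))))

def twoMvX17 : Janko.Tree (ℕ) :=
  (.node (.node (.node (.node (.node (.node (.node (.leaf 16384) (.leaf 2923520)) (.node (.leaf 1753088) (.leaf 3491840))) (.node (.node (.leaf 863356) (.leaf 1784854)) (.leaf 2413568))) (.node (.node (.node (.leaf 192542) (.leaf 1085464)) (.node (.leaf 311422) (.leaf 3017786))) (.node (.node (.leaf 1377280) (.leaf 1909777)) (.leaf 2683904)))) (.node (.node (.node (.node (.leaf 268288) (.leaf 3033088)) (.node (.leaf 1923072) (.leaf 3430420))) (.node (.node (.leaf 46080) (.leaf 3313682)) (.leaf 1582100))) (.node (.node (.node (.leaf 25600) (.leaf 3200000)) (.node (.leaf 2265088) (.leaf 3186720))) (.node (.node (.leaf 1566720) (.leaf 3358751)) (.leaf 1182729))))) (.node (.node (.node (.node (.node (.leaf 145408) (.leaf 2358340)) (.node (.leaf 1838080) (.leaf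 3427338))) (.node (.node (.leaf 1079296) (.leaf 3015800)) (.leaf 2486272))) (.node (.node (.node (.leaf 630784) (.leaf 3159040)) (.node (.leaf 187466) (.leaf 2837605))) (.node (.node (.leaf 1464320) (.leaf 3048524)) (.leaf 2756608)))) (.node (.node (.node (.node (.leaf 392192) (.leaf 2930693)) (.node (.leaf 2009088) (.leaf 2682962))) (.node (.node (.leaf 1283072) (.leaf 3374080)) (.leaf 2626560))) (.node (.node (.node (.leaf 845853) (.leaf 2426892)) (.leaf 963592)) (.node (.node (.leaf 1660928) (.leaf 1724468)) (.leaf 2876416)))))) (.node (.node (.node (.node (.node (.node (.leaf 80896) (.leaf 2953216)) (.node (.leaf 1795072) (.leaf 563294))) (.node (.node (.leaf 1025024) (.leaf 3287040)) (.leaf 1762362))) (.node (.node (.node (.leaf 576512) (.leaf 3133440)) (.node (.leaf 2148352) (.leaf 3258383))) (.node (.node (.leaf 437334) (.leaf 2513942)) (.leaf 2717696)))) (.node (.node (.node (.node (.leaf 329728) (.leaf 3053568)) (.node (.leaf 1964032) (.leaf 3040267))) (.node (.node (.leaf 1231872) (.leaf 3361792)) (.leaf 722951))) (.node (.node (.node (.leaf 804864) (.leaf 3214336)) (.leaf 2301952)) (.node (.node (.leaf 1611776)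 (.leaf 1552464)) (.leaf 2848768))))) (.node (.node (.node (.node (.node (.leaf 205824) (.leaf 3008512)) (.node (.leaf 1884160) (.leaf 918559))) (.node (.node (.leaf 1129472) (.leaf 997473)) (.leaf 2520064))) (.node (.node (.node (.leaf 694272) (.leaf 2951238)) (.node (.leaf 2154519) (.leaf 3517519))) (.node (.node (.leaf 1515520) (.leaf 3396671)) (.leaf 546942)))) (.node (.node (.node (.node (.leaf 455680) (.leaf 714839)) (.node (.leaf 362528) (.leaf 1228813))) (.node (.node (.leaf 54272) (.leaf 2779246)) (.leaf 2658304))) (.node (.node (.node (.leaf 916480) (.leaf 2189317)) (.leaf 2374656)) (.node (.node (.leaf 1339441) (.leaf 3160117)) (.leaf 2905088)))))))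

def twoMvX18 : Janko.Tree (ℕ) :=
  (.node (.node (.node (.node (.node (.node (.node (.leaf 18432) (.leaf 2924544)) (.node (.leaf 79872) (.leaf 1496169))) (.node (.node (.leaf 971776) (.leaf 991312)) (.leaf 2414592))) (.node (.node (.node (.leaf 519168) (.leaf 256000)) (.node (.leaf 2107392) (.leaf 896012))) (.node (.node (.leaf 1379328) (.leaf 2963538)) (.leaf 2684928)))) (.node (.node (.node (.node (.leaf 270336) (.leaf 989302)) (.node (.leaf 1661958) (.leaf 3125318))) (.node (.node (.leaf 1179648) (.leaf 3343360)) (.leaf 152576))) (.node (.node (.node (.leaf 173167) (.leaf 1427496)) (.node (.leaf 1220621) (.leaf 2571280))) (.node (.node (.leaf 1568768) (.leaf 2783312)) (.leaf 1559670))))) (.node (.node (.node (.node (.node (.leaf 147456) (.leaf 2918461)) (.node (.leaf 1839104) (.leaf 3490830))) (.node (.node (.leaf 470055) (.leaf 3304448)) (.leaf 2487296))) (.node (.node (.node (.leaf 632832) (.leaf 3161088)) (.node (.leaf 1823838) (.leaf 1800235))) (.node (.node (.leaf 1466368) (.leaf 2151462)) (.leaf 2416735)))) (.node (.node (.node (.node (.leaf 394240) (.leaf 3079168)) (.node (.leaf 2010112) (.leaf 2691090)))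 (.node (.node (.leaf 1285120) (.leaf 2441240)) (.leaf 262221))) (.node (.node (.node (.leaf 861184) (.leaf 2522213)) (.leaf 2340864)) (.node (.node (.leaf 1662976) (.leaf 3465342)) (.leaf 2447440)))))) (.node (.node (.node (.node (.node (.node (.leaf 82944) (.leaf 2849914)) (.node (.leaf 1797120) (.leaf 3318787))) (.node (.node (.leaf 1027072) (.leaf 3056715)) (.leaf 931896))) (.node (.node (.node (.leaf 578560) (.leaf 3134464)) (.node (.leaf 2150400) (.leaf 2880587))) (.node (.node (.leaf 1424384) (.leaf 3419136)) (.leaf 2718720)))) (.node (.node (.node (.node (.leaf 9216) (.leaf 2262130)) (.node (.leaf 1075309) (.leaf 3525632))) (.node (.node (.leaf 1233920) (.leaf 1900582)) (.leaf 492574))) (.node (.node (.node (.leaf 805888) (.leaf 3215360)) (.leaf 716914)) (.node (.node (.leaf 1613824) (.leaf 2730064)) (.leaf 2850816))))) (.node (.node (.node (.node (.node (.leaf 207872) (.leaf 3009536)) (.node (.leaf 1885184) (.leaf 3305513))) (.node (.node (.leaf 1131520) (.leaf 3322880)) (.leaf 148480))) (.node (.node (.node (.leaf 696320) (.leaf 1543207)) (.node (.leaf 2224128) (.leaf 2345084))) (.node (.node (.leaf 1517568)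 (.leaf 3443712)) (.leaf 2669685)))) (.node (.node (.node (.node (.leaf 457728) (.leaf 3102720)) (.node (.leaf 2058240) (.leaf 3535872))) (.node (.node (.leaf 1328128) (.leaf 2508925)) (.leaf 225302))) (.node (.node (.node (.leaf 917504) (.leaf 305152)) (.leaf 2375680)) (.node (.node (.leaf 1707008) (.leaf 2549848)) (.leaf 2907136)))))))

def twoMvX19 : Janko.Tree (ℕ) :=
  (.node (.node (.node (.node (.node (.node (.node (.leaf 20480) (.leaf 2926592)) (.node (.leaf 1756160) (.leaf 3493888))) (.node (.node (.leaf 973824) (.leaf 3269632)) (.leaf 1919050))) (.node (.node (.node (.leaf 521216) (.leaf 1853441)) (.node (.leaf 2109440) (.leaf 3177497))) (.node (.node (.leaf 1380352) (.leaf 531489)) (.leaf 2065433)))) (.node (.node (.node (.node (.leaf 272384) (.leaf 3035136)) (.node (.leaf 94208) (.leaf 3335236))) (.node (.node (.leaf 1180672) (.leaf 3344384)) (.leaf 2539552))) (.node (.node (.node (.leaf 752640) (.leaf 3201024)) (.leaf 2267136)) (.node (.node (.leaf 1569792) (.leaf 3292241)) (.leaf 2794564))))) (.node (.node (.node (.node (.node (.leaf 149504) (.leaf 2980864)) (.node (.leaf 1841152) (.leaf 2757748))) (.node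 (.node (.leaf 1082368) (.leaf 2802717)) (.leaf 2488320))) (.node (.node (.node (.leaf 634880) (.leaf 520306)) (.node (.leaf 2187264) (.leaf 2356301))) (.node (.node (.leaf 62464) (.leaf 2432045)) (.leaf 2264073)))) (.node (.node (.node (.node (.leaf 396288) (.leaf 1522708)) (.node (.leaf 2012160) (.leaf 1460348))) (.node (.node (.leaf 794674) (.leaf 1638418)) (.leaf 177259))) (.node (.node (.node (.leaf 862208) (.leaf 3046507)) (.leaf 2342912)) (.node (.node (.leaf 1639545) (.leaf 596019)) (.leaf 1048632)))))) (.node (.node (.node (.node (.node (.node (.leaf 84992) (.leaf 2955264)) (.node (.leaf 1798144) (.leaf 642090))) (.node (.node (.leaf 1028096) (.leaf 2882658)) (.leaf 2450432))) (.node (.node (.node (.leaf 580608) (.leaf 3135488)) (.node (.leaf 484401) (.leaf 1922173))) (.node (.node (.leaf 1334273) (.leaf 3116152)) (.leaf 2720768)))) (.node (.node (.node (.node (.leaf 332800) (.leaf 3055616)) (.node (.leaf 1967104) (.leaf 3507298))) (.node (.node (.leaf 1235968) (.leaf 2601004)) (.leaf 2581587))) (.node (.node (.node (.leaf 806912) (.leaf 2485293)) (.leaf 2302976)) (.node (.node (.leaf 1614848) (.leaf 2875438))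 (.leaf 2852864))))) (.node (.node (.node (.node (.node (.leaf 209920) (.leaf 1602591)) (.node (.leaf 1529856) (.leaf 1037364))) (.node (.node (.leaf 1133568) (.leaf 2976849)) (.leaf 381952))) (.node (.node (.node (.leaf 23552) (.leaf 2590748)) (.node (.leaf 2225152) (.leaf 2352241))) (.node (.node (.leaf 1519616) (.leaf 2912374)) (.leaf 2086993)))) (.node (.node (.node (.node (.leaf 459776) (.leaf 2890818)) (.node (.leaf 2060288) (.leaf 2598963))) (.node (.node (.leaf 1330176) (.leaf 378880)) (.leaf 776292))) (.node (.node (.node (.leaf 919552) (.leaf 1573954)) (.leaf 2377728)) (.node (.node (.leaf 1555554) (.leaf 2332795)) (.leaf 301161)))))))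

def twoMvX110 : Janko.Tree (ℕ) :=
  (.node (.node (.node (.node (.node (.node (.node (.leaf 22528) (.leaf 2927616)) (.node (.leaf 560239) (.leaf 2855987))) (.node (.node (.leaf 344089) (.leaf 3259501)) (.leaf 2415616))) (.node (.node (.node (.leaf 523264) (.leaf 3121152)) (.node (.leaf 1371167) (.leaf 3521563))) (.node (.node (.leaf 1382400) (.leaf 1561651)) (.leaf 2688000)))) (.node (.node (.node (.node (.leaf 7168) (.leaf 2360418)) (.node (.leaf 1926144) (.leaf 1547277))) (.node (.node (.leaf 1181696) (.leaf 2888724)) (.leaf 2558976))) (.node (.node (.node (.leaf 754688) (.leaf 2956363)) (.leaf 2268160)) (.node (.node (.leaf 1571840) (.leaf 2662427)) (.leaf 2822144))))) (.node (.node (.node (.node (.node (.leaf 151552) (.leaf 2981888)) (.node (.leaf 401519) (.leaf 3234851))) (.node (.node (.leaf 1084416) (.leaf 2543685)) (.leaf 2490368))) (.node (.node (.node (.leaf 636928) (.leaf 2904092)) (.node (.leaf 2188288) (.leaf 3339383))) (.node (.node (.leaf 1194064) (.leaf 3432448)) (.leaf 2759680)))) (.node (.node (.node (.node (.leaf 398336) (.leaf 801794)) (.node (.leaf 273421) (.leaf 3349563))) (.node (.node (.leaf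 1288192) (.leaf 3303446)) (.leaf 786533))) (.node (.node (.node (.leaf 837658) (.leaf 600076)) (.leaf 913477)) (.node (.node (.leaf 1665024) (.leaf 3455064)) (.leaf 2748452)))))) (.node (.node (.node (.node (.node (.node (.leaf 87040) (.leaf 2957312)) (.node (.leaf 1799168) (.leaf 3496056))) (.node (.node (.leaf 1030144) (.leaf 2716717)) (.leaf 1794136))) (.node (.node (.node (.leaf 582656) (.leaf 3136512)) (.node (.leaf 2153472) (.leaf 3501166))) (.node (.node (.leaf 1426432) (.leaf 2654321)) (.leaf 1887314)))) (.node (.node (.node (.node (.leaf 334848) (.leaf 2857025)) (.node (.leaf 1969152) (.leaf 3354687))) (.node (.node (.leaf 1236992) (.leaf 1655910)) (.leaf 2593792))) (.node (.node (.node (.leaf 808960) (.leaf 3216384)) (.leaf 2305024)) (.node (.node (.leaf 708694) (.leaf 3144744)) (.leaf 1111048))))) (.node (.node (.node (.node (.node (.leaf 211968) (.leaf 1711193)) (.node (.leaf 1888256) (.leaf 1626144))) (.node (.node (.leaf 1135616) (.leaf 3324928)) (.leaf 2523136))) (.node (.node (.node (.leaf 699392) (.leaf 3180544)) (.node (.leaf 239741) (.leaf 2208771))) (.node (.node (.leaf 1521664) (.leaf 618518)) (.leaf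 2791424)))) (.node (.node (.node (.node (.leaf 461824) (.leaf 902270)) (.node (.leaf 2062336) (.leaf 3536896))) (.node (.node (.leaf 1332224) (.leaf 3193867)) (.leaf 2661376))) (.node (.node (.node (.leaf 921600) (.leaf 1720361)) (.leaf 486469)) (.node (.node (.leaf 1708032) (.leaf 3296307)) (.leaf 2518122)))))))

def twoMvX111 : Janko.Tree (ℕ) :=
  (.node (.node (.node (.node (.node (.node (.node (.leaf 24576) (.leaf 2679856)) (.node (.leaf 753749) (.leaf 1842207))) (.node (.node (.leaf 976896) (.leaf 3089523)) (.leaf 2417664))) (.node (.node (.node (.leaf 525312) (.leaf 3123200)) (.node (.leaf 2111488) (.leaf 1297449))) (.node (.node (.leaf 1383424) (.leaf 1213442)) (.leaf 977985)))) (.node (.node (.node (.node (.leaf 275456) (.leaf 1386563)) (.node (.leaf 1927168) (.leaf 3522560))) (.node (.node (.leaf 1183744) (.leaf 3346432)) (.leaf 2560000))) (.node (.node (.node (.leaf 755712) (.leaf 2175064)) (.leaf 2270208)) (.node (.node (.leaf 67584) (.leaf 3456000)) (.leaf 2823168))))) (.node (.node (.node (.node (.node (.leaf 153600) (.leaf 987181)) (.node (.leaf 1619067) (.leaf 3514368))) (.node (.node (.leaf 1086464)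 (.leaf 3247201)) (.leaf 2492416))) (.node (.node (.node (.leaf 638976) (.leaf 3162112)) (.node (.leaf 2190336) (.leaf 2844760))) (.node (.node (.leaf 1287289) (.leaf 620662)) (.leaf 2500641)))) (.node (.node (.node (.node (.leaf 400384) (.leaf 245760)) (.node (.leaf 2014208) (.leaf 3237960))) (.node (.node (.leaf 288810) (.leaf 1740918)) (.leaf 1843285))) (.node (.node (.node (.leaf 865280) (.leaf 3224595)) (.leaf 2322505)) (.node (.node (.leaf 1666048) (.leaf 2902090)) (.leaf 2878464)))))) (.node (.node (.node (.node (.node (.node (.leaf 89088) (.leaf 2958336)) (.node (.leaf 1801216) (.leaf 3458112))) (.node (.node (.leaf 1032192) (.leaf 2126905)) (.leaf 1852426))) (.node (.node (.node (.leaf 583680) (.leaf 3138560)) (.node (.leaf 111616) (.leaf 1930311))) (.node (.node (.leaf 267279) (.leaf 540782)) (.leaf 2489373)))) (.node (.node (.node (.node (.leaf 336896) (.leaf 2565205)) (.node (.leaf 97280) (.leaf 3027972))) (.node (.node (.leaf 1239040) (.leaf 3362816)) (.leaf 2326606))) (.node (.node (.node (.leaf 119821) (.leaf 1112076)) (.leaf 2306048)) (.node (.node (.leaf 1617920) (.leaf 3252321)) (.leaf 194560))))) (.node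 (.node (.node (.node (.node (.leaf 214016) (.leaf 3011584)) (.node (.leaf 1889280) (.leaf 1026163))) (.node (.node (.leaf 1137664) (.leaf 3147894)) (.leaf 2525184))) (.node (.node (.node (.leaf 235647) (.leaf 276480)) (.node (.leaf 1880146) (.leaf 2314298))) (.node (.node (.leaf 1523712) (.leaf 1429628)) (.leaf 2793472)))) (.node (.node (.node (.node (.leaf 463872) (.leaf 2998287)) (.node (.leaf 2064384) (.leaf 706560))) (.node (.node (.leaf 1333248) (.leaf 2031636)) (.leaf 1481783))) (.node (.node (.node (.leaf 685064) (.leaf 2143331)) (.leaf 2380800)) (.node (.node (.leaf 1710080) (.leaf 3273749)) (.leaf 2641971)))))))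

def twoMvX112 : Janko.Tree (ℕ) :=
  (.node (.node (.node (.node (.node (.node (.node (.leaf 26624) (.leaf 2929664)) (.node (.leaf 1760256) (.leaf 1890402))) (.node (.node (.leaf 48146) (.leaf 3271680)) (.leaf 2418688))) (.node (.node (.node (.leaf 37987) (.leaf 2990129)) (.node (.leaf 2113536) (.leaf 2255981))) (.node (.node (.leaf 1385472) (.leaf 2551850)) (.leaf 2630739)))) (.node (.node (.node (.node (.leaf 277504) (.leaf 940127)) (.node (.leaf 1929216) (.leaf 3299452))) (.node (.node (.leaf 1184768) (.leaf 2410608)) (.leaf 482402))) (.node (.node (.node (.leaf 757760) (.leaf 985185)) (.leaf 2272256)) (.node (.node (.leaf 1574912) (.leaf 3457024)) (.leaf 2825216))))) (.node (.node (.node (.node (.node (.leaf 155648) (.leaf 542808)) (.node (.leaf 1845248) (.leaf 2466833))) (.node (.node (.leaf 1088512) (.leaf 2043982)) (.leaf 1389581))) (.node (.node (.node (.leaf 641024) (.leaf 2731087)) (.node (.leaf 2191360) (.leaf 2781214))) (.node (.node (.leaf 1470464) (.leaf 3433472)) (.leaf 2760704)))) (.node (.node (.node (.node (.leaf 402432) (.leaf 3080192)) (.node (.leaf 2015232) (.leaf 3531776))) (.node (.node (.leaf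 1291264) (.leaf 2604149)) (.leaf 161792))) (.node (.node (.node (.leaf 867328) (.leaf 3239936)) (.leaf 1897529)) (.node (.node (.leaf 1668096) (.leaf 2235469)) (.leaf 2879488)))))) (.node (.node (.node (.node (.node (.node (.leaf 91136) (.leaf 2177144)) (.node (.leaf 1802240) (.leaf 1803335))) (.node (.node (.leaf 842858) (.leaf 3289088)) (.leaf 2453504))) (.node (.node (.node (.leaf 585728) (.leaf 2847773)) (.node (.leaf 2155520) (.leaf 2002992))) (.node (.node (.leaf 1068069) (.leaf 1936406)) (.leaf 2724864)))) (.node (.node (.node (.node (.leaf 338944) (.leaf 1664124)) (.node (.leaf 1971200) (.leaf 1833012))) (.node (.node (.leaf 1240064) (.leaf 772223)) (.leaf 2594816))) (.node (.node (.node (.leaf 812032) (.leaf 746595)) (.leaf 2307072)) (.node (.node (.leaf 1619968) (.leaf 2519091)) (.leaf 1637469))))) (.node (.node (.node (.node (.node (.leaf 5120) (.leaf 2378832)) (.node (.leaf 740437) (.leaf 3518464))) (.node (.node (.leaf 1139712) (.leaf 2253884)) (.leaf 1790042))) (.node (.node (.node (.leaf 208921) (.leaf 2343997)) (.node (.leaf 2227200) (.leaf 3444839))) (.node (.node (.leaf 1525760) (.leaf 3434507)) (.leaf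 2795520)))) (.node (.node (.node (.node (.leaf 464896) (.leaf 251904)) (.node (.leaf 1005649) (.leaf 2423819))) (.node (.node (.leaf 1335296) (.leaf 3391488)) (.leaf 1289278))) (.node (.node (.node (.leaf 924672) (.leaf 1924122)) (.leaf 2382848)) (.node (.node (.leaf 1712128) (.leaf 2219040)) (.leaf 2595889)))))))

def twoMvX113 : Janko.Tree (ℕ) :=
  (.node (.node (.node (.node (.node (.node (.node (.leaf 28672) (.leaf 2128978)) (.node (.leaf 1761280) (.leaf 2482220))) (.node (.node (.leaf 979968) (.leaf 2714682)) (.leaf 1986664))) (.node (.node (.node (.leaf 528384) (.leaf 2337887)) (.node (.leaf 2114560) (.leaf 2723841))) (.node (.node (.leaf 1198132) (.leaf 3043355)) (.leaf 2052215)))) (.node (.node (.node (.node (.leaf 279552) (.leaf 2618475)) (.node (.leaf 1931264) (.leaf 2182256))) (.node (.node (.leaf 1080384) (.leaf 2084871)) (.leaf 2562048))) (.node (.node (.node (.leaf 758784) (.leaf 3202048)) (.leaf 1945685)) (.node (.node (.leaf 231540) (.leaf 1947649)) (.leaf 687157))))) (.node (.node (.node (.node (.node (.leaf 3072) (.leaf 2983936)) (.node (.leaf 171111) (.leaf 3291153))) (.node (.node (.leaf 1090560)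 (.leaf 2859034)) (.leaf 1974390))) (.node (.node (.node (.leaf 643072) (.leaf 2444292)) (.node (.leaf 2193408) (.leaf 2276423))) (.node (.node (.leaf 1472512) (.leaf 3278933)) (.leaf 2761728)))) (.node (.node (.node (.node (.leaf 84044) (.leaf 2974769)) (.node (.leaf 2017280) (.leaf 3516494))) (.node (.node (.leaf 1293312) (.leaf 3179530)) (.leaf 2632704))) (.node (.node (.node (.leaf 869376) (.leaf 315474)) (.leaf 2347008)) (.node (.node (.leaf 676935) (.leaf 3461246)) (.leaf 2733179)))))) (.node (.node (.node (.node (.node (.node (.leaf 93184) (.leaf 2071620)) (.node (.leaf 1804288) (.leaf 3351639))) (.node (.node (.leaf 1034240) (.leaf 2985077)) (.leaf 1693808))) (.node (.node (.node (.leaf 587776) (.leaf 3139584)) (.node (.leaf 2157568) (.leaf 3420222))) (.node (.node (.leaf 1428480) (.leaf 404480)) (.leaf 1329186)))) (.node (.node (.node (.node (.leaf 340992) (.leaf 1035378)) (.node (.leaf 1973248) (.leaf 2301007))) (.node (.node (.leaf 1242112) (.leaf 3282992)) (.leaf 598134))) (.node (.node (.node (.leaf 814080) (.leaf 290816)) (.leaf 2308096)) (.node (.node (.leaf 1622016) (.leaf 3191843)) (.leaf 2746473)))))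 (.node (.node (.node (.node (.node (.leaf 217088) (.leaf 3013632)) (.node (.leaf 278553) (.leaf 3137567))) (.node (.node (.leaf 1140736) (.leaf 3325952)) (.leaf 2016363))) (.node (.node (.node (.leaf 703488) (.leaf 2668547)) (.node (.leaf 2229248) (.leaf 3503147))) (.node (.node (.leaf 1527808) (.leaf 1878105)) (.leaf 2796544)))) (.node (.node (.node (.node (.leaf 466944) (.leaf 2979841)) (.node (.leaf 2067456) (.leaf 1011755))) (.node (.node (.leaf 1337344) (.leaf 3393536)) (.leaf 2664448))) (.node (.node (.node (.leaf 926720) (.leaf 689248)) (.leaf 2384896)) (.node (.node (.leaf 1714176) (.leaf 3425379)) (.leaf 2420835)))))))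

def twoMvX114 : Janko.Tree (ℕ) :=
  (.node (.node (.node (.node (.node (.node (.node (.leaf 30720) (.leaf 2932736)) (.node (.leaf 1763328) (.leaf 3363953))) (.node (.node (.leaf 982016) (.leaf 2625539)) (.leaf 1606764))) (.node (.node (.node (.leaf 530432) (.leaf 1267837)) (.node (.leaf 2116608) (.leaf 3275818))) (.node (.node (.leaf 1388544) (.leaf 3408896)) (.leaf 2689024)))) (.node (.node (.node (.node (.leaf 281600) (.leaf 3039232)) (.node (.leaf 1933312) (.leaf 2421878))) (.node (.node (.leaf 1186816) (.leaf 3348480)) (.leaf 2564096))) (.node (.node (.node (.leaf 760832) (.leaf 1742957)) (.leaf 2274304)) (.node (.node (.leaf 429127) (.leaf 3459072)) (.leaf 2827264))))) (.node (.node (.node (.node (.node (.leaf 158720) (.leaf 2145370)) (.node (.leaf 1847296) (.leaf 2667637))) (.node (.node (.leaf 1092608) (.leaf 2830405)) (.leaf 2395256))) (.node (.node (.node (.leaf 645120) (.leaf 3165184)) (.node (.leaf 1850379) (.leaf 1238098))) (.node (.node (.leaf 1474560) (.leaf 2877526)) (.leaf 2762752)))) (.node (.node (.node (.node (.leaf 405504) (.leaf 2532479)) (.node (.leaf 2019328) (.leaf 3328006))) (.node (.node (.leaf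 1295360) (.leaf 3376128)) (.leaf 326743))) (.node (.node (.node (.leaf 871424) (.leaf 2954244)) (.leaf 130048)) (.node (.node (.leaf 644208) (.leaf 2582581)) (.leaf 2851868)))))) (.node (.node (.node (.node (.node (.node (.leaf 1024) (.leaf 1209402)) (.node (.leaf 1805312) (.leaf 1487949))) (.node (.node (.leaf 1036288) (.leaf 1774632)) (.leaf 1368146))) (.node (.node (.node (.leaf 506978) (.leaf 953357)) (.node (.leaf 2158592) (.leaf 3151937))) (.node (.node (.leaf 294953) (.leaf 3333125)) (.leaf 2726912)))) (.node (.node (.node (.node (.leaf 343040) (.leaf 2294794)) (.node (.leaf 1975296) (.leaf 2605117))) (.node (.node (.leaf 1244160) (.leaf 1347664)) (.leaf 2596864))) (.node (.node (.node (.leaf 237597) (.leaf 1432605)) (.leaf 2309120)) (.node (.node (.leaf 1623040) (.leaf 1650764)) (.leaf 2494484))))) (.node (.node (.node (.node (.node (.leaf 219136) (.leaf 1243143)) (.node (.leaf 1861722) (.leaf 3477564))) (.node (.node (.leaf 1142784) (.leaf 360523)) (.leaf 2527232))) (.node (.node (.node (.leaf 705536) (.leaf 3184640)) (.node (.leaf 2230272) (.leaf 2269249))) (.node (.node (.leaf 1528832) (.leaf 3061878)) (.leaf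 2478128)))) (.node (.node (.node (.node (.leaf 468992) (.leaf 2695181)) (.node (.leaf 2069504) (.leaf 2163806))) (.node (.node (.leaf 1338368) (.leaf 2333775)) (.leaf 1766460))) (.node (.node (.node (.leaf 928768) (.leaf 1991782)) (.leaf 2385920)) (.node (.node (.leaf 1716224) (.leaf 3452978)) (.leaf 2507787)))))))

def twoMvX115 : Janko.Tree (ℕ) :=
  (.node (.node (.node (.node (.node (.node (.node (.leaf 32768) (.leaf 342129)) (.node (.leaf 1765376) (.leaf 2376782))) (.node (.node (.leaf 984064) (.leaf 3274752)) (.leaf 1962011))) (.node (.node (.node (.leaf 532480) (.leaf 1812566)) (.node (.leaf 2118656) (.leaf 3540992))) (.node (.node (.leaf 1390592) (.leaf 3409920)) (.leaf 2690048)))) (.node (.node (.node (.node (.leaf 283648) (.leaf 2328703)) (.node (.leaf 1935360) (.leaf 1420383))) (.node (.node (.leaf 1188864) (.leaf 3295244)) (.leaf 2566144))) (.node (.node (.node (.leaf 762880) (.leaf 3203072)) (.leaf 1590307)) (.node (.node (.leaf 875613) (.leaf 3460096)) (.leaf 2828288))))) (.node (.node (.node (.node (.node (.leaf 160768) (.leaf 2987008)) (.node (.leaf 1849344) (.leaf 1829960))) (.node (.node (.leaf 1094656)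 (.leaf 335872)) (.leaf 1976339))) (.node (.node (.node (.leaf 647168) (.leaf 888906)) (.node (.leaf 1634426) (.leaf 1917025))) (.node (.node (.leaf 1476608) (.leaf 1643623)) (.leaf 1704998)))) (.node (.node (.node (.node (.leaf 407552) (.leaf 946244)) (.node (.leaf 2020352) (.leaf 2275406))) (.node (.node (.leaf 820227) (.leaf 368640)) (.leaf 859201))) (.node (.node (.node (.leaf 873472) (.leaf 3240960)) (.leaf 2348032)) (.node (.node (.leaf 73728) (.leaf 3478528)) (.leaf 1031261)))))) (.node (.node (.node (.node (.node (.node (.leaf 96256) (.leaf 1493108)) (.node (.leaf 1807360) (.leaf 1737791))) (.node (.node (.leaf 1038336) (.leaf 3038332)) (.leaf 2456576))) (.node (.node (.node (.leaf 590848) (.leaf 2800755)) (.node (.leaf 2160640) (.leaf 3118160))) (.node (.node (.leaf 60416) (.leaf 3421184)) (.leaf 2728960)))) (.node (.node (.node (.node (.leaf 345088) (.leaf 2196566)) (.node (.leaf 955467) (.leaf 1453114))) (.node (.node (.leaf 1245184) (.leaf 1752156)) (.leaf 2597888))) (.node (.node (.node (.leaf 35884) (.leaf 3027069)) (.leaf 2310144)) (.node (.node (.leaf 1625088) (.leaf 2011231)) (.leaf 2771020))))) (.node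 (.node (.node (.node (.node (.leaf 221184) (.leaf 671835)) (.node (.leaf 1893376) (.leaf 2866180))) (.node (.node (.leaf 969758) (.leaf 1411189)) (.leaf 2529280))) (.node (.node (.node (.leaf 707584) (.leaf 2030633)) (.node (.leaf 1941509) (.leaf 3228750))) (.node (.node (.leaf 1530880) (.leaf 2558048)) (.leaf 2362422)))) (.node (.node (.node (.node (.leaf 471040) (.leaf 2983035)) (.node (.leaf 2070528) (.leaf 2843650))) (.node (.node (.leaf 1340416) (.leaf 3395584)) (.leaf 2666496))) (.node (.node (.node (.leaf 930816) (.leaf 1958919)) (.leaf 833589)) (.node (.node (.leaf 1718272) (.leaf 3251246)) (.leaf 2910208)))))))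

def twoMvX116 : Janko.Tree (ℕ) :=
  (.node (.node (.node (.node (.node (.node (.node (.leaf 34816) (.leaf 1331310)) (.node (.leaf 1676353) (.leaf 518144))) (.node (.node (.leaf 986112) (.leaf 3016788)) (.leaf 163907))) (.node (.node (.node (.leaf 534528) (.leaf 480273)) (.node (.leaf 2115640) (.leaf 2561119))) (.node (.node (.leaf 1392640) (.leaf 3410944)) (.leaf 2692096)))) (.node (.node (.node (.node (.leaf 285696) (.leaf 2883688)) (.node (.leaf 431207) (.leaf 616448))) (.node (.node (.leaf 1190912) (.leaf 1059949)) (.leaf 2318372))) (.node (.node (.node (.leaf 602155) (.leaf 2096139)) (.leaf 2180188)) (.node (.node (.leaf 1577984) (.leaf 2660382)) (.leaf 190464))))) (.node (.node (.node (.node (.node (.leaf 162816) (.leaf 784405)) (.node (.leaf 1851392) (.leaf 3281010))) (.node (.node (.leaf 553048) (.leaf 1796180)) (.leaf 2493440))) (.node (.node (.node (.leaf 649216) (.leaf 3167232)) (.node (.leaf 115712) (.leaf 2237445))) (.node (.node (.leaf 1478656) (.leaf 416768)) (.leaf 2764800)))) (.node (.node (.node (.node (.leaf 409600) (.leaf 3084288)) (.node (.leaf 2022400) (.leaf 816174))) (.node (.node (.leaf 1296384)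 (.leaf 2711591)) (.leaf 2634752))) (.node (.node (.node (.leaf 874496) (.leaf 299008)) (.leaf 2079833)) (.node (.node (.leaf 1671168) (.leaf 2792493)) (.leaf 200704)))))) (.node (.node (.node (.node (.node (.node (.leaf 98304) (.leaf 216064)) (.node (.leaf 1809408) (.leaf 3190805))) (.node (.node (.leaf 1040384) (.leaf 3293184)) (.leaf 1891440))) (.node (.node (.node (.leaf 592896) (.leaf 533554)) (.node (.leaf 2161664) (.leaf 1013822))) (.node (.node (.leaf 1431552) (.leaf 3398768)) (.leaf 2112625)))) (.node (.node (.node (.node (.leaf 347136) (.leaf 2908259)) (.node (.leaf 1978368) (.leaf 725115))) (.node (.node (.leaf 1247232) (.leaf 3178536)) (.leaf 1367071))) (.node (.node (.node (.leaf 818176) (.leaf 3219456)) (.leaf 550920)) (.node (.node (.leaf 1627136) (.leaf 2971774)) (.leaf 1187881))))) (.node (.node (.node (.node (.node (.leaf 222208) (.leaf 2826269)) (.node (.leaf 748574) (.leaf 2928743))) (.node (.node (.leaf 44032) (.leaf 2652218)) (.leaf 2531328))) (.node (.node (.node (.leaf 478214) (.leaf 2735199)) (.node (.leaf 2233344) (.leaf 3077136))) (.node (.node (.leaf 1532928) (.leaf 3422271)) (.leaf 2057330))))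 (.node (.node (.node (.node (.leaf 473088) (.leaf 3106816)) (.node (.leaf 2072576) (.leaf 3529842))) (.node (.node (.leaf 1341440) (.leaf 2586688)) (.leaf 751660))) (.node (.node (.node (.leaf 932864) (.leaf 3256320)) (.leaf 2386944)) (.node (.node (.leaf 517155) (.leaf 2545706)) (.leaf 2775163)))))))

def twoMvX117 : Janko.Tree (ℕ) :=
  (.node (.node (.node (.node (.node (.node (.node (.leaf 36864) (.leaf 2934784)) (.node (.leaf 1768448) (.leaf 3496960))) (.node (.node (.leaf 988160) (.leaf 2568198)) (.leaf 2422784))) (.node (.node (.node (.leaf 536576) (.leaf 948302)) (.node (.leaf 2119680) (.leaf 3378183))) (.node (.node (.leaf 1394688) (.leaf 2751538)) (.leaf 2694144)))) (.node (.node (.node (.node (.leaf 287744) (.leaf 2277382)) (.node (.leaf 210992) (.leaf 2895983))) (.node (.node (.leaf 1192960) (.leaf 2206782)) (.leaf 260203))) (.node (.node (.node (.leaf 764928) (.leaf 3204096)) (.leaf 1902601)) (.node (.node (.leaf 1579008) (.leaf 1280011)) (.leaf 2292778))))) (.node (.node (.node (.node (.node (.leaf 164864) (.leaf 1165375)) (.node (.leaf 88064) (.leaf 3004440))) (.node (.node (.leaf 1096704) (.leaf 1981563))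 (.leaf 2495488))) (.node (.node (.node (.leaf 21504) (.leaf 2434162)) (.node (.leaf 2195456) (.leaf 2824285))) (.node (.node (.leaf 1480704) (.leaf 1051740)) (.leaf 2765824)))) (.node (.node (.node (.node (.leaf 411648) (.leaf 2834461)) (.node (.leaf 2024448) (.leaf 3345444))) (.node (.node (.leaf 815221) (.leaf 3277931)) (.leaf 2636800))) (.node (.node (.node (.leaf 876544) (.leaf 3241984)) (.leaf 2351104)) (.node (.node (.leaf 1672192) (.leaf 2537474)) (.leaf 2884608)))))) (.node (.node (.node (.node (.node (.node (.leaf 100352) (.leaf 1374312)) (.node (.leaf 961654) (.leaf 556154))) (.node (.node (.leaf 1042432) (.leaf 3218525)) (.leaf 2459648))) (.node (.node (.node (.leaf 594944) (.leaf 3142656)) (.node (.leaf 2162688) (.leaf 2964503))) (.node (.node (.leaf 1433600) (.leaf 3423232)) (.leaf 2732032)))) (.node (.node (.node (.node (.leaf 349184) (.leaf 3060736)) (.node (.leaf 1980416) (.leaf 2088980))) (.node (.node (.leaf 1249280) (.leaf 1541209)) (.leaf 2599936))) (.node (.node (.node (.leaf 284685) (.leaf 3018753)) (.leaf 2312192)) (.node (.node (.leaf 1629184) (.leaf 3471360)) (.leaf 446516))))) (.node (.node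 (.node (.node (.node (.leaf 224256) (.leaf 1954936)) (.node (.leaf 1549379) (.leaf 3370098))) (.node (.node (.leaf 589862) (.leaf 2546733)) (.leaf 2533376))) (.node (.node (.node (.leaf 710656) (.leaf 2273316)) (.node (.leaf 2234368) (.leaf 3298369))) (.node (.node (.leaf 1534976) (.leaf 2966542)) (.leaf 2799616)))) (.node (.node (.node (.node (.leaf 475136) (.leaf 1387623)) (.node (.leaf 1516644) (.leaf 2397230))) (.node (.node (.leaf 1342464) (.leaf 529458)) (.leaf 1997930))) (.node (.node (.node (.leaf 934912) (.leaf 2000937)) (.leaf 2388992)) (.node (.node (.leaf 1721344) (.leaf 500736)) (.leaf 2548850)))))))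

def twoMvX118 : Janko.Tree (ℕ) :=
  (.node (.node (.node (.node (.node (.node (.node (.leaf 38912) (.leaf 286747)) (.node (.leaf 1770496) (.leaf 3198978))) (.node (.node (.leaf 990208) (.leaf 2472056)) (.leaf 2424832))) (.node (.node (.node (.leaf 538624) (.leaf 346236)) (.node (.leaf 1353838) (.leaf 3542016))) (.node (.node (.leaf 1396736) (.leaf 881738)) (.leaf 2696192)))) (.node (.node (.node (.node (.leaf 289792) (.leaf 2399288)) (.node (.leaf 697390) (.leaf 3149946))) (.node (.node (.leaf 1195008) (.leaf 3336218)) (.leaf 2105375))) (.node (.node (.node (.leaf 766976) (.leaf 2579582)) (.leaf 2278400)) (.node (.node (.leaf 1581056) (.leaf 2042968)) (.leaf 2829312))))) (.node (.node (.node (.node (.node (.leaf 166912) (.leaf 2098222)) (.node (.leaf 466045) (.leaf 3515392))) (.node (.node (.leaf 1098752) (.leaf 1479788)) (.leaf 2496512))) (.node (.node (.node (.leaf 652288) (.leaf 3169280)) (.node (.leaf 1469514) (.leaf 1298528))) (.node (.node (.leaf 1482752) (.leaf 807951)) (.leaf 1401913)))) (.node (.node (.node (.node (.leaf 413696) (.leaf 2945061)) (.node (.leaf 101376) (.leaf 3170426))) (.node (.node (.leaf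 1299456) (.leaf 370688)) (.leaf 1719385))) (.node (.node (.node (.leaf 878592) (.leaf 1504323)) (.leaf 2353152)) (.node (.node (.leaf 1327213) (.leaf 572455)) (.leaf 860262)))))) (.node (.node (.node (.node (.node (.node (.leaf 102400) (.leaf 2965504)) (.node (.leaf 1811456) (.leaf 3504128))) (.node (.node (.leaf 810069) (.leaf 2497623)) (.leaf 2313305))) (.node (.node (.node (.leaf 596992) (.leaf 3143680)) (.node (.leaf 1996923) (.leaf 1592363))) (.node (.node (.leaf 1434624) (.leaf 406528)) (.leaf 2734080)))) (.node (.node (.node (.node (.leaf 351232) (.leaf 2790428)) (.node (.leaf 1982464) (.leaf 3407989))) (.node (.node (.leaf 1251328) (.leaf 502831)) (.leaf 2460766))) (.node (.node (.node (.leaf 821248) (.leaf 1248261)) (.leaf 1345610)) (.node (.node (.leaf 1631232) (.leaf 3222623)) (.leaf 1814623))))) (.node (.node (.node (.node (.node (.leaf 226304) (.leaf 733223)) (.node (.leaf 1895424) (.leaf 3000422))) (.node (.node (.leaf 1146880) (.leaf 2959379)) (.leaf 2534400))) (.node (.node (.node (.leaf 712704) (.leaf 2286678)) (.node (.leaf 2236416) (.leaf 1817667))) (.node (.node (.leaf 65536) (.leaf 1430637)) (.leaf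 1046639)))) (.node (.node (.node (.node (.leaf 477184) (.leaf 3108864)) (.node (.leaf 2074624) (.leaf 1771571))) (.node (.node (.leaf 750701) (.leaf 1157226)) (.leaf 883784))) (.node (.node (.node (.leaf 936960) (.leaf 3100691)) (.leaf 2390016)) (.node (.node (.leaf 1109033) (.leaf 3394629)) (.leaf 831524)))))))

def twoMvX119 : Janko.Tree (ℕ) :=
  (.node (.node (.node (.node (.node (.node (.node (.leaf 40960) (.leaf 943116)) (.node (.leaf 1211464) (.leaf 3254336))) (.node (.node (.leaf 992256) (.leaf 1357915)) (.leaf 2425856))) (.node (.node (.node (.leaf 441448) (.leaf 575526)) (.node (.leaf 2121728) (.leaf 1384448))) (.node (.node (.leaf 1398784) (.leaf 391168)) (.leaf 2697216)))) (.node (.node (.node (.node (.leaf 291840) (.leaf 3042304)) (.node (.leaf 1937408) (.leaf 3494994))) (.node (.node (.leaf 1197056) (.leaf 1577078)) (.leaf 853106))) (.node (.node (.node (.leaf 769024) (.leaf 2563180)) (.leaf 2279424)) (.node (.node (.leaf 1583104) (.leaf 877641)) (.leaf 1168440))))) (.node (.node (.node (.node (.node (.leaf 167936) (.leaf 2988032)) (.node (.leaf 348170) (.leaf 1584199))) (.node (.node (.leaf 1099776) (.leaf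 3309568)) (.leaf 1748029))) (.node (.node (.node (.leaf 654336) (.leaf 882794)) (.node (.leaf 2197504) (.leaf 3381317))) (.node (.node (.leaf 1484800) (.leaf 1498233)) (.leaf 183296)))) (.node (.node (.node (.node (.leaf 415744) (.leaf 1123453)) (.node (.leaf 2026496) (.leaf 3402761))) (.node (.node (.leaf 738377) (.leaf 1509492)) (.leaf 1913885))) (.node (.node (.node (.leaf 880640) (.leaf 3243008)) (.leaf 2355200)) (.node (.node (.leaf 1675264) (.leaf 1870941)) (.leaf 452635)))))) (.node (.node (.node (.node (.node (.node (.leaf 104448) (.leaf 581740)) (.node (.leaf 1813504) (.leaf 1326081))) (.node (.node (.leaf 1045504) (.leaf 672821)) (.leaf 2461696))) (.node (.node (.node (.leaf 599040) (.leaf 1189928)) (.node (.leaf 2164736) (.leaf 1002497))) (.node (.node (.leaf 1436672) (.leaf 1617001)) (.leaf 2736128)))) (.node (.node (.node (.node (.leaf 353280) (.leaf 1876034)) (.node (.leaf 1984512) (.leaf 2631731))) (.node (.node (.leaf 1253376) (.leaf 872478)) (.leaf 2403405))) (.node (.node (.node (.leaf 309352) (.leaf 2862194)) (.leaf 2315264)) (.node (.node (.leaf 1633280) (.leaf 3472384)) (.leaf 2857984))))) (.node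 (.node (.node (.node (.node (.leaf 228352) (.leaf 2451512)) (.node (.leaf 1178651) (.leaf 2622550))) (.node (.node (.leaf 1148928) (.leaf 1597488)) (.leaf 2536448))) (.node (.node (.node (.leaf 307315) (.leaf 2591757)) (.node (.leaf 2238464) (.leaf 1147904))) (.node (.node (.leaf 1057845) (.leaf 3132459)) (.leaf 2633773)))) (.node (.node (.node (.node (.leaf 479232) (.leaf 2213894)) (.node (.leaf 1722488) (.leaf 922693))) (.node (.node (.leaf 188436) (.leaf 2295849)) (.leaf 2021381))) (.node (.node (.node (.leaf 939008) (.leaf 2766913)) (.leaf 2391040)) (.node (.node (.leaf 1723392) (.leaf 3486720)) (.leaf 2913280)))))))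

def twoMvX120 : Janko.Tree (ℕ) :=
  (.node (.node (.node (.node (.node (.node (.node (.leaf 43008) (.leaf 2097194)) (.node (.leaf 1772544) (.leaf 2542710))) (.node (.node (.leaf 994304) (.leaf 3276800)) (.leaf 1769559))) (.node (.node (.node (.leaf 541696) (.leaf 3126272)) (.node (.leaf 2123776) (.leaf 2369604))) (.node (.node (.leaf 933888) (.leaf 1416270)) (.leaf 2699264)))) (.node (.node (.node (.node (.leaf 293888) (.leaf 657411)) (.node (.leaf 1939456) (.leaf 3037222))) (.node (.node (.leaf 1199104) (.leaf 2210875)) (.leaf 2570240))) (.node (.node (.node (.leaf 771072) (.leaf 2165866)) (.leaf 2281472)) (.node (.node (.leaf 1585152) (.leaf 3105824)) (.leaf 2831360))))) (.node (.node (.node (.node (.node (.leaf 169984) (.leaf 1892390)) (.node (.leaf 1855488) (.leaf 1300484))) (.node (.node (.leaf 1101824) (.leaf 2465793)) (.leaf 2498560))) (.node (.node (.node (.leaf 656384) (.leaf 511005)) (.node (.leaf 1224759) (.leaf 2853964))) (.node (.node (.leaf 1486848) (.leaf 1881094)) (.leaf 2768896)))) (.node (.node (.node (.node (.leaf 417792) (.leaf 3064948)) (.node (.leaf 2027520) (.leaf 2896958))) (.node (.node (.leaf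 490582) (.leaf 3101733)) (.leaf 2640896))) (.node (.node (.node (.leaf 667738) (.leaf 2808928)) (.leaf 1468462)) (.node (.node (.leaf 1677312) (.leaf 1422418)) (.leaf 1055777)))))) (.node (.node (.node (.node (.node (.node (.leaf 106496) (.leaf 2068568)) (.node (.leaf 1815552) (.leaf 3163184))) (.node (.node (.leaf 1047552) (.leaf 835639)) (.leaf 2462720))) (.node (.node (.node (.leaf 601088) (.leaf 1467517)) (.node (.leaf 2166784) (.leaf 2933886))) (.node (.node (.leaf 1438720) (.leaf 3288072)) (.leaf 2737152)))) (.node (.node (.node (.node (.leaf 355328) (.leaf 241664)) (.node (.leaf 844848) (.leaf 3164217))) (.node (.node (.leaf 1255424) (.leaf 2701369)) (.leaf 2603008))) (.node (.node (.node (.leaf 824320) (.leaf 3221504)) (.leaf 2317312)) (.node (.node (.leaf 1635328) (.leaf 972813)) (.leaf 2860032))))) (.node (.node (.node (.node (.node (.leaf 230400) (.leaf 1570818)) (.node (.leaf 92160) (.leaf 2864243))) (.node (.node (.leaf 1073259) (.leaf 3331072)) (.leaf 2152556))) (.node (.node (.node (.leaf 715776) (.leaf 2722898)) (.node (.leaf 2239488) (.leaf 3470347))) (.node (.node (.leaf 1538048) (.leaf 1943665)) (.leaf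 2082817)))) (.node (.node (.node (.node (.leaf 481280) (.leaf 3109888)) (.node (.leaf 2077696) (.leaf 3329074))) (.node (.node (.leaf 1346560) (.leaf 3397632)) (.leaf 2670592))) (.node (.node (.node (.leaf 33792) (.leaf 498688)) (.leaf 2228312)) (.node (.node (.leaf 1725440) (.leaf 1537078)) (.leaf 665656)))))))

def twoMvX121 : Janko.Tree (ℕ) :=
  (.node (.node (.node (.node (.node (.node (.node (.leaf 45056) (.leaf 2013230)) (.node (.leaf 1773568) (.leaf 1406044))) (.node (.node (.leaf 995328) (.leaf 3088438)) (.leaf 2427904))) (.node (.node (.node (.leaf 543744) (.leaf 258048)) (.node (.leaf 2125824) (.leaf 1355776))) (.node (.node (.leaf 1399808) (.leaf 1754124)) (.leaf 1586277)))) (.node (.node (.node (.node (.leaf 295936) (.leaf 2452525)) (.node (.leaf 1940480) (.leaf 3058770))) (.node (.node (.leaf 1201152) (.leaf 3352576)) (.leaf 2572288))) (.node (.node (.node (.leaf 773120) (.leaf 2970744)) (.leaf 925777)) (.node (.node (.leaf 1587200) (.leaf 2260036)) (.leaf 2833408))))) (.node (.node (.node (.node (.node (.leaf 172032) (.leaf 389153)) (.node (.leaf 1857536) (.leaf 3156026))) (.node (.node (.leaf 86117) (.leaf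 3311616)) (.leaf 1200200))) (.node (.node (.node (.leaf 658432) (.leaf 3171328)) (.node (.leaf 2200576) (.leaf 1544282))) (.node (.node (.leaf 1463353) (.leaf 3413091)) (.leaf 2769920)))) (.node (.node (.node (.node (.leaf 419840) (.leaf 247808)) (.node (.leaf 2029568) (.leaf 2324604))) (.node (.node (.leaf 1301504) (.leaf 2335795)) (.leaf 2569298))) (.node (.node (.node (.leaf 496657) (.leaf 1311838)) (.leaf 1473590)) (.node (.node (.leaf 1679360) (.leaf 3371026)) (.leaf 2886656)))))) (.node (.node (.node (.node (.node (.node (.leaf 108544) (.leaf 1500192)) (.node (.leaf 331891) (.leaf 3257347))) (.node (.node (.leaf 1049600) (.leaf 2960424)) (.leaf 142336))) (.node (.node (.node (.leaf 513148) (.leaf 3146752)) (.node (.leaf 792642) (.leaf 2639885))) (.node (.node (.leaf 1439744) (.leaf 408576)) (.leaf 855078)))) (.node (.node (.node (.node (.leaf 357376) (.leaf 3063808)) (.node (.leaf 1987584) (.leaf 1834109))) (.node (.node (.leaf 1143831) (.leaf 2704460)) (.leaf 1531961))) (.node (.node (.node (.leaf 826368) (.leaf 1700866)) (.leaf 1395805)) (.node (.node (.leaf 71680) (.leaf 1174535)) (.leaf 2861056))))) (.node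 (.node (.node (.node (.node (.leaf 232448) (.leaf 3019776)) (.node (.leaf 1826845) (.leaf 3519488))) (.node (.node (.leaf 1152000) (.leaf 1514610)) (.leaf 2538496))) (.node (.node (.node (.leaf 717824) (.leaf 1229899)) (.node (.leaf 2241536) (.leaf 3096661))) (.node (.node (.leaf 1540096) (.leaf 3153944)) (.leaf 1757184)))) (.node (.node (.node (.node (.leaf 483328) (.leaf 3110912)) (.node (.leaf 2063454) (.leaf 1910785))) (.node (.node (.leaf 1348608) (.leaf 3399680)) (.leaf 2671616))) (.node (.node (.node (.leaf 941056) (.leaf 2887775)) (.leaf 2392064)) (.node (.node (.leaf 1727488) (.leaf 3217527)) (.leaf 1495102)))))))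

def twoMvX122 : Janko.Tree (ℕ) :=
  (.node (.node (.node (.node (.node (.node (.node (.leaf 47104) (.leaf 2744342)) (.node (.leaf 1775616) (.leaf 3022867))) (.node (.node (.leaf 996352) (.leaf 2991220)) (.leaf 2428928))) (.node (.node (.node (.leaf 545792) (.leaf 2931712)) (.node (.leaf 2127872) (.leaf 2106447))) (.node (.node (.leaf 58368) (.leaf 1265729)) (.leaf 2702336)))) (.node (.node (.node (.node (.leaf 297984) (.leaf 1733673)) (.node (.leaf 95232) (.leaf 3524608))) (.node (.node (.leaf 1202176) (.leaf 1938534)) (.leaf 2101294))) (.node (.node (.node (.leaf 775168) (.leaf 3207168)) (.leaf 1873016)) (.node (.node (.leaf 1029136) (.leaf 1381493)) (.leaf 1064028))))) (.node (.node (.node (.node (.node (.leaf 174080) (.leaf 2676779)) (.node (.leaf 1858560) (.leaf 2521111))) (.node (.node (.leaf 1103872) (.leaf 3312640)) (.leaf 2501632))) (.node (.node (.node (.leaf 660480) (.leaf 2942066)) (.node (.leaf 1810454) (.leaf 3483744))) (.node (.node (.leaf 63488) (.leaf 3435520)) (.leaf 2458729)))) (.node (.node (.node (.node (.leaf 421888) (.leaf 938020)) (.node (.leaf 504845) (.leaf 3375221))) (.node (.node (.leaf 1302528)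 (.leaf 2647041)) (.leaf 857185))) (.node (.node (.node (.leaf 884736) (.leaf 3188760)) (.leaf 1779769)) (.node (.node (.leaf 1681408) (.leaf 3480576)) (.leaf 2467858)))))) (.node (.node (.node (.node (.node (.node (.leaf 110592) (.leaf 2968576)) (.node (.leaf 1246280) (.leaf 2090032))) (.node (.node (.leaf 698443) (.leaf 3297280)) (.leaf 418819))) (.node (.node (.node (.leaf 19456) (.leaf 460911)) (.node (.leaf 1726547) (.leaf 3454017))) (.node (.node (.leaf 788554) (.leaf 3272799)) (.leaf 2739200)))) (.node (.node (.node (.node (.leaf 359424) (.leaf 2363454)) (.node (.leaf 999528) (.leaf 3390564))) (.node (.node (.leaf 50176) (.leaf 3366912)) (.leaf 2606080))) (.node (.node (.node (.leaf 828416) (.leaf 3223552)) (.leaf 2320384)) (.node (.node (.leaf 1636352) (.leaf 2553870)) (.leaf 2863104))))) (.node (.node (.node (.node (.node (.leaf 234496) (.leaf 3021824)) (.node (.leaf 1899520) (.leaf 2005004))) (.node (.node (.leaf 1154048) (.leaf 3332096)) (.leaf 2540544))) (.node (.node (.node (.leaf 719872) (.leaf 2962462)) (.node (.leaf 2242560) (.leaf 2282560))) (.node (.node (.leaf 1542144) (.leaf 3446784)) (.leaf 2801664))))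 (.node (.node (.node (.node (.leaf 485376) (.leaf 3111936)) (.node (.leaf 2078720) (.leaf 2574434))) (.node (.node (.leaf 320612) (.leaf 3166289)) (.leaf 2280540))) (.node (.node (.node (.leaf 233487) (.leaf 318589)) (.leaf 2394112)) (.node (.node (.leaf 1506353) (.leaf 638004)) (.leaf 2130968)))))))

def twoMvX123 : Janko.Tree (ℕ) :=
  (.node (.node (.node (.node (.node (.node (.node (.leaf 49152) (.leaf 2936832)) (.node (.leaf 1728557) (.leaf 2406486))) (.node (.node (.leaf 998400) (.leaf 713758)) (.leaf 2429952))) (.node (.node (.node (.leaf 547840) (.leaf 2159727)) (.node (.leaf 2129920) (.leaf 770048))) (.node (.node (.leaf 1402880) (.leaf 3415040)) (.leaf 1153120)))) (.node (.node (.node (.node (.leaf 300032) (.leaf 950274)) (.node (.leaf 1942528) (.leaf 627712))) (.node (.node (.leaf 1204224) (.leaf 3353600)) (.leaf 2575360))) (.node (.node (.node (.leaf 777216) (.leaf 2388027)) (.leaf 2284544)) (.node (.node (.leaf 1589248) (.leaf 827461)) (.leaf 2135048))))) (.node (.node (.node (.node (.node (.leaf 176128) (.leaf 2992128)) (.node (.leaf 1860608) (.leaf 1854486))) (.node (.node (.leaf 1104896) (.leaf 3220484))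 (.leaf 711726))) (.node (.node (.node (.leaf 662528) (.leaf 898055)) (.node (.leaf 2202624) (.leaf 3330145))) (.node (.node (.leaf 136285) (.leaf 2893854)) (.leaf 1226862)))) (.node (.node (.node (.node (.leaf 423936) (.leaf 744573)) (.node (.leaf 2032640) (.leaf 3489833))) (.node (.node (.leaf 1304576) (.leaf 3086358)) (.leaf 387156))) (.node (.node (.node (.leaf 886784) (.leaf 3245056)) (.leaf 2357248)) (.node (.node (.leaf 1682432) (.leaf 3481600)) (.leaf 1785907)))))) (.node (.node (.node (.node (.node (.node (.leaf 112640) (.leaf 2969600)) (.node (.leaf 1136665) (.leaf 2480133))) (.node (.node (.leaf 1052672) (.leaf 2491478)) (.leaf 2025505))) (.node (.node (.node (.leaf 605184) (.leaf 265216)) (.node (.leaf 1848439) (.leaf 3520538))) (.node (.node (.leaf 1441792) (.leaf 1323051)) (.leaf 2741248)))) (.node (.node (.node (.node (.leaf 361472) (.leaf 2914366)) (.node (.leaf 1990656) (.leaf 2728003))) (.node (.node (.leaf 1257472) (.leaf 2033783)) (.leaf 379955))) (.node (.node (.node (.leaf 830464) (.leaf 2869296)) (.leaf 2059375)) (.node (.node (.leaf 929825) (.leaf 2555989)) (.leaf 2865152))))) (.node (.node (.node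 (.node (.node (.leaf 236544) (.leaf 1977364)) (.node (.leaf 631844) (.leaf 2721896))) (.node (.node (.leaf 1156096) (.leaf 1446943)) (.leaf 1205367))) (.node (.node (.node (.leaf 721920) (.leaf 893969)) (.node (.leaf 2243584) (.leaf 1821813))) (.node (.node (.leaf 1097847) (.leaf 3447808)) (.leaf 1264647)))) (.node (.node (.node (.node (.leaf 487424) (.leaf 3112960)) (.node (.leaf 2080768) (.leaf 756833))) (.node (.node (.leaf 1350656) (.leaf 3400704)) (.leaf 1275003))) (.node (.node (.node (.leaf 944128) (.leaf 1315884)) (.leaf 2396160)) (.node (.node (.leaf 1729536) (.leaf 3183637)) (.leaf 2915328)))))))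

def twoMvX124 : Janko.Tree (ℕ) :=
  (.node (.node (.node (.node (.node (.node (.node (.leaf 51200) (.leaf 2937856)) (.node (.leaf 1778688) (.leaf 3002381))) (.node (.node (.leaf 1000448) (.leaf 1003546)) (.leaf 2430976))) (.node (.node (.node (.leaf 549888) (.leaf 1972327)) (.node (.leaf 2131968) (.leaf 1686577))) (.node (.node (.leaf 1404928) (.leaf 2947191)) (.leaf 1689652)))) (.node (.node (.node (.node (.leaf 302080) (.leaf 3045376)) (.node (.leaf 1944576) (.leaf 629760))) (.node (.node (.leaf 1206272) (.leaf 3355648)) (.leaf 2577408))) (.node (.node (.node (.leaf 779264) (.leaf 2567221)) (.leaf 1735709)) (.node (.node (.leaf 227435) (.leaf 2674725)) (.leaf 799859))))) (.node (.node (.node (.node (.node (.leaf 178176) (.leaf 223232)) (.node (.leaf 1862656) (.leaf 2299954))) (.node (.node (.leaf 456813) (.leaf 1475594)) (.leaf 1966104))) (.node (.node (.node (.leaf 664576) (.leaf 2938933)) (.node (.leaf 2204672) (.leaf 3505265))) (.node (.node (.leaf 1490944) (.leaf 3436544)) (.leaf 2405436)))) (.node (.node (.node (.node (.leaf 425984) (.leaf 3006508)) (.node (.leaf 2034688) (.leaf 2122778))) (.node (.node (.leaf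 1306624) (.leaf 3379200)) (.leaf 570461))) (.node (.node (.node (.leaf 31744) (.leaf 3246080)) (.leaf 2359296)) (.node (.node (.leaf 1684480) (.leaf 2054236)) (.leaf 2889728)))))) (.node (.node (.node (.node (.node (.node (.leaf 114688) (.leaf 1599539)) (.node (.leaf 1524775) (.leaf 2266121))) (.node (.node (.leaf 1053696) (.leaf 399448)) (.leaf 1824844))) (.node (.node (.node (.leaf 607232) (.leaf 350212)) (.node (.leaf 1118215) (.leaf 3263504))) (.node (.node (.leaf 1443840) (.leaf 847932)) (.leaf 2502693)))) (.node (.node (.node (.node (.leaf 363520) (.leaf 3066880)) (.node (.leaf 768032) (.leaf 1952851))) (.node (.node (.leaf 1259520) (.leaf 3367936)) (.leaf 2608128))) (.node (.node (.node (.leaf 832512) (.leaf 292864)) (.leaf 2323456)) (.node (.node (.leaf 1144900) (.leaf 2787344)) (.leaf 2867200))))) (.node (.node (.node (.node (.node (.leaf 238592) (.leaf 1593359)) (.node (.leaf 1901568) (.leaf 1985639))) (.node (.node (.leaf 555086) (.leaf 1697877)) (.leaf 700538))) (.node (.node (.node (.leaf 723968) (.leaf 2141188)) (.node (.leaf 1282075) (.leaf 1789036))) (.node (.node (.leaf 1081456) (.leaf 3384368)) (.leaf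 2803712)))) (.node (.node (.node (.node (.leaf 489472) (.leaf 2298943)) (.node (.leaf 105472) (.leaf 3036187))) (.node (.node (.leaf 1352704) (.leaf 2222171)) (.leaf 2627687))) (.node (.node (.node (.leaf 661526) (.leaf 1155151)) (.leaf 2398208)) (.node (.node (.leaf 1731584) (.leaf 2672671)) (.leaf 2916352)))))))

def twoMvX125 : Janko.Tree (ℕ) :=
  (.node (.node (.node (.node (.node (.node (.node (.leaf 53248) (.leaf 1216538)) (.node (.leaf 1780736) (.leaf 1444944))) (.node (.node (.leaf 1001472) (.leaf 3041287)) (.leaf 2433024))) (.node (.node (.node (.leaf 551936) (.leaf 2609152)) (.node (.leaf 2132992) (.leaf 3081228))) (.node (.node (.leaf 1406976) (.leaf 2592797)) (.leaf 2705408)))) (.node (.node (.node (.node (.leaf 157822) (.leaf 2613287)) (.node (.leaf 879683) (.leaf 2176030))) (.node (.node (.leaf 1208320) (.leaf 2637855)) (.leaf 472172))) (.node (.node (.node (.leaf 781312) (.leaf 3208192)) (.leaf 2285568)) (.node (.node (.leaf 1591296) (.leaf 3051538)) (.leaf 2212918))))) (.node (.node (.node (.node (.node (.leaf 179200) (.leaf 2993152)) (.node (.leaf 1864704) (.leaf 3468305))) (.node (.node (.leaf 134250)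 (.leaf 1121368)) (.leaf 2339936))) (.node (.node (.node (.leaf 666624) (.leaf 2925606)) (.node (.leaf 2205696) (.leaf 3546154))) (.node (.node (.leaf 1491968) (.leaf 2804838)) (.leaf 2771968)))) (.node (.node (.node (.node (.leaf 428032) (.leaf 3087360)) (.node (.leaf 2035712) (.leaf 965681))) (.node (.node (.leaf 1307648) (.leaf 2463826)) (.leaf 213102))) (.node (.node (.node (.leaf 444464) (.leaf 303187)) (.leaf 395277)) (.node (.node (.leaf 1685504) (.leaf 3366006)) (.leaf 2891776)))))) (.node (.node (.node (.node (.node (.node (.leaf 116736) (.leaf 2842650)) (.node (.leaf 1820672) (.leaf 3231833))) (.node (.node (.leaf 1054720) (.leaf 3244095)) (.leaf 2468864))) (.node (.node (.node (.leaf 609280) (.leaf 1709182)) (.node (.leaf 2171904) (.leaf 1145873))) (.node (.node (.leaf 1445888) (.leaf 3426304)) (.leaf 2743296)))) (.node (.node (.node (.node (.leaf 365568) (.leaf 3067904)) (.node (.leaf 1576018) (.leaf 3181605))) (.node (.node (.leaf 603189) (.leaf 803856)) (.leaf 2259016))) (.node (.node (.node (.leaf 834560) (.leaf 397345)) (.leaf 1344563)) (.node (.node (.leaf 1207315) (.leaf 1645628)) (.leaf 1562734)))))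 (.node (.node (.node (.node (.node (.leaf 240640) (.leaf 1512560)) (.node (.leaf 1903616) (.leaf 3510278))) (.node (.node (.leaf 1159168) (.leaf 1458272)) (.leaf 150528))) (.node (.node (.node (.leaf 726016) (.leaf 3189760)) (.node (.leaf 427121) (.leaf 3267585))) (.node (.node (.leaf 1546240) (.leaf 2169868)) (.leaf 2805760)))) (.node (.node (.node (.node (.leaf 491520) (.leaf 3070014)) (.node (.leaf 2083840) (.leaf 718848))) (.node (.node (.leaf 1354752) (.leaf 384000)) (.leaf 1859642))) (.node (.node (.node (.leaf 947200) (.leaf 3260416)) (.leaf 2400256)) (.node (.node (.leaf 819244) (.leaf 904273)) (.leaf 2100287)))))))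

def twoMvX126 : Janko.Tree (ℕ) :=
  (.node (.node (.node (.node (.node (.node (.node (.leaf 55296) (.leaf 2939904)) (.node (.leaf 537635) (.leaf 3314788))) (.node (.node (.leaf 623643) (.leaf 3182709)) (.leaf 2435072))) (.node (.node (.node (.leaf 553984) (.leaf 565261)) (.node (.leaf 109568) (.leaf 3544064))) (.node (.node (.leaf 1408000) (.leaf 3416064)) (.leaf 2706432)))) (.node (.node (.node (.node (.leaf 304128) (.leaf 2685972)) (.node (.leaf 1886226) (.leaf 2806872))) (.node (.node (.leaf 797770) (.leaf 3172402)) (.leaf 2580480))) (.node (.node (.node (.leaf 783360) (.leaf 3209216)) (.leaf 2287616)) (.node (.node (.leaf 1437718) (.leaf 1361952)) (.leaf 2835456))))) (.node (.node (.node (.node (.node (.leaf 180224) (.leaf 1321013)) (.node (.leaf 1865728) (.leaf 1191999))) (.node (.node (.leaf 1107968) (.leaf 3315712)) (.leaf 2505728))) (.node (.node (.node (.leaf 668672) (.leaf 659527)) (.node (.leaf 2207744) (.leaf 3104803))) (.node (.node (.leaf 1494016) (.leaf 3054660)) (.leaf 2772992)))) (.node (.node (.node (.node (.leaf 430080) (.leaf 376886)) (.node (.leaf 2037760) (.leaf 2170939))) (.node (.node (.leaf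 1309696) (.leaf 3380224)) (.leaf 1376312))) (.node (.node (.node (.leaf 890880) (.leaf 1657959)) (.leaf 1083447)) (.node (.node (.leaf 759893) (.leaf 735332)) (.leaf 2506822)))))) (.node (.node (.node (.node (.node (.node (.leaf 118784) (.leaf 2972672)) (.node (.leaf 1822720) (.leaf 3508224))) (.node (.node (.leaf 1056768) (.leaf 2271259)) (.leaf 2469888))) (.node (.node (.node (.leaf 107531) (.leaf 1567860)) (.node (.leaf 2172928) (.leaf 1485929))) (.node (.node (.leaf 1447936) (.leaf 410624)) (.leaf 2248807)))) (.node (.node (.node (.node (.leaf 367616) (.leaf 2448432)) (.node (.leaf 1993728) (.leaf 3083332))) (.node (.node (.leaf 1261568) (.leaf 3206264)) (.leaf 2610176))) (.node (.node (.node (.leaf 836608) (.leaf 2949164)) (.leaf 1601652)) (.node (.node (.leaf 1640448) (.leaf 3085327)) (.leaf 2868224))))) (.node (.node (.node (.node (.node (.leaf 242688) (.leaf 3024896)) (.node (.leaf 1904640) (.leaf 1018975))) (.node (.node (.leaf 1160192) (.leaf 2283530)) (.leaf 761903))) (.node (.node (.node (.leaf 727040) (.leaf 2588793)) (.node (.leaf 2247680) (.leaf 1580049))) (.node (.node (.leaf 604251) (.leaf 2967567))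 (.leaf 2715746)))) (.node (.node (.node (.node (.leaf 493568) (.leaf 3115008)) (.node (.leaf 2085888) (.leaf 3266616))) (.node (.node (.leaf 1356800) (.leaf 1949807)) (.leaf 887935))) (.node (.node (.node (.leaf 949248) (.leaf 3261440)) (.leaf 1777732)) (.node (.node (.leaf 1734656) (.leaf 704631)) (.leaf 2917376)))))))

def twoMvX127 : Janko.Tree (ℕ) :=
  (.node (.node (.node (.node (.node (.node (.node (.leaf 57344) (.leaf 2607141)) (.node (.leaf 1781760) (.leaf 1706005))) (.node (.node (.leaf 1004544) (.leaf 911419)) (.leaf 2436096))) (.node (.node (.node (.leaf 17408) (.leaf 3128320)) (.node (.leaf 579599) (.leaf 3528743))) (.node (.node (.leaf 870419) (.leaf 825347)) (.leaf 2707456)))) (.node (.node (.node (.node (.leaf 306176) (.leaf 3047424)) (.node (.leaf 1759251) (.leaf 891990))) (.node (.node (.leaf 1210368) (.leaf 2446355)) (.leaf 154624))) (.node (.node (.node (.leaf 785408) (.leaf 393333)) (.leaf 2289664)) (.node (.node (.leaf 1594368) (.leaf 3057670)) (.leaf 2836480))))) (.node (.node (.node (.node (.node (.leaf 182272) (.leaf 1632325)) (.node (.leaf 927766) (.leaf 3210319))) (.node (.node (.leaf 1110016)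 (.leaf 1284221)) (.leaf 2321514))) (.node (.node (.node (.leaf 670720) (.leaf 3173376)) (.node (.leaf 691306) (.leaf 3445781))) (.node (.node (.leaf 1314892) (.leaf 2168906)) (.leaf 2774016)))) (.node (.node (.node (.node (.leaf 432128) (.leaf 2192468)) (.node (.leaf 2038784) (.leaf 1816662))) (.node (.node (.leaf 1310720) (.leaf 2288728)) (.leaf 354339))) (.node (.node (.node (.leaf 892928) (.leaf 2050159)) (.leaf 889927)) (.node (.node (.leaf 1648663) (.leaf 2557047)) (.leaf 1691729)))))) (.node (.node (.node (.node (.node (.node (.leaf 120832) (.leaf 2973696)) (.node (.leaf 1615972) (.leaf 840756))) (.node (.node (.leaf 1058816) (.leaf 1868888)) (.leaf 2401336))) (.node (.node (.node (.leaf 611328) (.leaf 3150848)) (.node (.leaf 2076710) (.leaf 1305648))) (.node (.node (.leaf 1442911) (.leaf 448513)) (.leaf 2745344)))) (.node (.node (.node (.node (.leaf 369664) (.leaf 2541692)) (.node (.leaf 1994752) (.leaf 1292321))) (.node (.node (.leaf 1263616) (.leaf 2629684)) (.leaf 2612224))) (.node (.node (.node (.leaf 269433) (.leaf 2249741)) (.leaf 2325504)) (.node (.node (.leaf 1642496) (.leaf 3473408)) (.leaf 838726)))))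 (.node (.node (.node (.node (.node (.leaf 244736) (.leaf 2526264)) (.node (.leaf 1906688) (.leaf 3412080))) (.node (.node (.leaf 1162240) (.leaf 1043458)) (.leaf 2544640))) (.node (.node (.node (.leaf 709749) (.leaf 3192832)) (.node (.leaf 1956881) (.leaf 2379825))) (.node (.node (.leaf 1548288) (.leaf 3448832)) (.leaf 2807808)))) (.node (.node (.node (.node (.leaf 495616) (.leaf 2103421)) (.node (.leaf 2087936) (.leaf 3527802))) (.node (.node (.leaf 1358848) (.leaf 3092486)) (.leaf 1050720))) (.node (.node (.node (.leaf 951296) (.leaf 2049026)) (.leaf 2316388)) (.node (.node (.leaf 1736704) (.leaf 2719763)) (.leaf 1093634)))))))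

def twoMvX128 : Janko.Tree (ℕ) :=
  (.node (.node (.node (.node (.node (.node (.node (.leaf 59392) (.leaf 1536055)) (.node (.leaf 1782784) (.leaf 1819677))) (.node (.node (.leaf 1006592) (.leaf 1308745)) (.leaf 2438144))) (.node (.node (.node (.leaf 557056) (.leaf 1316975)) (.node (.leaf 1983553) (.leaf 780288))) (.node (.node (.leaf 648290) (.leaf 2763890)) (.leaf 2383942)))) (.node (.node (.node (.node (.leaf 308224) (.leaf 1840214)) (.node (.leaf 424965) (.leaf 3523626))) (.node (.node (.leaf 1212416) (.leaf 3356672)) (.leaf 2311200))) (.node (.node (.node (.leaf 787456) (.leaf 1912881)) (.leaf 2290688)) (.node (.node (.leaf 1595392) (.leaf 1946703)) (.leaf 2524215))))) (.node (.node (.node (.node (.node (.leaf 184320) (.leaf 1196066)) (.node (.leaf 1425417) (.leaf 1502239))) (.node (.node (.leaf 796694) (.leaf 3316736)) (.leaf 2470957))) (.node (.node (.node (.leaf 330830) (.leaf 608296)) (.node (.leaf 2209792) (.leaf 3539052))) (.node (.node (.leaf 1497088) (.leaf 3438592)) (.leaf 2776064)))) (.node (.node (.node (.node (.leaf 434176) (.leaf 3090432)) (.node (.leaf 2040832) (.leaf 1241091))) (.node (.node (.leaf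 1312768) (.leaf 3282030)) (.leaf 2644992))) (.node (.node (.node (.leaf 894976) (.leaf 1896521)) (.leaf 1510463)) (.node (.node (.leaf 1688576) (.leaf 3065877)) (.leaf 2892800)))))) (.node (.node (.node (.node (.node (.node (.leaf 122880) (.leaf 1683487)) (.node (.leaf 1078351) (.leaf 3482719))) (.node (.node (.leaf 1060864) (.leaf 1928222)) (.leaf 1989643))) (.node (.node (.node (.leaf 196676) (.leaf 3152896)) (.node (.leaf 1846325) (.leaf 1440832))) (.node (.node (.leaf 1448960) (.leaf 3034127)) (.leaf 2747392)))) (.node (.node (.node (.node (.leaf 371712) (.leaf 2810913)) (.node (.leaf 1995776) (.leaf 3307611))) (.node (.node (.leaf 439368) (.leaf 2602083)) (.leaf 1717333))) (.node (.node (.node (.leaf 839680) (.leaf 3227648)) (.leaf 693257)) (.node (.node (.leaf 1644544) (.leaf 3474432)) (.leaf 2870272))))) (.node (.node (.node (.node (.node (.leaf 246784) (.leaf 2472974)) (.node (.leaf 1908736) (.leaf 957542))) (.node (.node (.leaf 1163264) (.leaf 3302494)) (.leaf 584815))) (.node (.node (.node (.leaf 730112) (.leaf 2454586)) (.node (.leaf 2250752) (.leaf 1844294))) (.node (.node (.leaf 1550336) (.leaf 2686985))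 (.leaf 2457716)))) (.node (.node (.node (.node (.leaf 497664) (.leaf 2511955)) (.node (.leaf 2081909) (.leaf 2354293))) (.node (.node (.leaf 1360896) (.leaf 1134670)) (.leaf 2066523))) (.node (.node (.node (.leaf 952320) (.leaf 1412148)) (.leaf 474223)) (.node (.node (.leaf 123909) (.leaf 2919472)) (.leaf 206848)))))))

def twoMvX129 : Janko.Tree (ℕ) :=
  (.node (.node (.node (.node (.node (.node (.node (.leaf 61440) (.leaf 2651175)) (.node (.leaf 1783808) (.leaf 3073141))) (.node (.node (.leaf 202871) (.leaf 1776674)) (.leaf 2440192))) (.node (.node (.node (.leaf 559104) (.leaf 1948770)) (.node (.leaf 2136064) (.leaf 3498104))) (.node (.node (.leaf 1410048) (.leaf 2110472)) (.leaf 175104)))) (.node (.node (.node (.node (.leaf 310272) (.leaf 1673229)) (.node (.leaf 1950720) (.leaf 2589737))) (.node (.node (.leaf 1214464) (.leaf 468026)) (.leaf 515143))) (.node (.node (.node (.leaf 789504) (.leaf 1369126)) (.leaf 2291712)) (.node (.node (.leaf 296995) (.leaf 3462144)) (.leaf 2838528))))) (.node (.node (.node (.node (.node (.leaf 186368) (.leaf 544895)) (.node (.leaf 103496) (.leaf 3502133))) (.node (.node (.leaf 1113088)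 (.leaf 610349)) (.leaf 443478))) (.node (.node (.node (.leaf 673792) (.leaf 3175424)) (.node (.leaf 2211840) (.leaf 3350572))) (.node (.node (.leaf 1499136) (.leaf 1883176)) (.leaf 2778112)))) (.node (.node (.node (.node (.leaf 436224) (.leaf 3091456)) (.node (.leaf 1252427) (.leaf 1863681))) (.node (.node (.leaf 1313792) (.leaf 1409151)) (.leaf 2646016))) (.node (.node (.node (.leaf 897024) (.leaf 3141656)) (.leaf 2364416)) (.node (.node (.leaf 1690624) (.leaf 3196994)) (.leaf 435211)))))) (.node (.node (.node (.node (.node (.node (.leaf 124928) (.leaf 2975744)) (.node (.leaf 1825792) (.leaf 2437158))) (.node (.node (.leaf 1062912) (.leaf 1596462)) (.leaf 2473984))) (.node (.node (.node (.leaf 614400) (.leaf 2514974)) (.node (.leaf 1979472) (.leaf 2994262))) (.node (.node (.leaf 1451008) (.leaf 1203302)) (.leaf 1641482)))) (.node (.node (.node (.node (.leaf 373760) (.leaf 2393192)) (.node (.leaf 1758237) (.leaf 2578505))) (.node (.node (.leaf 1266688) (.leaf 3368960)) (.leaf 2615296))) (.node (.node (.node (.leaf 841728) (.leaf 3185756)) (.leaf 2028545)) (.node (.node (.leaf 1450005) (.leaf 2120788)) (.leaf 2871296)))))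 (.node (.node (.node (.node (.node (.leaf 248832) (.leaf 3025920)) (.node (.leaf 1421368) (.leaf 2767961))) (.node (.node (.leaf 1164288) (.leaf 2576459)) (.leaf 1276026))) (.node (.node (.node (.leaf 732160) (.leaf 3194880)) (.node (.leaf 2252800) (.leaf 1250304))) (.node (.node (.leaf 1551360) (.leaf 3449856)) (.leaf 1373202)))) (.node (.node (.node (.node (.leaf 15360) (.leaf 1670162)) (.node (.leaf 2091008) (.leaf 2961455))) (.node (.node (.leaf 1362944) (.leaf 2657310)) (.leaf 2675712))) (.node (.node (.node (.leaf 313348) (.leaf 3262464)) (.leaf 2373751)) (.node (.node (.leaf 77824) (.leaf 3487744)) (.leaf 1477661)))))))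

def twoMvX130 : Janko.Tree (ℕ) :=
  (.node (.node (.node (.node (.node (.node (.node (.leaf 0) (.leaf 2942976)) (.node (.leaf 271455) (.leaf 669728))) (.node (.node (.leaf 90190) (.leaf 2995214)) (.leaf 2442240))) (.node (.node (.node (.leaf 561152) (.leaf 3130368)) (.node (.leaf 2137088) (.leaf 2855004))) (.node (.node (.leaf 765978) (.leaf 2708519)) (.leaf 2709504)))) (.node (.node (.node (.node (.leaf 312320) (.leaf 2663510)) (.node (.leaf 1951744) (.leaf 1171515))) (.node (.node (.leaf 414740) (.leaf 2464855)) (.leaf 2073632))) (.node (.node (.node (.leaf 791552) (.leaf 2194519)) (.leaf 1750063)) (.node (.node (.leaf 1598464) (.leaf 454656)) (.leaf 2840576))))) (.node (.node (.node (.node (.node (.leaf 144459) (.leaf 2996224)) (.node (.leaf 1869824) (.leaf 3392572))) (.node (.node (.leaf 1115136) (.leaf 3317760)) (.leaf 2510848))) (.node (.node (.node (.leaf 675840) (.leaf 2940935)) (.node (.leaf 942187) (.leaf 1520661))) (.node (.node (.leaf 1501184) (.leaf 2475053)) (.leaf 2036829)))) (.node (.node (.node (.node (.leaf 438272) (.leaf 2693176)) (.node (.leaf 1016869) (.leaf 3012655))) (.node (.node (.leaf 923672)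 (.leaf 374784)) (.leaf 2648064))) (.node (.node (.node (.leaf 899072) (.leaf 3248128)) (.leaf 2365440)) (.node (.node (.leaf 1692672) (.leaf 1483796)) (.leaf 2117734)))))) (.node (.node (.node (.node (.node (.node (.leaf 126976) (.leaf 1628163)) (.node (.leaf 1827840) (.leaf 1905736))) (.node (.node (.leaf 1064960) (.leaf 593939)) (.leaf 2476032))) (.node (.node (.node (.leaf 220227) (.leaf 462883)) (.node (.leaf 625669) (.leaf 3513451))) (.node (.node (.leaf 936047) (.leaf 1932336)) (.leaf 2749440)))) (.node (.node (.node (.node (.leaf 375808) (.leaf 1907759)) (.node (.leaf 1998848) (.leaf 1970302))) (.node (.node (.leaf 1268736) (.leaf 2635831)) (.leaf 1286268))) (.node (.node (.node (.leaf 843776) (.leaf 3229696)) (.leaf 2329600)) (.node (.node (.leaf 1647616) (.leaf 3424353)) (.leaf 1680384))))) (.node (.node (.node (.node (.node (.leaf 250880) (.leaf 817256)) (.node (.leaf 1911808) (.leaf 1533989))) (.node (.node (.leaf 1166336) (.leaf 385136)) (.leaf 2350088))) (.node (.node (.node (.leaf 734208) (.leaf 621657)) (.node (.leaf 1965056) (.leaf 1277993))) (.node (.node (.leaf 1218640) (.leaf 1423377)) (.leaf 558095))))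 (.node (.node (.node (.node (.leaf 499712) (.leaf 2911352)) (.node (.leaf 2092032) (.leaf 3377197))) (.node (.node (.leaf 1364992) (.leaf 527428)) (.leaf 2341945))) (.node (.node (.node (.leaf 954368) (.leaf 3264512)) (.leaf 2404352)) (.node (.node (.leaf 1739776) (.leaf 3488768)) (.leaf 651317)))))))

def twoMvX131 : Janko.Tree (ℕ) :=
  (.node (.node (.node (.node (.node (.node (.node (.leaf 64512) (.leaf 1303564)) (.node (.leaf 1089626) (.leaf 3450973))) (.node (.node (.leaf 1010688) (.leaf 2698352)) (.leaf 782451))) (.node (.node (.node (.leaf 562176) (.leaf 983154)) (.node (.leaf 1539094) (.leaf 3347482))) (.node (.node (.leaf 619595) (.leaf 3236932)) (.leaf 340058)))) (.node (.node (.node (.node (.leaf 314368) (.leaf 3049472)) (.node (.leaf 1953792) (.leaf 1471594))) (.node (.node (.leaf 1217536) (.leaf 2614330)) (.leaf 2583552))) (.node (.node (.node (.leaf 793600) (.leaf 2047068)) (.leaf 253958)) (.node (.node (.leaf 1600512) (.leaf 851021)) (.leaf 2841600))))) (.node (.node (.node (.node (.node (.leaf 189440) (.leaf 2997248)) (.node (.leaf 1871872) (.leaf 3253368))) (.node (.node (.leaf 1117184) (.leaf 1630211))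 (.leaf 2512896))) (.node (.node (.node (.leaf 677888) (.leaf 1114140)) (.node (.leaf 2214912) (.leaf 2798645))) (.node (.node (.leaf 1503232) (.leaf 1678374)) (.leaf 2245729)))) (.node (.node (.node (.node (.leaf 440320) (.leaf 2638880)) (.node (.leaf 2044928) (.leaf 3382358))) (.node (.node (.leaf 1215577) (.leaf 2198654)) (.leaf 2649088))) (.node (.node (.node (.leaf 901120) (.leaf 3249152)) (.leaf 215062)) (.node (.node (.leaf 1694720) (.leaf 3119152)) (.leaf 204892)))))) (.node (.node (.node (.node (.node (.node (.leaf 129024) (.leaf 1588234)) (.node (.leaf 229394) (.leaf 1992819))) (.node (.node (.leaf 1067008) (.leaf 3279942)) (.leaf 2477056))) (.node (.node (.node (.leaf 617472) (.leaf 3154944)) (.node (.leaf 2179072) (.leaf 2412606))) (.node (.node (.leaf 1454080) (.leaf 3140720)) (.leaf 2750464)))) (.node (.node (.node (.node (.leaf 377856) (.leaf 3052557)) (.node (.leaf 508993) (.leaf 3068984))) (.node (.node (.leaf 1269760) (.leaf 612453)) (.leaf 2616320))) (.node (.node (.node (.leaf 117868) (.leaf 3230720)) (.leaf 2330624)) (.node (.node (.leaf 1649664) (.leaf 1100837)) (.leaf 2167895))))) (.node (.node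 (.node (.node (.node (.leaf 252928) (.leaf 907288)) (.node (.leaf 1715282) (.leaf 2372718))) (.node (.node (.leaf 1167360) (.leaf 3337216)) (.leaf 2547712))) (.node (.node (.node (.leaf 328748) (.leaf 2786408)) (.node (.leaf 2254848) (.leaf 3439676))) (.node (.node (.leaf 1553408) (.leaf 2777141)) (.leaf 2811904)))) (.node (.node (.node (.node (.leaf 501760) (.leaf 3117056)) (.node (.leaf 2093056) (.leaf 3014699))) (.node (.node (.leaf 1366016) (.leaf 1612868)) (.leaf 2677760))) (.node (.node (.node (.leaf 956416) (.leaf 640038)) (.leaf 1271920)) (.node (.node (.leaf 1741824) (.leaf 1435745)) (.leaf 1767448)))))))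

def twoMvX1 : Janko.Tree (ℕ) := (.node (.node (.node (.node (.node twoMvX10 twoMvX116) (.node twoMvX18 twoMvX124)) (.node (.node twoMvX14 twoMvX120) (.node twoMvX112 twoMvX128))) (.node (.node (.node twoMvX12 twoMvX118) (.node twoMvX110 twoMvX126)) (.node (.node twoMvX16 twoMvX122) (.node twoMvX114 twoMvX130)))) (.node (.node (.node (.node twoMvX11 twoMvX117) (.node twoMvX19 twoMvX125)) (.node (.node twoMvX15 twoMvX121) (.node twoMvX113 twoMvX129))) (.node (.node (.node twoMvX13 twoMvX119) (.node twoMvX111 twoMvX127)) (.node (.node twoMvX17 twoMvX123) (.node twoMvX115 twoMvX131)))))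

theorem two_mvX10 : ((List.range 512).all fun i => movesOK twoCert twoT 3465 959447366293016975966859141519023456 twoMvX1 (Nat.add 0 i)) = true := by decide +kernel

theorem two_mvX11 : ((List.range 512).all fun i => movesOK twoCert twoT 3465 959447366293016975966859141519023456 twoMvX1 (Nat.add 512 i)) = true := by decide +kernel

theorem two_mvX12 : ((List.range 512).all fun i => movesOK twoCert twoT 3465 959447366293016975966859141519023456 twoMvX1 (Nat.add 1024 i)) = true := by decide +kernel

theorem two_mvX13 : ((List.range 512).all fun i => movesOK twoCert twoT 3465 959447366293016975966859141519023456 twoMvX1 (Nat.add 1536 i)) = true := by decide +kernel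

theorem two_mvX14 : ((List.range 512).all fun i => movesOK twoCert twoT 3465 959447366293016975966859141519023456 twoMvX1 (Nat.add 2048 i)) = true := by decide +kernel

theorem two_mvX15 : ((List.range 512).all fun i => movesOK twoCert twoT 3465 959447366293016975966859141519023456 twoMvX1 (Nat.add 2560 i)) = true := by decide +kernel

theorem two_mvX16 : ((List.range 393).all fun i => movesOK twoCert twoT 3465 959447366293016975966859141519023456 twoMvX1 (Nat.add 3072 i)) = true := by decide +kernel

theorem two_mvX1 : ∀ i < 3465, movesOK twoCert twoT 3465 959447366293016975966859141519023456 twoMvX1 i = true := by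
  intro i hi
  by_cases h0 : i < 512
  · have := List.all_eq_true.1 two_mvX10 (i - 0) (List.mem_range.2 (by omega)); rwa [show Nat.add 0 (i - 0) = i from Nat.add_sub_cancel' (by omega)] at this
  by_cases h1 : i < 1024
  · have := List.all_eq_true.1 two_mvX11 (i - 512) (List.mem_range.2 (by omega)); rwa [show Nat.add 512 (i - 512) = i from Nat.add_sub_cancel' (by omega)] at this
  by_cases h2 : i < 1536
  · have := List.all_eq_true.1 two_mvX12 (i - 1024) (List.mem_range.2 (by omega)); rwa [show Nat.add 1024 (i - 1024) = i from Nat.add_sub_cancel' (by omega)] at this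
  by_cases h3 : i < 2048
  · have := List.all_eq_true.1 two_mvX13 (i - 1536) (List.mem_range.2 (by omega)); rwa [show Nat.add 1536 (i - 1536) = i from Nat.add_sub_cancel' (by omega)] at this
  by_cases h4 : i < 2560
  · have := List.all_eq_true.1 two_mvX14 (i - 2048) (List.mem_range.2 (by omega)); rwa [show Nat.add 2048 (i - 2048) = i from Nat.add_sub_cancel' (by omega)] at this
  by_cases h5 : i < 3072
  · have := List.all_eq_true.1 two_mvX15 (i - 2560) (List.mem_range.2 (by omega)); rwa [show Nat.add 2560 (i - 2560) = i from Nat.add_sub_cancel' (by omega)] at this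
  have := List.all_eq_true.1 two_mvX16 (i - 3072) (List.mem_range.2 (by omega)); rwa [show Nat.add 3072 (i - 3072) = i from Nat.add_sub_cancel' (by omega)] at this


def twoMv00 : Janko.Tree (ℕ) :=
  (.node (.node (.node (.node (.node (.node (.node (.leaf 16) (.leaf 2622515)) (.node (.leaf 1318011) (.leaf 2050140))) (.node (.node (.leaf 2748510) (.leaf 3307562)) (.leaf 147483))) (.node (.node (.node (.leaf 3384374) (.leaf 1365110)) (.node (.leaf 153692) (.leaf 3209218))) (.node (.node (.leaf 65545) (.leaf 103531)) (.leaf 2061411)))) (.node (.node (.node (.node (.leaf 894066) (.leaf 436331)) (.node (.leaf 450582) (.leaf 2331757))) (.node (.node (.leaf 1797230) (.leaf 2325535)) (.leaf 1165410))) (.node (.node (.node (.leaf 3122212) (.leaf 2149489)) (.node (.leaf 2600040) (.leaf 449590))) (.node (.node (.leaf 2838616) (.leaf 2901097)) (.leaf 1373257))))) (.node (.node (.node (.node (.node (.leaf 644172) (.leaf 1808435)) (.node (.leaf 2897013) (.leaf 1470517))) (.node (.node (.leaf 1719380) (.leaf 3368014)) (.leaf 1592389))) (.node (.node (.node (.leaf 2977810) (.leaf 306194)) (.node (.leaf 289802) (.leaf 1089596))) (.node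 (.node (.leaf 722944) (.leaf 217190)) (.leaf 1309820)))) (.node (.node (.node (.node (.leaf 25605) (.leaf 1473623)) (.node (.leaf 2643067) (.leaf 131135))) (.node (.node (.leaf 3095673) (.leaf 2592895)) (.leaf 1579070))) (.node (.node (.node (.leaf 1005636) (.leaf 1105992)) (.leaf 2699334)) (.node (.node (.leaf 192556) (.leaf 220219)) (.leaf 2266116)))))) (.node (.node (.node (.node (.node (.node (.leaf 2405410) (.leaf 2995233)) (.node (.leaf 169063) (.leaf 1925204))) (.node (.node (.leaf 1571953) (.leaf 2070558)) (.leaf 1322093))) (.node (.node (.node (.leaf 1804358) (.leaf 718931)) (.node (.leaf 3279980) (.leaf 751734))) (.node (.node (.leaf 1692679) (.leaf 857195)) (.leaf 1726531)))) (.node (.node (.node (.node (.leaf 1998936) (.leaf 3380239)) (.node (.leaf 2395208) (.leaf 2957324))) (.node (.node (.leaf 3198057) (.leaf 1593469)) (.leaf 407619))) (.node (.node (.node (.leaf 2113558) (.leaf 416894)) (.leaf 3230725)) (.node (.node (.leaf 1687622) (.leaf 2416653)) (.leaf 111654))))) (.node (.node (.node (.node (.node (.leaf 2240512) (.leaf 2986072)) (.node (.leaf 763975) (.leaf 2394237))) (.node (.node (.leaf 3430483)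 (.leaf 865309)) (.leaf 1279045))) (.node (.node (.node (.leaf 3088469) (.leaf 3339320)) (.node (.leaf 2602001) (.leaf 2534485))) (.node (.node (.leaf 349255) (.leaf 2528379)) (.leaf 2551825)))) (.node (.node (.node (.node (.leaf 1774667) (.leaf 3123247)) (.node (.leaf 2501712) (.leaf 2769977))) (.node (.node (.leaf 2659353) (.leaf 3225707)) (.leaf 2595941))) (.node (.node (.node (.leaf 3224638) (.leaf 810053)) (.leaf 3215373)) (.node (.node (.leaf 421952) (.leaf 2323571)) (.leaf 3423233)))))))

def twoMv01 : Janko.Tree (ℕ) :=
  (.node (.node (.node (.node (.node (.node (.node (.leaf 1341567) (.leaf 311314)) (.node (.leaf 3040373) (.leaf 690246))) (.node (.node (.leaf 990243) (.leaf 2882629)) (.leaf 2479127))) (.node (.node (.node (.leaf 116756) (.leaf 2095199)) (.node (.leaf 1665137) (.leaf 287815))) (.node (.node (.leaf 1231927) (.leaf 2073658)) (.leaf 2083849)))) (.node (.node (.node (.node (.leaf 1922122) (.leaf 2107452)) (.node (.leaf 1091584) (.leaf 3404817))) (.node (.node (.leaf 82007) (.leaf 2469974)) (.leaf 2881661))) (.node (.node (.node (.leaf 2713613) (.leaf 343078)) (.node (.leaf 2816014) (.leaf 654447)))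 (.node (.node (.leaf 1308701) (.leaf 337981)) (.leaf 1461305))))) (.node (.node (.node (.node (.node (.leaf 1868800) (.leaf 546940)) (.node (.leaf 2613367) (.leaf 2529294))) (.node (.node (.leaf 1791094) (.leaf 586871)) (.leaf 1683583))) (.node (.node (.node (.leaf 2370570) (.leaf 2906113)) (.node (.leaf 3358756) (.leaf 297030))) (.node (.node (.leaf 1709147) (.leaf 893014)) (.leaf 2848774)))) (.node (.node (.node (.node (.leaf 921680) (.leaf 1838080)) (.node (.leaf 1038349) (.leaf 1166433))) (.node (.node (.leaf 2292819) (.leaf 3066945)) (.leaf 2540552))) (.node (.node (.node (.leaf 655431) (.leaf 1275919)) (.leaf 910338)) (.node (.node (.leaf 149622) (.leaf 730239)) (.leaf 3218524)))))) (.node (.node (.node (.node (.node (.node (.leaf 2793530) (.leaf 212000)) (.node (.leaf 124974) (.leaf 317526))) (.node (.node (.leaf 765989) (.leaf 2229339)) (.leaf 2003002))) (.node (.node (.node (.leaf 16428) (.leaf 3457143)) (.node (.leaf 375863) (.leaf 34885))) (.node (.node (.leaf 2450514) (.leaf 413802)) (.leaf 1160206)))) (.node (.node (.node (.node (.leaf 456775) (.leaf 73795)) (.node (.leaf 11297) (.leaf 1124400))) (.node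 (.node (.leaf 1503243) (.leaf 3462227)) (.leaf 1656956))) (.node (.node (.node (.leaf 1479683) (.leaf 1424429)) (.leaf 2382915)) (.node (.node (.leaf 27701) (.leaf 366717)) (.leaf 1696794))))) (.node (.node (.node (.node (.node (.leaf 3392548) (.leaf 3110948)) (.node (.leaf 1468447) (.leaf 2932834))) (.node (.node (.leaf 3346533) (.leaf 3434570)) (.leaf 2711630))) (.node (.node (.node (.leaf 1782873) (.leaf 2409568)) (.node (.leaf 2805808) (.leaf 589874))) (.node (.node (.leaf 1229935) (.leaf 1587305)) (.leaf 660521)))) (.node (.node (.node (.node (.leaf 1938520) (.leaf 2842678)) (.node (.leaf 2830337) (.leaf 2603085))) (.node (.node (.leaf 388178) (.leaf 3197026)) (.leaf 3071038))) (.node (.node (.node (.leaf 1811533) (.leaf 2762804)) (.leaf 801874)) (.node (.node (.leaf 610405) (.leaf 3096596)) (.leaf 1535073)))))))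

def twoMv02 : Janko.Tree (ℕ) :=
  (.node (.node (.node (.node (.node (.node (.node (.leaf 1001560) (.leaf 955474)) (.node (.leaf 1826923) (.leaf 1084463))) (.node (.node (.leaf 1409076) (.leaf 2001946)) (.leaf 2648136))) (.node (.node (.node (.leaf 2511925) (.leaf 688148)) (.node (.leaf 1776752) (.leaf 960597))) (.node (.node (.leaf 507976) (.leaf 1596426)) (.leaf 2348158)))) (.node (.node (.node (.node (.leaf 185383) (.leaf 137259)) (.node (.leaf 2738264) (.leaf 3202112))) (.node (.node (.leaf 2714722) (.leaf 1466384)) (.leaf 2319481))) (.node (.node (.node (.leaf 3075091) (.leaf 2182173)) (.node (.leaf 1560594) (.leaf 1750111))) (.node (.node (.leaf 917628) (.leaf 788522)) (.leaf 3312694))))) (.node (.node (.node (.node (.node (.leaf 1102925) (.leaf 3003411)) (.node (.leaf 1991705) (.leaf 2516092))) (.node (.node (.leaf 676930) (.leaf 32802)) (.leaf 2675721))) (.node (.node (.node (.leaf 938105) (.leaf 2248769)) (.node (.leaf 2449454) (.leaf 3229735))) (.node (.node (.leaf 21544) (.leaf 1916990)) (.leaf 3272785)))) (.node (.node (.node (.node (.leaf 2533403) (.leaf 1397775)) (.node (.leaf 2480205) (.leaf 313398)))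 (.node (.node (.leaf 90130) (.leaf 2826361)) (.leaf 3397733))) (.node (.node (.node (.leaf 1367084) (.leaf 1041426)) (.leaf 3238946)) (.node (.node (.leaf 197671) (.leaf 2219087)) (.leaf 3172387)))))) (.node (.node (.node (.node (.node (.node (.leaf 1381376) (.leaf 2490436)) (.node (.leaf 1139760) (.leaf 1203250))) (.node (.node (.leaf 4222) (.leaf 1436726)) (.leaf 202813))) (.node (.node (.node (.leaf 506969) (.leaf 2365488)) (.node (.leaf 2488406) (.leaf 3227723))) (.node (.node (.leaf 705567) (.leaf 3002494)) (.leaf 1491028)))) (.node (.node (.node (.node (.leaf 1561605) (.leaf 791593)) (.node (.leaf 2218018) (.leaf 2072601))) (.node (.node (.leaf 2227223) (.leaf 1537119)) (.leaf 1545341))) (.node (.node (.node (.leaf 17444) (.leaf 825396)) (.leaf 602180)) (.node (.node (.leaf 3433484) (.leaf 2718768)) (.leaf 457777))))) (.node (.node (.node (.node (.node (.leaf 3014761) (.leaf 2503721)) (.node (.leaf 622612) (.leaf 735243))) (.node (.node (.leaf 2110551) (.leaf 314443)) (.leaf 91141))) (.node (.node (.node (.leaf 1478780) (.leaf 1181766)) (.node (.leaf 477229) (.leaf 2268211))) (.node (.node (.leaf 425042) (.leaf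 2712583)) (.leaf 2007114)))) (.node (.node (.node (.node (.leaf 863301) (.leaf 1841171)) (.node (.leaf 2208838) (.leaf 3525695))) (.node (.node (.leaf 2825221) (.leaf 1632277)) (.leaf 988230))) (.node (.node (.node (.leaf 3065872) (.leaf 1258529)) (.leaf 2779152)) (.node (.node (.leaf 2029576) (.leaf 527434)) (.leaf 3062909)))))))

def twoMv03 : Janko.Tree (ℕ) :=
  (.node (.node (.node (.node (.node (.node (.node (.leaf 3017759) (.leaf 3475496)) (.node (.leaf 1476658) (.leaf 588895))) (.node (.node (.leaf 2863118) (.leaf 538639)) (.leaf 2171957))) (.node (.node (.node (.leaf 1642572) (.leaf 2688033)) (.node (.leaf 567310) (.leaf 2873430))) (.node (.node (.leaf 3156089) (.leaf 2052206)) (.leaf 3361864)))) (.node (.node (.node (.node (.leaf 2582644) (.leaf 1523743)) (.node (.leaf 1215527) (.leaf 2243653))) (.node (.node (.leaf 2364506) (.leaf 1780781)) (.leaf 3318813))) (.node (.node (.node (.leaf 3248139) (.leaf 1143896)) (.node (.leaf 336903) (.leaf 3194910))) (.node (.node (.leaf 968713) (.leaf 3174514)) (.leaf 670741))))) (.node (.node (.node (.node (.node (.leaf 83003) (.leaf 3121168)) (.node (.leaf 1613905) (.leaf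 657432))) (.node (.node (.leaf 1210462) (.leaf 2886740)) (.leaf 2189424))) (.node (.node (.node (.leaf 2939978) (.leaf 1453108)) (.node (.leaf 2178120) (.leaf 1981456))) (.node (.node (.leaf 794678) (.leaf 2476135)) (.leaf 1705041)))) (.node (.node (.node (.node (.leaf 2302044) (.leaf 528439)) (.node (.leaf 3528770) (.leaf 389133))) (.node (.node (.leaf 464958) (.leaf 1955870)) (.leaf 1396779))) (.node (.node (.node (.leaf 2573337) (.leaf 3149844)) (.leaf 3417139)) (.node (.node (.leaf 1370148) (.leaf 283731)) (.leaf 2911288)))))) (.node (.node (.node (.node (.node (.node (.leaf 2791439) (.leaf 1071145)) (.node (.leaf 3273731) (.leaf 1992714))) (.node (.node (.leaf 1260619) (.leaf 146507)) (.leaf 2062344))) (.node (.node (.node (.leaf 3314701) (.leaf 3440759)) (.node (.leaf 951350) (.leaf 1088530))) (.node (.node (.leaf 1131538) (.leaf 2453602)) (.leaf 2658344)))) (.node (.node (.node (.node (.leaf 2335804) (.leaf 35870)) (.node (.leaf 2538535) (.leaf 3362904))) (.node (.node (.leaf 438394) (.leaf 1101903)) (.leaf 2985023))) (.node (.node (.node (.leaf 2524264) (.leaf 3264620)) (.leaf 1171569)) (.node (.node (.leaf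 880741) (.leaf 2756699)) (.leaf 12306))))) (.node (.node (.node (.node (.node (.leaf 1155190) (.leaf 2640906)) (.node (.leaf 382008) (.leaf 557086))) (.node (.node (.leaf 3254326) (.leaf 2556961)) (.leaf 2984058))) (.node (.node (.node (.leaf 1344620) (.leaf 424050)) (.node (.leaf 2192421) (.leaf 78902))) (.node (.node (.leaf 2885725) (.leaf 1702013)) (.leaf 3514407)))) (.node (.node (.node (.node (.leaf 2785381) (.leaf 2505786)) (.node (.leaf 505978) (.leaf 1864754))) (.node (.node (.leaf 753748) (.leaf 1743873)) (.leaf 3474486))) (.node (.node (.node (.leaf 1200195) (.leaf 3426411)) (.leaf 1546267)) (.node (.node (.leaf 2751610) (.leaf 3386444)) (.leaf 838725)))))))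

def twoMv04 : Janko.Tree (ℕ) :=
  (.node (.node (.node (.node (.node (.node (.node (.leaf 1283182) (.leaf 3288155)) (.node (.leaf 2587705) (.leaf 3186767))) (.node (.node (.leaf 140341) (.leaf 3246198)) (.leaf 1686548))) (.node (.node (.node (.leaf 3009612) (.leaf 2166794)) (.node (.leaf 715778) (.leaf 2737267))) (.node (.node (.leaf 154628) (.leaf 2066528)) (.leaf 627786)))) (.node (.node (.node (.node (.leaf 1869903) (.leaf 1427533)) (.node (.leaf 2637860) (.leaf 2792486))) (.node (.node (.leaf 2289675) (.leaf 2880561)) (.leaf 272496))) (.node (.node (.node (.leaf 3382318) (.leaf 488456)) (.node (.leaf 1989736) (.leaf 3353634))) (.node (.node (.leaf 463942) (.leaf 128117)) (.leaf 2673679))))) (.node (.node (.node (.node (.node (.leaf 3500118) (.leaf 1525769)) (.node (.leaf 2575414) (.leaf 2471021))) (.node (.node (.leaf 148563) (.leaf 762993)) (.leaf 2457621))) (.node (.node (.node (.leaf 888931) (.leaf 605222)) (.node (.leaf 1962106) (.leaf 1569824))) (.node (.node (.leaf 1014845) (.leaf 1058883)) (.leaf 1688615)))) (.node (.node (.node (.node (.leaf 2609254) (.leaf 2407529)) (.node (.leaf 144506) (.leaf 701486)))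 (.node (.node (.leaf 3424318) (.leaf 2264122)) (.leaf 989308))) (.node (.node (.node (.leaf 2101304) (.leaf 2918412)) (.leaf 1009706)) (.node (.node (.leaf 2698365) (.leaf 401409)) (.leaf 346131)))))) (.node (.node (.node (.node (.node (.node (.leaf 2499707) (.leaf 2818109)) (.node (.leaf 344132) (.leaf 582742))) (.node (.node (.leaf 2111612) (.leaf 3300451)) (.leaf 326701))) (.node (.node (.node (.leaf 744459) (.leaf 1859687)) (.node (.leaf 468050) (.leaf 201743))) (.node (.node (.leaf 2591820) (.leaf 2513947)) (.leaf 683055)))) (.node (.node (.node (.node (.leaf 1768572) (.leaf 2752607)) (.node (.leaf 1626185) (.leaf 254053))) (.node (.node (.leaf 613442) (.leaf 2837619)) (.leaf 1164379))) (.node (.node (.node (.leaf 2314314) (.leaf 2990113)) (.leaf 282696)) (.node (.node (.leaf 2092156) (.leaf 2924664)) (.leaf 3161112))))) (.node (.node (.node (.node (.node (.leaf 1966189) (.leaf 3221524)) (.node (.leaf 373871) (.leaf 2440305))) (.node (.node (.leaf 63527) (.leaf 285707)) (.leaf 2976793))) (.node (.node (.node (.leaf 2642010) (.leaf 1666097)) (.node (.leaf 1659936) (.leaf 2425937))) (.node (.node (.leaf 583736) (.leaf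 1161309)) (.leaf 2521167)))) (.node (.node (.node (.node (.leaf 2872428) (.leaf 3329120)) (.node (.leaf 3086438) (.leaf 3023922))) (.node (.node (.leaf 2324521) (.leaf 2810929)) (.leaf 98309))) (.node (.node (.node (.leaf 2689051) (.leaf 1350780)) (.leaf 879691)) (.node (.node (.leaf 176245) (.leaf 707707)) (.leaf 966664)))))))

def twoMv05 : Janko.Tree (ℕ) :=
  (.node (.node (.node (.node (.node (.node (.node (.leaf 2980942) (.leaf 2568289)) (.node (.leaf 2104414) (.leaf 2088967))) (.node (.node (.leaf 901219) (.leaf 961566)) (.leaf 1670215))) (.node (.node (.node (.leaf 3547149) (.leaf 912494)) (.node (.leaf 1287268) (.leaf 1315890))) (.node (.node (.leaf 511060) (.leaf 2545696)) (.leaf 3541033)))) (.node (.node (.node (.node (.leaf 852089) (.leaf 947282)) (.node (.leaf 476237) (.leaf 179316))) (.node (.node (.leaf 3120193) (.leaf 3311642)) (.leaf 2612341))) (.node (.node (.node (.leaf 2158642) (.leaf 3116119)) (.node (.leaf 1416252) (.leaf 2307185))) (.node (.node (.leaf 3100732) (.leaf 2883588)) (.leaf 1134646))))) (.node (.node (.node (.node (.node (.leaf 1393762) (.leaf 1586293)) (.node (.leaf 1550338) (.leaf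 1559605))) (.node (.node (.leaf 1603651) (.leaf 3031090)) (.leaf 679957))) (.node (.node (.node (.leaf 2408486) (.leaf 2679822)) (.node (.leaf 2027571) (.leaf 2864190))) (.node (.node (.leaf 483336) (.leaf 2949171)) (.leaf 184413)))) (.node (.node (.node (.node (.leaf 2210886) (.leaf 759852)) (.node (.leaf 2523187) (.leaf 2574408))) (.node (.node (.leaf 429064) (.leaf 3510351)) (.leaf 739358))) (.node (.node (.node (.leaf 985204) (.leaf 3177530)) (.leaf 580620)) (.node (.node (.leaf 1111135) (.leaf 1118215)) (.leaf 3294320)))))) (.node (.node (.node (.node (.node (.node (.leaf 1640556) (.leaf 2128964)) (.node (.leaf 3527700) (.leaf 2660425))) (.node (.node (.leaf 2993170) (.leaf 3355699)) (.leaf 376942))) (.node (.node (.node (.leaf 2415719) (.leaf 3337225)) (.node (.leaf 2451501) (.leaf 2300021))) (.node (.node (.leaf 1908738) (.leaf 2487373)) (.leaf 2709524)))) (.node (.node (.node (.node (.leaf 729165) (.leaf 649315)) (.node (.leaf 521324) (.leaf 3435596))) (.node (.node (.leaf 2847808) (.leaf 38992)) (.leaf 1607687))) (.node (.node (.node (.leaf 3119115) (.leaf 3164195)) (.leaf 2291751)) (.node (.node (.leaf 1735707)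 (.leaf 2037843)) (.leaf 3476579))))) (.node (.node (.node (.node (.node (.leaf 114728) (.leaf 1326121)) (.node (.leaf 471084) (.leaf 2221161))) (.node (.node (.leaf 368695) (.leaf 218235)) (.leaf 10363))) (.node (.node (.node (.leaf 2858061) (.leaf 781353)) (.node (.leaf 2686048) (.leaf 1185876))) (.node (.node (.leaf 1912874) (.leaf 1889372)) (.leaf 1449066)))) (.node (.node (.node (.node (.leaf 3448921) (.leaf 1216613)) (.node (.leaf 1984611) (.leaf 259177))) (.node (.node (.leaf 2054198) (.leaf 873487)) (.leaf 2952301))) (.node (.node (.node (.leaf 813172) (.leaf 2914312)) (.leaf 3257432)) (.node (.node (.leaf 1929301) (.leaf 1411103)) (.leaf 1177660)))))))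

def twoMv06 : Janko.Tree (ℕ) :=
  (.node (.node (.node (.node (.node (.node (.node (.leaf 261124) (.leaf 3354684)) (.node (.leaf 929903) (.leaf 3118114))) (.node (.node (.leaf 1061892) (.leaf 1392665)) (.leaf 2726001))) (.node (.node (.node (.leaf 291842) (.leaf 2904108)) (.node (.leaf 2786321) (.leaf 3210364))) (.node (.node (.leaf 2116640) (.leaf 3289156)) (.leaf 1522801)))) (.node (.node (.node (.node (.leaf 1501221) (.leaf 263181)) (.node (.leaf 3222609) (.leaf 2731095))) (.node (.node (.leaf 454750) (.leaf 1817653)) (.leaf 2623511))) (.node (.node (.node (.leaf 3383398) (.leaf 2776156)) (.node (.leaf 2616351) (.leaf 712748))) (.node (.node (.leaf 1046538) (.leaf 834612)) (.leaf 1145919))))) (.node (.node (.node (.node (.node (.leaf 1433641) (.leaf 2146381)) (.node (.leaf 2520082) (.leaf 833562))) (.node (.node (.leaf 3418224) (.leaf 1511442)) (.leaf 1329238))) (.node (.node (.node (.leaf 1227824) (.leaf 230450)) (.node (.leaf 1547313) (.leaf 3479653))) (.node (.node (.leaf 3543057) (.leaf 2691094)) (.leaf 1775643)))) (.node (.node (.node (.node (.leaf 745582) (.leaf 2971663)) (.node (.leaf 3153993) (.leaf 995348)))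 (.node (.node (.leaf 3132510) (.leaf 1036381)) (.leaf 2232422))) (.node (.node (.node (.leaf 2010142) (.leaf 2743300)) (.leaf 2446355)) (.node (.node (.leaf 2311222) (.leaf 2799681)) (.leaf 534631)))))) (.node (.node (.node (.node (.node (.node (.leaf 936014) (.leaf 2119683)) (.node (.leaf 1232977) (.leaf 926833))) (.node (.node (.leaf 2357362) (.leaf 1146883)) (.leaf 697366))) (.node (.node (.node (.leaf 8305) (.leaf 3432488)) (.node (.leaf 3338335) (.leaf 1819756))) (.node (.node (.leaf 492564) (.leaf 479326)) (.leaf 1851465)))) (.node (.node (.node (.node (.leaf 2144303) (.leaf 1060928)) (.node (.leaf 2944091) (.leaf 1187942))) (.node (.node (.leaf 2668567) (.leaf 2822185)) (.leaf 298064))) (.node (.node (.node (.leaf 1987678) (.leaf 2933801)) (.leaf 1225803)) (.node (.node (.leaf 691207) (.leaf 2742324)) (.leaf 1413159))))) (.node (.node (.node (.node (.node (.leaf 3345532) (.leaf 494649)) (.node (.leaf 2973810) (.leaf 203783))) (.node (.node (.leaf 2687089) (.leaf 1439859)) (.leaf 1480774))) (.node (.node (.node (.leaf 1147967) (.leaf 3458083)) (.node (.leaf 685056) (.leaf 1740872))) (.node (.node (.leaf 665718)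 (.leaf 2294880)) (.leaf 3099746)))) (.node (.node (.node (.node (.leaf 2486339) (.leaf 1970261)) (.node (.leaf 2563183) (.leaf 617524))) (.node (.node (.leaf 877587) (.leaf 235592)) (.leaf 206911))) (.node (.node (.node (.leaf 615469) (.leaf 2375739)) (.leaf 2635782)) (.node (.node (.leaf 151670) (.leaf 2697234)) (.leaf 631891)))))))

def twoMv07 : Janko.Tree (ℕ) :=
  (.node (.node (.node (.node (.node (.node (.node (.leaf 2975832) (.leaf 2557991)) (.node (.leaf 143390) (.leaf 2500709))) (.node (.node (.leaf 150581) (.leaf 1033256)) (.leaf 2434137))) (.node (.node (.node (.leaf 1410162) (.leaf 2021431)) (.node (.leaf 2907262) (.leaf 3408956))) (.node (.node (.leaf 445492) (.leaf 2790474)) (.leaf 3374165)))) (.node (.node (.node (.node (.leaf 2964603) (.leaf 516156)) (.node (.leaf 1661996) (.leaf 2644051))) (.node (.node (.leaf 2849907) (.leaf 1799182)) (.leaf 1945707))) (.node (.node (.node (.leaf 2097167) (.leaf 171057)) (.node (.leaf 2430977) (.leaf 474225))) (.node (.node (.leaf 69669) (.leaf 820327)) (.leaf 3447896))))) (.node (.node (.node (.node (.node (.leaf 1438772) (.leaf 241786)) (.node (.leaf 2265154) (.leaf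 510072))) (.node (.node (.leaf 2132091) (.leaf 2190351)) (.leaf 704639))) (.node (.node (.node (.leaf 2215990) (.leaf 2436177)) (.node (.leaf 264217) (.leaf 641099))) (.node (.node (.leaf 1352736) (.leaf 92170)) (.leaf 1790074)))) (.node (.node (.node (.node (.leaf 3250188) (.leaf 3309680)) (.node (.leaf 3270737) (.leaf 194664))) (.node (.node (.leaf 698405) (.leaf 576598)) (.leaf 3127382))) (.node (.node (.node (.leaf 172101) (.leaf 484371)) (.leaf 1242197)) (.node (.node (.leaf 525357) (.leaf 20597)) (.leaf 2306137)))))) (.node (.node (.node (.node (.node (.node (.leaf 1830962) (.leaf 2839626)) (.node (.leaf 824376) (.leaf 2684976))) (.node (.node (.leaf 2981919) (.leaf 1806339)) (.leaf 2463772))) (.node (.node (.node (.leaf 3258407) (.leaf 2362452)) (.node (.leaf 2134083) (.leaf 1020944))) (.node (.node (.leaf 848935) (.leaf 2142244)) (.leaf 2191379)))) (.node (.node (.node (.node (.leaf 1390616) (.leaf 3180603)) (.node (.leaf 1496078) (.leaf 1328250))) (.node (.node (.leaf 1853440) (.leaf 2085944)) (.leaf 2908227))) (.node (.node (.node (.leaf 1048623) (.leaf 2953333)) (.leaf 2999343)) (.node (.node (.leaf 1327173)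 (.leaf 594013)) (.leaf 3396731))))) (.node (.node (.node (.node (.node (.leaf 1944674) (.leaf 1371149)) (.node (.leaf 905326) (.leaf 884860))) (.node (.node (.leaf 2318430) (.leaf 1765468)) (.leaf 1678378))) (.node (.node (.node (.leaf 950380) (.leaf 736270)) (.node (.leaf 2109561) (.leaf 3233917))) (.node (.node (.leaf 3499128) (.leaf 352258)) (.leaf 2012251)))) (.node (.node (.node (.node (.leaf 1356856) (.leaf 2912295)) (.node (.leaf 1447963) (.leaf 3366944))) (.node (.node (.leaf 886840) (.leaf 134177)) (.leaf 1208418))) (.node (.node (.node (.leaf 778272) (.leaf 2861177)) (.leaf 2187297)) (.node (.node (.leaf 3167339) (.leaf 473175)) (.leaf 23644)))))))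

def twoMv08 : Janko.Tree (ℕ) :=
  (.node (.node (.node (.node (.node (.node (.node (.leaf 1441886) (.leaf 3108951)) (.node (.leaf 2586650) (.leaf 2377803))) (.node (.node (.leaf 967766) (.leaf 1968255)) (.leaf 487534))) (.node (.node (.node (.leaf 2491487) (.leaf 1900612)) (.node (.leaf 2077723) (.leaf 260097))) (.node (.node (.leaf 520276) (.leaf 958484)) (.leaf 2498603)))) (.node (.node (.node (.node (.leaf 945275) (.leaf 2877534)) (.node (.leaf 226428) (.leaf 2130039))) (.node (.node (.leaf 1751138) (.leaf 1844224)) (.leaf 51291))) (.node (.node (.node (.leaf 52250) (.leaf 2121739)) (.node (.leaf 2950157) (.leaf 267305))) (.node (.node (.leaf 1655891) (.leaf 2474066)) (.leaf 3436590))))) (.node (.node (.node (.node (.node (.leaf 2381949) (.leaf 519270)) (.node (.leaf 3216480) (.leaf 1521773))) (.node (.node (.leaf 1289298) (.leaf 645141)) (.leaf 1098806))) (.node (.node (.node (.leaf 1108022) (.leaf 2497614)) (.node (.leaf 1096719) (.leaf 2442273))) (.node (.node (.leaf 360548) (.leaf 1633346)) (.leaf 3443766)))) (.node (.node (.node (.node (.leaf 3523640) (.leaf 1621038)) (.node (.leaf 3039276) (.leaf 3363924)))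 (.node (.node (.leaf 2815060) (.leaf 3333143)) (.leaf 3219468))) (.node (.node (.node (.leaf 2228266) (.leaf 1517670)) (.leaf 1518633)) (.node (.node (.leaf 132114) (.leaf 3137629)) (.leaf 1206294)))))) (.node (.node (.node (.node (.node (.node (.leaf 3544105) (.leaf 3284010)) (.node (.leaf 2283592) (.leaf 1129475))) (.node (.node (.leaf 1384502) (.leaf 3105806)) (.leaf 48194))) (.node (.node (.node (.leaf 623671) (.leaf 369721)) (.node (.leaf 1190010) (.leaf 1423426))) (.node (.node (.leaf 1013877) (.leaf 3051615)) (.leaf 1428556)))) (.node (.node (.node (.node (.leaf 2724945) (.leaf 550972)) (.node (.leaf 1357910) (.leaf 1142890))) (.node (.node (.leaf 1809436) (.leaf 809019)) (.leaf 2112639))) (.node (.node (.node (.leaf 2969649) (.leaf 1793075)) (.leaf 1228820)) (.node (.node (.leaf 372776) (.leaf 1599560)) (.leaf 740472))))) (.node (.node (.node (.node (.node (.leaf 2231314) (.leaf 1959984)) (.node (.leaf 3182614) (.leaf 2406497))) (.node (.node (.leaf 2625625) (.leaf 3135526)) (.leaf 2856051))) (.node (.node (.node (.leaf 2585667) (.leaf 569396)) (.node (.leaf 93280) (.leaf 3398675))) (.node (.node (.leaf 2581578)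 (.leaf 31765)) (.leaf 108650)))) (.node (.node (.node (.node (.leaf 2871345) (.leaf 2259986)) (.node (.leaf 3191833) (.leaf 2824227))) (.node (.node (.leaf 2865243) (.leaf 1693761)) (.leaf 189564))) (.node (.node (.node (.leaf 1188978) (.leaf 274509)) (.leaf 3072066)) (.node (.node (.leaf 304158) (.leaf 1387608)) (.leaf 1995827)))))))

def twoMv09 : Janko.Tree (ℕ) :=
  (.node (.node (.node (.node (.node (.node (.node (.leaf 526425) (.leaf 3192907)) (.node (.leaf 1126422) (.leaf 2272290))) (.node (.node (.leaf 1402889) (.leaf 940116)) (.leaf 772149))) (.node (.node (.node (.leaf 2456612) (.leaf 1951868)) (.node (.leaf 1454149) (.leaf 594955))) (.node (.node (.leaf 2578527) (.leaf 209994)) (.leaf 1437701)))) (.node (.node (.node (.node (.leaf 2225236) (.leaf 67711)) (.node (.leaf 3488796) (.leaf 434287))) (.node (.node (.leaf 2154517) (.leaf 671871)) (.leaf 902267))) (.node (.node (.node (.leaf 1627261) (.leaf 231496)) (.leaf 2680881)) (.node (.node (.leaf 930845) (.leaf 3133490)) (.leaf 2542608))))) (.node (.node (.node (.node (.node (.leaf 2492507) (.leaf 1846318)) (.node (.leaf 1731669) (.leaf 1092615))) (.node (.node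 (.leaf 2093107) (.leaf 3217429)) (.leaf 2472039))) (.node (.node (.node (.leaf 1094728) (.leaf 1902674)) (.node (.leaf 1677335) (.leaf 3406950))) (.node (.node (.leaf 162914) (.leaf 972856)) (.leaf 278622)))) (.node (.node (.node (.node (.leaf 998469) (.leaf 3012681)) (.node (.leaf 1462277) (.leaf 3469375))) (.node (.node (.leaf 1379448) (.leaf 2194539)) (.leaf 2435190))) (.node (.node (.node (.leaf 2259014) (.leaf 3008542)) (.leaf 1311842)) (.node (.node (.leaf 324678) (.leaf 625741)) (.leaf 1801299)))))) (.node (.node (.node (.node (.node (.node (.leaf 2338924) (.leaf 1008763)) (.node (.leaf 2327559) (.leaf 792609))) (.node (.node (.leaf 3226738) (.leaf 2722880)) (.leaf 281676))) (.node (.node (.node (.leaf 252984) (.leaf 1114169)) (.node (.leaf 2048028) (.leaf 1852421))) (.node (.node (.leaf 3340360) (.leaf 2783262)) (.leaf 2974822)))) (.node (.node (.node (.node (.leaf 2207782) (.leaf 3204136)) (.node (.leaf 499762) (.leaf 3446891))) (.node (.node (.leaf 1611818) (.leaf 2051120)) (.leaf 3334161))) (.node (.node (.node (.leaf 1930315) (.leaf 2715757)) (.leaf 612406)) (.node (.node (.leaf 1463309) (.leaf 2546807))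 (.leaf 2001013))))) (.node (.node (.node (.node (.node (.leaf 1570833) (.leaf 747610)) (.node (.leaf 3029035) (.leaf 15401))) (.node (.node (.leaf 1722396) (.leaf 2706446)) (.leaf 3079270))) (.node (.node (.node (.leaf 1919097) (.leaf 1785891)) (.node (.leaf 299095) (.leaf 2947175))) (.node (.node (.leaf 3522636) (.leaf 1297464)) (.leaf 2131054)))) (.node (.node (.node (.node (.leaf 1557568) (.leaf 47133)) (.node (.leaf 504951) (.leaf 909351))) (.node (.node (.leaf 1003565) (.leaf 887871)) (.leaf 2525215))) (.node (.node (.node (.leaf 2447416) (.leaf 1773692)) (.leaf 3378192)) (.node (.node (.leaf 1629190) (.leaf 2462756)) (.leaf 3513451)))))))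

def twoMv010 : Janko.Tree (ℕ) :=
  (.node (.node (.node (.node (.node (.node (.node (.leaf 138278) (.leaf 2223153)) (.node (.leaf 3112059) (.leaf 71707))) (.node (.node (.leaf 849935) (.leaf 44049)) (.leaf 547931))) (.node (.node (.node (.leaf 2794621) (.leaf 2290720)) (.node (.leaf 2627597) (.leaf 3295315))) (.node (.node (.leaf 1097) (.leaf 561177)) (.leaf 1895479)))) (.node (.node (.node (.node (.leaf 2305141) (.leaf 2561145)) (.node (.leaf 1481800) (.leaf 629838))) (.node (.node (.leaf 2455642) (.leaf 1415196)) (.leaf 1541235))) (.node (.node (.node (.leaf 3449967) (.leaf 3542045)) (.leaf 397346)) (.node (.node (.leaf 2927741) (.leaf 300110)) (.leaf 653361))))) (.node (.node (.node (.node (.node (.leaf 2008136) (.leaf 1568825)) (.node (.leaf 1314855) (.leaf 2665598))) (.node (.node (.leaf 472105) (.leaf 934986)) (.leaf 174114))) (.node (.node (.node (.leaf 1127497) (.leaf 1778753)) (.node (.leaf 2553969) (.leaf 3403805))) (.node (.node (.leaf 2841609) (.leaf 485423)) (.leaf 1530914)))) (.node (.node (.node (.node (.leaf 3267663) (.leaf 900222)) (.node (.leaf 1310741) (.leaf 1250370))) (.node (.node (.leaf 3275874)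 (.leaf 2692190)) (.leaf 2410528))) (.node (.node (.node (.leaf 2179135) (.leaf 3208194)) (.leaf 2212969)) (.node (.node (.leaf 1420319) (.leaf 452676)) (.leaf 1689616)))))) (.node (.node (.node (.node (.node (.node (.leaf 3173480) (.leaf 3138686)) (.node (.leaf 811019) (.leaf 2344983))) (.node (.node (.leaf 1043474) (.leaf 1435714)) (.leaf 661614))) (.node (.node (.node (.leaf 1076237) (.leaf 104567)) (.node (.leaf 37929) (.leaf 3325957))) (.node (.node (.leaf 1238113) (.leaf 319535)) (.leaf 3344475)))) (.node (.node (.node (.node (.leaf 2966557) (.leaf 447515)) (.node (.leaf 606236) (.leaf 2286707))) (.node (.node (.leaf 2074712) (.leaf 2773091)) (.leaf 3085404))) (.node (.node (.node (.leaf 1891388) (.leaf 2940968)) (.leaf 592903)) (.node (.node (.leaf 76886) (.leaf 1122414)) (.leaf 959589))))) (.node (.node (.node (.node (.node (.leaf 1858664) (.leaf 3444852)) (.node (.leaf 2506806) (.leaf 1563664))) (.node (.node (.leaf 2252837) (.leaf 1474660)) (.leaf 771196))) (.node (.node (.node (.leaf 3220485) (.leaf 3274841)) (.node (.leaf 847987) (.leaf 205863))) (.node (.node (.leaf 18503) (.leaf 2108452)) (.leaf 378916))))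 (.node (.node (.node (.node (.leaf 3364879) (.leaf 405582)) (.node (.leaf 611429) (.leaf 127076))) (.node (.node (.leaf 3183630) (.leaf 2042990)) (.leaf 1112121))) (.node (.node (.node (.leaf 1551437) (.leaf 2787349)) (.leaf 1483820)) (.node (.node (.leaf 2937962) (.leaf 2033688)) (.leaf 1243137)))))))

def twoMv011 : Janko.Tree (ℕ) :=
  (.node (.node (.node (.node (.node (.node (.node (.leaf 962630) (.leaf 1821727)) (.node (.leaf 2913280) (.leaf 2900011))) (.node (.node (.leaf 874533) (.leaf 2297943)) (.leaf 513059))) (.node (.node (.node (.leaf 1277010) (.leaf 1179713)) (.node (.leaf 2859070) (.leaf 578575))) (.node (.node (.leaf 1159227) (.leaf 244748)) (.leaf 3421195)))) (.node (.node (.node (.node (.leaf 1712186) (.leaf 768029)) (.node (.leaf 2201690) (.leaf 2645100))) (.node (.node (.leaf 3170360) (.leaf 1697838)) (.leaf 3389563))) (.node (.node (.node (.leaf 509012) (.leaf 3481689)) (.leaf 2548736)) (.node (.node (.leaf 451655) (.leaf 1247254)) (.leaf 2979841))))) (.node (.node (.node (.node (.node (.leaf 979023) (.leaf 636957)) (.node (.leaf 3470444) (.leaf 974882))) (.node (.node (.leaf 1224708) (.leaf 2255995))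 (.leaf 522352))) (.node (.node (.node (.leaf 2972760) (.leaf 2432101)) (.node (.leaf 1893456) (.leaf 601214))) (.node (.node (.leaf 36952) (.leaf 799822)) (.leaf 1896461)))) (.node (.node (.node (.node (.leaf 2372635) (.leaf 3026965)) (.node (.leaf 992344) (.leaf 3193881))) (.node (.node (.leaf 2719819) (.leaf 2209904)) (.leaf 752740))) (.node (.node (.node (.leaf 1543199) (.leaf 3341415)) (.leaf 3332123)) (.node (.node (.leaf 2649173) (.leaf 347159)) (.leaf 1802312)))))) (.node (.node (.node (.node (.node (.node (.leaf 1040489) (.leaf 2831441)) (.node (.leaf 439356) (.leaf 1737739))) (.node (.node (.leaf 3212377) (.leaf 1920100)) (.leaf 1192995))) (.node (.node (.node (.leaf 3060787) (.leaf 2797659)) (.node (.leaf 770143) (.leaf 325686))) (.node (.node (.leaf 14456) (.leaf 927818)) (.leaf 1282077)))) (.node (.node (.node (.node (.leaf 3189859) (.leaf 288879)) (.node (.leaf 2828378) (.leaf 2782260))) (.node (.node (.leaf 2496569) (.leaf 3268626)) (.leaf 1176648))) (.node (.node (.node (.leaf 1270897) (.leaf 2754668)) (.leaf 2020428)) (.node (.node (.leaf 3429417) (.leaf 2063424)) (.leaf 3538008))))) (.node (.node (.node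 (.node (.node (.leaf 77907) (.leaf 1419306)) (.node (.leaf 3103826) (.leaf 1822780))) (.node (.node (.leaf 1056892) (.leaf 1324146)) (.leaf 215050))) (.node (.node (.node (.leaf 2495526) (.leaf 1257599)) (.node (.leaf 2701412) (.leaf 675945))) (.node (.node (.leaf 556083) (.leaf 3465275)) (.leaf 3176484)))) (.node (.node (.node (.node (.leaf 2960404) (.leaf 898133)) (.node (.leaf 377959) (.leaf 371809))) (.node (.node (.leaf 1671287) (.leaf 250978)) (.leaf 2696260))) (.node (.node (.node (.leaf 1699925) (.leaf 301119)) (.leaf 2153553)) (.node (.node (.leaf 2262032) (.leaf 1207303)) (.leaf 53271)))))))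

def twoMv012 : Janko.Tree (ℕ) :=
  (.node (.node (.node (.node (.node (.node (.node (.leaf 1710141) (.leaf 1307740)) (.node (.leaf 3482730) (.leaf 823319))) (.node (.node (.leaf 3371059) (.leaf 1836075)) (.leaf 2672687))) (.node (.node (.node (.leaf 2115634) (.leaf 1972244)) (.node (.leaf 2022412) (.leaf 309268))) (.node (.node (.leaf 2396171) (.leaf 3290121)) (.leaf 3416083)))) (.node (.node (.node (.node (.leaf 3343484) (.leaf 2661377)) (.node (.leaf 2891820) (.leaf 1947694))) (.node (.node (.leaf 818229) (.leaf 3451956)) (.leaf 3350632))) (.node (.node (.node (.leaf 156719) (.leaf 2004074)) (.leaf 1855562)) (.node (.node (.leaf 2334814) (.leaf 1074184)) (.leaf 3112961))))) (.node (.node (.node (.node (.node (.leaf 899101) (.leaf 1520674)) (.node (.leaf 3042323) (.leaf 3306580))) (.node (.node (.leaf 2617436) (.leaf 2767989)) (.leaf 1536043))) (.node (.node (.node (.leaf 1305601) (.leaf 640106)) (.node (.leaf 2919495) (.leaf 489542))) (.node (.node (.leaf 2279505) (.leaf 1130607)) (.leaf 1138695)))) (.node (.node (.node (.node (.leaf 2620450) (.leaf 1976339)) (.node (.leaf 3319866) (.leaf 2023531))) (.node (.node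 (.leaf 3159047) (.leaf 764979)) (.leaf 855148))) (.node (.node (.node (.leaf 1783866) (.leaf 802938)) (.leaf 1779756)) (.node (.node (.leaf 443446) (.leaf 2983029)) (.leaf 1725517)))))) (.node (.node (.node (.node (.node (.node (.leaf 1798232) (.leaf 3139696)) (.node (.leaf 982130) (.leaf 2477110))) (.node (.node (.leaf 3375159) (.leaf 1850437)) (.leaf 749573))) (.node (.node (.node (.leaf 3168273) (.leaf 1301583)) (.node (.leaf 1803295) (.leaf 984119))) (.node (.node (.leaf 279667) (.leaf 2869330)) (.leaf 2862107)))) (.node (.node (.node (.node (.leaf 1432654) (.leaf 1867849)) (.node (.leaf 130092) (.leaf 1854467))) (.node (.node (.leaf 2186366) (.leaf 1787969)) (.leaf 1949786))) (.node (.node (.node (.leaf 1529922) (.leaf 2606097)) (.leaf 3496059)) (.node (.node (.leaf 1132634) (.leaf 3232807)) (.leaf 590949))))) (.node (.node (.node (.node (.node (.leaf 1624080) (.leaf 173164)) (.node (.leaf 797722) (.leaf 2945134))) (.node (.node (.leaf 1259565) (.leaf 3296318)) (.leaf 1770553))) (.node (.node (.node (.leaf 1192004) (.leaf 1021957)) (.node (.leaf 725109) (.leaf 539665))) (.node (.node (.leaf 3068930) (.leaf 284744))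 (.leaf 3185737)))) (.node (.node (.node (.node (.leaf 1214528) (.leaf 2068548)) (.node (.leaf 3076189) (.leaf 1095771))) (.node (.node (.leaf 1939557) (.leaf 1047674)) (.leaf 793623))) (.node (.node (.node (.leaf 415778) (.leaf 275478)) (.leaf 66650)) (.node (.node (.leaf 2510911) (.leaf 1507432)) (.leaf 911388)))))))

def twoMv013 : Janko.Tree (ℕ) :=
  (.node (.node (.node (.node (.node (.node (.node (.leaf 3459181) (.leaf 1668183)) (.node (.leaf 3487832) (.leaf 3098685))) (.node (.node (.leaf 348189) (.leaf 2670634)) (.leaf 2167906))) (.node (.node (.node (.leaf 1828975) (.leaf 207898)) (.node (.leaf 737325) (.leaf 1575998))) (.node (.node (.leaf 2938993) (.leaf 1464383)) (.leaf 2352239)))) (.node (.node (.node (.node (.leaf 563223) (.leaf 1004580)) (.node (.leaf 1617017) (.leaf 2535543))) (.node (.node (.leaf 139328) (.leaf 1814627)) (.leaf 3163186))) (.node (.node (.node (.leaf 1957992) (.leaf 1617999)) (.leaf 2391161)) (.node (.node (.leaf 1425505) (.leaf 1011829)) (.leaf 2427989))))) (.node (.node (.node (.node (.node (.leaf 1151093) (.leaf 890990)) (.node (.leaf 2376811) (.leaf 2040861))) (.node (.node (.leaf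 2577475) (.leaf 3373153)) (.leaf 2760788))) (.node (.node (.node (.leaf 1871878) (.leaf 537713)) (.node (.leaf 1421398) (.leaf 1446003))) (.node (.node (.leaf 846915) (.leaf 3073148)) (.leaf 3349547)))) (.node (.node (.node (.node (.leaf 1977418) (.leaf 1601651)) (.node (.leaf 167976) (.leaf 756852))) (.node (.node (.leaf 3412018) (.leaf 79879)) (.leaf 2936925))) (.node (.node (.node (.leaf 3082351) (.leaf 251910)) (.leaf 225332)) (.node (.node (.leaf 1178670) (.leaf 1068097)) (.leaf 2175090)))))) (.node (.node (.node (.node (.node (.node (.leaf 2230314) (.leaf 3299388)) (.node (.leaf 2441323) (.leaf 2903144))) (.node (.node (.leaf 862284) (.leaf 1195100)) (.leaf 1540156))) (.node (.node (.node (.leaf 3104801) (.leaf 495654)) (.node (.leaf 3150956) (.leaf 1691651))) (.node (.node (.leaf 3084396) (.leaf 1538166)) (.leaf 3504190)))) (.node (.node (.node (.node (.leaf 2270216) (.leaf 3533918)) (.node (.leaf 1385484) (.leaf 2759770))) (.node (.node (.leaf 303201) (.leaf 2403386)) (.leaf 646263))) (.node (.node (.node (.leaf 370760) (.leaf 2090066)) (.leaf 330849)) (.node (.node (.leaf 3013754) (.leaf 190509)) (.leaf 544798)))))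 (.node (.node (.node (.node (.node (.leaf 2150455) (.leaf 5220)) (.node (.leaf 1552417) (.leaf 2214987))) (.node (.node (.leaf 1715226) (.leaf 2733140)) (.leaf 2475071))) (.node (.node (.node (.leaf 3509349) (.leaf 1619044)) (.node (.leaf 3247211) (.leaf 3038228))) (.node (.node (.leaf 918530) (.leaf 1961022)) (.leaf 2594917)))) (.node (.node (.node (.node (.leaf 1417286) (.leaf 835696)) (.node (.leaf 980082) (.leaf 2632780))) (.node (.node (.leaf 2385017) (.leaf 1318943)) (.leaf 817267))) (.node (.node (.node (.leaf 3413089) (.leaf 9249)) (.leaf 2466941)) (.node (.node (.leaf 1862759) (.leaf 2619470)) (.leaf 3478622)))))))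

def twoMv014 : Janko.Tree (ℕ) :=
  (.node (.node (.node (.node (.node (.node (.node (.leaf 2045966) (.leaf 2156570)) (.node (.leaf 1733681) (.leaf 2059342))) (.node (.node (.leaf 1052724) (.leaf 470057)) (.leaf 839710))) (.node (.node (.node (.leaf 2136124) (.leaf 155769)) (.node (.leaf 3142688) (.leaf 1573957))) (.node (.node (.leaf 2929709) (.leaf 1239044)) (.leaf 1674329)))) (.node (.node (.node (.node (.leaf 318470) (.leaf 915529)) (.node (.leaf 1338470) (.leaf 359426))) (.node (.node (.leaf 633940) (.leaf 1631340)) (.leaf 1400877))) (.node (.node (.node (.leaf 2155639) (.leaf 663599)) (.leaf 290874)) (.node (.node (.leaf 1361973) (.leaf 3381299)) (.leaf 1820793))))) (.node (.node (.node (.node (.node (.leaf 1434726) (.leaf 581652)) (.node (.leaf 107578) (.leaf 2065487))) (.node (.node (.leaf 1399906) (.leaf 1504299)) (.leaf 577609))) (.node (.node (.node (.leaf 1562703) (.leaf 1196125)) (.node (.leaf 2433067) (.leaf 1982577))) (.node (.node (.leaf 2379786) (.leaf 2079785)) (.leaf 652361)))) (.node (.node (.node (.node (.leaf 942125) (.leaf 276490)) (.node (.leaf 1887253) (.leaf 999526))) (.node (.node (.leaf 630831)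 (.leaf 1256508)) (.leaf 2512945))) (.node (.node (.node (.leaf 1934370) (.leaf 2734127)) (.leaf 3357714)) (.node (.node (.leaf 970787) (.leaf 907313)) (.leaf 312381)))))) (.node (.node (.node (.node (.node (.node (.leaf 1097789) (.leaf 3130402)) (.node (.leaf 3394586) (.leaf 2106471))) (.node (.node (.leaf 3455100) (.leaf 3316738)) (.leaf 198773))) (.node (.node (.node (.leaf 482329) (.leaf 1303568)) (.node (.leaf 351283) (.leaf 2164848))) (.node (.node (.leaf 1813520) (.leaf 1848382)) (.leaf 933923)))) (.node (.node (.node (.node (.leaf 3494014) (.leaf 2840607)) (.node (.leaf 2916413) (.leaf 1136651))) (.node (.node (.leaf 1937415) (.leaf 1879107)) (.leaf 286786))) (.node (.node (.node (.leaf 2879492) (.leaf 394291)) (.leaf 1168460)) (.node (.node (.leaf 551957) (.leaf 2238489)) (.leaf 1093657))))) (.node (.node (.node (.node (.node (.leaf 2921485) (.leaf 2274334)) (.node (.leaf 316506) (.leaf 869442))) (.node (.node (.leaf 1266755) (.leaf 2148388)) (.leaf 3356709))) (.node (.node (.node (.leaf 2094132) (.leaf 1135639)) (.node (.leaf 913523) (.leaf 2138126))) (.node (.node (.leaf 2876540) (.leaf 3335221)) (.leaf 1723406))))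 (.node (.node (.node (.node (.leaf 1757263) (.leaf 800870)) (.node (.leaf 1245188) (.leaf 2584655))) (.node (.node (.leaf 1873021) (.leaf 356367)) (.leaf 2875500))) (.node (.node (.node (.leaf 2615416) (.leaf 714796)) (.leaf 3516491)) (.node (.node (.leaf 1330275) (.leaf 2778219)) (.leaf 2366576)))))))

def twoMv015 : Janko.Tree (ℕ) :=
  (.node (.node (.node (.node (.node (.node (.node (.leaf 115775) (.leaf 2245677)) (.node (.leaf 102424) (.leaf 2802727))) (.node (.node (.leaf 1528950) (.leaf 196671)) (.leaf 3464192))) (.node (.node (.node (.leaf 2053164) (.leaf 3214441)) (.node (.leaf 1348702) (.leaf 2771981))) (.node (.node (.leaf 1759245) (.leaf 952361)) (.leaf 2233417)))) (.node (.node (.node (.node (.leaf 2700413) (.leaf 2614367)) (.node (.leaf 1465372) (.leaf 1703938))) (.node (.node (.leaf 3131431) (.leaf 3125340)) (.leaf 2676815))) (.node (.node (.node (.leaf 2373692) (.leaf 713764)) (.leaf 2934905)) (.node (.node (.leaf 3379288) (.leaf 1336328)) (.leaf 2502738))))) (.node (.node (.node (.node (.node (.leaf 3505265) (.leaf 3081269)) (.node (.leaf 2559050) (.leaf 129049))) (.node (.node (.leaf 2978904) (.leaf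 3251296)) (.leaf 2651217))) (.node (.node (.node (.leaf 746610) (.leaf 543800)) (.node (.leaf 733233) (.leaf 1221686))) (.node (.node (.leaf 903243) (.leaf 1676326)) (.leaf 2611252)))) (.node (.node (.node (.node (.leaf 1994870) (.leaf 1500254)) (.node (.leaf 2445419) (.leaf 1777773))) (.node (.node (.leaf 435282) (.leaf 1057854)) (.leaf 628747))) (.node (.node (.node (.leaf 540687) (.leaf 161857)) (.leaf 3271742)) (.node (.node (.leaf 1554483) (.leaf 741494)) (.leaf 678922)))))) (.node (.node (.node (.node (.node (.node (.leaf 2389025) (.leaf 277626)) (.node (.leaf 3308617) (.leaf 858144))) (.node (.node (.leaf 1600590) (.leaf 191541)) (.leaf 383004))) (.node (.node (.node (.leaf 186369) (.leaf 3388516)) (.node (.leaf 2122866) (.leaf 2948197))) (.node (.node (.leaf 727077) (.leaf 105510)) (.leaf 72770)))) (.node (.node (.node (.node (.leaf 1217568) (.leaf 1440880)) (.node (.leaf 925809) (.leaf 3033114))) (.node (.node (.leaf 2152534) (.leaf 1285183)) (.leaf 85118))) (.node (.node (.node (.leaf 1252422) (.leaf 2997264)) (.leaf 3235861)) (.node (.node (.leaf 3360770) (.leaf 875559)) (.leaf 242752))))) (.node (.node (.node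 (.node (.node (.leaf 545869) (.leaf 2205730)) (.node (.leaf 1508382) (.leaf 624650))) (.node (.node (.leaf 2211949) (.leaf 379917)) (.leaf 1032294))) (.node (.node (.node (.leaf 2965563) (.leaf 518150)) (.node (.leaf 726062) (.leaf 922624))) (.node (.node (.leaf 1933439) (.leaf 1182784)) (.leaf 3101711)))) (.node (.node (.node (.node (.leaf 1832972) (.leaf 1967172)) (.node (.leaf 2720784) (.leaf 247895))) (.node (.node (.leaf 62571) (.leaf 2766937)) (.leaf 2758722))) (.node (.node (.node (.leaf 1805349) (.leaf 827486)) (.leaf 1648694)) (.node (.node (.leaf 2367572) (.leaf 2639932)) (.leaf 3269736)))))))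

def twoMv016 : Janko.Tree (ℕ) :=
  (.node (.node (.node (.node (.node (.node (.node (.leaf 836662) (.leaf 2105394)) (.node (.leaf 1974321) (.leaf 2771040))) (.node (.node (.leaf 2517054) (.leaf 780331)) (.leaf 3492932))) (.node (.node (.node (.leaf 632844) (.leaf 1567798)) (.node (.leaf 30828) (.leaf 1389619))) (.node (.node (.leaf 3491943) (.leaf 1358861)) (.leaf 2835474)))) (.node (.node (.node (.node (.leaf 1264735) (.leaf 2226200)) (.node (.leaf 1608786) (.leaf 3223566))) (.node (.node (.leaf 2244715) (.leaf 3348541)) (.leaf 232573))) (.node (.node (.node (.leaf 1940493) (.leaf 978009)) (.leaf 1383478)) (.node (.node (.leaf 2834525) (.leaf 1223723)) (.leaf 530558))))) (.node (.node (.node (.node (.node (.leaf 1888330) (.leaf 1082481)) (.node (.leaf 1748007) (.leaf 878640))) (.node (.node (.leaf 2951205) (.leaf 2078821)) (.leaf 385077))) (.node (.node (.node (.leaf 1764378) (.leaf 1444936)) (.node (.leaf 3045398) (.leaf 2537599))) (.node (.node (.leaf 2853981) (.leaf 363536)) (.leaf 1222677)))) (.node (.node (.node (.node (.leaf 1669206) (.leaf 514054)) (.node (.leaf 427012) (.leaf 2143233))) (.node (.node (.leaf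 3282966) (.leaf 3497041)) (.leaf 608366))) (.node (.node (.node (.leaf 2282602) (.leaf 885821)) (.leaf 1527845)) (.node (.node (.leaf 1795155) (.leaf 3114043)) (.leaf 2781251)))))) (.node (.node (.node (.node (.node (.node (.leaf 3021884) (.leaf 364578)) (.node (.leaf 166958) (.leaf 3152905))) (.node (.node (.leaf 1157230) (.leaf 1035328)) (.leaf 3032191))) (.node (.node (.node (.leaf 2567181) (.leaf 332815)) (.node (.leaf 2058315) (.leaf 1863729))) (.node (.node (.leaf 268359) (.leaf 1816618)) (.leaf 2064426)))) (.node (.node (.node (.node (.leaf 2420811) (.leaf 1926152)) (.node (.leaf 3324976) (.leaf 1810524))) (.node (.node (.leaf 1996853) (.leaf 1162314)) (.leaf 1653805))) (.node (.node (.node (.leaf 1293403) (.leaf 1756223)) (.leaf 120864)) (.node (.node (.leaf 42010) (.leaf 3286030)) (.leaf 2608240))))) (.node (.node (.node (.node (.node (.leaf 3019823) (.leaf 1910799)) (.node (.leaf 2851924) (.leaf 89175))) (.node (.node (.leaf 1220682) (.leaf 3442747)) (.leaf 1299492))) (.node (.node (.node (.leaf 2443336) (.leaf 430105)) (.node (.leaf 3184672) (.leaf 3342449))) (.node (.node (.leaf 119867) (.leaf 2554897))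 (.leaf 1675344)))) (.node (.node (.node (.node (.leaf 3293284) (.leaf 1253440)) (.node (.leaf 3211388) (.leaf 1915906))) (.node (.node (.leaf 402472) (.leaf 711709)) (.leaf 2343983))) (.node (.node (.node (.leaf 648287) (.leaf 170099)) (.leaf 1209443)) (.node (.node (.leaf 345130) (.leaf 3044369)) (.leaf 321600)))))))

def twoMv017 : Janko.Tree (ℕ) :=
  (.node (.node (.node (.node (.node (.node (.node (.leaf 428051) (.leaf 2041858)) (.node (.leaf 1316887) (.leaf 664650))) (.node (.node (.leaf 2277425) (.leaf 1615892)) (.leaf 668686))) (.node (.node (.node (.leaf 444474) (.leaf 3015687)) (.node (.leaf 694398) (.leaf 1612816))) (.node (.node (.leaf 13390) (.leaf 2739242)) (.leaf 881682)))) (.node (.node (.node (.node (.leaf 357423) (.leaf 3228695)) (.node (.leaf 1294354) (.leaf 3128428))) (.node (.node (.leaf 448532) (.leaf 2465858)) (.leaf 1237116))) (.node (.node (.node (.leaf 2745437) (.leaf 2755696)) (.leaf 2596889)) (.node (.node (.leaf 431127) (.leaf 2721866)) (.leaf 239697))))) (.node (.node (.node (.node (.node (.leaf 68638) (.leaf 3420278)) (.node (.leaf 2039899) (.leaf 1744933))) (.node (.node (.leaf 2485275)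 (.leaf 3181649)) (.leaf 333850))) (.node (.node (.node (.leaf 1577020) (.leaf 1277960)) (.node (.leaf 840785) (.leaf 1760317))) (.node (.node (.leaf 1306646) (.leaf 1555499)) (.leaf 437343)))) (.node (.node (.node (.node (.leaf 2560072) (.leaf 2597941)) (.node (.leaf 142362) (.leaf 535579))) (.node (.node (.leaf 2774128) (.leaf 2193437)) (.leaf 2091114))) (.node (.node (.node (.leaf 486451) (.leaf 3213352)) (.leaf 3190832)) (.node (.node (.leaf 180314) (.leaf 2438254)) (.leaf 2647107)))))) (.node (.node (.node (.node (.node (.node (.leaf 3512419) (.leaf 2946060)) (.node (.leaf 133224) (.leaf 1638424))) (.node (.node (.leaf 1549354) (.leaf 1923120)) (.leaf 529434))) (.node (.node (.node (.leaf 830495) (.leaf 2458706)) (.node (.leaf 19492) (.leaf 3425402))) (.node (.node (.leaf 1037333) (.leaf 568324)) (.leaf 3236911)))) (.node (.node (.node (.node (.leaf 1267795) (.leaf 1952820)) (.node (.leaf 1732733) (.leaf 786457))) (.node (.node (.leaf 2422863) (.leaf 1606685)) (.leaf 1251400))) (.node (.node (.node (.leaf 2769006) (.leaf 1639467)) (.leaf 889975)) (.node (.node (.leaf 1211398) (.leaf 2780243)) (.leaf 2565198)))))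 (.node (.node (.node (.node (.node (.leaf 1830014) (.leaf 3531866)) (.node (.leaf 50293) (.leaf 1426497))) (.node (.node (.leaf 524367) (.leaf 1375235)) (.leaf 1539162))) (.node (.node (.node (.leaf 2312310) (.leaf 3377182)) (.node (.leaf 3261548) (.leaf 1186909))) (.node (.node (.leaf 1582145) (.leaf 1351710)) (.leaf 2448467)))) (.node (.node (.node (.node (.leaf 651348) (.leaf 57404)) (.node (.leaf 3242091) (.leaf 2580578))) (.node (.node (.leaf 1083501) (.leaf 2664451)) (.leaf 1707115))) (.node (.node (.node (.leaf 1412208) (.leaf 2895960)) (.leaf 2811983)) (.node (.node (.leaf 59440) (.leaf 2605161)) (.leaf 2566178)))))))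

def twoMv018 : Janko.Tree (ℕ) :=
  (.node (.node (.node (.node (.node (.node (.node (.leaf 2049091) (.leaf 1459227)) (.node (.leaf 248937) (.leaf 564282))) (.node (.node (.leaf 1255516) (.leaf 2036754)) (.leaf 1246220))) (.node (.node (.node (.leaf 531531) (.leaf 1754128)) (.node (.leaf 2018334) (.leaf 3158134))) (.node (.node (.leaf 2708502) (.leaf 1928262)) (.leaf 1890306)))) (.node (.node (.node (.node (.leaf 2935853) (.leaf 481336)) (.node (.leaf 976958) (.leaf 851046))) (.node (.node (.leaf 2695206) (.leaf 882710)) (.leaf 2654228))) (.node (.node (.node (.leaf 353383) (.leaf 2777189)) (.leaf 761924)) (.node (.node (.leaf 2890768) (.leaf 1482757)) (.leaf 559124))))) (.node (.node (.node (.node (.node (.leaf 1153037) (.leaf 195648)) (.node (.leaf 1213493) (.leaf 1865797))) (.node (.node (.leaf 1553489) (.leaf 1340503)) (.leaf 175144))) (.node (.node (.node (.leaf 1363059) (.leaf 1667184)) (.node (.leaf 3140706) (.leaf 2102332))) (.node (.node (.leaf 441380) (.leaf 2423910)) (.leaf 2618412)))) (.node (.node (.node (.node (.leaf 3320928) (.leaf 598042)) (.node (.leaf 3495020) (.leaf 814189))) (.node (.node (.leaf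 1133690) (.leaf 2667606)) (.leaf 2798603))) (.node (.node (.node (.leaf 3151992) (.leaf 721921)) (.leaf 2750529)) (.node (.node (.leaf 1661014) (.leaf 1391710)) (.leaf 1771532)))))) (.node (.node (.node (.node (.node (.node (.leaf 1262611) (.leaf 1958913)) (.node (.leaf 86140) (.leaf 1824826))) (.node (.node (.leaf 1158254) (.leaf 703539)) (.leaf 1120321))) (.node (.node (.node (.leaf 1730564) (.leaf 3301378)) (.node (.leaf 1975342) (.leaf 1472612))) (.node (.node (.leaf 412724) (.leaf 1288230)) (.leaf 1911869)))) (.node (.node (.node (.node (.leaf 1856540) (.leaf 3143756)) (.node (.leaf 3351626) (.leaf 2426915))) (.node (.node (.leaf 3239978) (.leaf 854035)) (.leaf 2309162))) (.node (.node (.node (.leaf 2126924) (.leaf 1542157)) (.leaf 2857073)) (.node (.node (.leaf 2067474) (.leaf 1170473)) (.leaf 916573))))) (.node (.node (.node (.node (.node (.leaf 3067928) (.leaf 1572867)) (.node (.leaf 1333276) (.leaf 2336849))) (.node (.node (.leaf 1198153) (.leaf 3535911)) (.leaf 3165232))) (.node (.node (.node (.leaf 2293787) (.leaf 1268816)) (.node (.leaf 1906707) (.leaf 842836))) (.node (.node (.leaf 2710640) (.leaf 280633))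 (.leaf 2181166)))) (.node (.node (.node (.node (.leaf 3091548) (.leaf 2656332)) (.node (.leaf 2954318) (.leaf 2460762))) (.node (.node (.leaf 1713252) (.leaf 3148903)) (.leaf 1244285))) (.node (.node (.node (.leaf 3035151) (.leaf 2397278)) (.leaf 1388617)) (.node (.node (.leaf 294001) (.leaf 1635337)) (.leaf 677955)))))))

def twoMv019 : Janko.Tree (ℕ) :=
  (.node (.node (.node (.node (.node (.node (.node (.leaf 2482182) (.leaf 221193)) (.node (.leaf 2543616) (.leaf 2114665))) (.node (.node (.leaf 396349) (.leaf 2705535)) (.leaf 1597467))) (.node (.node (.node (.leaf 2630758) (.leaf 2310188)) (.node (.leaf 1030202) (.leaf 1636458))) (.node (.node (.leaf 3136552) (.leaf 784391)) (.leaf 3144787)))) (.node (.node (.node (.node (.leaf 3000372) (.leaf 767044)) (.node (.leaf 1734730) (.leaf 2987092))) (.node (.node (.leaf 919615) (.leaf 1884270)) (.leaf 2889848))) (.node (.node (.node (.leaf 3427412) (.leaf 1753101)) (.leaf 2419820)) (.node (.node (.leaf 2547755) (.leaf 2390107)) (.leaf 2418733))))) (.node (.node (.node (.node (.node (.leaf 1477633) (.leaf 1931391)) (.node (.leaf 229416) (.leaf 2650175))) (.node (.node (.leaf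 390173) (.leaf 1924130)) (.leaf 258154))) (.node (.node (.node (.leaf 3390522) (.leaf 2633841)) (.node (.leaf 2298998) (.leaf 1374244))) (.node (.node (.leaf 991238) (.leaf 2393108)) (.leaf 2199655)))) (.node (.node (.node (.node (.leaf 1002590) (.leaf 1583124)) (.node (.leaf 2213974) (.leaf 2988120))) (.node (.node (.leaf 783464) (.leaf 2789497)) (.leaf 1524812))) (.node (.node (.node (.leaf 861231) (.leaf 1747012)) (.leaf 1904656)) (.node (.node (.leaf 3410993) (.leaf 558116)) (.leaf 1708055)))))) (.node (.node (.node (.node (.node (.node (.leaf 832517) (.leaf 597038)) (.node (.leaf 560170) (.leaf 806961))) (.node (.node (.leaf 553994) (.leaf 2489382)) (.leaf 1578047))) (.node (.node (.node (.leaf 1622138) (.leaf 2846787)) (.node (.leaf 681996) (.leaf 541788))) (.node (.node (.leaf 920583) (.leaf 3453028)) (.leaf 777236)))) (.node (.node (.node (.node (.leaf 455748) (.leaf 3399750)) (.node (.leaf 3126306) (.leaf 164961))) (.node (.node (.leaf 1488915) (.leaf 1936470)) (.leaf 224362))) (.node (.node (.node (.leaf 2765902) (.leaf 931855)) (.leaf 1194052)) (.node (.node (.leaf 2690161) (.leaf 2532402)) (.leaf 748649)))))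 (.node (.node (.node (.node (.node (.leaf 2917388) (.leaf 1738819)) (.node (.leaf 1055825) (.leaf 3498053))) (.node (.node (.leaf 1184884) (.leaf 100451)) (.leaf 1965067))) (.node (.node (.node (.leaf 1566726) (.leaf 1788950)) (.node (.leaf 2360360) (.leaf 1684522))) (.node (.node (.leaf 188520) (.leaf 1497177)) (.leaf 1087552)))) (.node (.node (.node (.node (.leaf 1067019) (.leaf 1230901)) (.node (.leaf 2392146) (.leaf 1894482))) (.node (.node (.leaf 262144) (.leaf 1641572)) (.leaf 1364078))) (.node (.node (.node (.leaf 2483280) (.leaf 1702925)) (.leaf 3057701)) (.node (.node (.leaf 1827931) (.leaf 3020878)) (.leaf 2444323)))))))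

def twoMv020 : Janko.Tree (ℕ) :=
  (.node (.node (.node (.node (.node (.node (.node (.leaf 1034334) (.leaf 1313884)) (.node (.leaf 1024027) (.leaf 2429958))) (.node (.node (.leaf 409635) (.leaf 2168938)) (.leaf 1720425))) (.node (.node (.node (.leaf 716824) (.leaf 1110042)) (.node (.leaf 1325181) (.leaf 2604052))) (.node (.node (.leaf 2361345) (.leaf 3244105)) (.leaf 315506)))) (.node (.node (.node (.node (.leaf 2753658) (.leaf 355375)) (.node (.leaf 1191037) (.leaf 2099299))) (.node (.node (.leaf 1086583) (.leaf 2139177)) (.leaf 562247))) (.node (.node (.node (.leaf 2317331) (.leaf 1235044)) (.leaf 2076708)) (.node (.node (.leaf 56421) (.leaf 2032649)) (.leaf 1634323))))) (.node (.node (.node (.node (.node (.leaf 307201) (.leaf 1332270)) (.node (.leaf 3515404) (.leaf 1594446))) (.node (.node (.leaf 145503) (.leaf 1847371)) (.leaf 45148))) (.node (.node (.node (.leaf 3097646) (.leaf 1100861)) (.node (.leaf 891977) (.leaf 3372108))) (.node (.node (.leaf 2579484) (.leaf 3063890)) (.leaf 906353)))) (.node (.node (.node (.node (.leaf 1296441) (.leaf 3022907)) (.node (.leaf 2827373) (.leaf 2629677))) (.node (.node (.leaf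 1565706) (.leaf 674876)) (.leaf 3083342))) (.node (.node (.node (.leaf 2922593) (.leaf 2183197)) (.leaf 106590)) (.node (.node (.leaf 2955338) (.leaf 776279)) (.leaf 969801)))))) (.node (.node (.node (.node (.node (.node (.leaf 719921) (.leaf 163919)) (.node (.leaf 3107962) (.leaf 3322945))) (.node (.node (.leaf 3200081) (.leaf 2358353)) (.leaf 3276865))) (.node (.node (.node (.leaf 1320047) (.leaf 1954905)) (.node (.leaf 2992244) (.leaf 2803752))) (.node (.node (.leaf 3092515) (.leaf 946269)) (.leaf 2222151)))) (.node (.node (.node (.node (.leaf 2481216) (.leaf 1899632)) (.node (.leaf 2278504) (.leaf 2236434))) (.node (.node (.leaf 2845804) (.leaf 2909239)) (.leaf 1359934))) (.node (.node (.node (.leaf 1349707) (.leaf 584797)) (.leaf 2820110)) (.node (.node (.leaf 183323) (.leaf 2234429)) (.leaf 3171400))))) (.node (.node (.node (.node (.node (.leaf 500817) (.leaf 3074052)) (.node (.leaf 1652777) (.leaf 2555958))) (.node (.node (.leaf 2894866) (.leaf 354394)) (.leaf 350302))) (.node (.node (.node (.leaf 2704482) (.leaf 517177)) (.node (.leaf 570474) (.leaf 782418))) (.node (.node (.leaf 1269760) (.leaf 214040)) (.leaf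 964730)))) (.node (.node (.node (.node (.leaf 3046452) (.leaf 3536926)) (.node (.leaf 699420) (.leaf 2237499))) (.node (.node (.leaf 1073190) (.leaf 828418)) (.leaf 181282))) (.node (.node (.node (.leaf 2224139) (.leaf 2132999)) (.leaf 1116165)) (.node (.node (.leaf 399438) (.leaf 932985)) (.leaf 2920574)))))))

def twoMv021 : Janko.Tree (ℕ) :=
  (.node (.node (.node (.node (.node (.node (.node (.leaf 3461181) (.leaf 2870354)) (.node (.leaf 1342483) (.leaf 1595419))) (.node (.node (.leaf 3018783) (.leaf 2747483)) (.leaf 503885))) (.node (.node (.node (.leaf 1907769) (.leaf 2072)) (.node (.leaf 3102772) (.leaf 841848))) (.node (.node (.leaf 965667) (.leaf 1406998)) (.leaf 1123345)))) (.node (.node (.node (.node (.leaf 208924) (.leaf 684033)) (.node (.leaf 1295459) (.leaf 3298353))) (.node (.node (.leaf 3249221) (.leaf 2315332)) (.leaf 2163718))) (.node (.node (.node (.leaf 2855014) (.leaf 1458254)) (.leaf 423004)) (.node (.node (.leaf 1755233) (.leaf 3110008)) (.leaf 2897944))))) (.node (.node (.node (.node (.node (.leaf 2598959) (.leaf 3359816)) (.node (.leaf 2681908) (.leaf 3059838))) (.node (.node (.leaf 1457173)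 (.leaf 1727558)) (.leaf 3401729))) (.node (.node (.node (.leaf 2702369) (.leaf 223353)) (.node (.leaf 1218564) (.leaf 2125898))) (.node (.node (.leaf 3304473) (.leaf 555021)) (.leaf 871525)))) (.node (.node (.node (.node (.leaf 465931) (.leaf 3004459)) (.node (.leaf 1012786) (.leaf 2127921))) (.node (.node (.leaf 2343034) (.leaf 1485878)) (.leaf 1728537))) (.node (.node (.node (.leaf 2728988) (.leaf 358491)) (.leaf 1366032)) (.node (.node (.leaf 2353256) (.leaf 689244)) (.leaf 618616)))))) (.node (.node (.node (.node (.node (.node (.leaf 1065007) (.leaf 1883145)) (.node (.leaf 3395643) (.leaf 1167408))) (.node (.node (.leaf 165911) (.leaf 1353823)) (.leaf 1354763))) (.node (.node (.node (.leaf 2195522) (.leaf 1990727)) (.node (.leaf 2926696) (.leaf 1066000))) (.node (.node (.leaf 616472) (.leaf 700513)) (.leaf 2732100)))) (.node (.node (.node (.node (.leaf 1646711) (.leaf 805964)) (.node (.leaf 1953912) (.leaf 1736798))) (.node (.node (.leaf 2902088) (.leaf 97324)) (.leaf 1019945))) (.node (.node (.node (.leaf 43099) (.leaf 1589276)) (.leaf 647238)) (.node (.node (.leaf 3157) (.leaf 2536549)) (.leaf 2137136))))) (.node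 (.node (.node (.node (.node (.leaf 1623089) (.leaf 2518125)) (.node (.leaf 3117116) (.leaf 1927173))) (.node (.node (.leaf 3327078) (.leaf 2015278)) (.leaf 3265573))) (.node (.node (.node (.leaf 681026) (.leaf 1335338)) (.node (.leaf 2788366) (.leaf 3517528))) (.node (.node (.leaf 829555) (.leaf 571506)) (.leaf 2135103)))) (.node (.node (.node (.node (.leaf 219245) (.leaf 3179579)) (.node (.leaf 367710) (.leaf 2216975))) (.node (.node (.leaf 414823) (.leaf 1892374)) (.leaf 1331211))) (.node (.node (.node (.leaf 2172949) (.leaf 2075757)) (.leaf 3419141)) (.node (.node (.leaf 295951) (.leaf 3391527)) (.leaf 1505341)))))))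

def twoMv022 : Janko.Tree (ℕ) :=
  (.node (.node (.node (.node (.node (.node (.node (.leaf 760869) (.leaf 2308206)) (.node (.leaf 200805) (.leaf 1099852))) (.node (.node (.leaf 2043913) (.leaf 3520628)) (.leaf 2746481))) (.node (.node (.node (.leaf 1380388) (.leaf 1027155)) (.node (.leaf 3292172) (.leaf 2784275))) (.node (.node (.leaf 843884) (.leaf 2823182)) (.leaf 2387040)))) (.node (.node (.node (.node (.leaf 542786) (.leaf 420944)) (.node (.leaf 696330) (.leaf 1377391))) (.node (.node (.leaf 255040) (.leaf 446484)) (.leaf 1045549))) (.node (.node (.node (.leaf 3231848) (.leaf 1152068)) (.leaf 2401377)) (.node (.node (.leaf 1614896) (.leaf 1905695)) (.leaf 95285))))) (.node (.node (.node (.node (.node (.leaf 1109078) (.leaf 152680)) (.node (.leaf 28725) (.leaf 2884711))) (.node (.node (.leaf 1119359) (.leaf 2239544)) (.leaf 2380860))) (.node (.node (.node (.leaf 2653189) (.leaf 3106845)) (.node (.leaf 2541656) (.leaf 1291321))) (.node (.node (.leaf 2184217) (.leaf 914511)) (.leaf 1766525)))) (.node (.node (.node (.node (.leaf 1880101) (.leaf 1085516)) (.node (.leaf 3255409) (.leaf 1861633))) (.node (.node (.leaf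 3336280) (.leaf 1345637)) (.leaf 84030))) (.node (.node (.node (.leaf 2621450) (.leaf 795743)) (.leaf 956530)) (.node (.node (.leaf 3160118) (.leaf 2576499)) (.leaf 1705993)))))) (.node (.node (.node (.node (.node (.node (.leaf 3024994) (.leaf 1585274)) (.node (.leaf 2276362) (.leaf 222289))) (.node (.node (.leaf 1794077) (.leaf 3507228)) (.leaf 3287040))) (.node (.node (.node (.leaf 1837057) (.leaf 1072251)) (.node (.leaf 3518584) (.leaf 908361))) (.node (.node (.leaf 2626596) (.leaf 240684)) (.leaf 1762330)))) (.node (.node (.node (.node (.leaf 2959394) (.leaf 2120792)) (.node (.leaf 2812969) (.leaf 3205160))) (.node (.node (.leaf 1918046) (.leaf 924776)) (.leaf 1714204))) (.node (.node (.node (.leaf 1431662) (.leaf 2669609)) (.leaf 3058706)) (.node (.node (.leaf 743441) (.leaf 2414683)) (.leaf 2703458))))) (.node (.node (.node (.node (.node (.leaf 135278) (.leaf 2169856)) (.node (.leaf 1265747) (.leaf 3069955))) (.node (.node (.leaf 160825) (.leaf 3263561)) (.leaf 1605677))) (.node (.node (.node (.leaf 199741) (.leaf 1469474)) (.node (.leaf 1499202) (.leaf 2808900))) (.node (.node (.leaf 3094607) (.leaf 738394))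 (.leaf 1643523)))) (.node (.node (.node (.node (.leaf 1786989) (.leaf 1950732)) (.node (.leaf 2031625) (.leaf 3145779))) (.node (.node (.leaf 3521585) (.leaf 216119)) (.leaf 1163364))) (.node (.node (.node (.leaf 2253938) (.leaf 3134549)) (.leaf 3291144)) (.node (.node (.leaf 2285639) (.leaf 3485817)) (.leaf 1090656)))))))

def twoMv023 : Janko.Tree (ℕ) :=
  (.node (.node (.node (.node (.node (.node (.node (.leaf 395324) (.leaf 3473482)) (.node (.leaf 3266638) (.leaf 3162115))) (.node (.node (.leaf 1372245) (.leaf 462913)) (.leaf 2860084))) (.node (.node (.node (.leaf 769079) (.leaf 3203192)) (.node (.leaf 498808) (.leaf 177179))) (.node (.node (.leaf 123976) (.leaf 433205)) (.leaf 1401863)))) (.node (.node (.node (.node (.leaf 790597) (.leaf 387114)) (.node (.leaf 3508302) (.leaf 883838))) (.node (.node (.leaf 1125395) (.leaf 1298544)) (.leaf 2322482))) (.node (.node (.node (.leaf 3352696) (.leaf 1368084)) (.leaf 2836509)) (.node (.node (.leaf 866374) (.leaf 3519515)) (.leaf 2030650))))) (.node (.node (.node (.node (.node (.leaf 1506365) (.leaf 1026137)) (.node (.leaf 1204302) (.leaf 61500))) (.node (.node (.leaf 2060343)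 (.leaf 1007667)) (.leaf 204859))) (.node (.node (.node (.leaf 639026) (.leaf 1172573)) (.node (.leaf 604169) (.leaf 1882144))) (.node (.node (.leaf 2887754) (.leaf 953435)) (.leaf 480270)))) (.node (.node (.node (.node (.leaf 815206) (.leaf 117865)) (.node (.leaf 1807447) (.leaf 26638))) (.node (.node (.leaf 1006699) (.leaf 1429580)) (.leaf 1049666))) (.node (.node (.node (.leaf 2180130) (.leaf 2522143)) (.leaf 638016)) (.node (.node (.leaf 1418272) (.leaf 620548)) (.leaf 2261086)))))) (.node (.node (.node (.node (.node (.node (.leaf 2583600) (.leaf 1694728)) (.node (.leaf 2956304) (.leaf 3034147))) (.node (.node (.leaf 96373) (.leaf 1625170)) (.leaf 2177099))) (.node (.node (.node (.leaf 1016883) (.leaf 55387)) (.node (.leaf 2646079) (.leaf 667690))) (.node (.node (.leaf 1721399) (.leaf 1761366)) (.leaf 467035)))) (.node (.node (.node (.node (.leaf 2942982) (.leaf 80998)) (.node (.leaf 3241056) (.leaf 1495051))) (.node (.node (.leaf 2867207) (.leaf 973905)) (.leaf 327789))) (.node (.node (.node (.leaf 1115258) (.leaf 2302983)) (.leaf 3154972)) (.node (.node (.leaf 1248315) (.leaf 2684020)) (.leaf 2203773))))) (.node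 (.node (.node (.node (.node (.leaf 666658) (.leaf 600140)) (.node (.leaf 3370002) (.leaf 2162726))) (.node (.node (.leaf 1840136) (.leaf 2398253)) (.leaf 501800))) (.node (.node (.node (.leaf 3407977) (.leaf 3037304)) (.node (.leaf 1758234) (.leaf 2241647))) (.node (.node (.leaf 1985567) (.leaf 515171)) (.leaf 1360964)))) (.node (.node (.node (.node (.leaf 1069105) (.leaf 1993839)) (.node (.leaf 2404465) (.leaf 2804746))) (.node (.node (.leaf 634934) (.leaf 2866265)) (.leaf 3030087))) (.node (.node (.node (.leaf 1845306) (.leaf 1271918)) (.leaf 3089443)) (.node (.node (.leaf 408654) (.leaf 475208)) (.leaf 2571388)))))))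

def twoMv024 : Janko.Tree (ℕ) :=
  (.node (.node (.node (.node (.node (.node (.node (.leaf 341024) (.leaf 750678)) (.node (.leaf 308307) (.leaf 3010684))) (.node (.node (.leaf 2550849) (.leaf 1406047)) (.leaf 3195944))) (.node (.node (.node (.leaf 2504778) (.leaf 1484852)) (.node (.leaf 3422321) (.leaf 2562080))) (.node (.node (.leaf 1698912) (.leaf 868478)) (.leaf 1404971)))) (.node (.node (.node (.node (.leaf 1039384) (.leaf 1909803)) (.node (.leaf 2508800) (.leaf 1519739))) (.node (.node (.leaf 2821222) (.leaf 1137721)) (.leaf 2011158))) (.node (.node (.node (.leaf 64518) (.leaf 1078321)) (.leaf 3506272)) (.node (.node (.leaf 2493559) (.leaf 742440)) (.leaf 3501079))))) (.node (.node (.node (.node (.node (.leaf 136230) (.leaf 523328)) (.node (.leaf 1492024) (.leaf 2280535))) (.node (.node (.leaf 1602638) (.leaf 2494489)) (.leaf 2693233))) (.node (.node (.node (.leaf 2287622) (.leaf 339994)) (.node (.leaf 928815) (.leaf 3053623))) (.node (.node (.leaf 3050512) (.leaf 1792049)) (.leaf 1609741)))) (.node (.node (.node (.node (.leaf 3187722) (.leaf 1628170)) (.node (.leaf 323598) (.leaf 1452142))) (.node (.node (.leaf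 1741917) (.leaf 2087026)) (.leaf 1901671))) (.node (.node (.node (.leaf 1226772) (.leaf 687206)) (.leaf 3365976)) (.node (.node (.leaf 867416) (.leaf 774203)) (.leaf 1149974)))))) (.node (.node (.node (.node (.node (.node (.leaf 3368983) (.leaf 1717282)) (.node (.leaf 2526283) (.leaf 1304614))) (.node (.node (.leaf 1025075) (.leaf 1903622)) (.leaf 1509403))) (.node (.node (.node (.leaf 2359323) (.leaf 2080836)) (.node (.leaf 2084980) (.leaf 1724433))) (.node (.node (.leaf 33897) (.leaf 1620070)) (.leaf 1044602)))) (.node (.node (.node (.node (.leaf 410727) (.leaf 1591370)) (.node (.leaf 3524649) (.leaf 398406))) (.node (.node (.leaf 2170985) (.leaf 1284143)) (.leaf 1487922))) (.node (.node (.node (.leaf 328801) (.leaf 2123776)) (.leaf 672880)) (.node (.node (.leaf 3511396) (.leaf 1649708)) (.leaf 619575))))) (.node (.node (.node (.node (.node (.leaf 3477600) (.leaf 1106991)) (.node (.leaf 1752183) (.leaf 1897534))) (.node (.node (.leaf 2356248) (.leaf 1860695)) (.leaf 3166224))) (.node (.node (.node (.leaf 3201044) (.leaf 1956887)) (.node (.leaf 789626) (.leaf 1334307))) (.node (.node (.leaf 773149) (.leaf 2764901))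 (.leaf 1042500)))) (.node (.node (.node (.node (.leaf 3055733) (.leaf 821340)) (.node (.leaf 58449) (.leaf 1489989))) (.node (.node (.leaf 3530800) (.leaf 3245161)) (.leaf 1062984))) (.node (.node (.node (.leaf 2249793) (.leaf 3538957)) (.leaf 2519104)) (.node (.node (.leaf 1369139) (.leaf 860193)) (.leaf 236573)))))))

def twoMv025 : Janko.Tree (ℕ) :=
  (.node (.node (.node (.node (.node (.node (.node (.leaf 1700988) (.leaf 3157064)) (.node (.leaf 141436) (.leaf 3302462))) (.node (.node (.leaf 3036215) (.leaf 895056)) (.leaf 1104936))) (.node (.node (.node (.leaf 2552910) (.leaf 3141706)) (.node (.leaf 320618) (.leaf 2288736))) (.node (.node (.leaf 702496) (.leaf 269339)) (.leaf 1514535)))) (.node (.node (.node (.node (.leaf 3262578) (.leaf 2378859)) (.node (.leaf 1831987) (.leaf 386117))) (.node (.node (.leaf 2056245) (.leaf 1312792)) (.leaf 1337444))) (.node (.node (.node (.leaf 2220075) (.leaf 461832)) (.leaf 331823)) (.node (.node (.leaf 1532002) (.leaf 2531354)) (.leaf 1443870))))) (.node (.node (.node (.node (.node (.leaf 1070111) (.leaf 2284665)) (.node (.leaf 1681498) (.leaf 1650712))) (.node (.node (.leaf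 305153) (.leaf 1849447)) (.leaf 1978401))) (.node (.node (.node (.leaf 3456018) (.leaf 49199)) (.node (.leaf 1941514) (.leaf 1772564))) (.node (.node (.leaf 1395779) (.leaf 1877058)) (.leaf 3460116)))) (.node (.node (.node (.node (.leaf 1654831) (.leaf 758877)) (.node (.leaf 710724) (.leaf 1784869))) (.node (.node (.leaf 270366) (.leaf 548945)) (.leaf 1685530))) (.node (.node (.node (.leaf 2809921) (.leaf 1450058)) (.leaf 459807)) (.node (.node (.leaf 2795647) (.leaf 3483661)) (.leaf 1512473)))))) (.node (.node (.node (.node (.node (.node (.leaf 1302585) (.leaf 3331188)) (.node (.leaf 3437635) (.leaf 3431523))) (.node (.node (.leaf 101479) (.leaf 1695776)) (.leaf 2874424))) (.node (.node (.node (.leaf 1825881) (.leaf 692265)) (.node (.leaf 2631695) (.leaf 796692))) (.node (.node (.leaf 3252314) (.leaf 1347689)) (.leaf 2165887)))) (.node (.node (.node (.node (.leaf 3450907) (.leaf 2468965)) (.node (.leaf 1921126) (.leaf 246836))) (.node (.node (.leaf 1077309) (.leaf 775274)) (.leaf 695343))) (.node (.node (.node (.leaf 1718341) (.leaf 1979416)) (.leaf 939034)) (.node (.node (.leaf 2905144) (.leaf 659571)) (.leaf 1739851)))))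 (.node (.node (.node (.node (.node (.leaf 2749493) (.leaf 591927)) (.node (.leaf 2349179) (.leaf 2716678))) (.node (.node (.leaf 3016772) (.leaf 904277)) (.leaf 1386620))) (.node (.node (.node (.leaf 2019455) (.leaf 2263093)) (.node (.leaf 2141276) (.leaf 2564109))) (.node (.node (.leaf 2801774) (.leaf 1913898)) (.leaf 2570258)))) (.node (.node (.node (.node (.leaf 1241154) (.leaf 228458)) (.node (.leaf 844851) (.leaf 3376140))) (.node (.node (.leaf 2371685) (.leaf 109623)) (.leaf 2634786))) (.node (.node (.node (.leaf 1564788) (.leaf 1343501)) (.leaf 720957)) (.node (.node (.leaf 1053745) (.leaf 39948)) (.leaf 897068)))))))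

def twoMv026 : Janko.Tree (ℕ) :=
  (.node (.node (.node (.node (.node (.node (.node (.leaf 943149) (.leaf 2385945)) (.node (.leaf 478223) (.leaf 2326549))) (.node (.node (.leaf 1604643) (.leaf 3385459)) (.leaf 3313682))) (.node (.node (.node (.leaf 1498226) (.leaf 937021)) (.node (.leaf 1815583) (.leaf 442457))) (.node (.node (.leaf 496766) (.leaf 3237990)) (.leaf 1983570)))) (.node (.node (.node (.node (.leaf 709715) (.leaf 2472965)) (.node (.leaf 822362) (.leaf 2413587))) (.node (.node (.leaf 2035743) (.leaf 1398906)) (.leaf 1878042))) (.node (.node (.node (.leaf 112717) (.leaf 3546207)) (.leaf 3048502)) (.node (.node (.leaf 1183842) (.leaf 845830)) (.leaf 380939))))) (.node (.node (.node (.node (.node (.leaf 1598591) (.leaf 2118713)) (.node (.leaf 2740336) (.leaf 3077140))) (.node (.node (.leaf 70665) (.leaf 3489841)) (.leaf 3439689))) (.node (.node (.node (.leaf 2388043) (.leaf 2200591)) (.node (.leaf 3277904) (.leaf 2807891))) (.node (.node (.leaf 2736235) (.leaf 986142)) (.leaf 819309)))) (.node (.node (.node (.node (.leaf 2160755) (.leaf 2254854)) (.node (.leaf 853061) (.leaf 1818660))) (.node (.node (.leaf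 391223) (.leaf 2539526)) (.leaf 1346582))) (.node (.node (.node (.leaf 310329) (.leaf 365657)) (.leaf 406631)) (.node (.node (.leaf 1663044) (.leaf 118848)) (.leaf 243736)))))) (.node (.node (.node (.node (.node (.node (.leaf 948242) (.leaf 2893845)) (.node (.leaf 2202731) (.leaf 1515624))) (.node (.node (.leaf 1467397) (.leaf 1080371)) (.leaf 3011696))) (.node (.node (.node (.leaf 3047489) (.leaf 3463183)) (.node (.leaf 7247) (.leaf 1690656))) (.node (.node (.leaf 3090465) (.leaf 1290258)) (.leaf 3387476)))) (.node (.node (.node (.node (.leaf 2424925) (.leaf 3405847)) (.node (.leaf 432227) (.leaf 2958387))) (.node (.node (.leaf 3400818) (.leaf 717917)) (.leaf 2428947))) (.node (.node (.node (.leaf 3041404) (.leaf 566394)) (.leaf 46084)) (.node (.node (.leaf 3480642) (.leaf 553026)) (.leaf 3330091))))) (.node (.node (.node (.node (.node (.leaf 469052) (.leaf 656460)) (.node (.leaf 2206785) (.leaf 870514))) (.node (.node (.leaf 1300523) (.leaf 1023021)) (.leaf 2763844))) (.node (.node (.node (.leaf 2251867) (.leaf 1630262)) (.node (.leaf 29805) (.leaf 2088063))) (.node (.node (.leaf 1254437) (.leaf 3206271)) (.leaf 1323115))))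 (.node (.node (.node (.node (.leaf 3526697) (.leaf 3529771)) (.node (.leaf 1475706) (.leaf 2005057))) (.node (.node (.leaf 944164) (.leaf 2025590)) (.leaf 1408040))) (.node (.node (.node (.leaf 2320417) (.leaf 3305581)) (.leaf 2652209)) (.node (.node (.leaf 1533973) (.leaf 3243061)) (.leaf 2569332)))))))

def twoMv027 : Janko.Tree (ℕ) :=
  (.node (.node (.node (.node (.node (.node (.node (.leaf 1796099) (.leaf 1812580)) (.node (.leaf 497696) (.leaf 2271253))) (.node (.node (.leaf 1233969) (.leaf 3124277)) (.leaf 607239))) (.node (.node (.node (.leaf 3256339) (.leaf 954451)) (.node (.leaf 1997900) (.leaf 1742871))) (.node (.node (.leaf 808013) (.leaf 1455176)) (.leaf 923720)))) (.node (.node (.node (.node (.leaf 2204690) (.leaf 2355211)) (.node (.leaf 994387) (.leaf 1679394))) (.node (.node (.leaf 24680) (.leaf 2461775)) (.leaf 182368))) (.node (.node (.node (.leaf 374819) (.leaf 2006130)) (.leaf 3026022)) (.node (.node (.leaf 1590398) (.leaf 2833485)) (.leaf 3540049))))) (.node (.node (.node (.node (.node (.leaf 2014251) (.leaf 1017935)) (.node (.leaf 384106) (.leaf 2484270))) (.node (.node (.leaf 1156198) (.leaf 2374782))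 (.leaf 3064840))) (.node (.node (.node (.leaf 3328127) (.leaf 2674730)) (.node (.leaf 1980440) (.leaf 3303437))) (.node (.node (.leaf 626754) (.leaf 1749066)) (.leaf 157758)))) (.node (.node (.node (.node (.leaf 2844686) (.leaf 1834072)) (.node (.leaf 3393660) (.leaf 493600))) (.node (.node (.leaf 1644607) (.leaf 3049513)) (.leaf 1533001))) (.node (.node (.node (.leaf 642124) (.leaf 329747)) (.leaf 2850877)) (.node (.node (.leaf 1128491) (.leaf 1430650)) (.leaf 458793)))))) (.node (.node (.node (.node (.node (.node (.leaf 3315760) (.leaf 2527233)) (.node (.leaf 2814033) (.leaf 2016288))) (.node (.node (.leaf 3093603) (.leaf 1647743)) (.leaf 2301041))) (.node (.node (.node (.leaf 1451092) (.leaf 2341942)) (.node (.leaf 335892) (.leaf 1263690))) (.node (.node (.leaf 732277) (.leaf 2295815)) (.leaf 3005505)))) (.node (.node (.node (.node (.leaf 2888756) (.leaf 2898970)) (.node (.leaf 1659004) (.leaf 1274906))) (.node (.node (.leaf 3310614) (.leaf 1028122)) (.leaf 2316353))) (.node (.node (.node (.leaf 2452492) (.leaf 159756)) (.leaf 2925638)) (.node (.node (.leaf 573522) (.leaf 2071677)) (.leaf 2269209))))) (.node (.node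 (.node (.node (.node (.leaf 88151) (.leaf 2655346)) (.node (.leaf 2013240) (.leaf 2328688))) (.node (.node (.leaf 178244) (.leaf 1292402)) (.leaf 1180696))) (.node (.node (.node (.leaf 785466) (.leaf 572502)) (.node (.leaf 3188841) (.leaf 2829338))) (.node (.node (.leaf 3175528) (.leaf 1471602)) (.leaf 3285077)))) (.node (.node (.node (.node (.leaf 2796664) (.leaf 872531)) (.node (.leaf 1378349) (.leaf 1502313))) (.node (.node (.leaf 393313) (.leaf 3467353)) (.leaf 3253289))) (.node (.node (.node (.leaf 3545198) (.leaf 2800706)) (.leaf 1946718)) (.node (.node (.leaf 2117701) (.leaf 1394757)) (.leaf 1857633)))))))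

def twoMv028 : Janko.Tree (ℕ) :=
  (.node (.node (.node (.node (.node (.node (.node (.leaf 3438595) (.leaf 3468396)) (.node (.leaf 2329634) (.leaf 971836))) (.node (.node (.leaf 334908) (.leaf 2730107)) (.leaf 41062))) (.node (.node (.node (.leaf 2514997) (.leaf 1140746)) (.node (.leaf 1201176) (.leaf 54372))) (.node (.node (.leaf 1932347) (.leaf 2333713)) (.leaf 2968643)))) (.node (.node (.node (.node (.leaf 2843670) (.leaf 532484)) (.node (.leaf 1202216) (.leaf 1281111))) (.node (.node (.leaf 2235463) (.leaf 859150)) (.leaf 2572329))) (.node (.node (.node (.leaf 2593893) (.leaf 2478177)) (.leaf 1197090)) (.node (.node (.leaf 361484) (.leaf 1079401)) (.leaf 1942629))))) (.node (.node (.node (.node (.node (.leaf 2910329) (.leaf 757806)) (.node (.leaf 249932) (.leaf 2970680))) (.node (.node (.leaf 2145402) (.leaf 2819088)) (.leaf 1610770))) (.node (.node (.node (.leaf 1460281) (.leaf 1558638)) (.node (.leaf 798801) (.leaf 957507))) (.node (.node (.leaf 338983) (.leaf 3490870)) (.leaf 1973320)))) (.node (.node (.node (.node (.leaf 2044971) (.leaf 804905)) (.node (.leaf 3147862) (.leaf 536699))) (.node (.node (.leaf 2197590)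 (.leaf 271474)) (.leaf 1240155))) (.node (.node (.node (.leaf 2682940) (.leaf 635919)) (.leaf 1885257)) (.node (.node (.leaf 2998324) (.leaf 426101)) (.leaf 2417723)))))) (.node (.node (.node (.node (.node (.node (.leaf 3234912) (.leaf 1745957)) (.node (.leaf 941102) (.leaf 2421802))) (.node (.node (.leaf 731200) (.leaf 1637477)) (.leaf 614488))) (.node (.node (.node (.leaf 1154105) (.leaf 2159653)) (.node (.leaf 2313287) (.leaf 2346032))) (.node (.node (.leaf 1173579) (.leaf 1376346)) (.leaf 686153)))) (.node (.node (.node (.node (.leaf 996430) (.leaf 2962539)) (.node (.leaf 2082835) (.leaf 2775050))) (.node (.node (.leaf 362509) (.leaf 126028)) (.leaf 1442942))) (.node (.node (.node (.leaf 2638855) (.leaf 2304015)) (.leaf 1948698)) (.node (.node (.leaf 3409921) (.leaf 187447)) (.leaf 3441732))))) (.node (.node (.node (.node (.node (.leaf 1575037) (.leaf 599113)) (.node (.leaf 2124835) (.leaf 1580098))) (.node (.node (.leaf 2996249) (.leaf 2437127)) (.leaf 2369545))) (.node (.node (.node (.leaf 2402412) (.leaf 1493097)) (.node (.leaf 1651789) (.leaf 754721))) (.node (.node (.leaf 234610) (.leaf 121928)) (.leaf 2994215))))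 (.node (.node (.node (.node (.leaf 273494) (.leaf 987225)) (.node (.leaf 302107) (.leaf 2662404))) (.node (.node (.leaf 1144849) (.leaf 213100)) (.leaf 2140188))) (.node (.node (.node (.leaf 1781819) (.leaf 1051699)) (.leaf 1584138)) (.node (.node (.leaf 233526) (.leaf 2247758)) (.leaf 512036)))))))

def twoMv029 : Janko.Tree (ℕ) :=
  (.node (.node (.node (.node (.node (.node (.node (.leaf 2868254) (.leaf 831585)) (.node (.leaf 1456204) (.leaf 658516))) (.node (.node (.leaf 755732) (.leaf 2509856)) (.leaf 1986651))) (.node (.node (.node (.leaf 2339887) (.leaf 1117237)) (.node (.leaf 2198563) (.leaf 418909))) (.node (.node (.leaf 2017350) (.leaf 2817048)) (.leaf 574489)))) (.node (.node (.node (.node (.leaf 673824) (.leaf 1963115)) (.node (.leaf 609382) (.leaf 245859))) (.node (.node (.leaf 2589742) (.leaf 1682479)) (.leaf 1050640))) (.node (.node (.node (.leaf 2009197) (.leaf 110683)) (.leaf 949318)) (.node (.node (.leaf 2666579) (.leaf 2717769)) (.leaf 2757750))))) (.node (.node (.node (.node (.node (.leaf 1680445) (.leaf 404559)) (.node (.leaf 211007) (.leaf 1866831))) (.node (.node (.leaf 2103372) (.leaf 2963490))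 (.leaf 3259402))) (.node (.node (.node (.leaf 3054592) (.leaf 2852883)) (.node (.leaf 460858) (.leaf 3129406))) (.node (.node (.leaf 403525) (.leaf 1763358)) (.leaf 2464826)))) (.node (.node (.node (.node (.leaf 60504) (.leaf 1664072)) (.node (.leaf 2607206) (.leaf 650313))) (.node (.node (.leaf 1843308) (.leaf 2242615)) (.leaf 3199051))) (.node (.node (.node (.leaf 1672307) (.leaf 1839221)) (.leaf 87108)) (.node (.node (.leaf 2174046) (.leaf 1800310)) (.leaf 2967630)))))) (.node (.node (.node (.node (.node (.node (.leaf 2723861) (.leaf 1000565)) (.node (.leaf 294961) (.leaf 193584))) (.node (.node (.leaf 2399326) (.leaf 1355898)) (.leaf 1969176))) (.node (.node (.node (.leaf 2832396) (.leaf 1018896)) (.node (.leaf 1064040) (.leaf 2047043))) (.node (.node (.leaf 1914971) (.leaf 2467878)) (.leaf 257034)))) (.node (.node (.node (.node (.leaf 2081816) (.leaf 502800)) (.node (.leaf 2744325) (.leaf 265249))) (.node (.node (.leaf 238650) (.leaf 1081383)) (.leaf 292891))) (.node (.node (.node (.leaf 997444) (.leaf 3415101)) (.leaf 993382)) (.node (.node (.leaf 1486856) (.leaf 94245)) (.leaf 816237))))) (.node (.node (.node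 (.node (.node (.leaf 113727) (.leaf 2296833)) (.node (.leaf 2961420) (.leaf 1273889))) (.node (.node (.leaf 826408) (.leaf 2588709)) (.leaf 2636806))) (.node (.node (.node (.leaf 1556486) (.leaf 419900)) (.node (.leaf 2151512) (.leaf 2459703))) (.node (.node (.leaf 3445872) (.leaf 2454632)) (.leaf 2258011)))) (.node (.node (.node (.node (.leaf 2055277) (.leaf 1219656)) (.node (.leaf 1447034) (.leaf 533504))) (.node (.node (.leaf 1935382) (.leaf 876576)) (.leaf 856185))) (.node (.node (.node (.leaf 3282027) (.leaf 2400352)) (.leaf 981039)) (.node (.node (.leaf 2273312) (.leaf 1823858)) (.leaf 2250873)))))))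

def twoMv030 : Janko.Tree (ℕ) :=
  (.node (.node (.node (.node (.node (.node (.node (.leaf 3502191) (.leaf 1716247)) (.node (.leaf 3043394) (.leaf 2931807))) (.node (.node (.leaf 706684) (.leaf 2735227)) (.leaf 1510400))) (.node (.node (.node (.leaf 2671617) (.leaf 3278879)) (.node (.leaf 3466365) (.leaf 3323935))) (.node (.node (.leaf 1729566) (.leaf 1015826)) (.leaf 2100226)))) (.node (.node (.node (.node (.leaf 3532811) (.leaf 2941993)) (.node (.leaf 2383940) (.leaf 2246754))) (.node (.node (.leaf 1886225) (.leaf 3402829)) (.leaf 2281514))) (.node (.node (.node (.leaf 1272841) (.leaf 812108)) (.leaf 803853)) (.node (.node (.leaf 2628672) (.leaf 1320986)) (.leaf 621674))))) (.node (.node (.node (.node (.node (.leaf 2057269) (.leaf 1874039)) (.node (.leaf 256101) (.leaf 1339463))) (.node (.node (.leaf 575580) (.leaf 3503179)) (.leaf 440340))) (.node (.node (.node (.leaf 490559) (.leaf 2176024)) (.node (.leaf 3471443) (.leaf 6228))) (.node (.node (.leaf 3169322) (.leaf 2892801)) (.leaf 74849)))) (.node (.node (.node (.node (.leaf 864310) (.leaf 1875033)) (.node (.leaf 2663428) (.leaf 2657375))) (.node (.node (.leaf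 1212485) (.leaf 579624)) (.leaf 549941))) (.node (.node (.node (.leaf 2727977) (.leaf 669789)) (.leaf 2340982)) (.node (.node (.leaf 3428397) (.leaf 1414150)) (.leaf 2439283)))))) (.node (.node (.node (.node (.node (.node (.leaf 1544223) (.leaf 1513570)) (.node (.leaf 1175570) (.leaf 1141835))) (.node (.node (.leaf 3321900) (.leaf 1711125)) (.leaf 837715))) (.node (.node (.node (.leaf 3006496) (.leaf 2351139)) (.node (.leaf 2544698) (.leaf 975909))) (.node (.node (.leaf 3052644) (.leaf 1971291)) (.leaf 392302)))) (.node (.node (.node (.node (.leaf 3007521) (.leaf 1261659)) (.node (.leaf 728104) (.leaf 237617))) (.node (.node (.leaf 2991216) (.leaf 2726990)) (.leaf 1103946))) (.node (.node (.node (.leaf 2330702) (.leaf 1999907)) (.leaf 3280968)) (.node (.node (.leaf 122933) (.leaf 1236086)) (.leaf 2694194))))) (.node (.node (.node (.node (.node (.leaf 2549760) (.leaf 2761758)) (.node (.leaf 896118) (.leaf 2147439))) (.node (.node (.leaf 2038791) (.leaf 2363470)) (.leaf 2024465))) (.node (.node (.node (.leaf 158770) (.leaf 2275395)) (.node (.leaf 1769474) (.leaf 2347062))) (.node (.node (.leaf 693295) (.leaf 3056658))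 (.leaf 585778)))) (.node (.node (.node (.node (.leaf 2707514) (.leaf 1249394)) (.node (.leaf 2337899) (.leaf 2989161))) (.node (.node (.leaf 1286235) (.leaf 2678896)) (.leaf 643090))) (.node (.node (.node (.leaf 1548359) (.leaf 787535)) (.leaf 1010802)) (.node (.node (.leaf 1029205) (.leaf 227355)) (.leaf 1876030)))))))

def twoMv031 : Janko.Tree (ℕ) :=
  (.node (.node (.node (.node (.node (.node (.node (.leaf 2157598) (.leaf 2412638)) (.node (.leaf 322571) (.leaf 3061786))) (.node (.node (.leaf 2069569) (.leaf 3454060)) (.leaf 2026552))) (.node (.node (.node (.leaf 3087382) (.leaf 2034787)) (.node (.leaf 1673279) (.leaf 1516561))) (.node (.node (.leaf 1588324) (.leaf 3146758)) (.leaf 3078229)))) (.node (.node (.node (.node (.leaf 1075226) (.leaf 1054828)) (.node (.leaf 2256913) (.leaf 565284))) (.node (.node (.leaf 99372) (.leaf 1148941)) (.leaf 3297404))) (.node (.node (.node (.leaf 22613) (.leaf 2354239)) (.leaf 1943620)) (.node (.node (.leaf 266273) (.leaf 3317851)) (.leaf 1494061))))) (.node (.node (.node (.node (.node (.leaf 2806795) (.leaf 1169409)) (.node (.leaf 779291) (.leaf 2923526))) (.node (.node (.leaf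 1645659) (.leaf 708704)) (.leaf 2677846))) (.node (.node (.node (.leaf 342054) (.leaf 2411592)) (.node (.leaf 2601024) (.leaf 2188345))) (.node (.node (.leaf 1870851) (.leaf 1280029)) (.leaf 3080306)))) (.node (.node (.node (.node (.leaf 2930689) (.leaf 1121298)) (.node (.leaf 1657974) (.leaf 2321444))) (.node (.node (.leaf 2507817) (.leaf 2161753)) (.leaf 491637))) (.node (.node (.node (.leaf 603197) (.leaf 2624545)) (.leaf 1526828)) (.node (.node (.leaf 1205279) (.leaf 2530419)) (.leaf 3001425)))))) (.node (.node (.node (.node (.node (.node (.leaf 417811) (.leaf 3472441)) (.node (.leaf 1059929) (.leaf 3414021))) (.node (.node (.leaf 2928712) (.leaf 2196581)) (.leaf 1581078))) (.node (.node (.node (.leaf 3178609) (.leaf 1835077)) (.node (.leaf 734286) (.leaf 662564))) (.node (.node (.leaf 596061) (.leaf 411705)) (.leaf 1199105)))) (.node (.node (.node (.node (.leaf 2368623) (.leaf 3347533)) (.node (.leaf 1403924) (.leaf 2098278))) (.node (.node (.leaf 2610190) (.leaf 1113126)) (.leaf 2590740))) (.node (.node (.node (.leaf 75843) (.leaf 3028025)) (.leaf 2096232)) (.node (.node (.leaf 1174588) (.leaf 1988698)) (.leaf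 3486842))))) (.node (.node (.node (.node (.node (.leaf 3484730) (.leaf 2915370)) (.node (.leaf 983130) (.leaf 1964113))) (.node (.node (.leaf 2350144) (.leaf 3207223)) (.leaf 2741310))) (.node (.node (.node (.leaf 1898594) (.leaf 2332677)) (.node (.leaf 1767446) (.leaf 724015))) (.node (.node (.leaf 2028582) (.leaf 963670)) (.leaf 2878562)))) (.node (.node (.node (.node (.leaf 1881117) (.leaf 453728)) (.node (.leaf 1031192) (.leaf 2267150))) (.node (.node (.leaf 3534886) (.leaf 400389)) (.leaf 1842216))) (.node (.node (.node (.leaf 1382470) (.leaf 2185269)) (.leaf 1422432)) (.node (.node (.leaf 3115025) (.leaf 587888)) (.leaf 3260449)))))))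

def twoMv0 : Janko.Tree (ℕ) := (.node (.node (.node (.node (.node twoMv00 twoMv016) (.node twoMv08 twoMv024)) (.node (.node twoMv04 twoMv020) (.node twoMv012 twoMv028))) (.node (.node (.node twoMv02 twoMv018) (.node twoMv010 twoMv026)) (.node (.node twoMv06 twoMv022) (.node twoMv014 twoMv030)))) (.node (.node (.node (.node twoMv01 twoMv017) (.node twoMv09 twoMv025)) (.node (.node twoMv05 twoMv021) (.node twoMv013 twoMv029))) (.node (.node (.node twoMv03 twoMv019) (.node twoMv011 twoMv027)) (.node (.node twoMv07 twoMv023) (.node twoMv015 twoMv031)))))

theorem two_mv00 : ((List.range 512).all fun i => movesOK twoCert twoT 3465 (twoElt.get 16) twoMv0 (Nat.add 0 i)) = true := by decide +kernel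

theorem two_mv01 : ((List.range 512).all fun i => movesOK twoCert twoT 3465 (twoElt.get 16) twoMv0 (Nat.add 512 i)) = true := by decide +kernel

theorem two_mv02 : ((List.range 512).all fun i => movesOK twoCert twoT 3465 (twoElt.get 16) twoMv0 (Nat.add 1024 i)) = true := by decide +kernel

theorem two_mv03 : ((List.range 512).all fun i => movesOK twoCert twoT 3465 (twoElt.get 16) twoMv0 (Nat.add 1536 i)) = true := by decide +kernel

theorem two_mv04 : ((List.range 512).all fun i => movesOK twoCert twoT 3465 (twoElt.get 16) twoMv0 (Nat.add 2048 i)) = true := by decide +kernel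

theorem two_mv05 : ((List.range 512).all fun i => movesOK twoCert twoT 3465 (twoElt.get 16) twoMv0 (Nat.add 2560 i)) = true := by decide +kernel

theorem two_mv06 : ((List.range 393).all fun i => movesOK twoCert twoT 3465 (twoElt.get 16) twoMv0 (Nat.add 3072 i)) = true := by decide +kernel

theorem two_mv0 : ∀ i < 3465, movesOK twoCert twoT 3465 (twoElt.get 16) twoMv0 i = true := by
  intro i hi
  by_cases h0 : i < 512
  · have := List.all_eq_true.1 two_mv00 (i - 0) (List.mem_range.2 (by omega)); rwa [show Nat.add 0 (i - 0) = i from Nat.add_sub_cancel' (by omega)] at this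
  by_cases h1 : i < 1024
  · have := List.all_eq_true.1 two_mv01 (i - 512) (List.mem_range.2 (by omega)); rwa [show Nat.add 512 (i - 512) = i from Nat.add_sub_cancel' (by omega)] at this
  by_cases h2 : i < 1536
  · have := List.all_eq_true.1 two_mv02 (i - 1024) (List.mem_range.2 (by omega)); rwa [show Nat.add 1024 (i - 1024) = i from Nat.add_sub_cancel' (by omega)] at this
  by_cases h3 : i < 2048
  · have := List.all_eq_true.1 two_mv03 (i - 1536) (List.mem_range.2 (by omega)); rwa [show Nat.add 1536 (i - 1536) = i from Nat.add_sub_cancel' (by omega)] at this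
  by_cases h4 : i < 2560
  · have := List.all_eq_true.1 two_mv04 (i - 2048) (List.mem_range.2 (by omega)); rwa [show Nat.add 2048 (i - 2048) = i from Nat.add_sub_cancel' (by omega)] at this
  by_cases h5 : i < 3072
  · have := List.all_eq_true.1 two_mv05 (i - 2560) (List.mem_range.2 (by omega)); rwa [show Nat.add 2560 (i - 2560) = i from Nat.add_sub_cancel' (by omega)] at this
  have := List.all_eq_true.1 two_mv06 (i - 3072) (List.mem_range.2 (by omega)); rwa [show Nat.add 3072 (i - 3072) = i from Nat.add_sub_cancel' (by omega)] at this


def twoMv10 : Janko.Tree (ℕ) :=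
  (.node (.node (.node (.node (.node (.node (.node (.leaf 70) (.leaf 2568298)) (.node (.leaf 2151536) (.leaf 997441))) (.node (.node (.leaf 407583) (.leaf 1651724)) (.leaf 351304))) (.node (.node (.node (.leaf 1702001) (.leaf 953444)) (.node (.leaf 1421351) (.leaf 2312240))) (.node (.node (.leaf 1677360) (.leaf 2626598)) (.leaf 3087421)))) (.node (.node (.node (.node (.leaf 1237058) (.leaf 3434578)) (.node (.leaf 501784) (.leaf 121894))) (.node (.node (.leaf 342094) (.leaf 3127373)) (.leaf 114772))) (.node (.node (.node (.leaf 494630) (.leaf 2464810)) (.node (.leaf 1700951) (.leaf 261245))) (.node (.node (.leaf 2085997) (.leaf 3062803)) (.leaf 66631))))) (.node (.node (.node (.node (.node (.leaf 1480719) (.leaf 2485292)) (.node (.leaf 2189339) (.leaf 3322986))) (.node (.node (.leaf 2376831) (.leaf 1386516)) (.leaf 156694))) (.node (.node (.node (.leaf 2740281) (.leaf 394301)) (.node (.leaf 490512) (.leaf 866383))) (.node (.node (.leaf 3290237) (.leaf 2460770)) (.leaf 476186)))) (.node (.node (.node (.node (.leaf 616458) (.leaf 863327)) (.node (.leaf 1521779) (.leaf 1721362))) (.node (.node (.leaf 1566785) (.leaf 3214428))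 (.leaf 1916005))) (.node (.node (.node (.leaf 454665) (.leaf 2612297)) (.leaf 1210469)) (.node (.node (.leaf 3073143) (.leaf 556081)) (.leaf 1468420)))))) (.node (.node (.node (.node (.node (.node (.leaf 627773) (.leaf 940074)) (.node (.leaf 3423316) (.leaf 1072157))) (.node (.node (.leaf 1118232) (.leaf 1056839)) (.leaf 837723))) (.node (.node (.node (.leaf 191575) (.leaf 164871)) (.node (.leaf 2506782) (.leaf 828469))) (.node (.node (.leaf 2377855) (.leaf 1612811)) (.leaf 2292827)))) (.node (.node (.node (.node (.leaf 1241138) (.leaf 2906133)) (.node (.leaf 237621) (.leaf 552014))) (.node (.node (.leaf 3378180) (.leaf 1850487)) (.leaf 219196))) (.node (.node (.node (.leaf 3110938) (.leaf 988243)) (.leaf 3300363)) (.node (.node (.leaf 2237548) (.leaf 2245745)) (.leaf 2082932))))) (.node (.node (.node (.node (.node (.leaf 776209) (.leaf 2364501)) (.node (.leaf 258137) (.leaf 2206780))) (.node (.node (.leaf 324662) (.leaf 640075)) (.leaf 2422819))) (.node (.node (.node (.leaf 3233866) (.leaf 2950181)) (.node (.leaf 2515010) (.leaf 1317912))) (.node (.node (.leaf 1643541) (.leaf 3161170)) (.leaf 3452015)))) (.node (.node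 (.node (.node (.leaf 182273) (.leaf 2125843)) (.node (.leaf 197669) (.leaf 1411141))) (.node (.node (.leaf 1634372) (.leaf 3492894)) (.leaf 1730683))) (.node (.node (.node (.leaf 757835) (.leaf 2872367)) (.leaf 3248183)) (.node (.node (.leaf 1382524) (.leaf 1782814)) (.leaf 483377)))))))

def twoMv11 : Janko.Tree (ℕ) :=
  (.node (.node (.node (.node (.node (.node (.node (.leaf 606291) (.leaf 966739)) (.node (.leaf 662641) (.leaf 1329165))) (.node (.node (.leaf 173068) (.leaf 802881)) (.leaf 2593887))) (.node (.node (.node (.leaf 443434) (.leaf 3181638)) (.node (.leaf 253983) (.leaf 926737))) (.node (.node (.leaf 600128) (.leaf 923651)) (.leaf 265317)))) (.node (.node (.node (.node (.leaf 1939548) (.leaf 1065077)) (.node (.leaf 682106) (.leaf 2004026))) (.node (.node (.leaf 12392) (.leaf 688185)) (.leaf 1993828))) (.node (.node (.node (.leaf 2392182) (.leaf 301097)) (.node (.leaf 1168412) (.leaf 1039444))) (.node (.node (.leaf 15419) (.leaf 812126)) (.leaf 1086591))))) (.node (.node (.node (.node (.node (.leaf 1064004) (.leaf 2052120)) (.node (.leaf 3504219) (.leaf 1326174))) (.node (.node (.leaf 2894883) (.leaf 994415))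 (.leaf 949299))) (.node (.node (.node (.leaf 2153499) (.leaf 869463)) (.node (.leaf 1037312) (.leaf 213057))) (.node (.node (.leaf 1852476) (.leaf 3336290)) (.leaf 1853464)))) (.node (.node (.node (.node (.leaf 3236933) (.leaf 1202216)) (.node (.leaf 1846358) (.leaf 1011747))) (.node (.node (.leaf 1370166) (.leaf 1960022)) (.leaf 3009608))) (.node (.node (.node (.leaf 359530) (.leaf 498725)) (.leaf 848973)) (.node (.node (.leaf 2403364) (.leaf 2310240)) (.leaf 436311)))))) (.node (.node (.node (.node (.node (.node (.leaf 2096218) (.leaf 1201189)) (.node (.leaf 1591361) (.leaf 165922))) (.node (.node (.leaf 1984579) (.leaf 54356)) (.leaf 341056))) (.node (.node (.node (.leaf 3194888) (.leaf 2133085)) (.node (.leaf 2337824) (.leaf 3432570))) (.node (.node (.leaf 1051738) (.leaf 3029046)) (.leaf 102519)))) (.node (.node (.node (.node (.leaf 2424898) (.leaf 2564138)) (.node (.leaf 109633) (.leaf 2858110))) (.node (.node (.leaf 1715228) (.leaf 2560035)) (.leaf 353361))) (.node (.node (.node (.leaf 41077) (.leaf 2650177)) (.leaf 1333294)) (.node (.node (.leaf 760907) (.leaf 444517)) (.leaf 3341399))))) (.node (.node (.node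 (.node (.node (.leaf 1183848) (.leaf 3108968)) (.node (.leaf 831567) (.leaf 243730))) (.node (.node (.leaf 2204767) (.leaf 2110529)) (.leaf 571410))) (.node (.node (.node (.leaf 3204139) (.leaf 2333768)) (.node (.leaf 965674) (.leaf 1127510))) (.node (.node (.leaf 3283009) (.leaf 2139153)) (.leaf 3380335)))) (.node (.node (.node (.node (.leaf 800841) (.leaf 2181148)) (.node (.leaf 2351173) (.leaf 19535))) (.node (.node (.leaf 2963500) (.leaf 2571279)) (.leaf 1265736))) (.node (.node (.node (.leaf 2481278) (.leaf 3011679)) (.leaf 2653251)) (.node (.node (.leaf 320527) (.leaf 604263)) (.leaf 2544679)))))))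

def twoMv12 : Janko.Tree (ℕ) :=
  (.node (.node (.node (.node (.node (.node (.node (.leaf 2095119) (.leaf 2925601)) (.node (.leaf 1252451) (.leaf 1976392))) (.node (.node (.leaf 290876) (.leaf 128039)) (.leaf 3136536))) (.node (.node (.node (.leaf 3208304) (.leaf 1549409)) (.node (.leaf 262208) (.leaf 1163328))) (.node (.node (.leaf 2992158) (.leaf 787554)) (.leaf 3419165)))) (.node (.node (.node (.node (.leaf 2209803) (.leaf 162848)) (.node (.leaf 430175) (.leaf 1771574))) (.node (.node (.leaf 2239543) (.leaf 433210)) (.leaf 2056264))) (.node (.node (.node (.leaf 1753104) (.leaf 2455603)) (.node (.leaf 60493) (.leaf 1430552))) (.node (.node (.leaf 2792513) (.leaf 1363996)) (.leaf 731184))))) (.node (.node (.node (.node (.node (.leaf 283671) (.leaf 163930)) (.node (.leaf 1187882) (.leaf 1728517))) (.node (.node (.leaf 885839) (.leaf 1839204)) (.leaf 1248301))) (.node (.node (.node (.leaf 3379223) (.leaf 2983984)) (.node (.leaf 1603663) (.leaf 1688696))) (.node (.node (.leaf 181286) (.leaf 1473559)) (.leaf 1800199)))) (.node (.node (.node (.node (.leaf 1013790) (.leaf 3352655)) (.node (.leaf 1768483) (.leaf 74765)))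 (.node (.node (.leaf 2535494) (.leaf 2290721)) (.leaf 183299))) (.node (.node (.node (.leaf 777311) (.leaf 272423)) (.leaf 708643)) (.node (.node (.leaf 1885208) (.leaf 2674761)) (.leaf 1263680)))))) (.node (.node (.node (.node (.node (.node (.leaf 2562085) (.leaf 1930360)) (.node (.leaf 1922092) (.leaf 1909882))) (.node (.node (.leaf 1681483) (.leaf 3373121)) (.leaf 587851))) (.node (.node (.node (.leaf 1669179) (.leaf 1419372)) (.node (.leaf 687159) (.leaf 1404952))) (.node (.node (.leaf 3281962) (.leaf 3386494)) (.leaf 2705504)))) (.node (.node (.node (.node (.leaf 73752) (.leaf 3538023)) (.node (.leaf 2466901) (.leaf 2818056))) (.node (.node (.leaf 2018357) (.leaf 1775725)) (.leaf 188437))) (.node (.node (.node (.leaf 813089) (.leaf 1905763)) (.leaf 80983)) (.node (.node (.leaf 2969725) (.leaf 1889395)) (.leaf 2538514))))) (.node (.node (.node (.node (.node (.leaf 2066488) (.leaf 2989136)) (.node (.leaf 992369) (.leaf 1772602))) (.node (.node (.leaf 3218442) (.leaf 3448954)) (.leaf 1000551))) (.node (.node (.node (.leaf 131192) (.leaf 2474037)) (.node (.leaf 2339950) (.leaf 632949))) (.node (.node (.leaf 370765)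 (.leaf 422987)) (.leaf 745518)))) (.node (.node (.node (.node (.leaf 796745) (.leaf 2224253)) (.node (.leaf 1479744) (.leaf 2215964))) (.node (.node (.leaf 413786) (.leaf 1684538)) (.leaf 2888813))) (.node (.node (.node (.leaf 2015354) (.leaf 2399342)) (.leaf 2971761)) (.node (.node (.leaf 783379) (.leaf 1735783)) (.leaf 297019)))))))

def twoMv13 : Janko.Tree (ℕ) :=
  (.node (.node (.node (.node (.node (.node (.node (.leaf 3202142) (.leaf 1904688)) (.node (.leaf 2284545) (.leaf 3469385))) (.node (.node (.leaf 3297316) (.leaf 833659)) (.leaf 818236))) (.node (.node (.node (.leaf 2581553) (.leaf 1207316)) (.node (.leaf 1698833) (.leaf 1199202))) (.node (.node (.leaf 461903) (.leaf 140376)) (.leaf 696439)))) (.node (.node (.node (.node (.leaf 3399796) (.leaf 1098787)) (.node (.leaf 3225674) (.leaf 977997))) (.node (.node (.leaf 3273767) (.leaf 2143292)) (.leaf 1311834))) (.node (.node (.node (.leaf 2359329) (.leaf 1005609)) (.node (.leaf 1290296) (.leaf 752698))) (.node (.node (.leaf 1113093) (.leaf 3034191)) (.leaf 1957950))))) (.node (.node (.node (.node (.node (.leaf 479293) (.leaf 3330102)) (.node (.leaf 2459670)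 (.leaf 2709518))) (.node (.node (.leaf 459822) (.leaf 528439)) (.leaf 504886))) (.node (.node (.node (.leaf 1982521) (.leaf 2736227)) (.node (.leaf 2253881) (.leaf 38012))) (.node (.node (.leaf 1146980) (.leaf 2980991)) (.leaf 2350174)))) (.node (.node (.node (.node (.leaf 1007721) (.leaf 1568885)) (.node (.leaf 533567) (.leaf 2442288))) (.node (.node (.leaf 388127) (.leaf 884827)) (.leaf 2641929))) (.node (.node (.node (.leaf 590946) (.leaf 1279000)) (.leaf 542797)) (.node (.node (.leaf 150625) (.leaf 998426)) (.leaf 2959368)))))) (.node (.node (.node (.node (.node (.node (.leaf 282712) (.leaf 2342950)) (.node (.leaf 653382) (.leaf 1176600))) (.node (.node (.leaf 1689622) (.leaf 1432690)) (.leaf 2165884))) (.node (.node (.node (.leaf 2046048) (.leaf 2871376)) (.node (.leaf 22545) (.leaf 1347588))) (.node (.node (.leaf 489545) (.leaf 1074227)) (.leaf 1949743)))) (.node (.node (.node (.node (.leaf 2488386) (.leaf 1478767)) (.node (.leaf 2065438) (.leaf 3275782))) (.node (.node (.leaf 648257) (.leaf 1383436)) (.leaf 2752571))) (.node (.node (.node (.leaf 3230757) (.leaf 853021)) (.leaf 1796183)) (.node (.node (.leaf 1618994)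 (.leaf 493688)) (.leaf 113762))))) (.node (.node (.node (.node (.node (.leaf 2413620) (.leaf 2472980)) (.node (.leaf 3195907) (.leaf 3085323))) (.node (.node (.leaf 621623) (.leaf 1334276)) (.leaf 1463419))) (.node (.node (.node (.leaf 1308788) (.leaf 774266)) (.node (.leaf 1104943) (.leaf 1978433))) (.node (.node (.leaf 2619424) (.leaf 2325508)) (.leaf 2875478)))) (.node (.node (.node (.node (.leaf 2666520) (.leaf 65574)) (.node (.leaf 623705) (.leaf 1569838))) (.node (.node (.leaf 1986653) (.leaf 1828981)) (.leaf 2879501))) (.node (.node (.node (.leaf 2421867) (.leaf 159765)) (.leaf 2343992)) (.node (.node (.leaf 2542633) (.leaf 645209)) (.leaf 2913315)))))))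

def twoMv14 : Janko.Tree (ℕ) :=
  (.node (.node (.node (.node (.node (.node (.node (.leaf 771154) (.leaf 2708545)) (.node (.leaf 2696294) (.leaf 2830427))) (.node (.node (.leaf 1584225) (.leaf 3499107)) (.leaf 942180))) (.node (.node (.node (.leaf 1120350) (.leaf 1798224)) (.node (.leaf 2582612) (.leaf 1770573))) (.node (.node (.leaf 3192846) (.leaf 3474546)) (.leaf 3452950)))) (.node (.node (.node (.node (.leaf 2640933) (.leaf 500835)) (.node (.leaf 166955) (.leaf 3200084))) (.node (.node (.leaf 2496580) (.leaf 3065961)) (.leaf 269383))) (.node (.node (.node (.leaf 437354) (.leaf 2164855)) (.node (.leaf 2547790) (.leaf 2627687))) (.node (.node (.leaf 1650766) (.leaf 2771061)) (.leaf 2517000))))) (.node (.node (.node (.node (.node (.leaf 709705) (.leaf 1240093)) (.node (.leaf 2244630) (.leaf 2440250))) (.node (.node (.leaf 1969262) (.leaf 3091552)) (.leaf 1449993))) (.node (.node (.node (.leaf 1238048) (.leaf 1685516)) (.node (.leaf 1869905) (.leaf 151599))) (.node (.node (.leaf 3409965) (.leaf 605304)) (.leaf 1249335)))) (.node (.node (.node (.node (.leaf 3039251) (.leaf 460877)) (.node (.leaf 2680905) (.leaf 747546)))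 (.node (.node (.leaf 1378312) (.leaf 362612)) (.leaf 1221646))) (.node (.node (.node (.leaf 804978) (.leaf 3116120)) (.leaf 691255)) (.node (.node (.leaf 2122815) (.leaf 3241055)) (.leaf 2628654)))))) (.node (.node (.node (.node (.node (.node (.leaf 1341524) (.leaf 2374665)) (.node (.leaf 3021872) (.leaf 3501140))) (.node (.node (.leaf 1119255) (.leaf 1675352)) (.leaf 3069996))) (.node (.node (.node (.leaf 2471954) (.leaf 1366026)) (.node (.leaf 1546246) (.leaf 3263516))) (.node (.node (.leaf 2550863) (.leaf 215137)) (.leaf 3240018)))) (.node (.node (.node (.node (.leaf 2688021) (.leaf 1776756)) (.node (.leaf 3170413) (.leaf 172089))) (.node (.node (.leaf 2075738) (.leaf 907284)) (.leaf 1903737))) (.node (.node (.node (.leaf 738402) (.leaf 2091033)) (.leaf 894045)) (.node (.node (.leaf 1197093) (.leaf 2867251)) (.leaf 1871983))))) (.node (.node (.node (.node (.node (.leaf 1552479) (.leaf 199717)) (.node (.leaf 2323496) (.leaf 1365119))) (.node (.node (.leaf 855134) (.leaf 3271708)) (.leaf 1424423))) (.node (.node (.node (.leaf 1195118) (.leaf 1296425)) (.node (.leaf 1842293) (.leaf 3258370))) (.node (.node (.leaf 1921134)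 (.leaf 912412)) (.leaf 2790461)))) (.node (.node (.node (.node (.leaf 246809) (.leaf 3060773)) (.node (.leaf 1895451) (.leaf 1555499))) (.node (.node (.leaf 1227889) (.leaf 3350591)) (.leaf 3100682))) (.node (.node (.node (.leaf 2585631) (.leaf 657476)) (.leaf 520236)) (.node (.node (.leaf 980058) (.leaf 1559584)) (.leaf 1784869)))))))

def twoMv15 : Janko.Tree (ℕ) :=
  (.node (.node (.node (.node (.node (.node (.node (.leaf 1261632) (.leaf 915562)) (.node (.leaf 2051180) (.leaf 1759351))) (.node (.node (.leaf 2602003) (.leaf 1475709)) (.leaf 3224695))) (.node (.node (.node (.leaf 3414134) (.leaf 1273934)) (.node (.leaf 2318374) (.leaf 629847))) (.node (.node (.leaf 724004) (.leaf 1397782)) (.leaf 3107953)))) (.node (.node (.node (.node (.leaf 2895985) (.leaf 211997)) (.node (.leaf 547905) (.leaf 3149830))) (.node (.node (.leaf 259101) (.leaf 2134116)) (.leaf 881749))) (.node (.node (.node (.leaf 2354256) (.leaf 2695226)) (.node (.leaf 2375788) (.leaf 2476034))) (.node (.node (.leaf 3467375) (.leaf 841834)) (.leaf 1439780))))) (.node (.node (.node (.node (.node (.leaf 343058) (.leaf 1586204)) (.node (.leaf 2278498)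 (.leaf 1403932))) (.node (.node (.leaf 1310834) (.leaf 3272745)) (.leaf 2702403))) (.node (.node (.node (.leaf 1611815) (.leaf 3375161)) (.node (.leaf 2743330) (.leaf 271366))) (.node (.node (.leaf 2463747) (.leaf 3393662)) (.leaf 924791)))) (.node (.node (.node (.node (.leaf 3498030) (.leaf 3158101)) (.node (.leaf 1804323) (.leaf 2975753))) (.node (.node (.leaf 1474570) (.leaf 302120)) (.leaf 1856615))) (.node (.node (.node (.leaf 1536005) (.leaf 1742919)) (.leaf 1422457)) (.node (.node (.leaf 2545753) (.leaf 671806)) (.leaf 2999359)))))) (.node (.node (.node (.node (.node (.node (.leaf 973903) (.leaf 792582)) (.node (.leaf 817211) (.leaf 1276994))) (.node (.node (.leaf 3387516) (.leaf 614414)) (.leaf 1560679))) (.node (.node (.node (.leaf 1667082) (.leaf 3046520)) (.node (.leaf 1910908) (.leaf 1115208))) (.node (.node (.leaf 2259071) (.leaf 1637425)) (.leaf 2757731)))) (.node (.node (.node (.node (.leaf 2772000) (.leaf 3048502)) (.node (.leaf 1129514) (.leaf 312435))) (.node (.node (.leaf 3295289) (.leaf 3507271)) (.leaf 3144797))) (.node (.node (.node (.leaf 2787383) (.leaf 2802740)) (.leaf 3544124)) (.node (.node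 (.leaf 2783322) (.leaf 3274753)) (.leaf 1353822))))) (.node (.node (.node (.node (.node (.leaf 961655) (.leaf 637972)) (.node (.leaf 91227) (.leaf 1732661))) (.node (.node (.leaf 984097) (.leaf 1707134)) (.leaf 2144276))) (.node (.node (.node (.leaf 3235913) (.leaf 1191026)) (.node (.leaf 2113622) (.leaf 619557))) (.node (.node (.leaf 335974) (.leaf 1054801)) (.leaf 2929703)))) (.node (.node (.node (.node (.leaf 2128969) (.leaf 666736)) (.node (.leaf 1083464) (.leaf 2823227))) (.node (.node (.leaf 381987) (.leaf 503891)) (.leaf 5168))) (.node (.node (.node (.leaf 1817644) (.leaf 2187295)) (.leaf 410730)) (.node (.node (.leaf 954441) (.leaf 291872)) (.leaf 2497625)))))))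

def twoMv16 : Janko.Tree (ℕ) :=
  (.node (.node (.node (.node (.node (.node (.node (.leaf 2541659) (.leaf 1133614)) (.node (.leaf 3239009) (.leaf 268368))) (.node (.node (.leaf 398390) (.leaf 1035339)) (.leaf 2611224))) (.node (.node (.node (.leaf 1695849) (.leaf 847992)) (.node (.leaf 214021) (.leaf 267329))) (.node (.node (.leaf 1622136) (.leaf 2825267)) (.leaf 599107)))) (.node (.node (.node (.node (.leaf 1075225) (.leaf 995414)) (.node (.leaf 2103323) (.leaf 609311))) (.node (.node (.leaf 345091) (.leaf 2404404)) (.leaf 3018770))) (.node (.node (.node (.leaf 1927206) (.leaf 712728)) (.node (.leaf 2124801) (.leaf 983049))) (.node (.node (.leaf 3042329) (.leaf 1322064)) (.leaf 3115130))))) (.node (.node (.node (.node (.node (.leaf 3213390) (.leaf 2836497)) (.node (.leaf 734259) (.leaf 2826354))) (.node (.node (.leaf 2882625) (.leaf 956541)) (.leaf 2648089))) (.node (.node (.node (.leaf 2677872) (.leaf 2340948)) (.node (.leaf 2235401) (.leaf 3479564))) (.node (.node (.leaf 1320970) (.leaf 247920)) (.leaf 3106911)))) (.node (.node (.node (.node (.leaf 3321964) (.leaf 2613339)) (.node (.leaf 1454082) (.leaf 1343535)))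 (.node (.node (.leaf 1693699) (.leaf 1692672)) (.leaf 118869))) (.node (.node (.node (.leaf 785438) (.leaf 1676388)) (.leaf 3482700)) (.node (.node (.leaf 499829) (.leaf 3005509)) (.leaf 2147357)))))) (.node (.node (.node (.node (.node (.node (.leaf 589879) (.leaf 1936498)) (.node (.leaf 3176453) (.leaf 287854))) (.node (.node (.leaf 322665) (.leaf 1657967)) (.leaf 332826))) (.node (.node (.node (.leaf 196677) (.leaf 138365)) (.node (.leaf 1300541) (.leaf 3439711))) (.node (.node (.leaf 184404) (.leaf 83037)) (.leaf 3123316)))) (.node (.node (.node (.node (.leaf 3441716) (.leaf 1945606)) (.node (.leaf 2523193) (.leaf 2415691))) (.node (.node (.leaf 3148866) (.leaf 716884)) (.leaf 14434))) (.node (.node (.node (.leaf 2356273) (.leaf 1348695)) (.leaf 402554)) (.node (.node (.leaf 507982) (.leaf 967731)) (.leaf 1834088))))) (.node (.node (.node (.node (.node (.leaf 3481622) (.leaf 3207226)) (.node (.leaf 482393) (.leaf 97380))) (.node (.node (.leaf 1696877) (.leaf 3134559)) (.leaf 770091))) (.node (.node (.node (.leaf 2126962) (.leaf 729130)) (.node (.leaf 2852885) (.leaf 2678893))) (.node (.node (.leaf 2595947) (.leaf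 1208416)) (.leaf 4112)))) (.node (.node (.node (.node (.leaf 2174002) (.leaf 540780)) (.node (.leaf 1783930) (.leaf 1723481))) (.node (.node (.leaf 823328) (.leaf 1012777)) (.leaf 572477))) (.node (.node (.node (.leaf 2692176) (.leaf 751675)) (.leaf 57357)) (.node (.node (.leaf 806963) (.leaf 1537050)) (.leaf 2586742)))))))

def twoMv17 : Janko.Tree (ℕ) :=
  (.node (.node (.node (.node (.node (.node (.node (.leaf 280692) (.leaf 1708148)) (.node (.leaf 2554933) (.leaf 2755663))) (.node (.node (.leaf 1726539) (.leaf 1043470)) (.leaf 3036187))) (.node (.node (.node (.leaf 807978) (.leaf 3312663)) (.node (.leaf 1883201) (.leaf 3184667))) (.node (.node (.leaf 1352731) (.leaf 2676850)) (.leaf 3309674)))) (.node (.node (.node (.node (.leaf 2605151) (.leaf 1335308)) (.node (.leaf 3267588) (.leaf 3020874))) (.node (.node (.leaf 843815) (.leaf 3447892)) (.leaf 1847312))) (.node (.node (.node (.leaf 2102286) (.leaf 1174533)) (.node (.leaf 1538090) (.leaf 1619971))) (.node (.node (.leaf 157704) (.leaf 2617368)) (.leaf 1857565))))) (.node (.node (.node (.node (.node (.leaf 447544) (.leaf 608272)) (.node (.leaf 1312791) (.leaf 1891389)))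 (.node (.node (.leaf 435246) (.leaf 2007115)) (.leaf 2618369))) (.node (.node (.node (.leaf 685146) (.leaf 2763823)) (.node (.leaf 2566148) (.leaf 2504823))) (.node (.node (.leaf 2101305) (.leaf 611429)) (.leaf 3516515)))) (.node (.node (.node (.node (.leaf 2806847) (.leaf 964713)) (.node (.leaf 2570317) (.leaf 2017330))) (.node (.node (.leaf 1026069) (.leaf 2317348)) (.leaf 3384323))) (.node (.node (.node (.leaf 3446807) (.leaf 2512970)) (.leaf 3365971)) (.node (.node (.leaf 2207745) (.leaf 374862)) (.leaf 316475)))))) (.node (.node (.node (.node (.node (.node (.leaf 2439199) (.leaf 2384928)) (.node (.leaf 467977) (.leaf 260125))) (.node (.node (.leaf 2003063) (.leaf 922679)) (.leaf 169026))) (.node (.node (.node (.leaf 1934393) (.leaf 3124273)) (.node (.leaf 2714719) (.leaf 2387070))) (.node (.node (.leaf 2873356) (.leaf 2154560)) (.leaf 1655818)))) (.node (.node (.node (.node (.leaf 2013194) (.leaf 2252832)) (.node (.leaf 2157692) (.leaf 2928689))) (.node (.node (.leaf 1924186) (.leaf 1167418)) (.leaf 1408018))) (.node (.node (.node (.leaf 1438810) (.leaf 2429044)) (.leaf 1617966)) (.node (.node (.leaf 1851485) (.leaf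 1635432)) (.leaf 3101770))))) (.node (.node (.node (.node (.node (.leaf 561180) (.leaf 1154062)) (.node (.leaf 28682) (.leaf 1955863))) (.node (.node (.leaf 1114205) (.leaf 707634)) (.leaf 3298352))) (.node (.node (.node (.leaf 3395643) (.leaf 2490450)) (.node (.leaf 1567806) (.leaf 1029131))) (.node (.node (.leaf 2146410) (.leaf 3294290)) (.leaf 3008562)))) (.node (.node (.node (.node (.leaf 1541164) (.leaf 1426527)) (.node (.leaf 1175627) (.leaf 1270819))) (.node (.node (.leaf 439405) (.leaf 2280517)) (.leaf 900180))) (.node (.node (.node (.leaf 2107395) (.leaf 1878062)) (.leaf 516097)) (.node (.node (.leaf 803891) (.leaf 2055171)) (.leaf 2651233)))))))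

def twoMv18 : Janko.Tree (ℕ) :=
  (.node (.node (.node (.node (.node (.node (.node (.leaf 25689) (.leaf 2685989)) (.node (.leaf 2213920) (.leaf 1855575))) (.node (.node (.leaf 1712250) (.leaf 585738)) (.leaf 3256401))) (.node (.node (.node (.leaf 2599961) (.leaf 1184788)) (.node (.leaf 2411635) (.leaf 223275))) (.node (.node (.leaf 763987) (.leaf 1194079)) (.leaf 2090089)))) (.node (.node (.node (.node (.leaf 3407930) (.leaf 3138628)) (.node (.leaf 55305) (.leaf 2630726))) (.node (.node (.leaf 225395) (.leaf 2218064)) (.leaf 201756))) (.node (.node (.node (.leaf 1866793) (.leaf 897051)) (.node (.leaf 743478) (.leaf 3210274))) (.node (.node (.leaf 1577994) (.leaf 2315356)) (.leaf 2557041))))) (.node (.node (.node (.node (.node (.leaf 1517690) (.leaf 996374)) (.node (.leaf 1244241) (.leaf 1779759))) (.node (.node (.leaf 95353) (.leaf 1316972)) (.leaf 3533862))) (.node (.node (.node (.leaf 1269845) (.leaf 982071)) (.node (.leaf 1328167) (.leaf 463878))) (.node (.node (.leaf 3513446) (.leaf 1233970)) (.leaf 2942049)))) (.node (.node (.node (.node (.leaf 1808469) (.leaf 867431)) (.node (.leaf 1861715) (.leaf 2616376)))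 (.node (.node (.leaf 1884176) (.leaf 502830)) (.leaf 1519695))) (.node (.node (.node (.leaf 2720881) (.leaf 2348123)) (.leaf 3155022)) (.node (.node (.leaf 766003) (.leaf 2884715)) (.leaf 3135489)))))) (.node (.node (.node (.node (.node (.node (.leaf 2952319) (.leaf 3132443)) (.node (.leaf 2379874) (.leaf 765040))) (.node (.node (.leaf 3316829) (.leaf 761918)) (.leaf 1181715))) (.node (.node (.node (.leaf 158743) (.leaf 1548307)) (.node (.leaf 2197567) (.leaf 2412621))) (.node (.node (.leaf 2673714) (.leaf 711723)) (.leaf 380995)))) (.node (.node (.node (.node (.leaf 1819768) (.leaf 3142758)) (.node (.leaf 1722438) (.leaf 3189803))) (.node (.node (.leaf 2304120) (.leaf 3260531)) (.leaf 741416))) (.node (.node (.node (.leaf 832565) (.leaf 2161692)) (.leaf 357454)) (.node (.node (.leaf 1338434) (.leaf 218174)) (.leaf 1741852))))) (.node (.node (.node (.node (.node (.leaf 1646650) (.leaf 838692)) (.node (.leaf 1990780) (.leaf 733286))) (.node (.node (.leaf 891996) (.leaf 1131587)) (.leaf 1594466))) (.node (.node (.node (.leaf 149602) (.leaf 3151890)) (.node (.leaf 2756648) (.leaf 3245141))) (.node (.node (.leaf 2958415)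 (.leaf 2569295)) (.leaf 228438)))) (.node (.node (.node (.node (.leaf 1446937) (.leaf 1630329)) (.node (.leaf 714858) (.leaf 819311))) (.node (.node (.leaf 2303094) (.leaf 3427395)) (.leaf 3081230))) (.node (.node (.node (.leaf 1897575) (.leaf 3310647)) (.leaf 1563702)) (.node (.node (.leaf 2814040) (.leaf 2236470)) (.leaf 2592820)))))))

def twoMv19 : Janko.Tree (ℕ) :=
  (.node (.node (.node (.node (.node (.node (.node (.leaf 1456252) (.leaf 154648)) (.node (.leaf 860175) (.leaf 2283596))) (.node (.node (.leaf 1981465) (.leaf 235619)) (.leaf 1733725))) (.node (.node (.node (.leaf 2514017) (.leaf 1069064)) (.node (.leaf 2824205) (.leaf 1255541))) (.node (.node (.leaf 3013711) (.leaf 143368)) (.leaf 2169936)))) (.node (.node (.node (.node (.leaf 513142) (.leaf 3083284)) (.node (.leaf 257131) (.leaf 52256))) (.node (.node (.leaf 3437646) (.leaf 1512565)) (.leaf 1826849))) (.node (.node (.node (.leaf 2329656) (.leaf 3466305)) (.leaf 1865824)) (.node (.node (.leaf 2552843) (.leaf 1648759)) (.leaf 393226))))) (.node (.node (.node (.node (.node (.leaf 665719) (.leaf 1588298)) (.node (.leaf 3511389) (.leaf 1477669))) (.node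 (.node (.leaf 1257585) (.leaf 2820128)) (.leaf 2683922))) (.node (.node (.node (.leaf 3076156) (.leaf 3110015)) (.node (.leaf 1354816) (.leaf 2685037))) (.node (.node (.leaf 292886) (.leaf 2633842)) (.leaf 327744)))) (.node (.node (.node (.node (.leaf 367685) (.leaf 3526729)) (.node (.leaf 3396733) (.leaf 1384495))) (.node (.node (.leaf 514121) (.leaf 1006595)) (.leaf 1330205))) (.node (.node (.node (.leaf 2635836) (.leaf 1843233)) (.leaf 3313696)) (.node (.node (.leaf 3430490) (.leaf 1996868)) (.leaf 1874955)))))) (.node (.node (.node (.node (.node (.node (.leaf 2687016) (.leaf 1545247)) (.node (.leaf 1951783) (.leaf 314380))) (.node (.node (.leaf 2311219) (.leaf 3530754)) (.leaf 1493096))) (.node (.node (.node (.leaf 126059) (.leaf 1641565)) (.node (.leaf 3288159) (.leaf 3306518))) (.node (.node (.leaf 2109549) (.leaf 779280)) (.leaf 2251850)))) (.node (.node (.node (.node (.leaf 525319) (.leaf 373881)) (.node (.leaf 3268678) (.leaf 1665112))) (.node (.node (.leaf 2408562) (.leaf 2805870)) (.leaf 2579496))) (.node (.node (.node (.leaf 597067) (.leaf 2022486)) (.leaf 1087604)) (.node (.node (.leaf 2868333) (.leaf 1144953))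 (.leaf 1215513))))) (.node (.node (.node (.node (.node (.leaf 1971274) (.leaf 3097718)) (.node (.leaf 3289137) (.leaf 1406995))) (.node (.node (.leaf 669735) (.leaf 86127)) (.leaf 1590370))) (.node (.node (.node (.leaf 3072067) (.leaf 2621478)) (.node (.leaf 1647665) (.leaf 1579093))) (.node (.node (.leaf 3524689) (.leaf 2330695)) (.leaf 1339475)))) (.node (.node (.node (.node (.leaf 329781) (.leaf 2275342)) (.node (.leaf 1628272) (.leaf 2024522))) (.node (.node (.leaf 347162) (.leaf 3126302)) (.leaf 3037223))) (.node (.node (.node (.leaf 3119107) (.leaf 3488772)) (.leaf 3477576)) (.node (.node (.leaf 917582) (.leaf 1200186)) (.leaf 1046637)))))))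

def twoMv110 : Janko.Tree (ℕ) :=
  (.node (.node (.node (.node (.node (.node (.node (.leaf 3130416) (.leaf 1974360)) (.node (.leaf 2978921) (.leaf 2573388))) (.node (.node (.leaf 2946170) (.leaf 137324)) (.leaf 2766906))) (.node (.node (.node (.leaf 1410062) (.leaf 538675)) (.node (.leaf 2670674) (.leaf 400466))) (.node (.node (.leaf 1222693) (.leaf 612423)) (.leaf 2441275)))) (.node (.node (.node (.node (.leaf 1132613) (.leaf 3435587)) (.node (.leaf 2503710) (.leaf 2401374))) (.node (.node (.leaf 2861082) (.leaf 2454577)) (.leaf 350223))) (.node (.node (.node (.leaf 3223672) (.leaf 1780808)) (.leaf 1918065)) (.node (.node (.leaf 3096585) (.leaf 2443387)) (.leaf 2986073))))) (.node (.node (.node (.node (.node (.leaf 1182821) (.leaf 2163772)) (.node (.leaf 134205) (.leaf 2301990))) (.node (.node (.leaf 453660) (.leaf 87126)) (.leaf 1557557))) (.node (.node (.node (.leaf 702519) (.leaf 1030214)) (.node (.leaf 311301) (.leaf 356431))) (.node (.node (.leaf 2955383) (.leaf 3052550)) (.leaf 2349157)))) (.node (.node (.node (.node (.leaf 1600598) (.leaf 3006507)) (.node (.leaf 1389572) (.leaf 294919))) (.node (.node (.leaf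 934001) (.leaf 1902708)) (.leaf 1654785))) (.node (.node (.node (.leaf 1038449) (.leaf 1750075)) (.leaf 3179622)) (.node (.node (.leaf 1623083) (.leaf 2423923)) (.leaf 2430984)))))) (.node (.node (.node (.node (.node (.node (.leaf 2754684) (.leaf 1608745)) (.node (.leaf 2035731) (.leaf 146438))) (.node (.node (.leaf 1180798) (.leaf 3328051)) (.leaf 1032269))) (.node (.node (.node (.leaf 1223734) (.leaf 2501640)) (.node (.leaf 2808928) (.leaf 1379416))) (.node (.node (.leaf 2406493) (.leaf 338974)) (.leaf 1931301)))) (.node (.node (.node (.node (.leaf 2811985) (.leaf 3506178)) (.node (.leaf 378925) (.leaf 62560))) (.node (.node (.leaf 2937877) (.leaf 2215026)) (.leaf 2761751))) (.node (.node (.node (.leaf 442376) (.leaf 3428451)) (.leaf 1532966)) (.node (.node (.leaf 2851919) (.leaf 1820781)) (.leaf 29729))))) (.node (.node (.node (.node (.node (.leaf 2930808) (.leaf 2742330)) (.node (.leaf 116841) (.leaf 1645570))) (.node (.node (.leaf 3490935) (.leaf 2658387)) (.leaf 991234))) (.node (.node (.node (.leaf 85086) (.leaf 2391074)) (.node (.leaf 145435) (.leaf 1299572))) (.node (.node (.leaf 2309228) (.leaf 1663102)) (.leaf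 2499638)))) (.node (.node (.node (.node (.leaf 2968607) (.leaf 1705994)) (.node (.leaf 1235024) (.leaf 2282507))) (.node (.node (.leaf 273482) (.leaf 3344491)) (.leaf 2854944))) (.node (.node (.node (.leaf 101445) (.leaf 1906703)) (.leaf 1952847)) (.node (.node (.leaf 1224748) (.leaf 3468350)) (.leaf 700518)))))))

def twoMv111 : Janko.Tree (ℕ) :=
  (.node (.node (.node (.node (.node (.node (.node (.leaf 77932) (.leaf 2693146)) (.node (.leaf 3066954) (.leaf 2355240))) (.node (.node (.leaf 2238509) (.leaf 1406076)) (.leaf 2043994))) (.node (.node (.node (.leaf 63557) (.leaf 1694834)) (.node (.leaf 412689) (.leaf 1027197))) (.node (.node (.leaf 927806) (.leaf 789594)) (.leaf 3464256)))) (.node (.node (.node (.node (.leaf 3444856) (.leaf 2072596)) (.node (.leaf 2751589) (.leaf 1727572))) (.node (.node (.leaf 2331714) (.leaf 2432089)) (.leaf 1254407))) (.node (.node (.node (.leaf 92198) (.leaf 921650)) (.leaf 3442757)) (.node (.node (.leaf 1767482) (.leaf 168038)) (.leaf 1166401))))) (.node (.node (.node (.node (.node (.leaf 3196975) (.leaf 3284993)) (.node (.leaf 1662078) (.leaf 3354725))) (.node (.node (.leaf 1585238)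 (.leaf 3157054)) (.leaf 625707))) (.node (.node (.node (.leaf 3215473) (.leaf 1697794)) (.node (.leaf 2877560) (.leaf 2152467))) (.node (.node (.leaf 1083) (.leaf 1810533)) (.leaf 2910272)))) (.node (.node (.node (.node (.leaf 3038332) (.leaf 1213512)) (.node (.leaf 622593) (.leaf 1392763))) (.node (.node (.leaf 2437153) (.leaf 3143713)) (.leaf 3299373))) (.node (.node (.node (.leaf 1818728) (.leaf 2338820)) (.leaf 2272378)) (.node (.node (.leaf 3025945) (.leaf 1926148)) (.leaf 313385)))))) (.node (.node (.node (.node (.node (.node (.leaf 1501245) (.leaf 1204312)) (.node (.leaf 1171566) (.leaf 411685))) (.node (.node (.leaf 2200623) (.leaf 1621070)) (.leaf 1079328))) (.node (.node (.node (.leaf 2713614) (.leaf 32780)) (.node (.leaf 713789) (.leaf 2988076))) (.node (.node (.leaf 535658) (.leaf 3113993)) (.leaf 1845294)))) (.node (.node (.node (.node (.leaf 2948119) (.leaf 2120735)) (.node (.leaf 2434157) (.leaf 3478566))) (.node (.node (.leaf 3545184) (.leaf 3226720)) (.leaf 1660938))) (.node (.node (.node (.leaf 372784) (.leaf 2907226)) (.leaf 2247741)) (.node (.node (.leaf 2382892) (.leaf 1286227)) (.leaf 3534886)))))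 (.node (.node (.node (.node (.node (.leaf 1558616) (.leaf 610412)) (.node (.leaf 1198083) (.leaf 686182))) (.node (.node (.leaf 1264673) (.leaf 390227)) (.leaf 1318981))) (.node (.node (.node (.leaf 673855) (.leaf 285812)) (.node (.leaf 529470) (.leaf 1337363))) (.node (.node (.leaf 1390681) (.leaf 1095704)) (.leaf 2111611)))) (.node (.node (.node (.node (.leaf 3326004) (.leaf 1829967)) (.node (.leaf 1680475) (.leaf 160895))) (.node (.node (.leaf 705551) (.leaf 846921)) (.leaf 1495149))) (.node (.node (.node (.leaf 2587747) (.leaf 2636865)) (.leaf 1155124)) (.node (.node (.leaf 3531781) (.leaf 2480239)) (.leaf 2166833)))))))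

def twoMv112 : Janko.Tree (ℕ) :=
  (.node (.node (.node (.node (.node (.node (.node (.leaf 545800) (.leaf 1946711)) (.node (.leaf 3185709) (.leaf 548924))) (.node (.node (.leaf 1778714) (.leaf 3339274)) (.leaf 1243186))) (.node (.node (.node (.leaf 1124429) (.leaf 1047619)) (.node (.leaf 968755) (.leaf 1925165))) (.node (.node (.leaf 1528837) (.leaf 108663)) (.leaf 2446370)))) (.node (.node (.node (.node (.leaf 3027969) (.leaf 3521562)) (.node (.leaf 1494027) (.leaf 576631))) (.node (.node (.leaf 469069) (.leaf 3361884)) (.leaf 1448052))) (.node (.node (.node (.leaf 2319416) (.leaf 2675794)) (.leaf 1036291)) (.node (.node (.leaf 2484263) (.leaf 11375)) (.leaf 361571))))) (.node (.node (.node (.node (.node (.leaf 1388620) (.leaf 3103754)) (.node (.leaf 360490) (.leaf 2555915))) (.node (.node (.leaf 3505268) (.leaf 2383992)) (.leaf 2402324))) (.node (.node (.node (.leaf 3417132) (.leaf 3331096)) (.node (.leaf 3027071) (.leaf 1206320))) (.node (.node (.leaf 1527900) (.leaf 2144)) (.leaf 1108082)))) (.node (.node (.node (.node (.leaf 3388499) (.leaf 2195458)) (.node (.leaf 769118) (.leaf 229397))) (.node (.node (.leaf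 583753) (.leaf 821313)) (.leaf 2660378))) (.node (.node (.node (.leaf 1070152) (.leaf 693291)) (.leaf 222299)) (.node (.node (.leaf 3279999) (.leaf 2773116)) (.leaf 2690059)))))) (.node (.node (.node (.node (.node (.node (.leaf 2060293) (.leaf 1717338)) (.node (.leaf 1932367) (.leaf 2199658))) (.node (.node (.leaf 3118159) (.leaf 1942574)) (.leaf 2287704))) (.node (.node (.node (.leaf 579593) (.leaf 428052)) (.node (.leaf 1169511) (.leaf 2798684))) (.node (.node (.leaf 1349637) (.leaf 1230885)) (.leaf 865314)))) (.node (.node (.node (.node (.leaf 1486916) (.leaf 722002)) (.node (.leaf 2672703) (.leaf 1017892))) (.node (.node (.leaf 3484736) (.leaf 2405472)) (.leaf 429110))) (.node (.node (.node (.leaf 3016705) (.leaf 1401897)) (.leaf 2656317)) (.node (.node (.leaf 899156) (.leaf 417850)) (.leaf 643165))))) (.node (.node (.node (.node (.node (.leaf 2737179) (.leaf 990308)) (.node (.leaf 2927707) (.leaf 2577414))) (.node (.node (.leaf 152606) (.leaf 2334726)) (.leaf 266361))) (.node (.node (.node (.leaf 1997937) (.leaf 3197979)) (.node (.leaf 1305704) (.leaf 2428015))) (.node (.node (.leaf 1940577) (.leaf 120899)) (.leaf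 3416184)))) (.node (.node (.node (.node (.leaf 1553421) (.leaf 3368004)) (.node (.leaf 1282090) (.leaf 1913954))) (.node (.node (.leaf 559202) (.leaf 2099288)) (.leaf 859217))) (.node (.node (.node (.leaf 1485864) (.leaf 2853915)) (.leaf 1373184)) (.node (.node (.leaf 404531) (.leaf 592910)) (.leaf 2518043)))))))

def twoMv113 : Janko.Tree (ℕ) :=
  (.node (.node (.node (.node (.node (.node (.node (.leaf 3167287) (.leaf 510042)) (.node (.leaf 2158647) (.leaf 1467417))) (.node (.node (.leaf 2615347) (.leaf 2053203)) (.leaf 2167818))) (.node (.node (.node (.leaf 1743982) (.leaf 3519555)) (.node (.leaf 1556565) (.leaf 667704))) (.node (.node (.leaf 189558) (.leaf 2118670)) (.leaf 851999)))) (.node (.node (.node (.node (.leaf 1080326) (.leaf 3150886)) (.node (.leaf 3043411) (.leaf 1858603))) (.node (.node (.leaf 384043) (.leaf 2781220)) (.leaf 2220156))) (.node (.node (.node (.leaf 1228905) (.leaf 352292)) (.leaf 310302)) (.node (.node (.leaf 3415153) (.leaf 3372054)) (.leaf 878608))))) (.node (.node (.node (.node (.node (.leaf 3112988) (.leaf 1802359)) (.node (.leaf 1937431) (.leaf 2324579))) (.node (.node (.leaf 2921496)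 (.leaf 1019974)) (.leaf 1214560))) (.node (.node (.node (.leaf 706585) (.leaf 505906)) (.node (.leaf 340014) (.leaf 937027))) (.node (.node (.leaf 524321) (.leaf 1298455)) (.leaf 816145)))) (.node (.node (.node (.node (.leaf 3343401) (.leaf 1268736)) (.node (.leaf 2362454) (.leaf 1602658))) (.node (.node (.leaf 1683484) (.leaf 2508845)) (.leaf 3431490))) (.node (.node (.node (.leaf 2452569) (.leaf 1239068)) (.leaf 620643)) (.node (.node (.leaf 2289668) (.leaf 98427)) (.leaf 1158234)))))) (.node (.node (.node (.node (.node (.node (.leaf 861295) (.leaf 16479)) (.node (.leaf 187499) (.leaf 3400715))) (.node (.node (.leaf 1003563) (.leaf 630820)) (.leaf 396395))) (.node (.node (.node (.leaf 2461699) (.leaf 368704)) (.node (.leaf 801866) (.leaf 3529743))) (.node (.node (.leaf 1235995) (.leaf 1260584)) (.leaf 2779225)))) (.node (.node (.node (.node (.leaf 1151001) (.leaf 864360)) (.node (.leaf 1627262) (.leaf 1973371))) (.node (.node (.leaf 391233) (.leaf 2689055)) (.leaf 2788362))) (.node (.node (.node (.leaf 1752139) (.leaf 544886)) (.leaf 3487837)) (.node (.node (.leaf 2578554) (.leaf 3489804)) (.leaf 3206188))))) (.node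 (.node (.node (.node (.node (.leaf 677959) (.leaf 2291749)) (.node (.leaf 1966158) (.leaf 2745443))) (.node (.node (.leaf 911454) (.leaf 2733103)) (.leaf 553079))) (.node (.node (.node (.leaf 1664066) (.leaf 543812)) (.node (.leaf 1746998) (.leaf 2257996))) (.node (.node (.leaf 3253355) (.leaf 1614952)) (.leaf 3440763)))) (.node (.node (.node (.node (.leaf 3050612) (.leaf 2430061)) (.node (.leaf 3188752) (.leaf 2646062))) (.node (.node (.leaf 873571) (.leaf 2456666)) (.leaf 1431618))) (.node (.node (.node (.leaf 3287095) (.leaf 1078278)) (.leaf 481356)) (.node (.node (.leaf 1057825) (.leaf 3082319)) (.leaf 2846797)))))))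

def twoMv114 : Janko.Tree (ℕ) :=
  (.node (.node (.node (.node (.node (.node (.node (.leaf 874595) (.leaf 1550400)) (.node (.leaf 870435) (.leaf 1615979))) (.node (.node (.leaf 1813598) (.leaf 3369059)) (.leaf 1008743))) (.node (.node (.node (.leaf 2804843) (.leaf 1740901)) (.node (.leaf 753784) (.leaf 421976))) (.node (.node (.leaf 560142) (.leaf 1496097)) (.leaf 959576)))) (.node (.node (.node (.node (.leaf 3030034) (.leaf 595979)) (.node (.leaf 3367000) (.leaf 2767994))) (.node (.node (.leaf 147545) (.leaf 1031257)) (.leaf 2276384))) (.node (.node (.node (.leaf 1880096) (.leaf 1520684)) (.leaf 2701405)) (.node (.node (.leaf 2462758) (.leaf 1947743)) (.leaf 2816013))))) (.node (.node (.node (.node (.node (.leaf 2777193) (.leaf 674915)) (.node (.leaf 2947135) (.leaf 1374256))) (.node (.node (.leaf 1159228) (.leaf 901204)) (.leaf 1025144))) (.node (.node (.node (.leaf 1507345) (.leaf 1387587)) (.node (.leaf 1093667) (.leaf 1746008))) (.node (.node (.leaf 3332107) (.leaf 2263129)) (.leaf 1002554)))) (.node (.node (.node (.node (.leaf 2059339) (.leaf 3398763)) (.node (.leaf 208942) (.leaf 3129349))) (.node (.node (.leaf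 1396853) (.leaf 1149054)) (.leaf 1342466))) (.node (.node (.node (.leaf 2261067) (.leaf 772118)) (.leaf 2410610)) (.node (.node (.leaf 3017854) (.leaf 2837555)) (.leaf 2184248)))))) (.node (.node (.node (.node (.node (.node (.leaf 2840659) (.leaf 34840)) (.node (.leaf 3349583) (.leaf 790653))) (.node (.node (.leaf 111687) (.leaf 588849)) (.leaf 827512))) (.node (.node (.node (.leaf 1609758) (.leaf 3159050)) (.node (.leaf 2654222) (.leaf 2150454))) (.node (.node (.leaf 3333124) (.leaf 136301)) (.leaf 2703361)))) (.node (.node (.node (.node (.leaf 1977448) (.leaf 3392607)) (.node (.leaf 3425355) (.leaf 889970))) (.node (.node (.leaf 2890780) (.leaf 515111)) (.leaf 2044938))) (.node (.node (.node (.leaf 3014783) (.leaf 1297495)) (.leaf 1122334)) (.node (.node (.leaf 2005045) (.leaf 3314780)) (.leaf 815170))))) (.node (.node (.node (.node (.node (.leaf 2682960) (.leaf 227448)) (.node (.leaf 3175550) (.leaf 660542))) (.node (.node (.leaf 2129939) (.leaf 1713213)) (.leaf 3503191))) (.node (.node (.node (.leaf 452645) (.leaf 1355805)) (.node (.leaf 1954890) (.leaf 727090))) (.node (.node (.leaf 2919531) (.leaf 3102746)) (.leaf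 554084)))) (.node (.node (.node (.node (.leaf 2119771) (.leaf 1100878)) (.node (.leaf 3219499) (.leaf 1462343))) (.node (.node (.leaf 1995852) (.leaf 3012650)) (.leaf 1359895))) (.node (.node (.node (.leaf 3346459) (.leaf 2482293)) (.leaf 1687641)) (.node (.node (.leaf 3140684) (.leaf 909339)) (.leaf 1968201)))))))

def twoMv115 : Janko.Tree (ℕ) :=
  (.node (.node (.node (.node (.node (.node (.node (.leaf 3471365) (.leaf 1565786)) (.node (.leaf 1160278) (.leaf 683023))) (.node (.node (.leaf 1453076) (.leaf 840709)) (.leaf 1082422))) (.node (.node (.node (.leaf 3353688) (.leaf 1873011)) (.node (.leaf 2211842) (.leaf 1226864))) (.node (.node (.leaf 3453991) (.leaf 434257)) (.leaf 2130966)))) (.node (.node (.node (.node (.leaf 1758325) (.leaf 573530)) (.node (.leaf 2625587) (.leaf 103524))) (.node (.node (.leaf 1042507) (.leaf 1484906)) (.leaf 3015798))) (.node (.node (.node (.leaf 3512373) (.leaf 644209)) (.leaf 1028184)) (.node (.node (.leaf 2966616) (.leaf 2394206)) (.leaf 1640453))))) (.node (.node (.node (.node (.node (.leaf 1764357) (.leaf 2378801)) (.node (.leaf 1671257) (.leaf 2597938))) (.node (.node (.leaf 3356698)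 (.leaf 2821133)) (.leaf 3075125))) (.node (.node (.node (.leaf 8220) (.leaf 2926616)) (.node (.leaf 888889) (.leaf 2796654))) (.node (.node (.leaf 2477121) (.leaf 169995)) (.leaf 1570904)))) (.node (.node (.node (.node (.leaf 1295416) (.leaf 1756185)) (.node (.leaf 3165240) (.leaf 3301430))) (.node (.node (.leaf 2149480) (.leaf 3137637)) (.leaf 1999880))) (.node (.node (.node (.leaf 198672) (.leaf 1014826)) (.leaf 2093183)) (.node (.node (.leaf 950380) (.leaf 2652276)) (.leaf 3523652)))))) (.node (.node (.node (.node (.node (.node (.leaf 2738255) (.leaf 3543085)) (.node (.leaf 694306) (.leaf 3045443))) (.node (.node (.leaf 3470452) (.leaf 2944006)) (.leaf 903226))) (.node (.node (.node (.leaf 534572) (.leaf 1367124)) (.node (.leaf 2698316) (.leaf 2607196))) (.node (.node (.leaf 2859058) (.leaf 2893888)) (.leaf 2271310)))) (.node (.node (.node (.node (.leaf 3186778) (.leaf 79876)) (.node (.leaf 1625213) (.leaf 594009))) (.node (.node (.leaf 698486) (.leaf 1112122)) (.leaf 951398))) (.node (.node (.node (.leaf 1958915) (.leaf 1535008)) (.leaf 2115609)) (.node (.node (.leaf 2558019) (.leaf 506972)) (.leaf 876656))))) (.node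 (.node (.node (.node (.node (.leaf 3169320) (.leaf 3053583)) (.node (.leaf 826387) (.leaf 2032697))) (.node (.node (.leaf 2448473) (.leaf 2080883)) (.leaf 2493510))) (.node (.node (.node (.leaf 898138) (.leaf 2994212)) (.node (.leaf 2730083) (.leaf 2878488))) (.node (.node (.leaf 2764921) (.leaf 2850859)) (.leaf 2584580)))) (.node (.node (.node (.node (.leaf 3155980) (.leaf 675889)) (.node (.leaf 624723) (.leaf 541745))) (.node (.node (.leaf 1841250) (.leaf 1309779)) (.leaf 1301595))) (.node (.node (.node (.leaf 440412) (.leaf 1970229)) (.leaf 238593)) (.node (.node (.leaf 642165) (.leaf 1189915)) (.leaf 791564)))))))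

def twoMv116 : Janko.Tree (ℕ) :=
  (.node (.node (.node (.node (.node (.node (.node (.leaf 3153003) (.leaf 1414183)) (.node (.leaf 2722928) (.leaf 656435))) (.node (.node (.leaf 2533477) (.leaf 2335809)) (.leaf 2000918))) (.node (.node (.node (.leaf 2977875) (.leaf 1212485)) (.node (.leaf 2835475) (.leaf 2449431))) (.node (.node (.leaf 2847798) (.leaf 987152)) (.leaf 2033719)))) (.node (.node (.node (.node (.leaf 639069) (.leaf 96305)) (.node (.leaf 1893464) (.leaf 3264558))) (.node (.node (.leaf 580709) (.leaf 2614302)) (.leaf 947220))) (.node (.node (.node (.leaf 2565144) (.leaf 3068028)) (.leaf 2081802)) (.node (.node (.leaf 2078743) (.leaf 1580101)) (.leaf 3334180))))) (.node (.node (.node (.node (.node (.leaf 1710197) (.leaf 2285606)) (.node (.leaf 1001598) (.leaf 798736))) (.node (.node (.leaf 2293876) (.leaf 2629679)) (.leaf 1292290))) (.node (.node (.node (.leaf 820318) (.leaf 2942982)) (.node (.leaf 1827966) (.leaf 2991132))) (.node (.node (.leaf 275528) (.leaf 918551)) (.leaf 1943570)))) (.node (.node (.node (.node (.leaf 2739259) (.leaf 2960467)) (.node (.leaf 1601546) (.leaf 296000))) (.node (.node (.leaf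 1209438) (.leaf 2366567)) (.leaf 3307524))) (.node (.node (.node (.leaf 2915365) (.leaf 737291)) (.leaf 133223)) (.node (.node (.leaf 3044479) (.leaf 1399823)) (.leaf 2645110)))))) (.node (.node (.node (.node (.node (.node (.leaf 602135) (.leaf 2667592)) (.node (.leaf 1345646) (.leaf 2507862))) (.node (.node (.leaf 263193) (.leaf 618514)) (.leaf 913443))) (.node (.node (.node (.leaf 42063) (.leaf 697367)) (.node (.leaf 276540) (.leaf 1071181))) (.node (.node (.leaf 2679866) (.leaf 1757211)) (.leaf 857200)))) (.node (.node (.node (.node (.leaf 484424) (.leaf 862265)) (.node (.leaf 3054631) (.leaf 2178095))) (.node (.node (.leaf 2400294) (.leaf 652387)) (.leaf 395353))) (.node (.node (.node (.leaf 3259441) (.leaf 2519057)) (.leaf 1340527)) (.node (.node (.leaf 628811) (.leaf 401505)) (.leaf 242699))))) (.node (.node (.node (.node (.node (.leaf 3429489) (.leaf 1172490)) (.node (.leaf 2088015) (.leaf 2531436))) (.node (.node (.leaf 631817) (.leaf 1859691)) (.leaf 67702))) (.node (.node (.node (.leaf 1116196) (.leaf 3004535)) (.node (.leaf 3408990) (.leaf 842877))) (.node (.node (.leaf 9242) (.leaf 178244)) (.leaf 2524224))))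 (.node (.node (.node (.node (.leaf 2526258) (.leaf 3364985)) (.node (.leaf 3199016) (.leaf 107589))) (.node (.node (.leaf 1077290) (.leaf 3051538)) (.leaf 824390))) (.node (.node (.node (.leaf 2108476) (.leaf 2027598)) (.leaf 3249183)) (.node (.node (.leaf 1143924) (.leaf 2953301)) (.leaf 1744978)))))))

def twoMv117 : Janko.Tree (ℕ) :=
  (.node (.node (.node (.node (.node (.node (.node (.leaf 496729) (.leaf 1448993)) (.node (.leaf 3002421) (.leaf 1107004))) (.node (.node (.leaf 570413) (.leaf 1686556)) (.leaf 1141780))) (.node (.node (.node (.leaf 3338354) (.leaf 2521141)) (.node (.leaf 2869344) (.leaf 1081451))) (.node (.node (.leaf 1023102) (.leaf 875642)) (.leaf 245887)))) (.node (.node (.node (.node (.leaf 670772) (.leaf 720992)) (.node (.leaf 1799286) (.leaf 1351695))) (.node (.node (.leaf 1461314) (.leaf 477294)) (.leaf 2791535))) (.node (.node (.node (.leaf 2982996) (.leaf 3358827)) (.leaf 715823)) (.node (.node (.leaf 2598958) (.leaf 234515)) (.leaf 1863718))))) (.node (.node (.node (.node (.node (.leaf 2922596) (.leaf 3178576)) (.node (.leaf 2727969) (.leaf 3095598))) (.node (.node (.leaf 679008) (.leaf 1748045))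 (.leaf 1670184))) (.node (.node (.node (.leaf 211022) (.leaf 985201)) (.node (.leaf 746587) (.leaf 2388007))) (.node (.node (.leaf 3120221) (.leaf 717875)) (.leaf 958584)))) (.node (.node (.node (.node (.leaf 2495511) (.leaf 1188898)) (.node (.leaf 2205760) (.leaf 3061820))) (.node (.node (.leaf 1613915) (.leaf 3172366)) (.leaf 1987644))) (.node (.node (.node (.leaf 1372225) (.leaf 1791042)) (.leaf 1920051)) (.node (.node (.leaf 2563147) (.leaf 1281045)) (.leaf 939107)))))) (.node (.node (.node (.node (.node (.node (.leaf 2881586) (.leaf 2911252)) (.node (.leaf 2829434) (.leaf 405624))) (.node (.node (.leaf 122965) (.leaf 1369167)) (.leaf 1409048))) (.node (.node (.node (.leaf 3359846) (.leaf 2912267)) (.node (.leaf 2063392) (.leaf 2814979))) (.node (.node (.leaf 2500663) (.leaf 2451517)) (.leaf 3345533)))) (.node (.node (.node (.node (.leaf 1911933) (.leaf 105492)) (.node (.leaf 2731117) (.leaf 1385515))) (.node (.node (.leaf 179229) (.leaf 24699)) (.leaf 1320061))) (.node (.node (.node (.leaf 2243615) (.leaf 1471613)) (.leaf 1371196)) (.node (.node (.leaf 51324) (.leaf 2949181)) (.leaf 750719))))) (.node (.node (.node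 (.node (.node (.leaf 975949) (.leaf 317530)) (.node (.leaf 1704980) (.leaf 248852))) (.node (.node (.leaf 1736735) (.leaf 2540620)) (.leaf 144476))) (.node (.node (.node (.leaf 3079231) (.leaf 334899)) (.node (.leaf 1067093) (.leaf 206961))) (.node (.node (.leaf 1062919) (.leaf 749684)) (.leaf 2933841)))) (.node (.node (.node (.node (.leaf 2183229) (.leaf 1908832)) (.node (.leaf 1593384) (.leaf 2637854))) (.node (.node (.leaf 132121) (.leaf 355355)) (.leaf 1516547))) (.node (.node (.node (.leaf 1598510) (.leaf 1941586)) (.leaf 938083)) (.node (.node (.leaf 2117675) (.leaf 1381458)) (.leaf 3541056)))))))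

def twoMv118 : Janko.Tree (ℕ) :=
  (.node (.node (.node (.node (.node (.node (.node (.leaf 1500209) (.leaf 1314875)) (.node (.leaf 2458678) (.leaf 1606776))) (.node (.node (.leaf 3424325) (.leaf 1481733)) (.leaf 2171934))) (.node (.node (.node (.leaf 1867798) (.leaf 315447)) (.node (.leaf 3385385) (.leaf 2843700))) (.node (.node (.leaf 2765920) (.leaf 492620)) (.leaf 480306)))) (.node (.node (.node (.node (.leaf 2797646) (.leaf 1844326)) (.node (.leaf 1751084) (.leaf 2097242))) (.node (.node (.leaf 1065999) (.leaf 82009)) (.leaf 633932))) (.node (.node (.node (.leaf 3337287) (.leaf 451608)) (.leaf 2546811)) (.node (.node (.leaf 1719333) (.leaf 148494)) (.leaf 1139781))))) (.node (.node (.node (.node (.node (.leaf 309312) (.leaf 304207)) (.node (.leaf 2876543) (.leaf 1539084))) (.node (.node (.leaf 2246660) (.leaf 2320416)) (.leaf 3456026))) (.node (.node (.node (.leaf 1033288) (.leaf 1991775)) (.node (.leaf 536665) (.leaf 2242674))) (.node (.node (.leaf 2148456) (.leaf 1034316)) (.leaf 1649700)))) (.node (.node (.node (.node (.leaf 2077715) (.leaf 1988713)) (.node (.leaf 957536) (.leaf 1041433))) (.node (.node (.leaf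 1123391) (.leaf 735257)) (.leaf 495739))) (.node (.node (.node (.leaf 835626) (.leaf 986181)) (.leaf 1658974)) (.node (.node (.leaf 1875987) (.leaf 331830)) (.leaf 970800)))))) (.node (.node (.node (.node (.node (.node (.leaf 2210914) (.leaf 902148)) (.node (.leaf 1901609) (.leaf 161843))) (.node (.node (.leaf 641076) (.leaf 728167)) (.leaf 1375241))) (.node (.node (.node (.leaf 2492423) (.leaf 385086)) (.node (.leaf 781360) (.leaf 1595401))) (.node (.node (.leaf 2138204) (.leaf 2510921)) (.leaf 94266)))) (.node (.node (.node (.node (.leaf 3222535) (.leaf 106577)) (.node (.leaf 565336) (.leaf 1674259))) (.node (.node (.leaf 3164200) (.leaf 1822782)) (.leaf 2539561))) (.node (.node (.node (.leaf 2775066) (.leaf 2300006)) (.leaf 1266737)) (.node (.node (.leaf 1059934) (.leaf 2608163)) (.leaf 2993254))))) (.node (.node (.node (.node (.node (.leaf 2768898) (.leaf 1357880)) (.node (.leaf 3019850) (.leaf 2054270))) (.node (.node (.leaf 663572) (.leaf 2314291)) (.leaf 230526))) (.node (.node (.node (.leaf 231449) (.leaf 1280074)) (.node (.leaf 2447443) (.leaf 2264165))) (.node (.node (.leaf 1789011) (.leaf 2273364)) (.leaf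 1024076)))) (.node (.node (.node (.node (.leaf 2277438) (.leaf 2700326)) (.node (.leaf 1272921) (.leaf 3104839))) (.node (.node (.leaf 1050657) (.leaf 3351653)) (.leaf 2726913))) (.node (.node (.node (.leaf 466949) (.leaf 249857)) (.leaf 2305045)) (.node (.node (.leaf 2250768) (.leaf 1534070)) (.leaf 488487)))))))

def twoMv119 : Janko.Tree (ℕ) :=
  (.node (.node (.node (.node (.node (.node (.node (.leaf 3001356) (.leaf 3032148)) (.node (.leaf 2240631) (.leaf 1938529))) (.node (.node (.leaf 319558) (.leaf 518234)) (.leaf 3262571))) (.node (.node (.node (.leaf 2857048) (.leaf 240676)) (.node (.leaf 1394806) (.leaf 2644046))) (.node (.node (.leaf 690292) (.leaf 3376166)) (.leaf 2029594)))) (.node (.node (.node (.node (.leaf 1045572) (.leaf 2855977)) (.node (.leaf 2801704) (.leaf 2260080))) (.node (.node (.leaf 3281008) (.leaf 2916406)) (.leaf 755750))) (.node (.node (.node (.leaf 3284060) (.leaf 23609)) (.leaf 3527802)) (.node (.node (.leaf 1242223) (.leaf 3145804)) (.leaf 1395808))))) (.node (.node (.node (.node (.node (.leaf 27731) (.leaf 2176086)) (.node (.leaf 1731609) (.leaf 883758))) (.node (.node (.leaf 591881)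 (.leaf 307237)) (.leaf 879743))) (.node (.node (.node (.leaf 3460103) (.leaf 2457634)) (.node (.leaf 3426375) (.leaf 457765))) (.node (.node (.leaf 558180) (.leaf 2609158)) (.leaf 383064)))) (.node (.node (.node (.node (.leaf 2281579) (.leaf 2866246)) (.node (.leaf 1220637) (.leaf 1809425))) (.node (.node (.leaf 1607797) (.leaf 3094560)) (.leaf 2665596))) (.node (.node (.node (.leaf 1766472) (.leaf 2226210)) (.leaf 2357372)) (.node (.node (.leaf 1899545) (.leaf 1283073)) (.leaf 2909301)))))) (.node (.node (.node (.node (.node (.node (.leaf 3078253) (.leaf 736340)) (.node (.leaf 2041957) (.leaf 1864812))) (.node (.node (.leaf 117785) (.leaf 3546239)) (.leaf 491575))) (.node (.node (.node (.leaf 1423481) (.leaf 2084871)) (.node (.leaf 59456) (.leaf 1429629))) (.node (.node (.leaf 2817074) (.leaf 1787910)) (.leaf 2620475)))) (.node (.node (.node (.node (.leaf 971831) (.leaf 2596906)) (.node (.leaf 472140) (.leaf 190472))) (.node (.node (.leaf 3057678) (.leaf 1816583)) (.leaf 2478086))) (.node (.node (.node (.leaf 2048037) (.leaf 3122233)) (.leaf 3382305)) (.node (.node (.leaf 2296945) (.leaf 1323060)) (.leaf 127009)))))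 (.node (.node (.node (.node (.node (.leaf 1156117) (.leaf 904192)) (.node (.leaf 2998370) (.leaf 2256992))) (.node (.node (.leaf 1583140) (.leaf 2887715)) (.leaf 584740))) (.node (.node (.node (.leaf 321647) (.leaf 3221580)) (.node (.leaf 2704488) (.leaf 3074069))) (.node (.node (.leaf 839695) (.leaf 2903090)) (.leaf 1944639)))) (.node (.node (.node (.node (.leaf 2409575) (.leaf 3308635)) (.node (.leaf 3329048) (.leaf 194599))) (.node (.node (.leaf 2984974) (.leaf 1287206)) (.leaf 1511480))) (.node (.node (.node (.leaf 464939) (.leaf 1417315)) (.leaf 1980478)) (.node (.node (.leaf 2145340) (.leaf 1605663)) (.leaf 1642514)))))))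

def twoMv120 : Janko.Tree (ℕ) :=
  (.node (.node (.node (.node (.node (.node (.node (.leaf 2094163) (.leaf 811114)) (.node (.leaf 1109103) (.leaf 569359))) (.node (.node (.leaf 2016368) (.leaf 1465417)) (.leaf 2233381))) (.node (.node (.node (.leaf 3522646) (.leaf 3205195)) (.node (.leaf 756845) (.leaf 2332703))) (.node (.node (.leaf 574538) (.leaf 1173587)) (.leaf 399385)))) (.node (.node (.node (.node (.leaf 2361471) (.leaf 2712659)) (.node (.leaf 1018990) (.leaf 1502298))) (.node (.node (.leaf 1815570) (.leaf 1738773)) (.leaf 1894412))) (.node (.node (.node (.leaf 3381355) (.leaf 508934)) (.leaf 2216968)) (.node (.node (.leaf 3023878) (.leaf 2228248)) (.leaf 1604676))))) (.node (.node (.node (.node (.node (.leaf 2848857) (.leaf 2749487)) (.node (.leaf 1769497) (.leaf 2137158))) (.node (.node (.leaf 1825900) (.leaf 1513515)) (.leaf 613377))) (.node (.node (.node (.leaf 3305504) (.leaf 2114570)) (.node (.leaf 2168875) (.leaf 2979954))) (.node (.node (.leaf 1761389) (.leaf 3084315)) (.leaf 844912)))) (.node (.node (.node (.node (.leaf 424034) (.leaf 2774039)) (.node (.leaf 744527) (.leaf 1964036))) (.node (.node (.leaf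 2735195) (.leaf 1505334)) (.leaf 205906))) (.node (.node (.node (.leaf 68726) (.leaf 123947)) (.leaf 185389)) (.node (.node (.leaf 3390561) (.leaf 1690699)) (.leaf 2225251)))))) (.node (.node (.node (.node (.node (.node (.leaf 1525881) (.leaf 255008)) (.node (.leaf 264264) (.leaf 1929240))) (.node (.node (.leaf 1629261) (.leaf 2860037)) (.leaf 3010663))) (.node (.node (.node (.leaf 3383419) (.leaf 221237)) (.node (.leaf 1009698) (.leaf 3255393))) (.node (.node (.leaf 2795604) (.leaf 177181)) (.leaf 2623520)))) (.node (.node (.node (.node (.leaf 69715) (.leaf 1508400)) (.node (.leaf 2931835) (.leaf 2140176))) (.node (.node (.leaf 3296264) (.leaf 3360771)) (.leaf 2308194))) (.node (.node (.node (.leaf 649328) (.leaf 2661502)) (.leaf 2369596)) (.node (.node (.leaf 3174526) (.leaf 3348563)) (.leaf 2142222))))) (.node (.node (.node (.node (.node (.leaf 431174) (.leaf 2589756)) (.node (.leaf 581752) (.leaf 1709115))) (.node (.node (.leaf 1433613) (.leaf 3180565)) (.leaf 2241655))) (.node (.node (.node (.leaf 1130575) (.leaf 895038)) (.node (.leaf 762909) (.leaf 2662404))) (.node (.node (.leaf 3438676) (.leaf 371809)) (.leaf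 3401757)))) (.node (.node (.node (.node (.leaf 1656846) (.leaf 392265)) (.node (.leaf 519175) (.leaf 1790038))) (.node (.node (.leaf 3064888) (.leaf 1416241)) (.leaf 1886322))) (.node (.node (.node (.leaf 2286612) (.leaf 742425)) (.leaf 3315828)) (.node (.node (.leaf 3265538) (.leaf 174193)) (.leaf 1682505)))))))

def twoMv121 : Janko.Tree (ℕ) :=
  (.node (.node (.node (.node (.node (.node (.node (.leaf 1267715) (.leaf 1315857)) (.node (.leaf 2420787) (.leaf 13387))) (.node (.node (.leaf 3162208) (.leaf 3357723)) (.leaf 2839621))) (.node (.node (.node (.leaf 1554438) (.leaf 2360329)) (.node (.leaf 2588706) (.leaf 3203113))) (.node (.node (.leaf 2104380) (.leaf 1344514)) (.leaf 974893)))) (.node (.node (.node (.node (.leaf 2407490) (.leaf 1573920)) (.node (.leaf 2785406) (.leaf 1678442))) (.node (.node (.leaf 1229923) (.leaf 48133)) (.leaf 2886742))) (.node (.node (.node (.leaf 1716240) (.leaf 193644)) (.leaf 2664490)) (.node (.node (.leaf 2844702) (.leaf 615544)) (.leaf 1219693))))) (.node (.node (.node (.node (.node (.leaf 1427508) (.leaf 3177529)) (.node (.leaf 1803349) (.leaf 64514))) (.node (.node (.leaf 2813013)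 (.leaf 1814550)) (.leaf 3374170))) (.node (.node (.node (.leaf 679947) (.leaf 3406848)) (.node (.leaf 1250307) (.leaf 1327119))) (.node (.node (.leaf 415789) (.leaf 2981969)) (.leaf 3099648)))) (.node (.node (.node (.node (.leaf 3318821) (.leaf 2389055)) (.node (.leaf 2995320) (.leaf 2800742))) (.node (.node (.leaf 239617) (.leaf 3141642)) (.leaf 244803))) (.node (.node (.node (.leaf 1099903) (.leaf 2487311)) (.leaf 2548817)) (.node (.node (.leaf 2089075) (.leaf 635999)) (.leaf 3193974)))))) (.node (.node (.node (.node (.node (.node (.leaf 2663545) (.leaf 3173409)) (.node (.leaf 1907836) (.leaf 2177096))) (.node (.node (.leaf 2262084) (.leaf 3528772)) (.leaf 2505831))) (.node (.node (.node (.leaf 658452) (.leaf 1179751)) (.node (.leaf 880739) (.leaf 2918456))) (.node (.node (.leaf 270377) (.leaf 130158)) (.leaf 929837)))) (.node (.node (.node (.node (.leaf 2274376) (.leaf 3146848)) (.node (.leaf 1659965) (.leaf 250931))) (.node (.node (.leaf 825370) (.leaf 203861)) (.leaf 1291281))) (.node (.node (.node (.leaf 2534435) (.leaf 2008150)) (.leaf 2527315)) (.node (.node (.leaf 3278911) (.leaf 2012160)) (.leaf 767048)))))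 (.node (.node (.node (.node (.node (.leaf 526430) (.leaf 1503245)) (.node (.leaf 3216403) (.leaf 1251350))) (.node (.node (.leaf 1225742) (.leaf 2014259)) (.leaf 1754231))) (.node (.node (.node (.leaf 1638440) (.leaf 2914367)) (.node (.leaf 1458291) (.leaf 1729580))) (.node (.node (.leaf 3252346) (.leaf 1998928)) (.leaf 3187715)))) (.node (.node (.node (.node (.leaf 732228) (.leaf 578670)) (.node (.leaf 1102942) (.leaf 689224))) (.node (.node (.leaf 2127983) (.leaf 651291)) (.leaf 3355773))) (.node (.node (.node (.leaf 1725492) (.leaf 2363447)) (.leaf 2381932)) (.node (.node (.leaf 3542093) (.leaf 1128488)) (.leaf 1652758)))))))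

def twoMv122 : Janko.Tree (ℕ) :=
  (.node (.node (.node (.node (.node (.node (.node (.leaf 1092669) (.leaf 3514393)) (.node (.leaf 1253458) (.leaf 1794174))) (.node (.node (.leaf 969851) (.leaf 834672)) (.leaf 3459136))) (.node (.node (.node (.leaf 135272) (.leaf 2212962)) (.node (.leaf 2883659) (.leaf 2832433))) (.node (.node (.leaf 89191) (.leaf 1306745)) (.leaf 3211340)))) (.node (.node (.node (.node (.leaf 725015) (.leaf 845938)) (.node (.leaf 2551869) (.leaf 836692))) (.node (.node (.leaf 1672273) (.leaf 2266206)) (.leaf 3347536))) (.node (.node (.node (.leaf 2020370) (.leaf 1673258)) (.leaf 2870353)) (.node (.node (.leaf 2486374) (.leaf 2807918)) (.leaf 139354))))) (.node (.node (.node (.node (.node (.leaf 2842730) (.leaf 2297941)) (.node (.leaf 1912850) (.leaf 1862763))) (.node (.node (.leaf 1232970) (.leaf 3311646)) (.leaf 1428503))) (.node (.node (.node (.leaf 1004623) (.leaf 2697264)) (.node (.leaf 3445839) (.leaf 1436704))) (.node (.node (.leaf 2561050) (.leaf 3538964)) (.leaf 2631795)))) (.node (.node (.node (.node (.leaf 2719796) (.leaf 49259)) (.node (.leaf 1896521) (.leaf 2393203))) (.node (.node (.leaf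 2083906) (.leaf 2580522)) (.leaf 3420250))) (.node (.node (.node (.leaf 1437742) (.leaf 963613)) (.leaf 788513)) (.node (.node (.leaf 2638918) (.leaf 810041)) (.leaf 681027)))))) (.node (.node (.node (.node (.node (.node (.leaf 376940) (.leaf 2074743)) (.node (.leaf 2831403) (.leaf 2643008))) (.node (.node (.leaf 1762392) (.leaf 337969)) (.leaf 1464345))) (.node (.node (.node (.leaf 1561626) (.leaf 1153035)) (.node (.leaf 1979404) (.leaf 759866))) (.node (.node (.leaf 1304674) (.leaf 3450998)) (.leaf 2729024)))) (.node (.node (.node (.node (.leaf 849953) (.leaf 1110135)) (.node (.leaf 1412101) (.leaf 288890))) (.node (.node (.leaf 2891892) (.leaf 1928286)) (.leaf 1691693))) (.node (.node (.node (.leaf 2419716) (.leaf 1218648)) (.leaf 784406)) (.node (.node (.leaf 1836041) (.leaf 84043)) (.leaf 3362915))))) (.node (.node (.node (.node (.node (.leaf 2198629) (.leaf 1785878)) (.node (.leaf 299130) (.leaf 1792090))) (.node (.node (.leaf 2786417) (.leaf 1211426)) (.leaf 1636395))) (.node (.node (.node (.leaf 2710654) (.leaf 2590761)) (.node (.leaf 2341998) (.leaf 1402987))) (.node (.node (.leaf 2789445) (.leaf 1117275))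 (.leaf 349290)))) (.node (.node (.node (.node (.leaf 432243) (.leaf 2529395)) (.node (.leaf 1147957) (.leaf 455687))) (.node (.node (.leaf 1965079) (.leaf 1734690)) (.leaf 3532834))) (.node (.node (.node (.leaf 799775) (.leaf 1010768)) (.leaf 2699355)) (.node (.node (.leaf 3421264) (.leaf 2039808)) (.leaf 2368637)))))))

def twoMv123 : Janko.Tree (ℕ) :=
  (.node (.node (.node (.node (.node (.node (.node (.leaf 2509842) (.leaf 941149)) (.node (.leaf 2973746) (.leaf 2222180))) (.node (.node (.leaf 1631268) (.leaf 2322490)) (.leaf 1231913))) (.node (.node (.node (.leaf 2328639) (.leaf 3292262)) (.node (.leaf 2229255) (.leaf 78919))) (.node (.node (.leaf 1892455) (.leaf 72793)) (.leaf 1848340)))) (.node (.node (.node (.node (.leaf 2106457) (.leaf 1877051)) (.node (.leaf 278632) (.leaf 2976801))) (.node (.node (.leaf 1186869) (.leaf 2170916)) (.leaf 793674))) (.node (.node (.node (.leaf 1111069) (.leaf 3320869)) (.leaf 3246128)) (.node (.node (.leaf 1518623) (.leaf 1963105)) (.leaf 2123901))))) (.node (.node (.node (.node (.node (.leaf 1793092) (.leaf 601112)) (.node (.leaf 1400903) (.leaf 207970))) (.node (.node (.leaf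 53260) (.leaf 1524784)) (.leaf 2162788))) (.node (.node (.node (.leaf 2070616) (.leaf 568419)) (.node (.leaf 797808) (.leaf 2021447))) (.node (.node (.leaf 1805382) (.leaf 2471001)) (.leaf 3168381)))) (.node (.node (.node (.node (.leaf 2069556) (.leaf 617555)) (.node (.leaf 2208889) (.leaf 2030703))) (.node (.node (.leaf 1135678) (.leaf 2691133)) (.leaf 3472505))) (.node (.node (.node (.leaf 326721) (.leaf 1487967)) (.leaf 1950777)) (.node (.node (.leaf 2681934) (.leaf 976917)) (.leaf 2425926)))))) (.node (.node (.node (.node (.node (.node (.leaf 3133554) (.leaf 3182639)) (.node (.leaf 1288208) (.leaf 3397719))) (.node (.node (.leaf 3247142) (.leaf 1801233)) (.leaf 2838638))) (.node (.node (.node (.leaf 1336342) (.leaf 1610768)) (.node (.leaf 634910) (.leaf 124964))) (.node (.node (.leaf 35913) (.leaf 530453)) (.leaf 1293352)))) (.node (.node (.node (.node (.leaf 2799664) (.leaf 344076)) (.node (.leaf 2899016) (.leaf 1699875))) (.node (.node (.leaf 2924670) (.leaf 3277938)) (.leaf 1140806))) (.node (.node (.node (.leaf 1881113) (.leaf 256014)) (.leaf 1089639)) (.node (.node (.leaf 3404847) (.leaf 2827380)) (.leaf 2067559)))))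 (.node (.node (.node (.node (.node (.leaf 3276818) (.leaf 2358356)) (.node (.leaf 1702913) (.leaf 607271))) (.node (.node (.leaf 1101825) (.leaf 10254)) (.leaf 582677))) (.node (.node (.node (.leaf 377972) (.leaf 3500092)) (.node (.leaf 3496063) (.leaf 1356856))) (.node (.node (.leaf 877644) (.leaf 336913)) (.leaf 3058693)))) (.node (.node (.node (.node (.leaf 88155) (.leaf 2373679)) (.node (.leaf 17505) (.leaf 2932791))) (.node (.node (.leaf 2185265) (.leaf 1900609)) (.leaf 3244125))) (.node (.node (.node (.leaf 1094772) (.leaf 403486)) (.leaf 704595)) (.node (.node (.leaf 50269) (.leaf 2227259)) (.leaf 856170)))))))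

def twoMv124 : Janko.Tree (ℕ) :=
  (.node (.node (.node (.node (.node (.node (.node (.leaf 555048) (.leaf 3069036)) (.node (.leaf 2780224) (.leaf 1216600))) (.node (.node (.leaf 2418783) (.leaf 1259603)) (.leaf 2336860))) (.node (.node (.node (.leaf 2174992) (.leaf 1797212)) (.node (.leaf 1015835) (.leaf 2964595))) (.node (.node (.leaf 346192) (.leaf 2600980)) (.leaf 3518583)))) (.node (.node (.node (.node (.leaf 1164327) (.leaf 1760330)) (.node (.leaf 928821) (.leaf 3201085))) (.node (.node (.leaf 3251256) (.leaf 1718391)) (.leaf 1833031))) (.node (.node (.node (.leaf 1616993) (.leaf 993400)) (.leaf 1048682)) (.node (.node (.leaf 458775) (.leaf 1983543)) (.leaf 450589))))) (.node (.node (.node (.node (.node (.leaf 2606161) (.leaf 2249836)) (.node (.leaf 2202651) (.leaf 1459235))) (.node (.node (.leaf 2269194) (.leaf 3455056)) (.leaf 1529980))) (.node (.node (.node (.leaf 3128438) (.leaf 1510418)) (.node (.leaf 1440803) (.leaf 532604))) (.node (.node (.leaf 3370046) (.leaf 2180182)) (.leaf 3266605)))) (.node (.node (.node (.node (.leaf 2721828) (.leaf 2897000)) (.node (.leaf 3323977) (.leaf 710730))) (.node (.node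 (.leaf 1854547) (.leaf 195606)) (.leaf 695378))) (.node (.node (.node (.leaf 3458106) (.leaf 780332)) (.leaf 1989671)) (.node (.node (.leaf 3190885) (.leaf 1666174)) (.leaf 1597483)))))) (.node (.node (.node (.node (.node (.node (.leaf 3443737) (.leaf 418902)) (.node (.leaf 1271841) (.leaf 1704057))) (.node (.node (.leaf 919592) (.leaf 654390)) (.leaf 2718815))) (.node (.node (.node (.leaf 2972796) (.leaf 3228717)) (.node (.leaf 2782285) (.leaf 3394681))) (.node (.node (.leaf 1506318) (.leaf 2604105)) (.leaf 2996323)))) (.node (.node (.node (.node (.leaf 3092502) (.leaf 1575958)) (.node (.leaf 2822221) (.leaf 2522172))) (.node (.node (.leaf 192567) (.leaf 471135)) (.leaf 1061992))) (.node (.node (.node (.leaf 1551483) (.leaf 2744422)) (.leaf 1967212)) (.node (.node (.leaf 2023459) (.leaf 3089411)) (.leaf 1774693))))) (.node (.node (.node (.node (.node (.leaf 1022052) (.leaf 2019449)) (.node (.leaf 1346567) (.leaf 129079))) (.node (.node (.leaf 2990084) (.leaf 943231)) (.leaf 2465847))) (.node (.node (.node (.leaf 1245252) (.leaf 1497142)) (.node (.leaf 2515977) (.leaf 2655254))) (.node (.node (.leaf 1739812) (.leaf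 1838089)) (.leaf 3324957)))) (.node (.node (.node (.node (.leaf 2724905) (.leaf 521218)) (.node (.leaf 1302581) (.leaf 274464))) (.node (.node (.leaf 2223105) (.leaf 2058274)) (.leaf 3270736))) (.node (.node (.node (.leaf 3422240) (.leaf 6258)) (.leaf 2049130)) (.node (.node (.leaf 46146) (.leaf 2073609)) (.leaf 1714219)))))))

def twoMv125 : Janko.Tree (ℕ) :=
  (.node (.node (.node (.node (.node (.node (.node (.leaf 70768) (.leaf 2255905)) (.node (.leaf 962648) (.leaf 3139693))) (.node (.node (.leaf 497780) (.leaf 1755137)) (.leaf 2934843))) (.node (.node (.node (.leaf 930853) (.leaf 3304488)) (.node (.leaf 2365442) (.leaf 3063871))) (.node (.node (.leaf 936011) (.leaf 814155)) (.leaf 1531934)))) (.node (.node (.node (.node (.leaf 758878) (.leaf 2938928)) (.node (.leaf 76811) (.leaf 3243033))) (.node (.node (.leaf 1592354) (.leaf 773229)) (.leaf 672807))) (.node (.node (.node (.leaf 386145) (.leaf 2011234)) (.leaf 829537)) (.node (.node (.leaf 1446006) (.leaf 2849798)) (.leaf 226417))))) (.node (.node (.node (.node (.node (.leaf 180282) (.leaf 1085512)) (.node (.leaf 871533) (.leaf 389237))) (.node (.node (.leaf 3031163)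 (.leaf 2009112)) (.leaf 946201))) (.node (.node (.node (.leaf 1274987) (.leaf 1476657)) (.node (.leaf 2352187) (.leaf 364551))) (.node (.node (.leaf 2591795) (.leaf 387158)) (.leaf 2841726)))) (.node (.node (.node (.node (.leaf 2747457) (.leaf 1149977)) (.node (.leaf 1191951) (.leaf 2553951))) (.node (.node (.leaf 1441914) (.leaf 1985597)) (.leaf 2717720))) (.node (.node (.node (.leaf 1152074) (.leaf 972845)) (.leaf 3291263)) (.node (.node (.leaf 3257439) (.leaf 2865276)) (.leaf 1571957)))))) (.node (.node (.node (.node (.node (.node (.leaf 58372) (.leaf 2862089)) (.node (.leaf 3171438) (.leaf 3509320))) (.node (.node (.leaf 3303494) (.leaf 2770007)) (.leaf 2367603))) (.node (.node (.node (.leaf 2904078) (.leaf 2610236)) (.node (.leaf 2230399) (.leaf 1916960))) (.node (.node (.leaf 1391635) (.leaf 1543201)) (.leaf 2025498)))) (.node (.node (.node (.node (.leaf 730192) (.leaf 2723916)) (.node (.leaf 1303663) (.leaf 2576472))) (.node (.node (.leaf 3326984) (.leaf 3363872)) (.leaf 2706507))) (.node (.node (.node (.leaf 1103937) (.leaf 3227688)) (.leaf 224286)) (.node (.node (.leaf 363647) (.leaf 699435)) (.leaf 2265200)))))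 (.node (.node (.node (.node (.node (.leaf 1044519) (.leaf 2572318)) (.node (.leaf 3212297) (.leaf 511007))) (.node (.node (.leaf 1821712) (.leaf 1587236)) (.leaf 2098232))) (.node (.node (.node (.leaf 2923629) (.leaf 2010237)) (.node (.leaf 1137689) (.leaf 1837057))) (.node (.node (.leaf 1914967) (.leaf 2028570)) (.leaf 1582185)))) (.node (.node (.node (.node (.leaf 2711612) (.leaf 722994)) (.node (.leaf 3098741) (.leaf 1360945))) (.node (.node (.leaf 2863214) (.leaf 2453587)) (.leaf 277583))) (.node (.node (.node (.leaf 18555) (.leaf 1157186)) (.leaf 379950)) (.node (.node (.leaf 2794504) (.leaf 2062409)) (.leaf 409677)))))))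

def twoMv126 : Janko.Tree (ℕ) :=
  (.node (.node (.node (.node (.node (.node (.node (.leaf 3486819) (.leaf 1860611)) (.node (.leaf 1923088) (.leaf 3494928))) (.node (.node (.leaf 1823837) (.leaf 475217)) (.leaf 465987))) (.node (.node (.node (.leaf 3473424) (.leaf 1514531)) (.node (.leaf 448527) (.leaf 1668175))) (.node (.node (.leaf 2758714) (.leaf 854049)) (.leaf 3457111)))) (.node (.node (.node (.node (.leaf 2525287) (.leaf 1962086)) (.node (.leaf 3485775) (.leaf 2370567))) (.node (.node (.leaf 948288) (.leaf 914465)) (.leaf 2182196))) (.node (.node (.node (.leaf 487490) (.leaf 2940945)) (.leaf 279618)) (.node (.node (.leaf 1097845) (.leaf 2061329)) (.leaf 2961520))))) (.node (.node (.node (.node (.node (.leaf 1457218) (.leaf 3413112)) (.node (.leaf 2268270) (.leaf 21531))) (.node (.node (.leaf 2491459) (.leaf 718952)) (.leaf 3055616))) (.node (.node (.node (.leaf 1203296) (.leaf 1530943)) (.node (.leaf 2502773) (.leaf 2902094))) (.node (.node (.leaf 2396194) (.leaf 531561)) (.leaf 3153964)))) (.node (.node (.node (.node (.leaf 2267234) (.leaf 1380426)) (.node (.leaf 3449892) (.leaf 1088606))) (.node (.node (.leaf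 2438168) (.leaf 1564705)) (.leaf 424961))) (.node (.node (.node (.leaf 2037822) (.leaf 1489989)) (.leaf 1482839)) (.node (.node (.leaf 438290) (.leaf 934913)) (.leaf 2136082)))))) (.node (.node (.node (.node (.node (.node (.leaf 1313875) (.leaf 1483823)) (.node (.leaf 323702) (.leaf 1498180))) (.node (.node (.leaf 906277) (.leaf 2100301)) (.leaf 2475090))) (.node (.node (.node (.leaf 2112515) (.leaf 2298995)) (.node (.leaf 3000440) (.leaf 2543686))) (.node (.node (.leaf 2967582) (.leaf 1879111)) (.leaf 3007563)))) (.node (.node (.node (.node (.leaf 2537516) (.leaf 2639947)) (.node (.leaf 647225) (.leaf 2444385))) (.node (.node (.leaf 1956865) (.leaf 56395)) (.leaf 1795132))) (.node (.node (.node (.leaf 1835008) (.leaf 989269)) (.leaf 478254)) (.node (.node (.leaf 286755) (.leaf 2762769)) (.leaf 1830914))))) (.node (.node (.node (.node (.node (.leaf 1246237) (.leaf 2002033)) (.node (.leaf 1016903) (.leaf 2734126))) (.node (.node (.leaf 366679) (.leaf 1472604)) (.leaf 2436213))) (.node (.node (.node (.leaf 2974741) (.leaf 3049518)) (.node (.leaf 2426898) (.leaf 1832052))) (.node (.node (.leaf 2006050) (.leaf 2498656))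 (.leaf 920675)))) (.node (.node (.node (.node (.leaf 3403817) (.leaf 236587)) (.node (.leaf 1165437) (.leaf 2321523))) (.node (.node (.leaf 47196) (.leaf 40004)) (.leaf 2908243))) (.node (.node (.node (.leaf 284738) (.leaf 701472)) (.leaf 3047517)) (.node (.node (.leaf 3033096) (.leaf 3163155)) (.leaf 2898040)))))))

def twoMv127 : Janko.Tree (ℕ) :=
  (.node (.node (.node (.node (.node (.node (.node (.leaf 886861) (.leaf 414832)) (.node (.leaf 2828293) (.leaf 1466483))) (.node (.node (.leaf 1413198) (.leaf 1247322)) (.leaf 2047094))) (.node (.node (.node (.leaf 603253) (.leaf 1470590)) (.node (.leaf 1452097) (.leaf 830465))) (.node (.node (.leaf 1053820) (.leaf 485383)) (.leaf 1126415)))) (.node (.node (.node (.node (.leaf 348217) (.leaf 2900069)) (.node (.leaf 1469556) (.leaf 3231813))) (.node (.node (.leaf 2970688) (.leaf 217132)) (.leaf 1185860))) (.node (.node (.node (.leaf 3090453) (.leaf 1948676)) (.leaf 1258614)) (.node (.node (.leaf 3209286) (.leaf 3088503)) (.leaf 155663))))) (.node (.node (.node (.node (.node (.leaf 2880622) (.leaf 740389)) (.node (.leaf 1289221) (.leaf 2845704))) (.node (.node (.leaf 2889792)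 (.leaf 768045)) (.leaf 2954311))) (.node (.node (.node (.leaf 1849362) (.leaf 1596471)) (.node (.leaf 1442889) (.leaf 328785))) (.node (.node (.leaf 1781872) (.leaf 726106)) (.leaf 1811477)))) (.node (.node (.node (.node (.leaf 517190) (.leaf 1633373)) (.node (.leaf 308344) (.leaf 2741372))) (.node (.node (.leaf 1574996) (.leaf 2987032)) (.leaf 1562656))) (.node (.node (.node (.leaf 2313243) (.leaf 932943)) (.leaf 1589367)) (.node (.node (.leaf 3515486) (.leaf 2511969)) (.leaf 661576)))))) (.node (.node (.node (.node (.node (.node (.leaf 300043) (.leaf 1786929)) (.node (.leaf 2086983) (.leaf 2121782))) (.node (.node (.leaf 1806354) (.leaf 3071024)) (.leaf 1953856))) (.node (.node (.node (.leaf 3229807) (.leaf 3517552)) (.node (.leaf 905252) (.leaf 3502110))) (.node (.node (.leaf 2748454) (.leaf 416834)) (.leaf 1444913)))) (.node (.node (.node (.node (.leaf 2295864) (.leaf 3286066)) (.node (.leaf 692292) (.leaf 3317887))) (.node (.node (.leaf 365642) (.leaf 2192485)) (.leaf 2450495))) (.node (.node (.node (.leaf 2885651) (.leaf 3463276)) (.leaf 1145971)) (.node (.node (.leaf 2234434) (.leaf 1653799)) (.leaf 1325072)))))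 (.node (.node (.node (.node (.node (.leaf 2327637) (.leaf 3436559)) (.node (.leaf 220244) (.leaf 512000))) (.node (.node (.leaf 210037) (.leaf 1777733)) (.leaf 1362965))) (.node (.node (.node (.leaf 2079802) (.leaf 1125377)) (.node (.leaf 2657367) (.leaf 2279478))) (.node (.node (.leaf 3147886) (.leaf 2520132)) (.leaf 281643)))) (.node (.node (.node (.node (.leaf 566317) (.leaf 2939951)) (.node (.leaf 594979) (.leaf 1972285))) (.node (.node (.leaf 2201660) (.leaf 1068144)) (.leaf 2905123))) (.node (.node (.node (.leaf 1178636) (.leaf 1812571)) (.leaf 2395242)) (.node (.node (.leaf 1091680) (.leaf 3371088)) (.leaf 1294436)))))))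

def twoMv128 : Janko.Tree (ℕ) :=
  (.node (.node (.node (.node (.node (.node (.node (.leaf 1138761) (.leaf 30759)) (.node (.leaf 786474) (.leaf 2390127))) (.node (.node (.leaf 1415200) (.leaf 1870892)) (.leaf 1807428))) (.node (.node (.node (.leaf 1504369) (.leaf 3508229)) (.node (.leaf 232558) (.leaf 1275980))) (.node (.node (.leaf 1177691) (.leaf 3261496)) (.leaf 200770)))) (.node (.node (.node (.node (.leaf 908327) (.leaf 142437)) (.node (.leaf 1933347) (.leaf 303204))) (.node (.node (.leaf 2479215) (.leaf 462881)) (.leaf 1324058))) (.node (.node (.node (.leaf 1547296) (.leaf 2647040)) (.leaf 2759773)) (.node (.node (.leaf 2270265) (.leaf 3232880)) (.leaf 3241993))))) (.node (.node (.node (.node (.node (.leaf 2803817) (.leaf 333869)) (.node (.leaf 1737801) (.leaf 564348))) (.node (.node (.leaf 858141) (.leaf 2203752)) (.leaf 1443955))) (.node (.node (.node (.leaf 3056738) (.leaf 141325)) (.node (.leaf 539737) (.leaf 1873938))) (.node (.node (.leaf 1540118) (.leaf 354305)) (.leaf 2092094)))) (.node (.node (.node (.node (.leaf 575578) (.leaf 445508)) (.node (.leaf 2306170) (.leaf 2435142))) (.node (.node (.leaf 3405878)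 (.leaf 2920499)) (.leaf 2417693))) (.node (.node (.node (.leaf 2945114) (.leaf 2076672)) (.leaf 104533)) (.node (.node (.leaf 650292) (.leaf 2196540)) (.leaf 719885)))))) (.node (.node (.node (.node (.node (.node (.leaf 2372693) (.leaf 872476)) (.node (.leaf 1515548) (.leaf 1361965))) (.node (.node (.leaf 1882187) (.leaf 1376316)) (.leaf 2026603))) (.node (.node (.node (.leaf 1136662) (.leaf 2809979)) (.node (.leaf 2874394) (.leaf 1096743))) (.node (.node (.leaf 318504) (.leaf 358463)) (.leaf 3237985)))) (.node (.node (.node (.node (.leaf 659553) (.leaf 2776153)) (.node (.leaf 2494534) (.leaf 2031685))) (.node (.node (.leaf 3342346) (.leaf 1090671)) (.leaf 1488993))) (.node (.node (.node (.leaf 1577018) (.leaf 325691)) (.leaf 3389489)) (.node (.node (.leaf 1824875) (.leaf 3086415)) (.leaf 2398208))))) (.node (.node (.node (.node (.node (.leaf 805988) (.leaf 2468966)) (.node (.leaf 775279) (.leaf 549907))) (.node (.node (.leaf 1332331) (.leaf 2155598)) (.leaf 2624636))) (.node (.node (.node (.leaf 1278017) (.leaf 637022)) (.node (.leaf 241720) (.leaf 2716786))) (.node (.node (.leaf 2135151) (.leaf 1626234)) (.leaf 1491025))))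 (.node (.node (.node (.node (.leaf 626723) (.leaf 1358854)) (.node (.leaf 473158) (.leaf 1460341))) (.node (.node (.leaf 3105899) (.leaf 2901013)) (.leaf 1196114))) (.node (.node (.node (.leaf 3183742) (.leaf 2188404)) (.leaf 546901)) (.node (.node (.leaf 3335254) (.leaf 1679444)) (.leaf 3319877)))))))

def twoMv129 : Janko.Tree (ℕ) :=
  (.node (.node (.node (.node (.node (.node (.node (.leaf 2248810) (.leaf 446536)) (.node (.leaf 1420325) (.leaf 1084529))) (.node (.node (.leaf 2917484) (.leaf 2071560)) (.leaf 550948))) (.node (.node (.node (.leaf 3166306) (.leaf 3535948)) (.node (.leaf 2254860) (.leaf 3302517))) (.node (.node (.leaf 562184) (.leaf 2532441)) (.leaf 981028)))) (.node (.node (.node (.node (.leaf 3462258) (.leaf 61499)) (.node (.leaf 2221083) (.leaf 1105998))) (.node (.node (.leaf 1632363) (.leaf 2864210)) (.leaf 441349))) (.node (.node (.node (.leaf 1435681) (.leaf 3412039)) (.leaf 110624)) (.node (.node (.leaf 1994878) (.leaf 1058832)) (.leaf 1350750))))) (.node (.node (.node (.node (.node (.leaf 945161) (.leaf 2956290)) (.node (.leaf 3160188) (.leaf 952402))) (.node (.node (.leaf 739363) (.leaf 2483267))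 (.leaf 3035213))) (.node (.node (.node (.leaf 3131443) (.leaf 3525686)) (.node (.leaf 1887330) (.leaf 2530310))) (.node (.node (.leaf 3293223) (.leaf 999467)) (.leaf 2132091)))) (.node (.node (.node (.node (.leaf 3024965) (.leaf 2936851)) (.node (.leaf 1142837) (.leaf 2892849))) (.node (.node (.leaf 2536529) (.leaf 851052)) (.leaf 1021054))) (.node (.node (.node (.leaf 3003413) (.leaf 2935832)) (.leaf 2232440)) (.node (.node (.leaf 1960971) (.leaf 305153)) (.leaf 20500)))))) (.node (.node (.node (.node (.node (.node (.leaf 1522725) (.leaf 1284165)) (.node (.leaf 2669633) (.leaf 646149))) (.node (.node (.leaf 2649177) (.leaf 2194539)) (.leaf 406575))) (.node (.node (.node (.leaf 2784381) (.leaf 1975408)) (.node (.leaf 1868909) (.leaf 204810))) (.node (.node (.leaf 216186) (.leaf 1455164)) (.leaf 2549784)))) (.node (.node (.node (.node (.leaf 1840233) (.leaf 1052776)) (.node (.leaf 26684) (.leaf 892930))) (.node (.node (.leaf 2583671) (.leaf 2064389)) (.leaf 44149))) (.node (.node (.node (.leaf 3189) (.leaf 1425487)) (.leaf 119905)) (.node (.node (.leaf 2345072) (.leaf 3461171)) (.leaf 1724541))))) (.node (.node (.node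 (.node (.node (.leaf 882710) (.leaf 2173046)) (.node (.leaf 2380804) (.leaf 2038903))) (.node (.node (.leaf 3410950) (.leaf 233521)) (.leaf 1393746))) (.node (.node (.node (.leaf 676927) (.leaf 1581096)) (.node (.leaf 43090) (.leaf 3022872))) (.node (.node (.leaf 449589) (.leaf 3377154)) (.leaf 3234876)))) (.node (.node (.node (.node (.leaf 3510282) (.leaf 31777)) (.node (.leaf 2594869) (.leaf 3476508))) (.node (.node (.leaf 202876) (.leaf 1170462)) (.leaf 979046))) (.node (.node (.node (.leaf 2558989) (.leaf 522279)) (.leaf 2753606)) (.node (.node (.leaf 2574343) (.leaf 2659413)) (.leaf 3041356)))))))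

def twoMv130 : Janko.Tree (ℕ) :=
  (.node (.node (.node (.node (.node (.node (.node (.leaf 2193427) (.leaf 1285138)) (.node (.leaf 3059714) (.leaf 2156584))) (.node (.node (.leaf 2528345) (.leaf 2416682)) (.leaf 153631))) (.node (.node (.node (.leaf 1040423) (.leaf 2050071)) (.node (.leaf 2951269) (.leaf 1492015))) (.node (.node (.leaf 1499251) (.leaf 523349)) (.leaf 1526825)))) (.node (.node (.node (.node (.leaf 1205250) (.leaf 470119)) (.node (.leaf 655461) (.leaf 2760709))) (.node (.node (.leaf 3077231) (.leaf 2371606)) (.leaf 1162358))) (.node (.node (.node (.leaf 1073212) (.leaf 38979)) (.leaf 2746486)) (.node (.node (.leaf 567358) (.leaf 2634759)) (.leaf 369683))))) (.node (.node (.node (.node (.node (.leaf 557153) (.leaf 2326623)) (.node (.leaf 3483750) (.leaf 1720372))) (.node (.node (.leaf 3480671) (.leaf 3112005)) (.leaf 100408))) (.node (.node (.node (.leaf 419843) (.leaf 2042880)) (.node (.leaf 375907) (.leaf 1398860))) (.node (.node (.leaf 1888344) (.leaf 1055869)) (.leaf 890980)))) (.node (.node (.node (.node (.leaf 1523778) (.leaf 925724)) (.node (.leaf 778305) (.leaf 176202))) (.node (.node (.leaf 3340291)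 (.leaf 1890418)) (.leaf 1076268))) (.node (.node (.node (.leaf 822325) (.leaf 1572969)) (.leaf 2445347)) (.node (.node (.leaf 2489351) (.leaf 426086)) (.leaf 3121251)))))) (.node (.node (.node (.node (.node (.node (.leaf 794640) (.leaf 1060932)) (.node (.leaf 2810947) (.leaf 598022))) (.node (.node (.leaf 2190457) (.leaf 2707516)) (.leaf 3520571))) (.node (.node (.node (.leaf 2294828) (.leaf 1217594)) (.node (.leaf 75869) (.leaf 2965536))) (.node (.node (.leaf 2467896) (.leaf 2725914)) (.leaf 3536938)))) (.node (.node (.node (.node (.leaf 916568) (.leaf 2307092)) (.node (.leaf 2186339) (.leaf 1307747))) (.node (.node (.leaf 456757) (.leaf 3117065)) (.leaf 2141286))) (.node (.node (.node (.leaf 306267) (.leaf 2567231)) (.leaf 577661)) (.node (.node (.leaf 2469991) (.leaf 2288692)) (.leaf 1935405))))) (.node (.node (.node (.node (.node (.leaf 1773684) (.leaf 2057308)) (.node (.leaf 171106) (.leaf 2034779))) (.node (.node (.leaf 1161221) (.leaf 45121)) (.leaf 1121385))) (.node (.node (.node (.leaf 537724) (.leaf 99411)) (.node (.leaf 3391593) (.leaf 1898563))) (.node (.node (.leaf 3418148) (.leaf 782418)) (.leaf 3497023))))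 (.node (.node (.node (.node (.leaf 2160725) (.leaf 1451026)) (.node (.leaf 115828) (.leaf 2036858))) (.node (.node (.leaf 2603071) (.leaf 3540011)) (.leaf 71707))) (.node (.node (.node (.leaf 3254379) (.leaf 2219025)) (.leaf 1134637)) (.node (.node (.leaf 2833460) (.leaf 2231372)) (.leaf 1992784)))))))

def twoMv131 : Janko.Tree (ℕ) :=
  (.node (.node (.node (.node (.node (.node (.node (.leaf 252011) (.leaf 2116686)) (.node (.leaf 3475544) (.leaf 298110))) (.node (.node (.leaf 2433109) (.leaf 2353154)) (.leaf 1331237))) (.node (.node (.node (.leaf 420968) (.leaf 186410)) (.node (.leaf 2159706) (.leaf 1599599))) (.node (.node (.leaf 2179171) (.leaf 1644663)) (.leaf 3433483)))) (.node (.node (.node (.node (.leaf 2671730) (.leaf 1509483)) (.node (.leaf 1262709) (.leaf 2668664))) (.node (.node (.leaf 944176) (.leaf 1256551)) (.leaf 3402805))) (.node (.node (.node (.leaf 3220588) (.leaf 330859)) (.leaf 36874)) (.node (.node (.leaf 1624164) (.leaf 175123)) (.leaf 397350))))) (.node (.node (.node (.node (.node (.leaf 3250278) (.leaf 1418242)) (.node (.leaf 527361) (.leaf 664682))) (.node (.node (.leaf 1919077) (.leaf 2732056))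 (.leaf 2040920))) (.node (.node (.node (.leaf 3125268) (.leaf 1368133)) (.node (.leaf 868388) (.leaf 2316409))) (.node (.node (.leaf 1749045) (.leaf 427054)) (.leaf 896043)))) (.node (.node (.node (.node (.leaf 90187) (.leaf 2778133)) (.node (.leaf 1544220) (.leaf 2957363))) (.node (.node (.leaf 1377393) (.leaf 33834)) (.leaf 2191361))) (.node (.node (.node (.leaf 112699) (.leaf 3217524)) (.leaf 563260)) (.node (.node (.leaf 960620) (.leaf 1763400)) (.leaf 3191831)))))) (.node (.node (.node (.node (.node (.node (.leaf 1193003) (.leaf 2793579)) (.node (.leaf 2819090) (.leaf 3547258))) (.node (.node (.leaf 2346006) (.leaf 2105408)) (.leaf 289885))) (.node (.node (.node (.leaf 2414615) (.leaf 293899)) (.node (.leaf 1639463) (.leaf 809010))) (.node (.node (.leaf 2622548) (.leaf 2397300)) (.leaf 910400)))) (.node (.node (.node (.node (.leaf 252965) (.leaf 7265)) (.node (.leaf 1765445) (.leaf 2068566))) (.node (.node (.leaf 2750515) (.leaf 2715704)) (.leaf 586860))) (.node (.node (.node (.leaf 2997302) (.leaf 3494011)) (.leaf 1049615)) (.node (.node (.leaf 3080279) (.leaf 668736)) (.leaf 2385977))))) (.node (.node (.node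 (.node (.node (.leaf 703511) (.leaf 748616)) (.node (.leaf 2962547) (.leaf 2834505))) (.node (.node (.leaf 408678) (.leaf 931945)) (.leaf 93270))) (.node (.node (.node (.leaf 2347017) (.leaf 474114)) (.node (.leaf 1434661) (.leaf 754750))) (.node (.node (.leaf 3465265) (.leaf 795743)) (.leaf 3093517)))) (.node (.node (.node (.node (.leaf 1542171) (.leaf 887909)) (.node (.leaf 486512) (.leaf 1711170))) (.node (.node (.leaf 3269736) (.leaf 3491868)) (.leaf 2300964))) (.node (.node (.node (.leaf 684039) (.leaf 2632741)) (.leaf 2575371)) (.node (.node (.leaf 955513) (.leaf 2694200)) (.leaf 3040377)))))))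

def twoMv1 : Janko.Tree (ℕ) := (.node (.node (.node (.node (.node twoMv10 twoMv116) (.node twoMv18 twoMv124)) (.node (.node twoMv14 twoMv120) (.node twoMv112 twoMv128))) (.node (.node (.node twoMv12 twoMv118) (.node twoMv110 twoMv126)) (.node (.node twoMv16 twoMv122) (.node twoMv114 twoMv130)))) (.node (.node (.node (.node twoMv11 twoMv117) (.node twoMv19 twoMv125)) (.node (.node twoMv15 twoMv121) (.node twoMv113 twoMv129))) (.node (.node (.node twoMv13 twoMv119) (.node twoMv111 twoMv127)) (.node (.node twoMv17 twoMv123) (.node twoMv115 twoMv131)))))

theorem two_mv10 : ((List.range 512).all fun i => movesOK twoCert twoT 3465 (twoElt.get 70) twoMv1 (Nat.add 0 i)) = true := by decide +kernel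

theorem two_mv11 : ((List.range 512).all fun i => movesOK twoCert twoT 3465 (twoElt.get 70) twoMv1 (Nat.add 512 i)) = true := by decide +kernel

theorem two_mv12 : ((List.range 512).all fun i => movesOK twoCert twoT 3465 (twoElt.get 70) twoMv1 (Nat.add 1024 i)) = true := by decide +kernel

theorem two_mv13 : ((List.range 512).all fun i => movesOK twoCert twoT 3465 (twoElt.get 70) twoMv1 (Nat.add 1536 i)) = true := by decide +kernel

theorem two_mv14 : ((List.range 512).all fun i => movesOK twoCert twoT 3465 (twoElt.get 70) twoMv1 (Nat.add 2048 i)) = true := by decide +kernel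

theorem two_mv15 : ((List.range 512).all fun i => movesOK twoCert twoT 3465 (twoElt.get 70) twoMv1 (Nat.add 2560 i)) = true := by decide +kernel

theorem two_mv16 : ((List.range 393).all fun i => movesOK twoCert twoT 3465 (twoElt.get 70) twoMv1 (Nat.add 3072 i)) = true := by decide +kernel

theorem two_mv1 : ∀ i < 3465, movesOK twoCert twoT 3465 (twoElt.get 70) twoMv1 i = true := by
  intro i hi
  by_cases h0 : i < 512
  · have := List.all_eq_true.1 two_mv10 (i - 0) (List.mem_range.2 (by omega)); rwa [show Nat.add 0 (i - 0) = i from Nat.add_sub_cancel' (by omega)] at this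
  by_cases h1 : i < 1024
  · have := List.all_eq_true.1 two_mv11 (i - 512) (List.mem_range.2 (by omega)); rwa [show Nat.add 512 (i - 512) = i from Nat.add_sub_cancel' (by omega)] at this
  by_cases h2 : i < 1536
  · have := List.all_eq_true.1 two_mv12 (i - 1024) (List.mem_range.2 (by omega)); rwa [show Nat.add 1024 (i - 1024) = i from Nat.add_sub_cancel' (by omega)] at this
  by_cases h3 : i < 2048
  · have := List.all_eq_true.1 two_mv13 (i - 1536) (List.mem_range.2 (by omega)); rwa [show Nat.add 1536 (i - 1536) = i from Nat.add_sub_cancel' (by omega)] at this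
  by_cases h4 : i < 2560
  · have := List.all_eq_true.1 two_mv14 (i - 2048) (List.mem_range.2 (by omega)); rwa [show Nat.add 2048 (i - 2048) = i from Nat.add_sub_cancel' (by omega)] at this
  by_cases h5 : i < 3072
  · have := List.all_eq_true.1 two_mv15 (i - 2560) (List.mem_range.2 (by omega)); rwa [show Nat.add 2560 (i - 2560) = i from Nat.add_sub_cancel' (by omega)] at this
  have := List.all_eq_true.1 two_mv16 (i - 3072) (List.mem_range.2 (by omega)); rwa [show Nat.add 3072 (i - 3072) = i from Nat.add_sub_cancel' (by omega)] at this


theorem two_comm : CoverCocycle.mI twoCert 70 16 = CoverCocycle.mI twoCert 16 70 := by decide +kernel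

theorem two_value0a : ((CoverTable.evalSum twoCert twoVala.get 3465 (fun j => twoMv1.get j % 1024) (fun j => twoMv0.get j / 1024) (fun j => twoMv0.get j % 1024) : ℕ) : ZMod 4) - ((CoverTable.evalSum twoCert twoVala.get 3465 (fun j => twoMv0.get j % 1024) (fun j => twoMv1.get j / 1024) (fun j => twoMv1.get j % 1024) : ℕ) : ZMod 4) = 3 := by
  decide +kernel

end Cfsg.Agent.Lie.MTwentyTwoMult
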