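import Cfsg.Agent.Lib.Lie.GolayCover

/-!
A table on a subgroup of order 360 of the Mathieu group of degree 22 (generated).
-/

set_option autoImplicit false
set_option maxRecDepth 100000
set_option maxHeartbeats 0
set_option Elab.async false

namespace Cfsg.Agent.Lie.MTwentyTwoMult

open Cfsg.Agent.Lie GolayCover

/-- generators of the subgroup -/
def sixGens : List (ℕ × ℕ) := [(956770009283533158890859237102212800, 956770009283533158890859237102212800),
  (973859355331533223082380988519601568, 963271394074853857340083253379866720)]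

def sixElt0 : Janko.Tree (ℕ) :=
  (.node (.node (.node (.node (.node (.node (.node (.leaf 984818244535754528103549039458486304) (.leaf 974256716424237987599583722513978880)) (.leaf 971053676742954726443614999790437888)) (.node (.node (.leaf 961283046121216538743948056704625952) (.leaf 976853360217740045100813096378248640)) (.leaf 979616936124333882949568261459844480))) (.node (.node (.node (.leaf 956786481306653872643729477762194944) (.leaf 969240118097008726526406917528625184)) (.leaf 963629089077095097158430109710328416)) (.node (.node (.leaf 984247383985065796153516683451540096) (.leaf 971831906556639814782494892022537248)) (.leaf 963466969027265080370153305607122400)))) (.node (.node (.node (.node (.leaf 968811026855499045409629283102793088) (.leaf 981448833838863267471401258946370592)) (.leaf 971426604085088149206847099257968224)) (.node (.node (.leaf 979445586891629841737663389265047232) (.leaf 984284438372807130394790017383926080)) (.leaf 982223976146697185804879716145540672))) (.node (.node (.node (.leaf 976448692869377735270425038196672544)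 (.leaf 957031184526921387704827473241228480)) (.leaf 957553378733148666770290983797507456)) (.node (.leaf 963521442259394957491942420717677600) (.leaf 982035592772336580823626024166204096))))) (.node (.node (.node (.node (.node (.leaf 979441764138006155083043941322806656) (.leaf 956972441834941882597675199282711168)) (.leaf 973885508439739495255287349951638816)) (.node (.node (.leaf 973853023265217962260447748011696832) (.leaf 957390711831770010423781783515865696)) (.leaf 960884839910909691006736104619853088))) (.node (.node (.node (.leaf 981670414970464148099164354718979648) (.leaf 971307407961033899765823504772279712)) (.leaf 976866013188438919767246958639122816)) (.node (.leaf 973900705388976025641453985273585280) (.leaf 961431470014614617158990396757713472)))) (.node (.node (.node (.node (.leaf 975141542956546445243913353447475808) (.leaf 969231253206269485628433939582633472)) (.leaf 974427039873910004551767375496168768)) (.node (.node (.leaf 984815711694528072641956329919356096) (.leaf 972358536135983705451162325197795008))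 (.leaf 967934943232583522264862673404839552))) (.node (.node (.node (.leaf 957142490727139379510553183440570880) (.leaf 960681809214248190406849522291023296)) (.leaf 974963403897355806153038243375227328)) (.node (.leaf 972352204085311226824081641366050240) (.leaf 971674004932073074627866842885726720)))))) (.node (.node (.node (.node (.node (.node (.leaf 973137705633192025493249631654092224) (.leaf 976610308049917048413960794638027392)) (.leaf 968648724971250436426426595737224800)) (.node (.node (.leaf 961037863934072288397234004167804000) (.leaf 975730406028678225906567063959383232)) (.leaf 969069829577537394912212964903966144))) (.node (.node (.node (.leaf 960917235530130487168140578074609152) (.leaf 975317232982745010686178762969614784)) (.leaf 972561216983075553409196508751890880)) (.node (.node (.leaf 977009360261711550490733698844663072) (.leaf 967936209630773230061685266538110560)) (.leaf 968706362063918914387019599256427936)))) (.node (.node (.node (.node (.leaf 968675343172684209910363740000529824) (.leaf 959578085782822049413503610694142528))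 (.leaf 975561587259603448309485156196996512)) (.node (.node (.leaf 972962643425233512481766681885693024) (.leaf 971248145789378345641473400062484896)) (.leaf 959617451864058669161970174888713792))) (.node (.node (.node (.leaf 984399280716173326666624892896681440) (.leaf 984642710977964137442350369548316064)) (.leaf 961442867733626716869648043748826528)) (.node (.leaf 967536111510151075385516080231942624) (.leaf 984809366024622044769112408354758976))))) (.node (.node (.node (.node (.node (.leaf 975324830235885707264894193849934112) (.leaf 972721605900546706445373340544255680)) (.leaf 968828777659659988199624912327549344)) (.node (.node (.leaf 957139957915650652743343003583792736) (.leaf 971057500741431945684796818112271456)) (.leaf 969054605410138191061303929065287168))) (.node (.node (.node (.leaf 976614129585458714721294806538492960) (.leaf 964027309846536082220494117149164832)) (.leaf 980147960643997535795507177064056128)) (.node (.leaf 969232515921806808648608254398859968) (.leaf 968712701554443163347950267621059968))))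 (.node (.node (.node (.node (.leaf 968665211860275070920015122088397280) (.leaf 961036597504073860559396593751021120)) (.leaf 984040892064375267635331659531306400)) (.node (.node (.leaf 957557177984260302767033703839435072) (.leaf 980338150447558747585270978093438240)) (.leaf 959974630666573718340642627533690336))) (.node (.node (.node (.leaf 979628348698078779126813241944679040) (.leaf 972610763711313920132914624911136224)) (.leaf 963507489422642752636167529976634464)) (.node (.leaf 967537391554609170368522325597757888) (.leaf 980511984300221056329692932001649760)))))))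

def sixElt1 : Janko.Tree (ℕ) :=
  (.node (.node (.node (.node (.node (.node (.node (.leaf 956770009283533158890859237102212800) (.leaf 960882299677143273725959276817123744)) (.leaf 981676747037006082937854322109980352)) (.node (.node (.leaf 975551429978181689380842967583432800) (.leaf 963640518972357266310373335248618528)) (.leaf 976489124988236278545092630679199328))) (.node (.node (.node (.leaf 959982235317917806179370756715717024) (.leaf 968707628479415974226091650046908096)) (.leaf 968667721158801837275657140321853824)) (.node (.node (.leaf 960879774264719990795851837062993344) (.leaf 960134195134516694738973837755091328)) (.leaf 981453899493406681916444221300430016)))) (.node (.node (.node (.node (.leaf 959613667504234986521839028532480192) (.leaf 973860621755150435274218017691732096)) (.leaf 973657217305471983122954910567047456)) (.node (.node (.leaf 974250384359272475721546468278510208) (.leaf 976251411185748758099256360752488064)) (.leaf 972343326808981954247287214426856576))) (.node (.node (.node (.leaf 963523975081699876444688657481730624)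 (.leaf 960140518529700739778854255906038240)) (.leaf 975155492069135220841438228211385664)) (.node (.leaf 972952512124901040019658366469647936) (.leaf 976494219109641360899527114055944320))))) (.node (.node (.node (.node (.node (.leaf 976453753559489176983340766081917216) (.leaf 974019133621624325609738320211911136)) (.leaf 980128964459380300092029649941910912)) (.node (.node (.leaf 963865124817020216629749718170676832) (.leaf 956988906430498147888336329405584768)) (.leaf 981802221511213612429266328189574656))) (.node (.node (.node (.leaf 971288411755208948877048806986433664) (.leaf 977029622887571601827047247563572672)) (.leaf 972707648109616652890138592685853248)) (.node (.leaf 980756803586798759670466514122091552) (.leaf 959746525565956069217782952249218432)))) (.node (.node (.node (.node (.leaf 971264643815697030737699465032052032) (.leaf 981431076815774022969285884534670624)) (.leaf 963276459729021816998249156051391776)) (.node (.node (.leaf 967532325892347380683811019432871040) (.leaf 960660270287183308678243515736577440))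 (.leaf 978844899267127385020892541880675744))) (.node (.node (.node (.leaf 959576819362799558431552292212393088) (.leaf 972605680723586421943290471848910208)) (.leaf 971407607910539582210956889491284288)) (.node (.leaf 980390361461140179098013159098821824) (.leaf 967773372122988398278888128673520768)))))) (.node (.node (.node (.node (.node (.node (.leaf 967415563219785829743497253673672192) (.leaf 979049149089113417754740428919808096)) (.leaf 967367490962333615174573019556828672)) (.node (.node (.leaf 963515087906501973571187071527306848) (.leaf 973664810813628513644917292705132000)) (.leaf 967152381752886427411109977310713472))) (.node (.node (.node (.leaf 980135294051517900061923448843279840) (.leaf 959369441968991605101417979571820128)) (.leaf 980917074569816593535156564089446688)) (.node (.node (.leaf 978855036762834701451583991086433984) (.leaf 979074128476612300114798262329257600)) (.leaf 978834767965263146894100911119211616)))) (.node (.node (.node (.node (.leaf 960910903461755731738237450308638336) (.leaf 974943109085212543698534764755699296))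 (.leaf 971249412208419733526546374089758272)) (.node (.node (.leaf 957021040839441938112986513024691808) (.leaf 984649043037568480140185104016613824)) (.leaf 981680568544076174834394140543102080))) (.node (.node (.node (.leaf 959991094024235779303849428583652640) (.leaf 960874701197739677996708275364244576)) (.leaf 963253650678643261928687414620397120)) (.node (.leaf 972960120480956990037364791572728512) (.leaf 976245079099072956029844805287363712))))) (.node (.node (.node (.node (.node (.leaf 982216386334978939902329949558120576) (.leaf 957558433254036309254286032162104000)) (.leaf 979196000803527461413831834124716736)) (.node (.node (.leaf 959607320578141733837552223885776288) (.leaf 963643051800253469822369978927947456)) (.leaf 967375089448560338514604091660119168))) (.node (.node (.node (.leaf 959626331618945676487784673927906784) (.leaf 961447945752518126356969479147597440)) (.leaf 982213853513762711003911987522832672)) (.node (.leaf 967395300631877612992224125314435520) (.leaf 979604271995786963395433754069904512))))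 (.node (.node (.node (.node (.leaf 963884148231876766711606632317802112) (.leaf 957398330121786619296385847351454912)) (.leaf 976622994470685659331362300876113216)) (.node (.node (.leaf 975724069036207907575267069429948096) (.leaf 981798428443518121100197630175420992)) (.leaf 969068535928800461108319197344696928))) (.node (.node (.node (.leaf 980505654723761744032353864684544032) (.leaf 967775904933692915500460512282839680)) (.leaf 971411413329150939863753796616396192)) (.node (.leaf 968459963501775994645613085853013024) (.leaf 961041669366510721056430391523220768)))))))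

def sixElt2 : Janko.Tree (ℕ) :=
  (.node (.node (.node (.node (.node (.node (.node (.leaf 973859355331533223082380988519601568) (.leaf 975571718556650286146876130145208640)) (.leaf 971653726232605993532629883184160320)) (.node (.node (.leaf 971063832810880572018918937277735040) (.leaf 975719003376020522258294771467035040)) (.leaf 975186041919854845437060811190569248))) (.node (.node (.node (.leaf 977019477957695383707969979758619968) (.leaf 957383113360193507223506966536297856)) (.leaf 979060577745575821139717713815720992)) (.node (.node (.leaf 971666390368302297766348237244139648) (.leaf 974027984896326309032851386650724640)) (.leaf 969081227293771010301146091348958688)))) (.node (.node (.node (.node (.leaf 972354724512944287081415283362285120) (.leaf 959580629740268782229762302304890144)) (.leaf 959585695374663461080139129009152192)) (.node (.node (.leaf 957150111485182558474626990945542336) (.leaf 980899332420082886888836904769723904)) (.leaf 977005547410177996865677525869044320))) (.node (.node (.node (.leaf 972587950955817127156024042422584416)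 (.leaf 968462495091728765913293060692878016)) (.leaf 972570081861740392693910572802285888)) (.node (.leaf 960151924919160594597113976207197600) (.leaf 984411941116691935150042903411578048))))) (.node (.node (.node (.node (.node (.leaf 963271394074853857340083253379866720) (.leaf 956777616422806432151628686820680000)) (.leaf 972564996427260425607921924078949504)) (.node (.node (.leaf 956785206221922558156485406668336768) (.leaf 971285877705358933159061939449989632)) (.leaf 971308673126840554408436903612915008))) (.node (.node (.node (.leaf 973851756858941264024997919232247424) (.leaf 975206313185410613583421204931823008)) (.leaf 967922279093387514748102843515478528)) (.node (.leaf 984047220415414290280927134398131776) (.leaf 976843217783159897152887913936180544)))) (.node (.node (.node (.node (.leaf 984810632433468833829208837308427744) (.leaf 959377040451989925018950661709503680)) (.leaf 974261800635428168087231837546687808)) (.node (.node (.leaf 984237257649697655051896296252229056) (.leaf 974007722301195439442558538200860160))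 (.leaf 975191116230858699014855370905038272))) (.node (.node (.node (.leaf 981689433441003147929280527325054400) (.leaf 975555229213848589006695295588310624)) (.leaf 980910730125799078343052303081811328)) (.node (.leaf 974264333453349593140774998963003072) (.leaf 964046302332990953288163658075483840)))))) (.node (.node (.node (.node (.node (.node (.leaf 971042279019385110579115411540225632) (.leaf 963889213889407009845578110982037536)) (.leaf 971662607233329932334443444288410656)) (.node (.node (.leaf 974419431475319594375771336552258688) (.leaf 980905676860851410542864364569299040)) (.leaf 967921012688359827790687819883940032))) (.node (.node (.node (.leaf 961288108047316086748768816851131488) (.leaf 979088061496010823383183856694134880)) (.leaf 961039136544251564079789227121418880)) (.node (.node (.leaf 981818691054096003685363657089320992) (.leaf 967167578694815591134820680566648256)) (.leaf 979058044919376233696864631194454208)))) (.node (.node (.node (.node (.leaf 968833822272456348482632246897497600) (.leaf 976477727278117121104956386395538816))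 (.leaf 967151117810251663364091844715651552)) (.node (.node (.leaf 974939309850697354506236709184777504) (.leaf 980334351201354975247905602168047072)) (.leaf 972546000236291766024752795002482048))) (.node (.node (.node (.leaf 976867290760532735295716331373437056) (.leaf 976451225672132650491994917022946912)) (.leaf 972600632421765635763588409201995072)) (.node (.leaf 957395797283439376744109925523248704) (.leaf 971268443043816157957099577864045600))))) (.node (.node (.node (.node (.node (.leaf 971828096180228400512191994553222720) (.leaf 972965186141826685233198517121491424)) (.leaf 973893110648791303625221589348977120)) (.node (.node (.leaf 984039625668089385344064332047177024) (.leaf 981651282105514181477174270787962560)) (.leaf 982054590211533708387679451411305760))) (.node (.node (.node (.leaf 974433362012285164412385387058671104) (.leaf 984225854987935246242607542042766528)) (.leaf 980751737927348646196271319316307264)) (.node (.leaf 984387879279846088628271219768346176) (.leaf 975149141441726784516183787240314048))))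 (.node (.node (.node (.node (.leaf 976603975994730564348659002430936512) (.leaf 984273035694648656350617402078545536)) (.leaf 974435904761788331638488198596364704)) (.node (.node (.leaf 979463316670120340482350259465853984) (.leaf 963621490596711543759764722186474976)) (.leaf 984288232650346546937832214306804768))) (.node (.node (.node (.leaf 982039393251772873972236320770727360) (.leaf 973125039026318630535756330896132224)) (.leaf 974030531332902027498563794681058624)) (.node (.leaf 967394015648720686494282228813223520) (.leaf 964047572456257655729885735569989088)))))))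

def sixElt3 : Janko.Tree (ℕ) :=
  (.node (.node (.node (.node (.node (.node (.node (.leaf 980513253178068679332518784850921856) (.leaf 981808553566637051292904913865659520)) (.leaf 960679266460098200687254670057915776)) (.node (.node (.leaf 984241056872510551312753846315931104) (.leaf 957026106502778707561264954684331328)) (.leaf 961290644579918423623017798904023552))) (.node (.node (.node (.leaf 975154225659377155985997091628920512) (.leaf 959740193518759253731678954341833856)) (.leaf 980384034339555750068680784382350848)) (.node (.node (.leaf 984281905528648786591566541451009472) (.leaf 963480890888731968732817348222067264)) (.leaf 967519648155622377916945443866352736)))) (.node (.node (.node (.node (.leaf 982197381487900169315526639492711616) (.leaf 981443740951031859638745076081995264)) (.leaf 969235048735688173455968947874115008)) (.node (.node (.leaf 959742713959274911326290201201478240) (.leaf 973662282954993102379918393154851968)) (.leaf 973649613869144119474259164166036896))) (.node (.node (.node (.leaf 980504385833144854365558768555967680)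 (.leaf 968708902336673183175954409307867168)) (.leaf 963880321770647103320082161266460960)) (.node (.leaf 968837642568661336571522714519586240) (.leaf 980345753856128278737704521019630080))))) (.node (.node (.node (.node (.node (.leaf 979443030543844367860373336289282464) (.leaf 975717741906047689835244066382595168)) (.leaf 981639870776085907755399169468408256)) (.node (.node (.leaf 967368741285890552625716270989362272) (.leaf 967774643498212214437425364160894144)) (.leaf 964024773321639484175595653237738112))) (.node (.node (.node (.leaf 974952006173361475023336824122252608) (.leaf 968461228657832232618436413631383008)) (.leaf 979037751376567250803943956841743744)) (.node (.leaf 967357343556995247730733212657689184) (.leaf 963479633151578497180608132775610464)))) (.node (.node (.node (.node (.leaf 961281775988579514787007154048147840) (.leaf 957155177149232535521084790218530432)) (.leaf 976441089437196395740870828346551936)) (.node (.node (.leaf 960903296336239697476340768128567680) (.leaf 980386567169811464257645204288783392))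 (.leaf 976501817576865264929616866109216032))) (.node (.node (.node (.leaf 980139093267679404218872590840310880) (.leaf 984404346348248581846934409966094752)) (.leaf 960915960466322962387455107986468416)) (.node (.leaf 957540703463423340032986654912749120) (.leaf 959363101244989858635583327446573632)))))) (.node (.node (.node (.node (.node (.node (.leaf 967397814898884382568862098603257312) (.leaf 975202505274789951795171687627641952)) (.leaf 984637623033312354824810178069137984)) (.node (.node (.leaf 978830974928722678496909851380621504) (.leaf 972708914534818302708408678425502080)) (.leaf 957028651706772161000819827381930688))) (.node (.node (.node (.leaf 975313433741269304699403178225063616) (.leaf 960136719276057921619490882196024928)) (.leaf 968465029141801994335142021425602144)) (.node (.node (.leaf 971824308075211014493187578540984928) (.leaf 979100723141306271197456924571868352)) (.leaf 980747918883362939279568022996060640)))) (.node (.node (.node (.node (.leaf 982057121779272488823709216624937152) (.leaf 979089327902121496868371977189577856))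 (.leaf 979198543539010082969733028319348128)) (.node (.node (.leaf 979608086101246717990321502419371040) (.leaf 973896909885133649860309782524184256)) (.leaf 980331823338403614690416533753170240))) (.node (.node (.node (.leaf 973132637490166449937427652232618080) (.leaf 961439080881000371241491185435445696)) (.leaf 971816698449897500212246317038775392)) (.node (.leaf 963456829055000025508105833788102336) (.leaf 984029490656420027692604702873231392))))) (.node (.node (.node (.node (.node (.leaf 963280245346693836005708254721492608) (.leaf 967779709137370475959919717791771744)) (.leaf 980375164486892845696248516716469536)) (.node (.node (.leaf 976257750657043547695883743267302432) (.leaf 976246352952174487054333949026443648)) (.leaf 959374498946358029603135924428483968))) (.node (.node (.node (.leaf 959989833806179997135413063196159104) (.leaf 984631290985683944987718298975182464)) (.leaf 975304567635441731305099979508948160)) (.node (.leaf 973122508680091737342292246069396960) (.leaf 979209941254230546818937664306651264))))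 (.node (.node (.node (.node (.leaf 972722872312223510768767080496504128) (.leaf 960667878671379942026222972529484288)) (.leaf 971429143096364997218629755188217952)) (.node (.node (.leaf 980740320412572952404095699314483392) (.leaf 981633538709965274633002525646096896)) (.leaf 959731316257730434454714228207338784))) (.node (.node (.node (.leaf 956977508729797368645423780429147648) (.leaf 981636085160775626453303572685040672)) (.leaf 967171380398094636289037627092812992)) (.node (.leaf 956992704442481418378201353032091200) (.leaf 979202332865949198884898646447707776)))))))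

def sixElt : Janko.Tree (ℕ) := (.node (.node sixElt0 sixElt2) (.node sixElt1 sixElt3))

def sixNext0 : Janko.Tree (ℕ) :=
  (.node (.node (.node (.node (.node (.node (.node (.leaf 1) (.leaf 297)) (.leaf 168)) (.node (.node (.leaf 89) (.leaf 346)) (.leaf 149))) (.node (.node (.node (.leaf 48) (.leaf 323)) (.leaf 121)) (.node (.node (.leaf 129) (.leaf 329)) (.leaf 175)))) (.node (.node (.node (.node (.leaf 25) (.leaf 264)) (.leaf 186)) (.node (.node (.leaf 110) (.leaf 306)) (.leaf 255))) (.node (.node (.node (.leaf 32) (.leaf 262)) (.leaf 134)) (.node (.leaf 82) (.leaf 286))))) (.node (.node (.node (.node (.node (.leaf 14) (.leaf 272)) (.leaf 124)) (.node (.node (.leaf 99) (.leaf 347)) (.leaf 249))) (.node (.node (.node (.leaf 60) (.leaf 327)) (.leaf 128)) (.node (.leaf 139) (.leaf 279)))) (.node (.node (.node (.node (.leaf 37) (.leaf 234)) (.leaf 196)) (.node (.node (.leaf 119) (.leaf 315)) (.leaf 206))) (.node (.node (.node (.leaf 79) (.leaf 273)) (.leaf 142)) (.node (.leaf 158) (.leaf 278)))))) (.node (.node (.node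 (.node (.node (.node (.leaf 2) (.leaf 275)) (.leaf 174)) (.node (.node (.leaf 47) (.leaf 350)) (.leaf 152))) (.node (.node (.node (.leaf 54) (.leaf 325)) (.leaf 211)) (.node (.node (.leaf 133) (.leaf 348)) (.leaf 178)))) (.node (.node (.node (.node (.leaf 31) (.leaf 229)) (.leaf 111)) (.node (.node (.leaf 114) (.leaf 313)) (.leaf 261))) (.node (.node (.node (.leaf 35) (.leaf 268)) (.leaf 138)) (.node (.leaf 86) (.leaf 289))))) (.node (.node (.node (.node (.node (.leaf 7) (.leaf 308)) (.leaf 182)) (.node (.node (.leaf 105) (.leaf 353)) (.leaf 157))) (.node (.node (.node (.leaf 63) (.leaf 331)) (.leaf 221)) (.node (.leaf 78) (.leaf 185)))) (.node (.node (.node (.node (.leaf 43) (.leaf 237)) (.leaf 117)) (.node (.node (.leaf 125) (.leaf 356)) (.leaf 267))) (.node (.node (.node (.leaf 40) (.leaf 322)) (.leaf 146)) (.node (.leaf 136) (.leaf 295)))))))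

def sixNext1 : Janko.Tree (ℕ) :=
  (.node (.node (.node (.node (.node (.node (.node (.leaf 2) (.leaf 298)) (.leaf 169)) (.node (.node (.leaf 18) (.leaf 347)) (.leaf 242))) (.node (.node (.node (.leaf 49) (.leaf 148)) (.leaf 208)) (.node (.node (.leaf 31) (.leaf 345)) (.leaf 272)))) (.node (.node (.node (.node (.leaf 26) (.leaf 311)) (.leaf 187)) (.node (.node (.leaf 57) (.leaf 355)) (.leaf 256))) (.node (.node (.node (.leaf 70) (.leaf 335)) (.leaf 225)) (.node (.leaf 150) (.leaf 245))))) (.node (.node (.node (.node (.node (.leaf 15) (.leaf 174)) (.leaf 178)) (.node (.node (.leaf 100) (.leaf 334)) (.leaf 192))) (.node (.node (.node (.leaf 9) (.leaf 328)) (.leaf 216)) (.node (.leaf 140) (.leaf 133)))) (.node (.node (.node (.node (.leaf 4) (.leaf 316)) (.leaf 197)) (.node (.node (.leaf 120) (.leaf 353)) (.leaf 263))) (.node (.node (.node (.leaf 80) (.leaf 294)) (.leaf 235)) (.node (.leaf 159) (.leaf 114)))))) (.node (.node (.node (.node (.node (.node (.leaf 8) (.leaf 186)) (.leaf 99)) (.node (.node (.leaf 46) (.leaf 196))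 (.leaf 246))) (.node (.node (.node (.leaf 55) (.leaf 295)) (.leaf 212)) (.node (.node (.leaf 134) (.leaf 339)) (.leaf 210)))) (.node (.node (.node (.node (.leaf 32) (.leaf 314)) (.leaf 191)) (.node (.node (.leaf 115) (.leaf 338)) (.leaf 165))) (.node (.node (.node (.leaf 74) (.leaf 304)) (.leaf 219)) (.node (.leaf 155) (.leaf 255))))) (.node (.node (.node (.node (.node (.leaf 20) (.leaf 309)) (.leaf 105)) (.node (.node (.leaf 106) (.leaf 307)) (.leaf 156))) (.node (.node (.node (.leaf 64) (.leaf 162)) (.leaf 198)) (.node (.leaf 144) (.leaf 184)))) (.node (.node (.node (.node (.leaf 44) (.leaf 320)) (.leaf 203)) (.node (.node (.leaf 29) (.leaf 290)) (.leaf 171))) (.node (.node (.node (.leaf 84) (.leaf 239)) (.leaf 240)) (.node (.leaf 73) (.leaf 204)))))))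

def sixNext2 : Janko.Tree (ℕ) :=
  (.node (.node (.node (.node (.node (.node (.node (.leaf 0) (.leaf 209)) (.leaf 96)) (.node (.node (.leaf 45) (.leaf 285)) (.leaf 243))) (.node (.node (.node (.leaf 50) (.leaf 244)) (.leaf 202)) (.node (.node (.leaf 70) (.leaf 332)) (.leaf 203)))) (.node (.node (.node (.node (.leaf 10) (.leaf 312)) (.leaf 109)) (.node (.node (.leaf 58) (.leaf 351)) (.leaf 257))) (.node (.node (.node (.leaf 71) (.leaf 263)) (.leaf 226)) (.node (.leaf 151) (.leaf 287))))) (.node (.node (.node (.node (.node (.leaf 5) (.leaf 218)) (.leaf 103)) (.node (.node (.leaf 51) (.leaf 352)) (.leaf 155))) (.node (.node (.node (.leaf 27) (.leaf 256)) (.leaf 217)) (.node (.leaf 76) (.leaf 183)))) (.node (.node (.node (.node (.leaf 16) (.leaf 317)) (.leaf 198)) (.node (.node (.leaf 64) (.leaf 318)) (.leaf 169))) (.node (.node (.node (.leaf 38) (.leaf 340)) (.leaf 236)) (.node (.leaf 160) (.leaf 200)))))) (.node (.node (.node (.node (.node (.node (.leaf 9) (.leaf 212)) (.leaf 100)) (.node (.node (.leaf 95) (.leaf 292))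 (.leaf 173))) (.node (.node (.node (.leaf 24) (.leaf 326)) (.leaf 126)) (.node (.node (.leaf 135) (.leaf 349)) (.leaf 276)))) (.node (.node (.node (.node (.leaf 13) (.leaf 231)) (.leaf 192)) (.node (.node (.leaf 61) (.leaf 343)) (.leaf 166))) (.node (.node (.node (.leaf 75) (.leaf 291)) (.leaf 230)) (.node (.leaf 156) (.leaf 195))))) (.node (.node (.node (.node (.node (.leaf 21) (.leaf 222)) (.leaf 106)) (.node (.node (.leaf 55) (.leaf 302)) (.leaf 253))) (.node (.node (.node (.leaf 65) (.leaf 259)) (.leaf 197)) (.node (.leaf 145) (.leaf 284)))) (.node (.node (.node (.node (.leaf 19) (.leaf 321)) (.leaf 204)) (.node (.node (.leaf 67) (.leaf 357)) (.leaf 172))) (.node (.node (.node (.leaf 85) (.leaf 281)) (.leaf 214)) (.node (.leaf 92) (.leaf 205)))))))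

def sixNext3 : Janko.Tree (ℕ) :=
  (.node (.node (.node (.node (.node (.node (.node (.leaf 3) (.leaf 201)) (.leaf 170)) (.node (.node (.leaf 90) (.leaf 274)) (.leaf 81))) (.node (.node (.node (.leaf 51) (.leaf 243)) (.leaf 122)) (.node (.node (.leaf 130) (.leaf 331)) (.leaf 273)))) (.node (.node (.node (.node (.leaf 27) (.leaf 226)) (.leaf 108)) (.node (.node (.leaf 111) (.leaf 221)) (.leaf 258))) (.node (.node (.node (.leaf 12) (.leaf 284)) (.leaf 227)) (.node (.leaf 152) (.leaf 288))))) (.node (.node (.node (.node (.node (.leaf 16) (.leaf 301)) (.leaf 179)) (.node (.node (.leaf 101) (.leaf 333)) (.leaf 250))) (.node (.node (.node (.leaf 61) (.leaf 329)) (.leaf 218)) (.node (.leaf 75) (.leaf 224)))) (.node (.node (.node (.node (.leaf 38) (.leaf 141)) (.leaf 199)) (.node (.node (.leaf 121) (.leaf 317)) (.leaf 264))) (.node (.node (.node (.leaf 37) (.leaf 341)) (.leaf 237)) (.node (.leaf 161) (.leaf 277)))))) (.node (.node (.node (.node (.node (.node (.leaf 10) (.leaf 303)) (.leaf 175)) (.node (.node (.leaf 96) (.leaf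 351)) (.leaf 83))) (.node (.node (.node (.leaf 56) (.leaf 257)) (.leaf 125)) (.node (.node (.leaf 91) (.leaf 340)) (.leaf 102)))) (.node (.node (.node (.node (.leaf 33) (.leaf 315)) (.leaf 193)) (.node (.node (.leaf 60) (.leaf 321)) (.leaf 262))) (.node (.node (.node (.leaf 14) (.leaf 337)) (.leaf 231)) (.node (.leaf 41) (.leaf 215))))) (.node (.node (.node (.node (.node (.leaf 1) (.leaf 310)) (.leaf 183)) (.node (.node (.leaf 107) (.leaf 271)) (.leaf 254))) (.node (.node (.node (.leaf 66) (.leaf 332)) (.leaf 222)) (.node (.leaf 146) (.leaf 119)))) (.node (.node (.node (.node (.leaf 45) (.leaf 280)) (.leaf 205)) (.node (.node (.leaf 126) (.leaf 358)) (.leaf 268))) (.node (.node (.node (.leaf 86) (.leaf 342)) (.leaf 79)) (.node (.leaf 164) (.leaf 296)))))))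

def sixNext4 : Janko.Tree (ℕ) :=
  (.node (.node (.node (.node (.node (.node (.node (.leaf 4) (.leaf 299)) (.leaf 171)) (.node (.node (.leaf 91) (.leaf 316)) (.leaf 150))) (.node (.node (.node (.leaf 22) (.leaf 246)) (.leaf 123)) (.node (.node (.leaf 131) (.leaf 358)) (.leaf 177)))) (.node (.node (.node (.node (.leaf 11) (.leaf 227)) (.leaf 188)) (.node (.node (.leaf 112) (.leaf 310)) (.leaf 163))) (.node (.node (.node (.leaf 33) (.leaf 336)) (.leaf 228)) (.node (.leaf 84) (.leaf 250))))) (.node (.node (.node (.node (.node (.leaf 17) (.leaf 307)) (.leaf 180)) (.node (.node (.leaf 102) (.leaf 335)) (.leaf 161))) (.node (.node (.node (.leaf 62) (.leaf 270)) (.leaf 219)) (.node (.leaf 141) (.leaf 280)))) (.node (.node (.node (.node (.leaf 39) (.leaf 235)) (.leaf 115)) (.node (.node (.leaf 122) (.leaf 320)) (.leaf 265))) (.node (.node (.node (.leaf 81) (.leaf 342)) (.leaf 144)) (.node (.leaf 90) (.leaf 242)))))) (.node (.node (.node (.node (.node (.node (.leaf 3) (.leaf 304)) (.leaf 176)) (.node (.node (.leaf 97) (.leaf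 293)) (.leaf 153))) (.node (.node (.node (.leaf 57) (.leaf 251)) (.leaf 213)) (.node (.node (.leaf 74) (.leaf 354)) (.leaf 181)))) (.node (.node (.node (.node (.leaf 34) (.leaf 248)) (.leaf 194)) (.node (.node (.leaf 116) (.leaf 314)) (.leaf 189))) (.node (.node (.node (.leaf 36) (.leaf 338)) (.leaf 140)) (.node (.leaf 87) (.leaf 290))))) (.node (.node (.node (.node (.node (.leaf 8) (.leaf 298)) (.leaf 184)) (.node (.node (.leaf 108) (.leaf 303)) (.leaf 216))) (.node (.node (.node (.leaf 30) (.leaf 333)) (.leaf 132)) (.node (.leaf 80) (.leaf 254)))) (.node (.node (.node (.node (.leaf 46) (.leaf 240)) (.leaf 120)) (.node (.node (.leaf 127) (.leaf 324)) (.leaf 269))) (.node (.node (.node (.leaf 42) (.leaf 345)) (.leaf 147)) (.node (.leaf 165) (.leaf 238)))))))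

def sixNext5 : Janko.Tree (ℕ) :=
  (.node (.node (.node (.node (.node (.node (.node (.leaf 5) (.leaf 300)) (.leaf 172)) (.node (.node (.leaf 92) (.leaf 348)) (.leaf 244))) (.node (.node (.node (.leaf 21) (.leaf 286)) (.leaf 209)) (.node (.node (.leaf 132) (.leaf 308)) (.leaf 176)))) (.node (.node (.node (.node (.leaf 28) (.leaf 313)) (.leaf 189)) (.node (.node (.leaf 25) (.leaf 350)) (.leaf 259))) (.node (.node (.node (.leaf 72) (.leaf 168)) (.leaf 229)) (.node (.leaf 153) (.leaf 154))))) (.node (.node (.node (.node (.node (.leaf 0) (.leaf 230)) (.leaf 52)) (.node (.node (.leaf 103) (.leaf 261)) (.leaf 251))) (.node (.node (.node (.leaf 43) (.leaf 160)) (.leaf 220)) (.node (.leaf 142) (.leaf 281)))) (.node (.node (.node (.node (.leaf 40) (.leaf 318)) (.leaf 200)) (.node (.node (.leaf 123) (.leaf 344)) (.leaf 95))) (.node (.node (.node (.leaf 82) (.leaf 343)) (.leaf 238)) (.node (.leaf 89) (.leaf 293)))))) (.node (.node (.node (.node (.node (.node (.leaf 11) (.leaf 267)) (.leaf 50)) (.node (.node (.leaf 39) (.leaf 323))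 (.leaf 97))) (.node (.node (.node (.leaf 58) (.leaf 269)) (.leaf 214)) (.node (.node (.leaf 136) (.leaf 326)) (.leaf 180)))) (.node (.node (.node (.node (.leaf 35) (.leaf 139)) (.leaf 195)) (.node (.node (.leaf 117) (.leaf 352)) (.leaf 93))) (.node (.node (.node (.leaf 76) (.leaf 312)) (.leaf 232)) (.node (.leaf 157) (.leaf 291))))) (.node (.node (.node (.node (.node (.leaf 22) (.leaf 131)) (.leaf 54)) (.node (.node (.leaf 23) (.leaf 253)) (.leaf 127))) (.node (.node (.node (.leaf 67) (.leaf 228)) (.leaf 223)) (.node (.leaf 147) (.leaf 211)))) (.node (.node (.node (.node (.leaf 6) (.leaf 322)) (.leaf 206)) (.node (.node (.leaf 68) (.leaf 357)) (.leaf 270))) (.node (.node (.node (.leaf 87) (.leaf 289)) (.leaf 213)) (.node (.leaf 166) (.leaf 118)))))))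

def sixNext6 : Janko.Tree (ℕ) :=
  (.node (.node (.node (.node (.node (.node (.node (.leaf 6) (.leaf 301)) (.leaf 98)) (.node (.node (.leaf 93) (.leaf 288)) (.leaf 245))) (.node (.node (.node (.leaf 52) (.leaf 309)) (.leaf 210)) (.node (.node (.leaf 72) (.leaf 359)) (.leaf 274)))) (.node (.node (.node (.node (.leaf 29) (.leaf 260)) (.leaf 190)) (.node (.node (.leaf 59) (.leaf 311)) (.leaf 164))) (.node (.node (.node (.leaf 73) (.leaf 266)) (.leaf 191)) (.node (.leaf 154) (.leaf 193))))) (.node (.node (.node (.node (.node (.leaf 18) (.leaf 220)) (.leaf 104)) (.node (.node (.leaf 53) (.leaf 300)) (.leaf 225))) (.node (.node (.node (.leaf 28) (.leaf 258)) (.leaf 130)) (.node (.leaf 143) (.leaf 282)))) (.node (.node (.node (.node (.leaf 41) (.leaf 319)) (.leaf 201)) (.node (.node (.leaf 66) (.leaf 328)) (.leaf 170))) (.node (.node (.node (.leaf 83) (.leaf 344)) (.leaf 239)) (.node (.leaf 162) (.leaf 294)))))) (.node (.node (.node (.node (.node (.node (.leaf 12) (.leaf 305)) (.leaf 101)) (.node (.node (.leaf 49) (.leaf 296))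 (.leaf 247))) (.node (.node (.node (.leaf 26) (.leaf 252)) (.leaf 215)) (.node (.node (.leaf 137) (.leaf 355)) (.leaf 277)))) (.node (.node (.node (.node (.leaf 15) (.leaf 232)) (.leaf 113)) (.node (.node (.leaf 118) (.leaf 341)) (.leaf 167))) (.node (.node (.node (.leaf 77) (.leaf 339)) (.leaf 233)) (.node (.leaf 88) (.leaf 199))))) (.node (.node (.node (.node (.node (.leaf 23) (.leaf 223)) (.leaf 107)) (.node (.node (.leaf 56) (.leaf 330)) (.leaf 159))) (.node (.node (.node (.leaf 68) (.leaf 334)) (.leaf 224)) (.node (.leaf 148) (.leaf 187)))) (.node (.node (.node (.node (.leaf 20) (.leaf 241)) (.leaf 207)) (.node (.node (.leaf 69) (.leaf 337)) (.leaf 271))) (.node (.node (.node (.leaf 44) (.leaf 283)) (.leaf 179)) (.node (.leaf 94) (.leaf 208)))))))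

def sixNext7 : Janko.Tree (ℕ) :=
  (.node (.node (.node (.node (.node (.node (.node (.leaf 7) (.leaf 302)) (.leaf 173)) (.node (.node (.leaf 94) (.leaf 349)) (.leaf 151))) (.node (.node (.node (.leaf 53) (.leaf 324)) (.leaf 65)) (.node (.node (.leaf 71) (.leaf 356)) (.leaf 275)))) (.node (.node (.node (.node (.leaf 30) (.leaf 135)) (.leaf 137)) (.node (.node (.leaf 113) (.leaf 336)) (.leaf 260))) (.node (.node (.node (.leaf 34) (.leaf 265)) (.leaf 110)) (.node (.leaf 85) (.leaf 282))))) (.node (.node (.node (.node (.node (.leaf 19) (.leaf 190)) (.leaf 181)) (.node (.node (.leaf 104) (.leaf 346)) (.leaf 252))) (.node (.node (.node (.leaf 17) (.leaf 330)) (.leaf 129)) (.node (.leaf 62) (.leaf 283)))) (.node (.node (.node (.node (.leaf 42) (.leaf 236)) (.leaf 202)) (.node (.node (.leaf 124) (.leaf 305)) (.leaf 266))) (.node (.node (.node (.leaf 48) (.leaf 319)) (.leaf 145)) (.node (.leaf 163) (.leaf 116)))))) (.node (.node (.node (.node (.node (.node (.leaf 13) (.leaf 306)) (.leaf 177)) (.node (.node (.leaf 98) (.leaf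 325)) (.leaf 248))) (.node (.node (.node (.leaf 59) (.leaf 279)) (.leaf 158)) (.node (.node (.leaf 138) (.leaf 327)) (.leaf 278)))) (.node (.node (.node (.node (.leaf 36) (.leaf 247)) (.leaf 112)) (.node (.node (.leaf 77) (.leaf 287)) (.leaf 188))) (.node (.node (.node (.leaf 78) (.leaf 233)) (.leaf 234)) (.node (.leaf 143) (.leaf 292))))) (.node (.node (.node (.node (.node (.leaf 24) (.leaf 297)) (.leaf 185)) (.node (.node (.leaf 109) (.leaf 354)) (.leaf 194))) (.node (.node (.node (.leaf 69) (.leaf 299)) (.leaf 182)) (.node (.leaf 149) (.leaf 285)))) (.node (.node (.node (.node (.leaf 47) (.leaf 276)) (.leaf 63)) (.node (.node (.leaf 128) (.leaf 359)) (.leaf 217))) (.node (.node (.node (.leaf 88) (.leaf 249)) (.leaf 241)) (.node (.leaf 167) (.leaf 207)))))))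

def sixNext : Janko.Tree (ℕ) := (.node (.node (.node sixNext0 sixNext4) (.node sixNext2 sixNext6)) (.node (.node sixNext1 sixNext5) (.node sixNext3 sixNext7)))

def sixWord0 : Janko.Tree (ℕ) :=
  (.node (.node (.node (.node (.node (.node (.node (.leaf 1) (.leaf 4521260819157009)) (.leaf 1104076083457)) (.node (.node (.leaf 4311810321) (.leaf 76579889927426305)) (.leaf 18760686698768))) (.node (.node (.node (.leaf 16846865) (.leaf 4802735794880785)) (.leaf 17661175074832)) (.node (.node (.leaf 69004755217) (.leaf 18519084315267108880)) (.leaf 282647519629328)))) (.node (.node (.node (.node (.leaf 69889) (.leaf 4522360314069249)) (.leaf 1168516387073)) (.node (.node (.leaf 4564520977) (.leaf 1157707683287011600)) (.leaf 282578801197313))) (.node (.node (.node (.leaf 269549840) (.leaf 72340241557557264)) (.leaf 17665469976848)) (.node (.leaf 73283932432) (.leaf 299140446687489))))) (.node (.node (.node (.node (.node (.leaf 4353) (.leaf 4522295637840129)) (.leaf 1168500654337)) (.node (.node (.leaf 4312858881) (.leaf 76860333859344401))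 (.leaf 18760703414529))) (.node (.node (.node (.leaf 17891601) (.leaf 4803770866209025)) (.leaf 17665217335312)) (.node (.leaf 73031291137) (.leaf 299136168497409)))) (.node (.node (.node (.node (.leaf 1114385) (.leaf 4786243104735504)) (.leaf 1172543901713)) (.node (.node (.leaf 68988965121) (.leaf 1225261746164404240)) (.leaf 282643477364993))) (.node (.node (.node (.leaf 285282561) (.leaf 72357765025169680)) (.leaf 18696262127888)) (.node (.leaf 1103823441937) (.leaf 300171254628625)))))) (.node (.node (.node (.node (.node (.node (.leaf 272) (.leaf 4521264845750529)) (.leaf 1104076148753)) (.node (.node (.leaf 4312797200) (.leaf 76843837142663441)) (.leaf 18760702427408))) (.node (.node (.node (.leaf 17830145) (.leaf 4802740074057985)) (.leaf 17661190803713)) (.node (.node (.leaf 69005742097) (.leaf 19604468314111279376)) (.leaf 299136167510288)))) (.node (.node (.node (.node (.leaf 1052929) (.leaf 4786178680164624)) (.leaf 1172542918672)) (.node (.node (.leaf 4580249857) (.leaf 1157724244428263440)) (.leaf 282579052859409)))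 (.node (.node (.node (.leaf 285278480) (.leaf 72356734231973904)) (.leaf 18696010469648)) (.node (.leaf 73299722512) (.leaf 300170987241729))))) (.node (.node (.node (.node (.node (.leaf 65808) (.leaf 4522295889498369)) (.leaf 1168500658193)) (.node (.node (.leaf 4564517121) (.leaf 1157443800244748545)) (.leaf 18764729946128))) (.node (.node (.node (.leaf 269488145) (.leaf 72340237515292945)) (.leaf 17665218318353)) (.node (.leaf 73032274192) (.leaf 299140195029008)))) (.node (.node (.node (.node (.leaf 16843009) (.leaf 4786243120464144)) (.leaf 1172795560208)) (.node (.node (.leaf 68989026577) (.leaf 1225279269631954961)) (.leaf 282643477368849))) (.node (.node (.node (.leaf 286265616) (.leaf 76579889675768065)) (.leaf 18696277917968)) (.node (.leaf 1103824425217) (.leaf 300235663413265)))))))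

def sixWord1 : Janko.Tree (ℕ) :=
  (.node (.node (.node (.node (.node (.node (.node (.leaf 16) (.leaf 4521264844705808)) (.leaf 1104076083472)) (.node (.node (.leaf 4311814160) (.leaf 76579889943220240)) (.leaf 18760686698769))) (.node (.node (.node (.leaf 16847105) (.leaf 4802735795867664)) (.leaf 17661175074833)) (.node (.node (.leaf 69004759056) (.leaf 18519100803915976720)) (.leaf 282647519629569)))) (.node (.node (.node (.node (.leaf 69904) (.leaf 4522360314073105)) (.leaf 1168517369872)) (.node (.node (.leaf 4580245776) (.leaf 1157707747711582481)) (.leaf 282579052794113))) (.node (.node (.node (.leaf 269549841) (.leaf 72356730205438224)) (.leaf 17665470038273)) (.node (.leaf 73283993857) (.leaf 300170987180049))))) (.node (.node (.node (.node (.node (.leaf 4368) (.leaf 4522295637840144)) (.leaf 1168500654352)) (.node (.node (.leaf 4312858896) (.leaf 1157442769704194305)) (.leaf 18764728963088))) (.node (.node (.node (.leaf 17895440) (.leaf 72340173106512144)) (.leaf 17665217335313)) (.node (.leaf 73032273936)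 (.leaf 299140194045968)))) (.node (.node (.node (.node (.leaf 1118224) (.leaf 4786243104735505)) (.leaf 1172543963393)) (.node (.node (.leaf 68988965136) (.leaf 1225278234813272080)) (.leaf 282643477365008))) (.node (.node (.node (.leaf 286265360) (.leaf 72357765276766465)) (.leaf 18696262189313)) (.node (.leaf 1103823442177) (.leaf 300171254632464)))))) (.node (.node (.node (.node (.node (.node (.leaf 273) (.leaf 4521264845750544)) (.leaf 1104091873552)) (.node (.node (.leaf 4312797201) (.leaf 76843841184927760)) (.leaf 18760702427409))) (.node (.node (.node (.leaf 17830160) (.leaf 4803770614550545)) (.leaf 17661191786512)) (.node (.node (.leaf 69005742337) (.leaf 19672005815831695376)) (.leaf 299136167510289)))) (.node (.node (.node (.node (.leaf 1052944) (.leaf 4786178695954704)) (.leaf 1172542918673)) (.node (.node (.leaf 4581232656) (.leaf 1157724244428263441)) (.leaf 282579068584208))) (.node (.node (.node (.leaf 285278481) (.leaf 72356734231973905)) (.leaf 18696010531073)) (.node (.leaf 73299722513) (.leaf 300170987241744)))))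 (.node (.node (.node (.node (.node (.leaf 65809) (.leaf 4522295905288464)) (.leaf 1168516382992)) (.node (.node (.leaf 4564517136) (.leaf 1157443800244748560)) (.leaf 18764729946129))) (.node (.node (.node (.leaf 269488385) (.leaf 72340237515296784)) (.leaf 17665218380033)) (.node (.leaf 73032335617) (.leaf 299140195029009)))) (.node (.node (.node (.node (.leaf 16843024) (.leaf 4786243121451265)) (.leaf 1172795621633)) (.node (.node (.leaf 68989030416) (.leaf 1229500363489480961)) (.leaf 282643493093648))) (.node (.node (.node (.leaf 286327041) (.leaf 76579889675768080)) (.leaf 18696277917969)) (.node (.leaf 1103824425232) (.leaf 300235679138064)))))))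

def sixWord2 : Janko.Tree (ℕ) :=
  (.node (.node (.node (.node (.node (.node (.node (.leaf 17) (.leaf 4521264844705809)) (.leaf 1104076144897)) (.node (.node (.leaf 4311814161) (.leaf 76579954351997185)) (.leaf 18760686702608))) (.node (.node (.node (.leaf 17829904) (.leaf 4802739821416464)) (.leaf 17661190799632)) (.node (.node (.leaf 69004759297) (.leaf 18519101838734659601)) (.leaf 282647520612368)))) (.node (.node (.node (.node (.leaf 1052688) (.leaf 4522360329797904)) (.leaf 1168517369873)) (.node (.node (.leaf 4580245777) (.leaf 1157707751753846800)) (.leaf 282579052794128))) (.node (.node (.node (.leaf 269553680) (.leaf 72356730205438225)) (.leaf 18696010469393)) (.node (.leaf 73283997712) (.leaf 300170987180289))))) (.node (.node (.node (.node (.node (.leaf 4369) (.leaf 4522295637901569)) (.leaf 1168500654353)) (.node (.node (.leaf 4564455681) (.leaf 1157443800244687105)) (.leaf 18764728963089))) (.node (.node (.node (.leaf 17895441) (.leaf 72340173106512145)) (.leaf 17665217335553)) (.node (.leaf 73032273937)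 (.leaf 299140194045969)))) (.node (.node (.node (.node (.leaf 1118225) (.leaf 4786243104739344)) (.leaf 1172543963408)) (.node (.node (.leaf 68989026561) (.leaf 1225278238838820880)) (.leaf 282643477365009))) (.node (.node (.node (.leaf 286265361) (.leaf 76578858882633985)) (.leaf 18696262193168)) (.node (.leaf 1103824424976) (.leaf 300235663409409)))))) (.node (.node (.node (.node (.node (.node (.leaf 4112) (.leaf 4521265097347329)) (.leaf 1104091873553)) (.node (.node (.leaf 4312797441) (.leaf 76860329832808720)) (.leaf 18760703414288))) (.node (.node (.node (.leaf 17891585) (.leaf 4803770614550800)) (.leaf 17661191786513)) (.node (.node (.leaf 73031290896) (.leaf 19672005815831695377)) (.leaf 299136168497168)))) (.node (.node (.node (.node (.leaf 1114369) (.leaf 4786178695954705)) (.leaf 1172542918913)) (.node (.node (.leaf 4581232657) (.leaf 1225261742122143760)) (.leaf 282579068584209))) (.node (.node (.node (.leaf 285282320) (.leaf 72356734484615425)) (.leaf 18696010531088)) (.node (.leaf 73299726352) (.leaf 300171238838529)))))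 (.node (.node (.node (.node (.node (.leaf 69648) (.leaf 4522295905288465)) (.leaf 1168516382993)) (.node (.node (.leaf 4564517137) (.leaf 1157443800512139280)) (.leaf 282578801135873))) (.node (.node (.node (.leaf 269488400) (.leaf 72340237515296785)) (.leaf 17665218380048)) (.node (.leaf 73032335632) (.leaf 299140195090689)))) (.node (.node (.node (.node (.leaf 16843025) (.leaf 4786247146999824)) (.leaf 17661175070992)) (.node (.node (.leaf 68989030417) (.leaf 1229501394282615056)) (.leaf 282643494080529))) (.node (.node (.node (.leaf 286327056) (.leaf 76579889675829505)) (.leaf 18696277921808)) (.node (.leaf 1103824486657) (.leaf 300235679138065)))))))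

def sixWord3 : Janko.Tree (ℕ) :=
  (.node (.node (.node (.node (.node (.node (.node (.leaf 257) (.leaf 4521264844706049)) (.leaf 1104076148752)) (.node (.node (.leaf 4311814401) (.leaf 76843772718092560)) (.leaf 18760686702609))) (.node (.node (.node (.leaf 17829905) (.leaf 4802739821416465)) (.leaf 17661190799633)) (.node (.node (.leaf 69005742096) (.leaf 18523322932592185601)) (.leaf 282647520612369)))) (.node (.node (.node (.node (.leaf 1052689) (.leaf 4522360329797905)) (.leaf 1168517370113)) (.node (.node (.leaf 4580249616) (.leaf 1157724240401727760)) (.leaf 282579052859408))) (.node (.node (.node (.leaf 269553681) (.leaf 72356730206425104)) (.leaf 18696010469633)) (.node (.leaf 73283997713) (.leaf 300170987180304))))) (.node (.node (.node (.node (.node (.leaf 65793) (.leaf 4522295637901584)) (.leaf 1168500658192)) (.node (.node (.leaf 4564455696) (.leaf 1157443800244687120)) (.leaf 18764728963329))) (.node (.node (.node (.leaf 269488144) (.leaf 72340237515292944)) (.leaf 17665218318352)) (.node (.leaf 73032274177)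 (.leaf 299140194046209)))) (.node (.node (.node (.node (.leaf 1118465) (.leaf 4786243104739345)) (.leaf 1172795560193)) (.node (.node (.leaf 68989026576) (.leaf 1225278238838820881)) (.leaf 282643477368848))) (.node (.node (.node (.leaf 286265601) (.leaf 76578859135275265)) (.leaf 18696262193169)) (.node (.leaf 1103824424977) (.leaf 300235663409425)))))) (.node (.node (.node (.node (.node (.node (.leaf 4113) (.leaf 4522295637839889)) (.leaf 1104091877392)) (.node (.node (.leaf 4312797456) (.leaf 76860333859344400)) (.leaf 18760703414289))) (.node (.node (.node (.leaf 17891600) (.leaf 4803770614612240)) (.leaf 17661191786753)) (.node (.node (.leaf 73031290897) (.leaf 19672023343341506577)) (.leaf 299136168497169)))) (.node (.node (.node (.node (.leaf 1114384) (.leaf 4786178695958544)) (.leaf 1172543901712)) (.node (.node (.leaf 4581232897) (.leaf 1225261742122143761)) (.leaf 282579068588048))) (.node (.node (.node (.leaf 285282321) (.leaf 72357765025107985)) (.leaf 18696262127873)) (.node (.leaf 1103823441936) (.leaf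 300171254628624))))) (.node (.node (.node (.node (.node (.leaf 69649) (.leaf 4522295905292304)) (.leaf 1168516386832)) (.node (.node (.leaf 4564520976) (.leaf 1157443864920916225)) (.leaf 282578801135888))) (.node (.node (.node (.leaf 269549825) (.leaf 72340237532008705)) (.leaf 17665469976833)) (.node (.leaf 73283932417) (.leaf 299140195090704)))) (.node (.node (.node (.node (.leaf 16846864) (.leaf 4802735794880784)) (.leaf 17661175070993)) (.node (.node (.leaf 69004755216) (.leaf 1229501458958844161)) (.leaf 282643494080769))) (.node (.node (.node (.leaf 4311810320) (.leaf 76579889675829520)) (.leaf 18760686698753)) (.node (.leaf 1103824486672) (.leaf 4521260819157008)))))))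

def sixWord : Janko.Tree (ℕ) := (.node (.node sixWord0 sixWord2) (.node sixWord1 sixWord3))

def sixPar0 : Janko.Tree (ℕ) :=
  (.node (.node (.node (.node (.node (.node (.node (.leaf 0) (.leaf 3329)) (.leaf 1521)) (.node (.node (.leaf 705) (.leaf 4545)) (.leaf 2384))) (.node (.node (.node (.leaf 321) (.leaf 3857)) (.leaf 1936)) (.node (.node (.leaf 1105) (.leaf 5264)) (.leaf 2800)))) (.node (.node (.node (.node (.leaf 145) (.leaf 3585)) (.leaf 1729)) (.node (.node (.leaf 897) (.leaf 4896)) (.leaf 2561))) (.node (.node (.node (.leaf 512) (.leaf 4192)) (.leaf 2144)) (.node (.leaf 1312) (.leaf 3009))))) (.node (.node (.node (.node (.node (.leaf 65) (.leaf 3473)) (.leaf 1633)) (.node (.node (.leaf 801) (.leaf 4737)) (.leaf 2465))) (.node (.node (.node (.leaf 417) (.leaf 4049)) (.leaf 2048)) (.node (.leaf 1201) (.leaf 2913)))) (.node (.node (.node (.node (.leaf 241) (.leaf 3744)) (.leaf 1809)) (.node (.node (.leaf 1009) (.leaf 5040)) (.leaf 2689))) (.node (.node (.node (.leaf 593) (.leaf 4368)) (.leaf 2272)) (.node (.leaf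 1409) (.leaf 3185)))))) (.node (.node (.node (.node (.node (.node (.leaf 32) (.leaf 3377)) (.leaf 1569)) (.node (.node (.leaf 752) (.leaf 4657)) (.leaf 2432))) (.node (.node (.node (.leaf 369) (.leaf 3953)) (.leaf 2001)) (.node (.node (.leaf 1153) (.leaf 5568)) (.leaf 2848)))) (.node (.node (.node (.node (.leaf 193) (.leaf 3664)) (.leaf 1776)) (.node (.node (.leaf 961) (.leaf 5008)) (.leaf 2625))) (.node (.node (.node (.leaf 560) (.leaf 4288)) (.leaf 2208)) (.node (.leaf 1376) (.leaf 3105))))) (.node (.node (.node (.node (.node (.leaf 112) (.leaf 3537)) (.leaf 1665)) (.node (.node (.leaf 865) (.leaf 4817)) (.leaf 2512))) (.node (.node (.node (.leaf 449) (.leaf 4129)) (.leaf 2081)) (.node (.leaf 1248) (.leaf 2960)))) (.node (.node (.node (.node (.leaf 289) (.leaf 3792)) (.leaf 1872)) (.node (.node (.leaf 1057) (.leaf 5153)) (.leaf 2721))) (.node (.node (.node (.leaf 640) (.leaf 4481)) (.leaf 2336)) (.node (.leaf 1457) (.leaf 3249)))))))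

def sixPar1 : Janko.Tree (ℕ) :=
  (.node (.node (.node (.node (.node (.node (.node (.leaf 0) (.leaf 3344)) (.leaf 1536)) (.node (.node (.leaf 720) (.leaf 4560)) (.leaf 2385))) (.node (.node (.node (.leaf 337) (.leaf 3904)) (.leaf 1937)) (.node (.node (.leaf 1120) (.leaf 5312)) (.leaf 2817)))) (.node (.node (.node (.node (.leaf 160) (.leaf 3601)) (.leaf 1744)) (.node (.node (.leaf 928) (.leaf 4945)) (.leaf 2593))) (.node (.node (.node (.leaf 513) (.leaf 4208)) (.leaf 2161)) (.node (.leaf 1329) (.leaf 3057))))) (.node (.node (.node (.node (.node (.leaf 80) (.leaf 3488)) (.leaf 1648)) (.node (.node (.leaf 816) (.leaf 4753)) (.leaf 2480))) (.node (.node (.node (.leaf 432) (.leaf 4096)) (.leaf 2049)) (.node (.leaf 1216) (.leaf 2928)))) (.node (.node (.node (.node (.leaf 256) (.leaf 3745)) (.leaf 1825)) (.node (.node (.leaf 1024) (.leaf 5088)) (.leaf 2704))) (.node (.node (.node (.leaf 608) (.leaf 4385)) (.leaf 2289)) (.node (.leaf 1425) (.leaf 3200)))))) (.node (.node (.node (.node (.node (.node (.leaf 33) (.leaf 3392))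 (.leaf 1600)) (.node (.node (.leaf 753) (.leaf 4672)) (.leaf 2433))) (.node (.node (.node (.leaf 384) (.leaf 4001)) (.leaf 2016)) (.node (.node (.leaf 1169) (.leaf 5584)) (.leaf 2849)))) (.node (.node (.node (.node (.leaf 208) (.leaf 3696)) (.leaf 1777)) (.node (.node (.leaf 976) (.leaf 5009)) (.leaf 2656))) (.node (.node (.node (.leaf 561) (.leaf 4289)) (.leaf 2225)) (.node (.leaf 1377) (.leaf 3120))))) (.node (.node (.node (.node (.node (.leaf 113) (.leaf 3552)) (.leaf 1696)) (.node (.node (.leaf 880) (.leaf 4832)) (.leaf 2513))) (.node (.node (.node (.leaf 465) (.leaf 4144)) (.leaf 2097)) (.node (.leaf 1265) (.leaf 2961)))) (.node (.node (.node (.node (.leaf 304) (.leaf 3825)) (.leaf 1889)) (.node (.node (.leaf 1072) (.leaf 5169)) (.leaf 2752))) (.node (.node (.node (.leaf 657) (.leaf 4496)) (.leaf 2337)) (.node (.leaf 1472) (.leaf 3280)))))))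

def sixPar2 : Janko.Tree (ℕ) :=
  (.node (.node (.node (.node (.node (.node (.node (.leaf 1) (.leaf 3345)) (.leaf 1553)) (.node (.node (.leaf 721) (.leaf 4577)) (.leaf 2400))) (.node (.node (.node (.leaf 352) (.leaf 3936)) (.leaf 1968)) (.node (.node (.leaf 1137) (.leaf 5361)) (.leaf 2832)))) (.node (.node (.node (.node (.leaf 176) (.leaf 3632)) (.leaf 1745)) (.node (.node (.leaf 929) (.leaf 4960)) (.leaf 2608))) (.node (.node (.node (.leaf 528) (.leaf 4209)) (.leaf 2177)) (.node (.leaf 1344) (.leaf 3073))))) (.node (.node (.node (.node (.node (.leaf 81) (.leaf 3505)) (.leaf 1649)) (.node (.node (.leaf 833) (.leaf 4785)) (.leaf 2481))) (.node (.node (.node (.leaf 433) (.leaf 4097)) (.leaf 2065)) (.node (.leaf 1217) (.leaf 2929)))) (.node (.node (.node (.node (.leaf 257) (.leaf 3760)) (.leaf 1840)) (.node (.node (.leaf 1041) (.leaf 5120)) (.leaf 2705))) (.node (.node (.node (.leaf 609) (.leaf 4417)) (.leaf 2304)) (.node (.leaf 1440) (.leaf 3217)))))) (.node (.node (.node (.node (.node (.node (.leaf 48) (.leaf 3409))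 (.leaf 1601)) (.node (.node (.leaf 769) (.leaf 4688)) (.leaf 2448))) (.node (.node (.node (.leaf 401) (.leaf 4016)) (.leaf 2017)) (.node (.node (.leaf 1184) (.leaf 5585)) (.leaf 2896)))) (.node (.node (.node (.node (.leaf 225) (.leaf 3697)) (.leaf 1793)) (.node (.node (.leaf 977) (.leaf 5024)) (.leaf 2657))) (.node (.node (.node (.leaf 576) (.leaf 4305)) (.leaf 2240)) (.node (.leaf 1392) (.leaf 3137))))) (.node (.node (.node (.node (.node (.leaf 128) (.leaf 3553)) (.leaf 1697)) (.node (.node (.leaf 881) (.leaf 4848)) (.leaf 2529))) (.node (.node (.node (.leaf 480) (.leaf 4145)) (.leaf 2112)) (.node (.leaf 1280) (.leaf 2977)))) (.node (.node (.node (.node (.leaf 305) (.leaf 3840)) (.leaf 1920)) (.node (.node (.leaf 1073) (.leaf 5184)) (.leaf 2769))) (.node (.node (.node (.leaf 672) (.leaf 4513)) (.leaf 2352)) (.node (.leaf 1489) (.leaf 3281)))))))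

def sixPar3 : Janko.Tree (ℕ) :=
  (.node (.node (.node (.node (.node (.node (.node (.leaf 17) (.leaf 3361)) (.leaf 1568)) (.node (.node (.leaf 737) (.leaf 4608)) (.leaf 2401))) (.node (.node (.node (.leaf 353) (.leaf 3937)) (.leaf 1969)) (.node (.node (.leaf 1152) (.leaf 5377)) (.leaf 2833)))) (.node (.node (.node (.node (.leaf 177) (.leaf 3633)) (.leaf 1761)) (.node (.node (.leaf 944) (.leaf 4976)) (.leaf 2624))) (.node (.node (.node (.leaf 529) (.leaf 4256)) (.leaf 2193)) (.node (.leaf 1345) (.leaf 3088))))) (.node (.node (.node (.node (.node (.leaf 97) (.leaf 3520)) (.leaf 1664)) (.node (.node (.leaf 848) (.leaf 4800)) (.leaf 2497))) (.node (.node (.node (.leaf 448) (.leaf 4128)) (.leaf 2080)) (.node (.leaf 1233) (.leaf 2945)))) (.node (.node (.node (.node (.leaf 273) (.leaf 3761)) (.leaf 1857)) (.node (.node (.leaf 1056) (.leaf 5121)) (.leaf 2720))) (.node (.node (.node (.leaf 625) (.leaf 4433)) (.leaf 2305)) (.node (.leaf 1441) (.leaf 3233)))))) (.node (.node (.node (.node (.node (.node (.leaf 49) (.leaf 3457))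 (.leaf 1616)) (.node (.node (.leaf 784) (.leaf 4736)) (.leaf 2449))) (.node (.node (.node (.leaf 416) (.leaf 4032)) (.leaf 2033)) (.node (.node (.leaf 1185) (.leaf 5617)) (.leaf 2897)))) (.node (.node (.node (.node (.leaf 240) (.leaf 3712)) (.leaf 1808)) (.node (.node (.leaf 993) (.leaf 5025)) (.leaf 2672))) (.node (.node (.node (.leaf 577) (.leaf 4353)) (.leaf 2257)) (.node (.leaf 1408) (.leaf 3184))))) (.node (.node (.node (.node (.node (.leaf 129) (.leaf 3568)) (.leaf 1712)) (.node (.node (.leaf 896) (.leaf 4865)) (.leaf 2544))) (.node (.node (.node (.leaf 497) (.leaf 4177)) (.leaf 2129)) (.node (.leaf 1297) (.leaf 2992)))) (.node (.node (.node (.node (.leaf 320) (.leaf 3856)) (.leaf 1921)) (.node (.node (.leaf 1104) (.leaf 5201)) (.leaf 2785))) (.node (.node (.node (.leaf 704) (.leaf 4528)) (.leaf 2369)) (.node (.leaf 1504) (.leaf 3328)))))))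

def sixPar : Janko.Tree (ℕ) := (.node (.node sixPar0 sixPar2) (.node sixPar1 sixPar3))

def sixL0 : Janko.Tree (List ℤ) :=
  (.node (.node (.node (.node (.node (.node (.node (.leaf []) (.leaf [])) (.leaf [])) (.node (.node (.leaf []) (.leaf [])) (.leaf [1]))) (.node (.node (.node (.leaf []) (.leaf [])) (.leaf [1])) (.node (.node (.leaf []) (.leaf [1])) (.leaf [1])))) (.node (.node (.node (.node (.leaf []) (.leaf [1078, 120, -766, 335])) (.leaf [])) (.node (.node (.leaf []) (.leaf [1])) (.leaf []))) (.node (.node (.node (.leaf [1]) (.leaf [1])) (.leaf [1])) (.node (.node (.leaf [1]) (.leaf [1981, 260, -1376, 586])) (.leaf []))))) (.node (.node (.node (.node (.node (.leaf []) (.leaf [2313, 120, -1754, 829])) (.leaf [-502, -50, 362, -161])) (.node (.node (.leaf []) (.leaf [-785, -65, 576, -262])) (.leaf []))) (.node (.node (.node (.leaf []) (.leaf [])) (.leaf [1])) (.node (.node (.leaf []) (.leaf [1, 0, 0, 0])) (.leaf [])))) (.node (.node (.node (.node (.leaf []) (.leaf [1])) (.leaf [])) (.node (.node (.leaf []) (.leaf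 [1])) (.leaf [-277, -35, 194, -83]))) (.node (.node (.node (.leaf []) (.leaf [1])) (.leaf [1])) (.node (.leaf []) (.leaf [-25, -10, 12, -2])))))) (.node (.node (.node (.node (.node (.node (.leaf [1]) (.leaf [-599, -59, 433, -193])) (.leaf [])) (.node (.node (.leaf [1]) (.leaf [])) (.leaf [1]))) (.node (.node (.node (.leaf []) (.leaf [])) (.leaf [])) (.node (.node (.leaf []) (.leaf [1])) (.leaf [1])))) (.node (.node (.node (.node (.leaf []) (.leaf [1])) (.leaf [1])) (.node (.node (.leaf []) (.leaf [1])) (.leaf []))) (.node (.node (.node (.leaf [1]) (.leaf [1])) (.leaf [1])) (.node (.leaf [1]) (.leaf []))))) (.node (.node (.node (.node (.node (.leaf [1]) (.leaf [])) (.leaf [])) (.node (.node (.leaf []) (.leaf [])) (.leaf [1]))) (.node (.node (.node (.leaf []) (.leaf [])) (.leaf [])) (.node (.node (.leaf [1]) (.leaf [4, 3, -1, 1])) (.leaf [1])))) (.node (.node (.node (.node (.leaf []) (.leaf [1])) (.leaf [1])) (.node (.node (.leaf []) (.leaf [])) (.leaf []))) (.node (.node (.node (.leaf [1]) (.leaf [-1792, -145, 1318, -601]))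 (.leaf [1])) (.node (.leaf [428, 35, -314, 143]) (.leaf [])))))))

def sixL1 : Janko.Tree (List ℤ) :=
  (.node (.node (.node (.node (.node (.node (.node (.leaf []) (.leaf [])) (.leaf [])) (.node (.node (.leaf [0, 1]) (.leaf [])) (.leaf []))) (.node (.node (.node (.leaf []) (.leaf [0, 1])) (.leaf [])) (.node (.node (.leaf [0, 1]) (.leaf [693, 69, -499, 222])) (.leaf [])))) (.node (.node (.node (.node (.leaf []) (.leaf [])) (.leaf [])) (.node (.node (.leaf [2, 2, -1]) (.leaf [])) (.leaf []))) (.node (.node (.node (.leaf []) (.leaf [])) (.leaf [])) (.node (.node (.leaf []) (.leaf [16, 5, -8, 4])) (.leaf [-25, 4, 23, -13]))))) (.node (.node (.node (.node (.node (.leaf []) (.leaf [-2, -2, 0, 1])) (.leaf [])) (.node (.node (.leaf []) (.leaf [584, 28, -446, 212])) (.leaf [37, 8, -24, 9]))) (.node (.node (.node (.leaf [0, 1]) (.leaf [])) (.leaf [])) (.node (.node (.leaf []) (.leaf [0, 1, 0, 0])) (.leaf [-255, -13, 193, -91])))) (.node (.node (.node (.node (.leaf [0, 1]) (.leaf [])) (.leaf [])) (.node (.node (.leaf []) (.leaf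 [-38, -1, 29, -14])) (.leaf []))) (.node (.node (.node (.leaf []) (.leaf [8, -6, -11, 8])) (.leaf [])) (.node (.leaf []) (.leaf [0, 1])))))) (.node (.node (.node (.node (.node (.node (.leaf []) (.leaf [-52, -7, 36, -15])) (.leaf [2, 2, -1])) (.node (.node (.leaf [-2, -1, 1]) (.leaf [0, 1])) (.leaf []))) (.node (.node (.node (.leaf []) (.leaf [35, 4, -25, 11])) (.leaf [])) (.node (.node (.leaf []) (.leaf [1270, 168, -882, 374])) (.leaf [-180, -26, 123, -51])))) (.node (.node (.node (.node (.leaf []) (.leaf [])) (.leaf [])) (.node (.node (.leaf []) (.leaf [-520, -6, 411, -203])) (.leaf [2, 2, -1]))) (.node (.node (.node (.leaf []) (.leaf [-5, -1, 3, -1])) (.leaf [-383, -36, 277, -124])) (.node (.leaf []) (.leaf [-16, -2, 10, -4]))))) (.node (.node (.node (.node (.node (.leaf []) (.leaf [])) (.leaf [2, 2, -1])) (.node (.node (.leaf []) (.leaf [-5, 8, 10, -8])) (.leaf [-2, -1, 1]))) (.node (.node (.node (.leaf []) (.leaf [0, 1])) (.leaf [5, 4, -1, -1])) (.node (.node (.leaf []) (.leaf [1112, 108, -803, 360])) (.leaf [-2,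 -1, 1])))) (.node (.node (.node (.node (.leaf []) (.leaf [])) (.leaf [])) (.node (.node (.leaf [0, 1]) (.leaf [1690, 157, -1227, 551])) (.leaf [2, 2, -1]))) (.node (.node (.node (.leaf []) (.leaf [158, 38, -96, 33])) (.leaf [])) (.node (.leaf [-2, -2, 0, 1]) (.leaf [2, 2, -1])))))))

def sixL2 : Janko.Tree (List ℤ) :=
  (.node (.node (.node (.node (.node (.node (.node (.leaf [1]) (.leaf [1])) (.leaf [1])) (.node (.node (.leaf [1]) (.leaf [1])) (.leaf []))) (.node (.node (.node (.leaf []) (.leaf [1])) (.leaf [-89, 1, 73, -37])) (.node (.node (.leaf [1]) (.leaf [1])) (.leaf [21, 5, -12, 4])))) (.node (.node (.node (.node (.leaf [1]) (.leaf [])) (.leaf [1])) (.node (.node (.leaf [1]) (.leaf [-517, -40, 382, -175])) (.leaf []))) (.node (.node (.node (.leaf []) (.leaf [1])) (.leaf [])) (.node (.node (.leaf []) (.leaf [31, 10, -16, 6])) (.leaf []))))) (.node (.node (.node (.node (.node (.leaf [1]) (.leaf [1])) (.leaf [1])) (.node (.node (.leaf [1]) (.leaf [])) (.leaf [1]))) (.node (.node (.node (.leaf [1]) (.leaf [1])) (.leaf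 [])) (.node (.node (.leaf [1]) (.leaf [0, 0, 1, 0])) (.leaf [1])))) (.node (.node (.node (.node (.leaf [1]) (.leaf [])) (.leaf [])) (.node (.node (.leaf [1]) (.leaf [1])) (.leaf [1]))) (.node (.node (.node (.leaf [1]) (.leaf [])) (.leaf [])) (.node (.leaf []) (.leaf [1])))))) (.node (.node (.node (.node (.node (.node (.leaf []) (.leaf [1])) (.leaf [1])) (.node (.node (.leaf []) (.leaf [1])) (.leaf [5, 4, -1, -1]))) (.node (.node (.node (.leaf [1]) (.leaf [])) (.leaf [1])) (.node (.node (.leaf []) (.leaf [1])) (.leaf [])))) (.node (.node (.node (.node (.leaf [1]) (.leaf [1])) (.leaf [])) (.node (.node (.leaf [1]) (.leaf [-2737, -220, 2014, -919])) (.leaf [1]))) (.node (.node (.node (.leaf []) (.leaf [-34, 55, 72, -58])) (.leaf [])) (.node (.leaf []) (.leaf [1]))))) (.node (.node (.node (.node (.node (.leaf []) (.leaf [1])) (.leaf [1])) (.node (.node (.leaf [1]) (.leaf [1])) (.leaf []))) (.node (.node (.node (.leaf []) (.leaf [1])) (.leaf [551, 41, -407, 187])) (.node (.node (.leaf []) (.leaf [467, 62, -324, 139])) (.leaf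 [])))) (.node (.node (.node (.node (.leaf [1]) (.leaf [])) (.leaf [])) (.node (.node (.leaf [1]) (.leaf [])) (.leaf [1]))) (.node (.node (.node (.leaf []) (.leaf [1])) (.leaf [85, 10, -60, 26])) (.node (.leaf [1]) (.leaf [1])))))))

def sixL3 : Janko.Tree (List ℤ) :=
  (.node (.node (.node (.node (.node (.node (.node (.leaf []) (.leaf [-129, -6, 99, -47])) (.leaf [])) (.node (.node (.leaf []) (.leaf [145, 73, -58])) (.leaf [0, 1]))) (.node (.node (.node (.leaf []) (.leaf [-2, -1, 1])) (.leaf [2, 2, -1])) (.node (.node (.leaf []) (.leaf [-2, -1, 1])) (.leaf [])))) (.node (.node (.node (.node (.leaf []) (.leaf [2, 2, -1])) (.leaf [-2, -1, 1])) (.node (.node (.leaf []) (.leaf [0, 1])) (.leaf []))) (.node (.node (.node (.leaf [0, 1]) (.leaf [-477, -51, 341, -150])) (.leaf [])) (.node (.node (.leaf []) (.leaf [-27, -1, 21, -8])) (.leaf []))))) (.node (.node (.node (.node (.node (.leaf []) (.leaf [-93, -16, 61, -24])) (.leaf [])) (.node (.node (.leaf []) (.leaf [970, 69, -721, 333])) (.leaf []))) (.node (.node (.node (.leaf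 []) (.leaf [])) (.leaf [])) (.node (.node (.leaf [-2, -1, 1]) (.leaf [0, 0, 0, 1])) (.leaf [-260, -16, 195, -91])))) (.node (.node (.node (.node (.leaf []) (.leaf [0, 1])) (.leaf [])) (.node (.node (.leaf []) (.leaf [-2, -1, 1])) (.leaf []))) (.node (.node (.node (.leaf [-2, -1, 1]) (.leaf [])) (.leaf [])) (.node (.leaf []) (.leaf [47, 4, -35, 16])))))) (.node (.node (.node (.node (.node (.node (.leaf []) (.leaf [])) (.leaf [])) (.node (.node (.leaf []) (.leaf [])) (.leaf [0, 1]))) (.node (.node (.node (.leaf []) (.leaf [4, 2, -3, 1])) (.leaf [-2, -1, 1])) (.node (.node (.leaf [-3, -2, 0, 1]) (.leaf [505, 3, -402, 200])) (.leaf [0, 1])))) (.node (.node (.node (.node (.leaf []) (.leaf [])) (.leaf [])) (.node (.node (.leaf [-2, -1, 1]) (.leaf [-805, -72, 586, -264])) (.leaf []))) (.node (.node (.node (.leaf [0, 1]) (.leaf [])) (.leaf [])) (.node (.leaf [0, 1]) (.leaf [327, 43, -228, 97]))))) (.node (.node (.node (.node (.node (.leaf [0, 1]) (.leaf [])) (.leaf [])) (.node (.node (.leaf []) (.leaf [-682, -37, 516, -243]))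 (.leaf []))) (.node (.node (.node (.leaf []) (.leaf [])) (.leaf [])) (.node (.node (.leaf []) (.leaf [1082, 167, -732, 301])) (.leaf [2, 1, -2, 1])))) (.node (.node (.node (.node (.leaf []) (.leaf [32, 3, -24, 11])) (.leaf [])) (.node (.node (.leaf []) (.leaf [])) (.leaf []))) (.node (.node (.node (.leaf []) (.leaf [-198, -31, 133, -54])) (.leaf [0, 1])) (.node (.leaf []) (.leaf [])))))))

def sixL4 : Janko.Tree (List ℤ) :=
  (.node (.node (.node (.node (.node (.node (.node (.leaf []) (.leaf [])) (.leaf [])) (.node (.node (.leaf []) (.leaf [113, -5, -94, 49])) (.leaf [1]))) (.node (.node (.node (.leaf [1]) (.leaf [1])) (.leaf [1])) (.node (.node (.leaf []) (.leaf [-324, -74, 201, -71])) (.leaf [1])))) (.node (.node (.node (.node (.leaf [1]) (.leaf [1])) (.leaf [])) (.node (.node (.leaf []) (.leaf [1])) (.leaf [1]))) (.node (.node (.node (.leaf [1]) (.leaf [])) (.leaf [])) (.node (.node (.leaf [1]) (.leaf [8, 4, -3, 2])) (.leaf [553, 40, -410, 189]))))) (.node (.node (.node (.node (.node (.leaf []) (.leaf [])) (.leaf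 [])) (.node (.node (.leaf []) (.leaf [8, 65, 46, -49])) (.leaf [0, -1, -1, 1]))) (.node (.node (.node (.leaf []) (.leaf [-19, -5, 12, -4])) (.leaf [])) (.node (.node (.leaf []) (.leaf [-1, 0, 2])) (.leaf [])))) (.node (.node (.node (.node (.leaf []) (.leaf [1])) (.leaf [1])) (.node (.node (.leaf []) (.leaf [1])) (.leaf []))) (.node (.node (.node (.leaf []) (.leaf [])) (.leaf [1])) (.node (.leaf [1]) (.leaf [-1407, -115, 1034, -471])))))) (.node (.node (.node (.node (.node (.node (.leaf [1]) (.leaf [])) (.leaf [])) (.node (.node (.leaf []) (.leaf [1])) (.leaf [1]))) (.node (.node (.node (.leaf []) (.leaf [1])) (.leaf [])) (.node (.node (.leaf [1]) (.leaf [-590, 59, 519, -283])) (.leaf [1])))) (.node (.node (.node (.node (.leaf []) (.leaf [591, 65, -420, 184])) (.leaf [])) (.node (.node (.leaf []) (.leaf [1])) (.leaf [16, 0, -12, 6]))) (.node (.node (.node (.leaf [1]) (.leaf [])) (.leaf [1])) (.node (.leaf [1]) (.leaf []))))) (.node (.node (.node (.node (.node (.leaf [1]) (.leaf [5, -10, -12, 10])) (.leaf [])) (.node (.node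 (.leaf []) (.leaf [1])) (.leaf [3, 0, -2, 1]))) (.node (.node (.node (.leaf [1]) (.leaf [])) (.leaf [1])) (.node (.node (.leaf [1]) (.leaf [1100, 97, -802, 364])) (.leaf [-479, -29, 361, -169])))) (.node (.node (.node (.node (.leaf []) (.leaf [1])) (.leaf [1])) (.node (.node (.leaf []) (.leaf [1])) (.leaf []))) (.node (.node (.node (.leaf [1]) (.leaf [])) (.leaf [1])) (.node (.leaf []) (.leaf [440, 49, -313, 137])))))))

def sixL5 : Janko.Tree (List ℤ) :=
  (.node (.node (.node (.node (.node (.node (.node (.leaf []) (.leaf [])) (.leaf [])) (.node (.node (.leaf []) (.leaf [])) (.leaf []))) (.node (.node (.node (.leaf [-2, -1, 1]) (.leaf [-405, -101, 243, -81])) (.leaf [])) (.node (.node (.leaf []) (.leaf [0, -63, -51, 51])) (.leaf [-2, -1, 1])))) (.node (.node (.node (.node (.leaf []) (.leaf [])) (.leaf [])) (.node (.node (.leaf [0, 1]) (.leaf [1558, 120, -1150, 527])) (.leaf []))) (.node (.node (.node (.leaf []) (.leaf [0, 1])) (.leaf [])) (.node (.leaf []) (.leaf [2003, 173, -1464, 663]))))) (.node (.node (.node (.node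 (.node (.leaf [0, 1]) (.leaf [15, -2, -14, 8])) (.leaf [0, 1])) (.node (.node (.leaf []) (.leaf [-2, -2, 0, 1])) (.leaf []))) (.node (.node (.node (.leaf [1, 2, -1]) (.leaf [0, 1])) (.leaf [])) (.node (.node (.leaf []) (.leaf [-1, 0, 1, 1])) (.leaf [])))) (.node (.node (.node (.node (.leaf []) (.leaf [])) (.leaf [])) (.node (.node (.leaf []) (.leaf [30, 4, -21, 9])) (.leaf [0, 1]))) (.node (.node (.node (.leaf []) (.leaf [])) (.leaf [])) (.node (.leaf [-2, -1, 1]) (.leaf [])))))) (.node (.node (.node (.node (.node (.node (.leaf []) (.leaf [0, -1, -1, 1])) (.leaf [0, 1])) (.node (.node (.leaf [-2, -2, 0, 1]) (.leaf [145, -1, -117, 59])) (.leaf [235, 27, -167, 73]))) (.node (.node (.node (.leaf []) (.leaf [-443, -37, 324, -147])) (.leaf [])) (.node (.node (.leaf []) (.leaf [-75, 42, 93, -63])) (.leaf [-2, -1, 1])))) (.node (.node (.node (.node (.leaf []) (.leaf [0, 1])) (.leaf [])) (.node (.node (.leaf []) (.leaf [-488, -31, 365, -170])) (.leaf [0, 1]))) (.node (.node (.node (.leaf []) (.leaf [0, -1, -1, 1])) (.leaf []))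 (.node (.leaf []) (.leaf []))))) (.node (.node (.node (.node (.node (.leaf []) (.leaf [0, 1])) (.leaf [0, 1])) (.node (.node (.leaf [0, 1]) (.leaf [16, 3, -10, 4])) (.leaf [-37, -7, 24, -9]))) (.node (.node (.node (.leaf []) (.leaf [-95, 22, 93, -55])) (.leaf [])) (.node (.node (.leaf []) (.leaf [-113, 21, 107, -60])) (.leaf [-463, -57, 324, -139])))) (.node (.node (.node (.node (.leaf [0, 1]) (.leaf [])) (.leaf [])) (.node (.node (.leaf [2, 2, -1]) (.leaf [52, -51, -83, 62])) (.leaf []))) (.node (.node (.node (.leaf []) (.leaf [20, 3, -14, 6])) (.leaf [47, 4, -35, 16])) (.node (.leaf []) (.leaf [0, 1])))))))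

def sixL6 : Janko.Tree (List ℤ) :=
  (.node (.node (.node (.node (.node (.node (.node (.leaf []) (.leaf [])) (.leaf [1])) (.node (.node (.leaf []) (.leaf [1])) (.leaf []))) (.node (.node (.node (.leaf []) (.leaf [-460, -40, 336, -152])) (.leaf [])) (.node (.node (.leaf [1]) (.leaf [-1749, -149, 1281, -581])) (.leaf [])))) (.node (.node (.node (.node (.leaf []) (.leaf [585, 44, -433, 199])) (.leaf [])) (.node (.node (.leaf [1]) (.leaf [1])) (.leaf [1]))) (.node (.node (.node (.leaf []) (.leaf [1])) (.leaf [-2002, -175, 1462, -661])) (.node (.leaf []) (.leaf [1]))))) (.node (.node (.node (.node (.node (.leaf []) (.leaf [1])) (.leaf [1])) (.node (.node (.leaf [1]) (.leaf [1])) (.leaf [775, 70, -564, 254]))) (.node (.node (.node (.leaf [1]) (.leaf [1])) (.leaf [1])) (.node (.node (.leaf []) (.leaf [-156, 9, 132, -68])) (.leaf [])))) (.node (.node (.node (.node (.leaf []) (.leaf [])) (.leaf [])) (.node (.node (.leaf [1]) (.leaf [-489, -10, 384, -188])) (.leaf [1]))) (.node (.node (.node (.leaf []) (.leaf [])) (.leaf []))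 (.node (.leaf []) (.leaf [])))))) (.node (.node (.node (.node (.node (.node (.leaf []) (.leaf [])) (.leaf [1])) (.node (.node (.leaf [1]) (.leaf [1])) (.leaf []))) (.node (.node (.node (.leaf [1]) (.leaf [1])) (.leaf [])) (.node (.node (.leaf []) (.leaf [3265, 434, -2265, 959])) (.leaf [])))) (.node (.node (.node (.node (.leaf [1]) (.leaf [1])) (.leaf [1])) (.node (.node (.leaf []) (.leaf [103, -15, -94, 53])) (.leaf [1]))) (.node (.node (.node (.leaf []) (.leaf [])) (.leaf [])) (.node (.leaf [1]) (.leaf [1]))))) (.node (.node (.node (.node (.node (.leaf []) (.leaf [1])) (.leaf [1])) (.node (.node (.leaf [1]) (.leaf [-2, 0, 2, -1])) (.leaf [1]))) (.node (.node (.node (.leaf []) (.leaf [])) (.leaf [])) (.node (.node (.leaf []) (.leaf [1343, 191, -921, 386])) (.leaf [1])))) (.node (.node (.node (.node (.leaf [1]) (.leaf [1])) (.leaf [])) (.node (.node (.leaf [1]) (.leaf [188, 10, -142, 67])) (.leaf []))) (.node (.node (.node (.leaf [1]) (.leaf [1])) (.leaf [-52, 10, 50, -29])) (.node (.leaf [1]) (.leaf [1])))))))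

def sixL7 : Janko.Tree (List ℤ) :=
  (.node (.node (.node (.node (.node (.node (.node (.leaf []) (.leaf [])) (.leaf [])) (.node (.node (.leaf []) (.leaf [])) (.leaf [2, 2, -1]))) (.node (.node (.node (.leaf []) (.leaf [])) (.leaf [0, 1])) (.node (.node (.leaf [-2, -1, 1]) (.leaf [-4065, -446, 2895, -1269])) (.leaf [])))) (.node (.node (.node (.node (.leaf []) (.leaf [0, 1])) (.leaf [262, 23, -192, 87])) (.node (.node (.leaf []) (.leaf [565, 59, -405, 179])) (.leaf []))) (.node (.node (.node (.leaf [2, 2, -1]) (.leaf [-2, -1, 1])) (.leaf [-42, -12, 24, -7])) (.node (.leaf [2, 2, -1]) (.leaf [-18, -1, 13, -6]))))) (.node (.node (.node (.node (.node (.leaf []) (.leaf [198, 33, -132, 53])) (.leaf [])) (.node (.node (.leaf []) (.leaf [10, -1, -9, 5])) (.leaf []))) (.node (.node (.node (.leaf [-1, -1, 1]) (.leaf [])) (.leaf [-2, -1, 1])) (.node (.node (.leaf [-2, -2, 0, 1]) (.leaf [-5, 0, 5, -1])) (.leaf [])))) (.node (.node (.node (.node (.leaf []) (.leaf [2, 2, -1])) (.leaf [])) (.node (.node (.leaf []) (.leaf [-113, 2,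 91, -46])) (.leaf []))) (.node (.node (.node (.leaf [2, 3, 0, -1]) (.leaf [0, -1, -1, 1])) (.leaf [2, 2, -1])) (.node (.leaf []) (.leaf [0, 1])))))) (.node (.node (.node (.node (.node (.node (.leaf []) (.leaf [])) (.leaf [])) (.node (.node (.leaf []) (.leaf [-435, -41, 315, -141])) (.leaf []))) (.node (.node (.node (.leaf []) (.leaf [172, 8, -132, 63])) (.leaf [52, -7, -48, 27])) (.node (.node (.leaf []) (.leaf [1380, 117, -1011, 459])) (.leaf [])))) (.node (.node (.node (.node (.leaf []) (.leaf [-12, 4, 13, -8])) (.leaf [-2, -1, 1])) (.node (.node (.leaf [-38, -7, 24, -9]) (.leaf [545, -28, -459, 241])) (.leaf [13, -1, -11, 6]))) (.node (.node (.node (.leaf []) (.leaf [-1420, -133, 1029, -461])) (.leaf [])) (.node (.leaf [-2, 0, 2, -1]) (.leaf []))))) (.node (.node (.node (.node (.node (.leaf []) (.leaf [192, -1, -155, 78])) (.leaf [])) (.node (.node (.leaf []) (.leaf [])) (.leaf [23, 9, -11, 2]))) (.node (.node (.node (.leaf []) (.leaf [-3, -2, 0, 1])) (.leaf [-5, -6, -1, 3])) (.node (.node (.leaf []) (.leaf [938,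 85, -682, 309])) (.leaf [])))) (.node (.node (.node (.node (.leaf []) (.leaf [85, 179, 75, -109])) (.leaf [0, 1])) (.node (.node (.leaf []) (.leaf [])) (.leaf [-508, -57, 360, -157]))) (.node (.node (.node (.leaf []) (.leaf [-52, -7, 36, -15])) (.leaf [])) (.node (.leaf []) (.leaf [-2, -1, 1])))))))

def sixL : Janko.Tree (List ℤ) := (.node (.node (.node sixL0 sixL4) (.node sixL2 sixL6)) (.node (.node sixL1 sixL5) (.node sixL3 sixL7)))

def sixKind0 : Janko.Tree (ℕ) :=
  (.node (.node (.node (.node (.node (.node (.node (.leaf 0) (.leaf 0)) (.leaf 0)) (.node (.node (.leaf 0) (.leaf 0)) (.leaf 3))) (.node (.node (.node (.leaf 0) (.leaf 0)) (.leaf 3)) (.node (.node (.leaf 0) (.leaf 3)) (.leaf 3)))) (.node (.node (.node (.node (.leaf 0) (.leaf 3)) (.leaf 0)) (.node (.node (.leaf 0) (.leaf 3)) (.leaf 0))) (.node (.node (.node (.leaf 3) (.leaf 3)) (.leaf 3)) (.node (.node (.leaf 3) (.leaf 3)) (.leaf 0))))) (.node (.node (.node (.node (.node (.leaf 0) (.leaf 3)) (.leaf 3)) (.node (.node (.leaf 0) (.leaf 3)) (.leaf 0))) (.node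 (.node (.node (.leaf 0) (.leaf 0)) (.leaf 3)) (.node (.node (.leaf 0) (.leaf 2)) (.leaf 0)))) (.node (.node (.node (.node (.leaf 0) (.leaf 3)) (.leaf 0)) (.node (.node (.leaf 0) (.leaf 3)) (.leaf 3))) (.node (.node (.node (.leaf 0) (.leaf 3)) (.leaf 3)) (.node (.leaf 0) (.leaf 3)))))) (.node (.node (.node (.node (.node (.node (.leaf 3) (.leaf 3)) (.leaf 0)) (.node (.node (.leaf 3) (.leaf 0)) (.leaf 3))) (.node (.node (.node (.leaf 0) (.leaf 0)) (.leaf 0)) (.node (.node (.leaf 0) (.leaf 3)) (.leaf 3)))) (.node (.node (.node (.node (.leaf 0) (.leaf 3)) (.leaf 3)) (.node (.node (.leaf 0) (.leaf 3)) (.leaf 0))) (.node (.node (.node (.leaf 3) (.leaf 3)) (.leaf 3)) (.node (.leaf 3) (.leaf 0))))) (.node (.node (.node (.node (.node (.leaf 3) (.leaf 0)) (.leaf 0)) (.node (.node (.leaf 0) (.leaf 0)) (.leaf 3))) (.node (.node (.node (.leaf 0) (.leaf 0)) (.leaf 0)) (.node (.node (.leaf 3) (.leaf 3)) (.leaf 3)))) (.node (.node (.node (.node (.leaf 0) (.leaf 3)) (.leaf 3)) (.node (.node (.leaf 0) (.leaf 0)) (.leaf 0))) (.node (.node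 (.node (.leaf 3) (.leaf 3)) (.leaf 3)) (.node (.leaf 3) (.leaf 0)))))))

def sixKind1 : Janko.Tree (ℕ) :=
  (.node (.node (.node (.node (.node (.node (.node (.leaf 0) (.leaf 0)) (.leaf 0)) (.node (.node (.leaf 3) (.leaf 0)) (.leaf 0))) (.node (.node (.node (.leaf 0) (.leaf 3)) (.leaf 0)) (.node (.node (.leaf 3) (.leaf 3)) (.leaf 0)))) (.node (.node (.node (.node (.leaf 0) (.leaf 0)) (.leaf 0)) (.node (.node (.leaf 3) (.leaf 0)) (.leaf 0))) (.node (.node (.node (.leaf 0) (.leaf 0)) (.leaf 0)) (.node (.node (.leaf 0) (.leaf 3)) (.leaf 3))))) (.node (.node (.node (.node (.node (.leaf 0) (.leaf 3)) (.leaf 0)) (.node (.node (.leaf 0) (.leaf 3)) (.leaf 3))) (.node (.node (.node (.leaf 3) (.leaf 0)) (.leaf 0)) (.node (.node (.leaf 0) (.leaf 2)) (.leaf 3)))) (.node (.node (.node (.node (.leaf 3) (.leaf 0)) (.leaf 0)) (.node (.node (.leaf 0) (.leaf 3)) (.leaf 0))) (.node (.node (.node (.leaf 0) (.leaf 3)) (.leaf 0)) (.node (.leaf 0) (.leaf 3)))))) (.node (.node (.node (.node (.node (.node (.leaf 0) (.leaf 3)) (.leaf 3)) (.node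 (.node (.leaf 3) (.leaf 3)) (.leaf 0))) (.node (.node (.node (.leaf 0) (.leaf 3)) (.leaf 0)) (.node (.node (.leaf 0) (.leaf 3)) (.leaf 3)))) (.node (.node (.node (.node (.leaf 0) (.leaf 0)) (.leaf 0)) (.node (.node (.leaf 0) (.leaf 3)) (.leaf 3))) (.node (.node (.node (.leaf 0) (.leaf 3)) (.leaf 3)) (.node (.leaf 0) (.leaf 3))))) (.node (.node (.node (.node (.node (.leaf 0) (.leaf 0)) (.leaf 3)) (.node (.node (.leaf 0) (.leaf 3)) (.leaf 3))) (.node (.node (.node (.leaf 0) (.leaf 3)) (.leaf 3)) (.node (.node (.leaf 0) (.leaf 3)) (.leaf 3)))) (.node (.node (.node (.node (.leaf 0) (.leaf 0)) (.leaf 0)) (.node (.node (.leaf 3) (.leaf 3)) (.leaf 3))) (.node (.node (.node (.leaf 0) (.leaf 3)) (.leaf 0)) (.node (.leaf 3) (.leaf 3)))))))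

def sixKind2 : Janko.Tree (ℕ) :=
  (.node (.node (.node (.node (.node (.node (.node (.leaf 3) (.leaf 3)) (.leaf 3)) (.node (.node (.leaf 3) (.leaf 3)) (.leaf 0))) (.node (.node (.node (.leaf 0) (.leaf 3)) (.leaf 3)) (.node (.node (.leaf 3) (.leaf 3)) (.leaf 3)))) (.node (.node (.node (.node (.leaf 3) (.leaf 0)) (.leaf 3)) (.node (.node (.leaf 3) (.leaf 3)) (.leaf 0))) (.node (.node (.node (.leaf 0) (.leaf 3)) (.leaf 0)) (.node (.node (.leaf 0) (.leaf 3)) (.leaf 0))))) (.node (.node (.node (.node (.node (.leaf 3) (.leaf 3)) (.leaf 3)) (.node (.node (.leaf 3) (.leaf 0)) (.leaf 3))) (.node (.node (.node (.leaf 3) (.leaf 3)) (.leaf 0)) (.node (.node (.leaf 3) (.leaf 2)) (.leaf 3)))) (.node (.node (.node (.node (.leaf 3) (.leaf 0)) (.leaf 0)) (.node (.node (.leaf 3) (.leaf 3)) (.leaf 3))) (.node (.node (.node (.leaf 3) (.leaf 0)) (.leaf 0)) (.node (.leaf 0) (.leaf 3)))))) (.node (.node (.node (.node (.node (.node (.leaf 0) (.leaf 3)) (.leaf 3)) (.node (.node (.leaf 0) (.leaf 3)) (.leaf 3))) (.node (.node (.node (.leaf 3)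 (.leaf 0)) (.leaf 3)) (.node (.node (.leaf 0) (.leaf 3)) (.leaf 0)))) (.node (.node (.node (.node (.leaf 3) (.leaf 3)) (.leaf 0)) (.node (.node (.leaf 3) (.leaf 3)) (.leaf 3))) (.node (.node (.node (.leaf 0) (.leaf 3)) (.leaf 0)) (.node (.leaf 0) (.leaf 3))))) (.node (.node (.node (.node (.node (.leaf 0) (.leaf 3)) (.leaf 3)) (.node (.node (.leaf 3) (.leaf 3)) (.leaf 0))) (.node (.node (.node (.leaf 0) (.leaf 3)) (.leaf 3)) (.node (.node (.leaf 0) (.leaf 3)) (.leaf 0)))) (.node (.node (.node (.node (.leaf 3) (.leaf 0)) (.leaf 0)) (.node (.node (.leaf 3) (.leaf 0)) (.leaf 3))) (.node (.node (.node (.leaf 0) (.leaf 3)) (.leaf 3)) (.node (.leaf 3) (.leaf 3)))))))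

def sixKind3 : Janko.Tree (ℕ) :=
  (.node (.node (.node (.node (.node (.node (.node (.leaf 0) (.leaf 3)) (.leaf 0)) (.node (.node (.leaf 0) (.leaf 3)) (.leaf 3))) (.node (.node (.node (.leaf 0) (.leaf 3)) (.leaf 3)) (.node (.node (.leaf 0) (.leaf 3)) (.leaf 0)))) (.node (.node (.node (.node (.leaf 0) (.leaf 3)) (.leaf 3)) (.node (.node (.leaf 0) (.leaf 3)) (.leaf 0))) (.node (.node (.node (.leaf 3) (.leaf 3)) (.leaf 0)) (.node (.node (.leaf 0) (.leaf 3)) (.leaf 0))))) (.node (.node (.node (.node (.node (.leaf 0) (.leaf 3)) (.leaf 0)) (.node (.node (.leaf 0) (.leaf 3)) (.leaf 0))) (.node (.node (.node (.leaf 0) (.leaf 0)) (.leaf 0)) (.node (.node (.leaf 3) (.leaf 2)) (.leaf 3)))) (.node (.node (.node (.node (.leaf 0) (.leaf 3)) (.leaf 0)) (.node (.node (.leaf 0) (.leaf 3)) (.leaf 0))) (.node (.node (.node (.leaf 3) (.leaf 0)) (.leaf 0)) (.node (.leaf 0) (.leaf 3)))))) (.node (.node (.node (.node (.node (.node (.leaf 0) (.leaf 0)) (.leaf 0)) (.node (.node (.leaf 0) (.leaf 0)) (.leaf 3))) (.node (.node (.node (.leaf 0)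 (.leaf 3)) (.leaf 3)) (.node (.node (.leaf 3) (.leaf 3)) (.leaf 3)))) (.node (.node (.node (.node (.leaf 0) (.leaf 0)) (.leaf 0)) (.node (.node (.leaf 3) (.leaf 3)) (.leaf 0))) (.node (.node (.node (.leaf 3) (.leaf 0)) (.leaf 0)) (.node (.leaf 3) (.leaf 3))))) (.node (.node (.node (.node (.node (.leaf 3) (.leaf 0)) (.leaf 0)) (.node (.node (.leaf 0) (.leaf 3)) (.leaf 0))) (.node (.node (.node (.leaf 0) (.leaf 0)) (.leaf 0)) (.node (.node (.leaf 0) (.leaf 3)) (.leaf 3)))) (.node (.node (.node (.node (.leaf 0) (.leaf 3)) (.leaf 0)) (.node (.node (.leaf 0) (.leaf 0)) (.leaf 0))) (.node (.node (.node (.leaf 0) (.leaf 3)) (.leaf 3)) (.node (.leaf 0) (.leaf 0)))))))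

def sixKind4 : Janko.Tree (ℕ) :=
  (.node (.node (.node (.node (.node (.node (.node (.leaf 0) (.leaf 0)) (.leaf 0)) (.node (.node (.leaf 0) (.leaf 3)) (.leaf 3))) (.node (.node (.node (.leaf 3) (.leaf 3)) (.leaf 3)) (.node (.node (.leaf 0) (.leaf 3)) (.leaf 3)))) (.node (.node (.node (.node (.leaf 3) (.leaf 3)) (.leaf 0)) (.node (.node (.leaf 0) (.leaf 3)) (.leaf 3))) (.node (.node (.node (.leaf 3) (.leaf 0)) (.leaf 0)) (.node (.node (.leaf 3) (.leaf 3)) (.leaf 3))))) (.node (.node (.node (.node (.node (.leaf 0) (.leaf 0)) (.leaf 0)) (.node (.node (.leaf 0) (.leaf 3)) (.leaf 3))) (.node (.node (.node (.leaf 0) (.leaf 3)) (.leaf 0)) (.node (.node (.leaf 0) (.leaf 3)) (.leaf 0)))) (.node (.node (.node (.node (.leaf 0) (.leaf 3)) (.leaf 3)) (.node (.node (.leaf 0) (.leaf 3)) (.leaf 0))) (.node (.node (.node (.leaf 0) (.leaf 0)) (.leaf 3)) (.node (.leaf 3) (.leaf 3)))))) (.node (.node (.node (.node (.node (.node (.leaf 3) (.leaf 0)) (.leaf 0)) (.node (.node (.leaf 0) (.leaf 3)) (.leaf 3))) (.node (.node (.node (.leaf 0)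 (.leaf 3)) (.leaf 0)) (.node (.node (.leaf 3) (.leaf 3)) (.leaf 3)))) (.node (.node (.node (.node (.leaf 0) (.leaf 3)) (.leaf 0)) (.node (.node (.leaf 0) (.leaf 3)) (.leaf 3))) (.node (.node (.node (.leaf 3) (.leaf 0)) (.leaf 3)) (.node (.leaf 3) (.leaf 0))))) (.node (.node (.node (.node (.node (.leaf 3) (.leaf 3)) (.leaf 0)) (.node (.node (.leaf 0) (.leaf 3)) (.leaf 3))) (.node (.node (.node (.leaf 3) (.leaf 0)) (.leaf 3)) (.node (.node (.leaf 3) (.leaf 3)) (.leaf 3)))) (.node (.node (.node (.node (.leaf 0) (.leaf 3)) (.leaf 3)) (.node (.node (.leaf 0) (.leaf 3)) (.leaf 0))) (.node (.node (.node (.leaf 3) (.leaf 0)) (.leaf 3)) (.node (.leaf 0) (.leaf 3)))))))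

def sixKind5 : Janko.Tree (ℕ) :=
  (.node (.node (.node (.node (.node (.node (.node (.leaf 0) (.leaf 0)) (.leaf 0)) (.node (.node (.leaf 0) (.leaf 0)) (.leaf 0))) (.node (.node (.node (.leaf 3) (.leaf 3)) (.leaf 0)) (.node (.node (.leaf 0) (.leaf 3)) (.leaf 3)))) (.node (.node (.node (.node (.leaf 0) (.leaf 0)) (.leaf 0)) (.node (.node (.leaf 3) (.leaf 3)) (.leaf 0))) (.node (.node (.node (.leaf 0) (.leaf 3)) (.leaf 0)) (.node (.leaf 0) (.leaf 3))))) (.node (.node (.node (.node (.node (.leaf 3) (.leaf 3)) (.leaf 3)) (.node (.node (.leaf 0) (.leaf 3)) (.leaf 0))) (.node (.node (.node (.leaf 3) (.leaf 3)) (.leaf 0)) (.node (.node (.leaf 0) (.leaf 3)) (.leaf 0)))) (.node (.node (.node (.node (.leaf 0) (.leaf 0)) (.leaf 0)) (.node (.node (.leaf 0) (.leaf 3)) (.leaf 3))) (.node (.node (.node (.leaf 0) (.leaf 0)) (.leaf 0)) (.node (.leaf 3) (.leaf 0)))))) (.node (.node (.node (.node (.node (.node (.leaf 0) (.leaf 3)) (.leaf 3)) (.node (.node (.leaf 3) (.leaf 3)) (.leaf 3))) (.node (.node (.node (.leaf 0) (.leaf 3)) (.leaf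 0)) (.node (.node (.leaf 0) (.leaf 3)) (.leaf 3)))) (.node (.node (.node (.node (.leaf 0) (.leaf 3)) (.leaf 0)) (.node (.node (.leaf 0) (.leaf 3)) (.leaf 3))) (.node (.node (.node (.leaf 0) (.leaf 3)) (.leaf 0)) (.node (.leaf 0) (.leaf 0))))) (.node (.node (.node (.node (.node (.leaf 0) (.leaf 3)) (.leaf 3)) (.node (.node (.leaf 3) (.leaf 3)) (.leaf 3))) (.node (.node (.node (.leaf 0) (.leaf 3)) (.leaf 0)) (.node (.node (.leaf 0) (.leaf 3)) (.leaf 3)))) (.node (.node (.node (.node (.leaf 3) (.leaf 0)) (.leaf 0)) (.node (.node (.leaf 3) (.leaf 3)) (.leaf 0))) (.node (.node (.node (.leaf 0) (.leaf 3)) (.leaf 3)) (.node (.leaf 0) (.leaf 3)))))))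

def sixKind6 : Janko.Tree (ℕ) :=
  (.node (.node (.node (.node (.node (.node (.node (.leaf 0) (.leaf 0)) (.leaf 3)) (.node (.node (.leaf 0) (.leaf 3)) (.leaf 0))) (.node (.node (.node (.leaf 0) (.leaf 3)) (.leaf 0)) (.node (.node (.leaf 3) (.leaf 3)) (.leaf 0)))) (.node (.node (.node (.node (.leaf 0) (.leaf 3)) (.leaf 0)) (.node (.node (.leaf 3) (.leaf 3)) (.leaf 3))) (.node (.node (.node (.leaf 0) (.leaf 3)) (.leaf 3)) (.node (.leaf 0) (.leaf 3))))) (.node (.node (.node (.node (.node (.leaf 0) (.leaf 3)) (.leaf 3)) (.node (.node (.leaf 3) (.leaf 3)) (.leaf 3))) (.node (.node (.node (.leaf 3) (.leaf 3)) (.leaf 3)) (.node (.node (.leaf 0) (.leaf 3)) (.leaf 0)))) (.node (.node (.node (.node (.leaf 0) (.leaf 0)) (.leaf 0)) (.node (.node (.leaf 3) (.leaf 3)) (.leaf 3))) (.node (.node (.node (.leaf 0) (.leaf 0)) (.leaf 0)) (.node (.leaf 0) (.leaf 0)))))) (.node (.node (.node (.node (.node (.node (.leaf 0) (.leaf 0)) (.leaf 3)) (.node (.node (.leaf 3) (.leaf 3)) (.leaf 0))) (.node (.node (.node (.leaf 3) (.leaf 3)) (.leaf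 0)) (.node (.node (.leaf 0) (.leaf 3)) (.leaf 0)))) (.node (.node (.node (.node (.leaf 3) (.leaf 3)) (.leaf 3)) (.node (.node (.leaf 0) (.leaf 3)) (.leaf 3))) (.node (.node (.node (.leaf 0) (.leaf 0)) (.leaf 0)) (.node (.leaf 3) (.leaf 3))))) (.node (.node (.node (.node (.node (.leaf 0) (.leaf 3)) (.leaf 3)) (.node (.node (.leaf 3) (.leaf 3)) (.leaf 3))) (.node (.node (.node (.leaf 0) (.leaf 0)) (.leaf 0)) (.node (.node (.leaf 0) (.leaf 3)) (.leaf 3)))) (.node (.node (.node (.node (.leaf 3) (.leaf 3)) (.leaf 0)) (.node (.node (.leaf 3) (.leaf 3)) (.leaf 0))) (.node (.node (.node (.leaf 3) (.leaf 3)) (.leaf 3)) (.node (.leaf 3) (.leaf 3)))))))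

def sixKind7 : Janko.Tree (ℕ) :=
  (.node (.node (.node (.node (.node (.node (.node (.leaf 0) (.leaf 0)) (.leaf 0)) (.node (.node (.leaf 0) (.leaf 0)) (.leaf 3))) (.node (.node (.node (.leaf 0) (.leaf 0)) (.leaf 3)) (.node (.node (.leaf 3) (.leaf 3)) (.leaf 0)))) (.node (.node (.node (.node (.leaf 0) (.leaf 3)) (.leaf 3)) (.node (.node (.leaf 0) (.leaf 3)) (.leaf 0))) (.node (.node (.node (.leaf 3) (.leaf 3)) (.leaf 3)) (.node (.leaf 3) (.leaf 3))))) (.node (.node (.node (.node (.node (.leaf 0) (.leaf 3)) (.leaf 0)) (.node (.node (.leaf 0) (.leaf 3)) (.leaf 0))) (.node (.node (.node (.leaf 3) (.leaf 0)) (.leaf 3)) (.node (.node (.leaf 3) (.leaf 3)) (.leaf 0)))) (.node (.node (.node (.node (.leaf 0) (.leaf 3)) (.leaf 0)) (.node (.node (.leaf 0) (.leaf 3)) (.leaf 0))) (.node (.node (.node (.leaf 3) (.leaf 3)) (.leaf 3)) (.node (.leaf 0) (.leaf 3)))))) (.node (.node (.node (.node (.node (.node (.leaf 0) (.leaf 0)) (.leaf 0)) (.node (.node (.leaf 0) (.leaf 3)) (.leaf 0))) (.node (.node (.node (.leaf 0) (.leaf 3)) (.leaf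 3)) (.node (.node (.leaf 0) (.leaf 3)) (.leaf 0)))) (.node (.node (.node (.node (.leaf 0) (.leaf 3)) (.leaf 3)) (.node (.node (.leaf 3) (.leaf 3)) (.leaf 3))) (.node (.node (.node (.leaf 0) (.leaf 3)) (.leaf 0)) (.node (.leaf 3) (.leaf 0))))) (.node (.node (.node (.node (.node (.leaf 0) (.leaf 3)) (.leaf 0)) (.node (.node (.leaf 0) (.leaf 0)) (.leaf 3))) (.node (.node (.node (.leaf 0) (.leaf 3)) (.leaf 3)) (.node (.node (.leaf 0) (.leaf 3)) (.leaf 0)))) (.node (.node (.node (.node (.leaf 0) (.leaf 3)) (.leaf 3)) (.node (.node (.leaf 0) (.leaf 0)) (.leaf 3))) (.node (.node (.node (.leaf 0) (.leaf 3)) (.leaf 0)) (.node (.leaf 0) (.leaf 3)))))))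

def sixKind : Janko.Tree (ℕ) := (.node (.node (.node sixKind0 sixKind4) (.node sixKind2 sixKind6)) (.node (.node sixKind1 sixKind5) (.node sixKind3 sixKind7)))

def sixRank0 : Janko.Tree (ℕ) :=
  (.node (.node (.node (.node (.node (.node (.node (.leaf 0) (.leaf 296)) (.leaf 167)) (.node (.node (.leaf 88) (.leaf 345)) (.leaf 436))) (.node (.node (.node (.leaf 47) (.leaf 322)) (.leaf 449)) (.node (.node (.leaf 128) (.leaf 363)) (.leaf 422)))) (.node (.node (.node (.node (.leaf 24) (.leaf 672)) (.leaf 185)) (.node (.node (.leaf 109) (.leaf 372)) (.leaf 254))) (.node (.node (.node (.leaf 499) (.leaf 387)) (.leaf 443)) (.node (.node (.leaf 471) (.leaf 732)) (.leaf 285))))) (.node (.node (.node (.node (.node (.leaf 13) (.leaf 724)) (.leaf 702)) (.node (.node (.leaf 98) (.leaf 692)) (.leaf 248))) (.node (.node (.node (.leaf 59) (.leaf 326)) (.leaf 446)) (.node (.node (.leaf 138) (.leaf 359)) (.leaf 278)))) (.node (.node (.node (.node (.leaf 36) (.leaf 399)) (.leaf 195)) (.node (.node (.leaf 118) (.leaf 367)) (.leaf 675)))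 (.node (.node (.node (.leaf 78) (.leaf 383)) (.leaf 440)) (.node (.leaf 157) (.leaf 633)))))) (.node (.node (.node (.node (.node (.node (.leaf 517) (.leaf 669)) (.leaf 173)) (.node (.node (.leaf 490) (.leaf 349)) (.leaf 434))) (.node (.node (.node (.leaf 53) (.leaf 324)) (.leaf 210)) (.node (.node (.leaf 132) (.leaf 361)) (.leaf 420)))) (.node (.node (.node (.node (.leaf 30) (.leaf 402)) (.leaf 454)) (.node (.node (.leaf 113) (.leaf 369)) (.leaf 260))) (.node (.node (.node (.leaf 497) (.leaf 384)) (.leaf 442)) (.node (.leaf 469) (.leaf 288))))) (.node (.node (.node (.node (.node (.leaf 514) (.leaf 307)) (.leaf 181)) (.node (.node (.leaf 104) (.leaf 352)) (.leaf 431))) (.node (.node (.node (.leaf 62) (.leaf 330)) (.leaf 220)) (.node (.node (.leaf 473) (.leaf 597)) (.leaf 417)))) (.node (.node (.node (.node (.leaf 42) (.leaf 397)) (.leaf 451)) (.node (.node (.leaf 124) (.leaf 355)) (.leaf 266))) (.node (.node (.node (.leaf 494) (.leaf 727)) (.leaf 438)) (.node (.leaf 663) (.leaf 294)))))))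

def sixRank1 : Janko.Tree (ℕ) :=
  (.node (.node (.node (.node (.node (.node (.node (.leaf 1) (.leaf 297)) (.leaf 168)) (.node (.node (.leaf 549) (.leaf 346)) (.leaf 241))) (.node (.node (.node (.leaf 48) (.leaf 525)) (.leaf 207)) (.node (.node (.leaf 545) (.leaf 679)) (.leaf 271)))) (.node (.node (.node (.node (.leaf 25) (.leaf 310)) (.leaf 186)) (.node (.node (.leaf 587) (.leaf 354)) (.leaf 255))) (.node (.node (.node (.leaf 69) (.leaf 334)) (.leaf 224)) (.node (.node (.leaf 149) (.leaf 621)) (.leaf 638))))) (.node (.node (.node (.node (.node (.leaf 14) (.leaf 614)) (.leaf 177)) (.node (.node (.leaf 99) (.leaf 703)) (.leaf 626))) (.node (.node (.node (.leaf 552) (.leaf 327)) (.leaf 215)) (.node (.node (.leaf 139) (.leaf 519)) (.leaf 650)))) (.node (.node (.node (.node (.leaf 554) (.leaf 315)) (.leaf 196)) (.node (.node (.leaf 119) (.leaf 642)) (.leaf 262))) (.node (.node (.node (.leaf 79) (.leaf 635)) (.leaf 234)) (.node (.leaf 158) (.leaf 532)))))) (.node (.node (.node (.node (.node (.node (.leaf 7) (.leaf 683))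 (.leaf 581)) (.node (.node (.leaf 566) (.leaf 521)) (.leaf 245))) (.node (.node (.node (.leaf 54) (.leaf 630)) (.leaf 211)) (.node (.node (.leaf 133) (.leaf 726)) (.leaf 664)))) (.node (.node (.node (.node (.leaf 31) (.leaf 313)) (.leaf 190)) (.node (.node (.leaf 114) (.leaf 697)) (.leaf 591))) (.node (.node (.node (.leaf 73) (.leaf 603)) (.leaf 662)) (.node (.leaf 154) (.leaf 623))))) (.node (.node (.node (.node (.node (.leaf 19) (.leaf 308)) (.leaf 583)) (.node (.node (.leaf 105) (.leaf 636)) (.leaf 571))) (.node (.node (.node (.leaf 63) (.leaf 523)) (.leaf 632)) (.node (.node (.leaf 143) (.leaf 739)) (.leaf 563)))) (.node (.node (.node (.node (.leaf 43) (.leaf 319)) (.leaf 202)) (.node (.node (.leaf 546) (.leaf 728)) (.leaf 593))) (.node (.node (.node (.leaf 83) (.leaf 711)) (.leaf 239)) (.node (.leaf 610) (.leaf 572)))))))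

def sixRank2 : Janko.Tree (ℕ) :=
  (.node (.node (.node (.node (.node (.node (.node (.leaf 518) (.leaf 409)) (.leaf 463)) (.node (.node (.leaf 491) (.leaf 380)) (.leaf 242))) (.node (.node (.node (.leaf 49) (.leaf 394)) (.leaf 648)) (.node (.node (.leaf 477) (.leaf 362)) (.leaf 668)))) (.node (.node (.node (.node (.leaf 512) (.leaf 311)) (.leaf 455)) (.node (.node (.leaf 484) (.leaf 694)) (.leaf 256))) (.node (.node (.node (.leaf 70) (.leaf 386)) (.leaf 225)) (.node (.node (.leaf 150) (.leaf 731)) (.leaf 286))))) (.node (.node (.node (.node (.node (.leaf 515) (.leaf 407)) (.leaf 459)) (.node (.node (.leaf 488) (.leaf 351)) (.leaf 432))) (.node (.node (.node (.leaf 502) (.leaf 390)) (.leaf 216)) (.node (.node (.leaf 474) (.leaf 557)) (.leaf 418)))) (.node (.node (.node (.node (.leaf 508) (.leaf 316)) (.leaf 197)) (.node (.node (.leaf 481) (.leaf 366)) (.leaf 425))) (.node (.node (.node (.leaf 495) (.leaf 339)) (.leaf 235)) (.node (.leaf 159) (.leaf 412)))))) (.node (.node (.node (.node (.node (.node (.leaf 8) (.leaf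 408)) (.leaf 461)) (.node (.node (.leaf 94) (.leaf 378)) (.leaf 617))) (.node (.node (.node (.leaf 504) (.leaf 325)) (.leaf 447)) (.node (.node (.leaf 134) (.leaf 360)) (.leaf 275)))) (.node (.node (.node (.node (.leaf 510) (.leaf 401)) (.leaf 191)) (.node (.node (.leaf 482) (.leaf 722)) (.leaf 427))) (.node (.node (.node (.leaf 74) (.leaf 714)) (.leaf 229)) (.node (.leaf 155) (.leaf 414))))) (.node (.node (.node (.node (.node (.leaf 20) (.leaf 405)) (.leaf 457)) (.node (.node (.leaf 486) (.leaf 374)) (.leaf 252))) (.node (.node (.node (.leaf 64) (.leaf 388)) (.leaf 677)) (.node (.node (.leaf 144) (.leaf 738)) (.leaf 283)))) (.node (.node (.node (.node (.leaf 507) (.leaf 320)) (.leaf 203)) (.node (.node (.leaf 479) (.leaf 356)) (.leaf 423))) (.node (.node (.node (.leaf 84) (.leaf 382)) (.leaf 656)) (.node (.leaf 465) (.leaf 411)))))))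

def sixRank3 : Janko.Tree (ℕ) :=
  (.node (.node (.node (.node (.node (.node (.node (.leaf 2) (.leaf 655)) (.leaf 169)) (.node (.node (.leaf 89) (.leaf 709)) (.leaf 537))) (.node (.node (.node (.leaf 50) (.leaf 561)) (.leaf 590)) (.node (.node (.leaf 129) (.leaf 558)) (.leaf 272)))) (.node (.node (.node (.node (.leaf 26) (.leaf 580)) (.leaf 574)) (.node (.node (.leaf 110) (.leaf 520)) (.leaf 257))) (.node (.node (.node (.leaf 551) (.leaf 673)) (.leaf 226)) (.node (.node (.leaf 151) (.leaf 628)) (.leaf 287))))) (.node (.node (.node (.node (.node (.leaf 15) (.leaf 657)) (.leaf 178)) (.node (.node (.leaf 100) (.leaf 690)) (.leaf 249))) (.node (.node (.node (.leaf 60) (.leaf 328)) (.leaf 217)) (.node (.node (.leaf 575) (.leaf 595)) (.leaf 676)))) (.node (.node (.node (.node (.leaf 37) (.leaf 526)) (.leaf 198)) (.node (.node (.leaf 120) (.leaf 559)) (.leaf 263))) (.node (.node (.node (.leaf 573) (.leaf 340)) (.leaf 236)) (.node (.leaf 160) (.leaf 641)))))) (.node (.node (.node (.node (.node (.node (.leaf 9) (.leaf 302))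 (.leaf 174)) (.node (.node (.leaf 95) (.leaf 350)) (.leaf 536))) (.node (.node (.node (.leaf 55) (.leaf 609)) (.leaf 567)) (.node (.node (.leaf 615) (.leaf 698)) (.leaf 533)))) (.node (.node (.node (.node (.leaf 32) (.leaf 314)) (.leaf 192)) (.node (.node (.leaf 570) (.leaf 708)) (.leaf 261))) (.node (.node (.node (.leaf 550) (.leaf 336)) (.leaf 230)) (.node (.leaf 544) (.leaf 705))))) (.node (.node (.node (.node (.node (.leaf 555) (.leaf 309)) (.leaf 182)) (.node (.node (.leaf 106) (.leaf 689)) (.leaf 253))) (.node (.node (.node (.leaf 65) (.leaf 331)) (.leaf 221)) (.node (.node (.leaf 145) (.leaf 737)) (.leaf 607)))) (.node (.node (.node (.node (.leaf 44) (.leaf 682)) (.leaf 204)) (.node (.node (.leaf 125) (.leaf 357)) (.leaf 267))) (.node (.node (.node (.leaf 85) (.leaf 681)) (.leaf 538)) (.node (.leaf 163) (.leaf 295)))))))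

def sixRank4 : Janko.Tree (ℕ) :=
  (.node (.node (.node (.node (.node (.node (.node (.leaf 3) (.leaf 298)) (.leaf 170)) (.node (.node (.leaf 90) (.leaf 712)) (.leaf 435))) (.node (.node (.node (.leaf 505) (.leaf 393)) (.leaf 448)) (.node (.node (.leaf 130) (.leaf 717)) (.leaf 421)))) (.node (.node (.node (.node (.leaf 511) (.leaf 403)) (.leaf 187)) (.node (.node (.leaf 111) (.leaf 371)) (.leaf 429))) (.node (.node (.node (.leaf 498) (.leaf 335)) (.leaf 227)) (.node (.node (.leaf 470) (.leaf 608)) (.leaf 686))))) (.node (.node (.node (.node (.node (.leaf 16) (.leaf 306)) (.leaf 179)) (.node (.node (.leaf 101) (.leaf 718)) (.leaf 611))) (.node (.node (.node (.leaf 61) (.leaf 627)) (.leaf 218)) (.node (.node (.leaf 140) (.leaf 564)) (.leaf 279)))) (.node (.node (.node (.node (.leaf 38) (.leaf 398)) (.leaf 452)) (.node (.node (.leaf 121) (.leaf 365)) (.leaf 264))) (.node (.node (.node (.leaf 80) (.leaf 341)) (.leaf 439)) (.node (.leaf 466) (.leaf 701)))))) (.node (.node (.node (.node (.node (.node (.leaf 516) (.leaf 303))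 (.leaf 175)) (.node (.node (.leaf 96) (.leaf 377)) (.leaf 433))) (.node (.node (.node (.leaf 56) (.leaf 392)) (.leaf 212)) (.node (.node (.leaf 475) (.leaf 720)) (.leaf 419)))) (.node (.node (.node (.node (.leaf 33) (.leaf 670)) (.leaf 193)) (.node (.node (.leaf 115) (.leaf 368)) (.leaf 622))) (.node (.node (.node (.leaf 496) (.leaf 337)) (.leaf 441)) (.node (.leaf 468) (.leaf 289))))) (.node (.node (.node (.node (.node (.leaf 513) (.leaf 637)) (.leaf 183)) (.node (.node (.leaf 107) (.leaf 373)) (.leaf 613))) (.node (.node (.node (.leaf 500) (.leaf 332)) (.leaf 444)) (.node (.node (.leaf 472) (.leaf 736)) (.leaf 685)))) (.node (.node (.node (.node (.leaf 45) (.leaf 396)) (.leaf 450)) (.node (.node (.leaf 126) (.leaf 364)) (.leaf 268))) (.node (.node (.node (.leaf 493) (.leaf 344)) (.leaf 437)) (.node (.leaf 164) (.leaf 667)))))))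

def sixRank5 : Janko.Tree (ℕ) :=
  (.node (.node (.node (.node (.node (.node (.node (.leaf 4) (.leaf 299)) (.leaf 171)) (.node (.node (.leaf 91) (.leaf 347)) (.leaf 243))) (.node (.node (.node (.leaf 577) (.leaf 713)) (.leaf 208)) (.node (.node (.leaf 131) (.leaf 719)) (.leaf 579)))) (.node (.node (.node (.node (.leaf 27) (.leaf 312)) (.leaf 188)) (.node (.node (.leaf 547) (.leaf 696)) (.leaf 258))) (.node (.node (.node (.leaf 71) (.leaf 522)) (.leaf 228)) (.node (.leaf 152) (.leaf 700))))) (.node (.node (.node (.node (.node (.leaf 556) (.leaf 645)) (.leaf 542)) (.node (.node (.leaf 102) (.leaf 600)) (.leaf 250))) (.node (.node (.node (.leaf 589) (.leaf 524)) (.leaf 219)) (.node (.node (.leaf 141) (.leaf 599)) (.leaf 280)))) (.node (.node (.node (.node (.leaf 39) (.leaf 317)) (.leaf 199)) (.node (.node (.leaf 122) (.leaf 643)) (.leaf 534))) (.node (.node (.node (.leaf 81) (.leaf 342)) (.leaf 237)) (.node (.leaf 568) (.leaf 292)))))) (.node (.node (.node (.node (.node (.node (.leaf 10) (.leaf 598)) (.leaf 543)) (.node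 (.node (.leaf 612) (.leaf 654)) (.leaf 658))) (.node (.node (.node (.leaf 57) (.leaf 678)) (.leaf 213)) (.node (.node (.leaf 135) (.leaf 716)) (.leaf 576)))) (.node (.node (.node (.node (.leaf 34) (.leaf 527)) (.leaf 194)) (.node (.node (.leaf 116) (.leaf 680)) (.leaf 535))) (.node (.node (.node (.leaf 75) (.leaf 616)) (.leaf 231)) (.node (.leaf 156) (.leaf 290))))) (.node (.node (.node (.node (.node (.leaf 21) (.leaf 529)) (.leaf 541)) (.node (.node (.leaf 548) (.leaf 620)) (.leaf 640))) (.node (.node (.node (.leaf 66) (.leaf 691)) (.leaf 222)) (.node (.node (.leaf 146) (.leaf 735)) (.leaf 666)))) (.node (.node (.node (.node (.leaf 553) (.leaf 321)) (.leaf 205)) (.node (.node (.leaf 592) (.leaf 715)) (.leaf 269))) (.node (.node (.node (.leaf 86) (.leaf 624)) (.leaf 651)) (.node (.leaf 165) (.leaf 530)))))))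

def sixRank6 : Janko.Tree (ℕ) :=
  (.node (.node (.node (.node (.node (.node (.node (.leaf 5) (.leaf 300)) (.leaf 462)) (.node (.node (.leaf 92) (.leaf 379)) (.leaf 244))) (.node (.node (.node (.leaf 51) (.leaf 695)) (.leaf 209)) (.node (.node (.leaf 476) (.leaf 706)) (.leaf 273)))) (.node (.node (.node (.node (.leaf 28) (.leaf 684)) (.leaf 189)) (.node (.node (.leaf 483) (.leaf 370)) (.leaf 428))) (.node (.node (.node (.leaf 72) (.leaf 385)) (.leaf 699)) (.node (.leaf 153) (.leaf 415))))) (.node (.node (.node (.node (.node (.leaf 17) (.leaf 406)) (.leaf 458)) (.node (.node (.leaf 487) (.leaf 375)) (.leaf 707))) (.node (.node (.node (.leaf 501) (.leaf 389)) (.leaf 445)) (.node (.node (.leaf 142) (.leaf 740)) (.leaf 281)))) (.node (.node (.node (.node (.leaf 40) (.leaf 318)) (.leaf 200)) (.node (.node (.leaf 480) (.leaf 704)) (.leaf 424))) (.node (.node (.node (.leaf 82) (.leaf 343)) (.leaf 238)) (.node (.leaf 161) (.leaf 293)))))) (.node (.node (.node (.node (.node (.node (.leaf 11) (.leaf 304)) (.leaf 460)) (.node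 (.node (.leaf 489) (.leaf 376)) (.leaf 246))) (.node (.node (.node (.leaf 503) (.leaf 391)) (.leaf 214)) (.node (.node (.leaf 136) (.leaf 730)) (.leaf 276)))) (.node (.node (.node (.node (.leaf 509) (.leaf 400)) (.leaf 453)) (.node (.node (.leaf 117) (.leaf 710)) (.leaf 426))) (.node (.node (.node (.leaf 76) (.leaf 338)) (.leaf 232)) (.node (.leaf 467) (.leaf 413))))) (.node (.node (.node (.node (.node (.leaf 22) (.leaf 404)) (.leaf 456)) (.node (.node (.leaf 485) (.leaf 601)) (.leaf 430))) (.node (.node (.node (.leaf 67) (.leaf 333)) (.leaf 223)) (.node (.node (.leaf 147) (.leaf 734)) (.leaf 416)))) (.node (.node (.node (.node (.leaf 506) (.leaf 395)) (.leaf 206)) (.node (.node (.leaf 478) (.leaf 660)) (.leaf 270))) (.node (.node (.node (.leaf 492) (.leaf 381)) (.leaf 653)) (.node (.leaf 464) (.leaf 410)))))))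

def sixRank7 : Janko.Tree (ℕ) :=
  (.node (.node (.node (.node (.node (.node (.node (.leaf 6) (.leaf 301)) (.leaf 172)) (.node (.node (.leaf 93) (.leaf 348)) (.leaf 586))) (.node (.node (.node (.leaf 52) (.leaf 323)) (.leaf 539)) (.node (.node (.leaf 578) (.leaf 729)) (.leaf 274)))) (.node (.node (.node (.node (.leaf 29) (.leaf 528)) (.leaf 665)) (.node (.node (.leaf 112) (.leaf 674)) (.leaf 259))) (.node (.node (.node (.leaf 582) (.leaf 560)) (.leaf 652)) (.node (.leaf 588) (.leaf 625))))) (.node (.node (.node (.node (.node (.leaf 18) (.leaf 661)) (.leaf 180)) (.node (.node (.leaf 103) (.leaf 644)) (.leaf 251))) (.node (.node (.node (.leaf 569) (.leaf 329)) (.leaf 565)) (.node (.node (.leaf 606) (.leaf 604)) (.leaf 282)))) (.node (.node (.node (.node (.leaf 41) (.leaf 594)) (.leaf 201)) (.node (.node (.leaf 123) (.leaf 687)) (.leaf 265))) (.node (.node (.node (.leaf 619) (.leaf 596)) (.leaf 584)) (.node (.leaf 162) (.leaf 531)))))) (.node (.node (.node (.node (.node (.node (.leaf 12) (.leaf 305)) (.leaf 176)) (.node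 (.node (.leaf 97) (.leaf 659)) (.leaf 247))) (.node (.node (.node (.leaf 58) (.leaf 649)) (.leaf 647)) (.node (.node (.leaf 137) (.leaf 693)) (.leaf 277)))) (.node (.node (.node (.node (.leaf 35) (.leaf 629)) (.leaf 585)) (.node (.node (.leaf 631) (.leaf 721)) (.leaf 639))) (.node (.node (.node (.leaf 77) (.leaf 725)) (.leaf 233)) (.node (.leaf 605) (.leaf 291))))) (.node (.node (.node (.node (.node (.leaf 23) (.leaf 688)) (.leaf 184)) (.node (.node (.leaf 108) (.leaf 353)) (.leaf 634))) (.node (.node (.node (.leaf 68) (.leaf 602)) (.leaf 618)) (.node (.node (.leaf 148) (.leaf 733)) (.leaf 284)))) (.node (.node (.node (.node (.leaf 46) (.leaf 723)) (.leaf 540)) (.node (.node (.leaf 127) (.leaf 358)) (.leaf 671))) (.node (.node (.node (.leaf 87) (.leaf 646)) (.leaf 240)) (.node (.leaf 166) (.leaf 562)))))))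

def sixRank : Janko.Tree (ℕ) := (.node (.node (.node sixRank0 sixRank4) (.node sixRank2 sixRank6)) (.node (.node sixRank1 sixRank5) (.node sixRank3 sixRank7)))

def sixVia0 : Janko.Tree (ℕ × ℕ) :=
  (.node (.node (.node (.node (.node (.node (.node (.leaf (0, 0)) (.leaf (0, 0))) (.leaf (0, 0))) (.node (.node (.leaf (0, 0)) (.leaf (0, 0))) (.leaf (0, 192)))) (.node (.node (.node (.leaf (0, 0)) (.leaf (0, 0))) (.leaf (0, 160))) (.node (.node (.leaf (0, 0)) (.leaf (0, 352))) (.leaf (0, 224))))) (.node (.node (.node (.node (.leaf (0, 0)) (.leaf (20, 217))) (.leaf (0, 0))) (.node (.node (.leaf (0, 0)) (.leaf (0, 336))) (.leaf (0, 0)))) (.node (.node (.node (.leaf (0, 48)) (.leaf (0, 304))) (.leaf (0, 176))) (.node (.node (.leaf (0, 112)) (.leaf (16, 359))) (.leaf (0, 0)))))) (.node (.node (.node (.node (.node (.leaf (0, 0)) (.leaf (19, 309))) (.leaf (20, 181))) (.node (.node (.leaf (0, 0)) (.leaf (20, 328))) (.leaf (0, 0)))) (.node (.node (.node (.leaf (0, 0)) (.leaf (0, 0))) (.leaf (0, 168))) (.node (.node (.leaf (0, 0))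 (.leaf (0, 0))) (.leaf (0, 0))))) (.node (.node (.node (.node (.leaf (0, 0)) (.leaf (0, 280))) (.leaf (0, 0))) (.node (.node (.leaf (0, 0)) (.leaf (0, 344))) (.leaf (20, 109)))) (.node (.node (.node (.leaf (0, 0)) (.leaf (0, 312))) (.leaf (0, 184))) (.node (.leaf (0, 0)) (.leaf (20, 243))))))) (.node (.node (.node (.node (.node (.node (.leaf (0, 4)) (.leaf (20, 292))) (.leaf (0, 0))) (.node (.node (.leaf (0, 68)) (.leaf (0, 0))) (.leaf (0, 196)))) (.node (.node (.node (.leaf (0, 0)) (.leaf (0, 0))) (.leaf (0, 0))) (.node (.node (.leaf (0, 0)) (.leaf (0, 356))) (.leaf (0, 228))))) (.node (.node (.node (.node (.leaf (0, 0)) (.leaf (0, 276))) (.leaf (0, 148))) (.node (.node (.leaf (0, 0)) (.leaf (0, 340))) (.leaf (0, 0)))) (.node (.node (.node (.leaf (0, 52)) (.leaf (0, 308))) (.leaf (0, 180))) (.node (.leaf (0, 116)) (.leaf (0, 0)))))) (.node (.node (.node (.node (.node (.leaf (0, 12)) (.leaf (0, 0))) (.leaf (0, 0))) (.node (.node (.leaf (0, 0)) (.leaf (0, 0))) (.leaf (0, 204)))) (.node (.node (.node (.leaf (0, 0)) (.leaf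 (0, 0))) (.leaf (0, 0))) (.node (.node (.leaf (0, 108)) (.leaf (8, 53))) (.leaf (0, 236))))) (.node (.node (.node (.node (.leaf (0, 0)) (.leaf (0, 284))) (.leaf (0, 156))) (.node (.node (.leaf (0, 0)) (.leaf (0, 0))) (.leaf (0, 0)))) (.node (.node (.node (.leaf (0, 60)) (.leaf (20, 355))) (.leaf (0, 188))) (.node (.leaf (20, 279)) (.leaf (0, 0))))))))

def sixVia1 : Janko.Tree (ℕ × ℕ) :=
  (.node (.node (.node (.node (.node (.node (.node (.leaf (0, 0)) (.leaf (0, 0))) (.leaf (0, 0))) (.node (.node (.leaf (1, 64)) (.leaf (0, 0))) (.leaf (0, 0)))) (.node (.node (.node (.leaf (0, 0)) (.leaf (1, 288))) (.leaf (0, 0))) (.node (.node (.leaf (1, 96)) (.leaf (20, 256))) (.leaf (0, 0))))) (.node (.node (.node (.node (.leaf (0, 0)) (.leaf (0, 0))) (.leaf (0, 0))) (.node (.node (.leaf (1, 80)) (.leaf (0, 0))) (.leaf (0, 0)))) (.node (.node (.node (.leaf (0, 0)) (.leaf (0, 0))) (.leaf (0, 0))) (.node (.node (.leaf (0, 0)) (.leaf (17, 166))) (.leaf (20, 89)))))) (.node (.node (.node (.node (.node (.leaf (0, 0)) (.leaf (20, 168)))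 (.leaf (0, 0))) (.node (.node (.leaf (0, 0)) (.leaf (20, 334))) (.leaf (17, 318)))) (.node (.node (.node (.leaf (1, 40)) (.leaf (0, 0))) (.leaf (0, 0))) (.node (.node (.leaf (0, 0)) (.leaf (1, 0))) (.leaf (19, 182))))) (.node (.node (.node (.node (.leaf (1, 24)) (.leaf (0, 0))) (.leaf (0, 0))) (.node (.node (.leaf (0, 0)) (.leaf (20, 90))) (.leaf (0, 0)))) (.node (.node (.node (.leaf (0, 0)) (.leaf (20, 294))) (.leaf (0, 0))) (.node (.leaf (0, 0)) (.leaf (1, 248))))))) (.node (.node (.node (.node (.node (.node (.leaf (0, 0)) (.leaf (19, 311))) (.leaf (1, 132))) (.node (.node (.leaf (4, 47)) (.leaf (1, 324))) (.leaf (0, 0)))) (.node (.node (.node (.leaf (0, 0)) (.leaf (20, 298))) (.leaf (0, 0))) (.node (.node (.leaf (0, 0)) (.leaf (20, 348))) (.leaf (20, 139))))) (.node (.node (.node (.node (.leaf (0, 0)) (.leaf (0, 0))) (.leaf (0, 0))) (.node (.node (.leaf (0, 0)) (.leaf (19, 227))) (.leaf (1, 212)))) (.node (.node (.node (.leaf (0, 0)) (.leaf (4, 335))) (.leaf (20, 262))) (.node (.leaf (0, 0)) (.leaf (20, 207))))))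 (.node (.node (.node (.node (.node (.leaf (0, 0)) (.leaf (0, 0))) (.leaf (1, 140))) (.node (.node (.leaf (0, 0)) (.leaf (20, 202))) (.leaf (4, 61)))) (.node (.node (.node (.leaf (0, 0)) (.leaf (1, 300))) (.leaf (20, 198))) (.node (.node (.leaf (0, 0)) (.leaf (9, 359))) (.leaf (2, 185))))) (.node (.node (.node (.node (.leaf (0, 0)) (.leaf (0, 0))) (.leaf (0, 0))) (.node (.node (.leaf (1, 92)) (.leaf (20, 323))) (.leaf (1, 220)))) (.node (.node (.node (.leaf (0, 0)) (.leaf (20, 239))) (.leaf (0, 0))) (.node (.leaf (20, 10)) (.leaf (1, 252))))))))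

def sixVia2 : Janko.Tree (ℕ × ℕ) :=
  (.node (.node (.node (.node (.node (.node (.node (.leaf (0, 1)) (.leaf (0, 257))) (.leaf (0, 129))) (.node (.node (.leaf (0, 65)) (.leaf (0, 321))) (.leaf (0, 0)))) (.node (.node (.node (.leaf (0, 0)) (.leaf (0, 289))) (.leaf (19, 257))) (.node (.node (.leaf (0, 97)) (.leaf (0, 353))) (.leaf (20, 125))))) (.node (.node (.node (.node (.leaf (0, 17)) (.leaf (0, 0))) (.leaf (0, 145))) (.node (.node (.leaf (0, 81)) (.leaf (20, 138))) (.leaf (0, 0)))) (.node (.node (.node (.leaf (0, 0)) (.leaf (0, 305))) (.leaf (0, 0))) (.node (.node (.leaf (0, 0)) (.leaf (18, 359))) (.leaf (0, 0)))))) (.node (.node (.node (.node (.node (.leaf (0, 9)) (.leaf (0, 265))) (.leaf (0, 137))) (.node (.node (.leaf (0, 73)) (.leaf (0, 0))) (.leaf (0, 201)))) (.node (.node (.node (.leaf (0, 41)) (.leaf (0, 297))) (.leaf (0, 0))) (.node (.node (.leaf (0, 105)) (.leaf (2, 0))) (.leaf (0, 233))))) (.node (.node (.node (.node (.leaf (0, 25)) (.leaf (0, 0))) (.leaf (0, 0))) (.node (.node (.leaf (0, 89)) (.leaf (0,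 345))) (.leaf (0, 217)))) (.node (.node (.node (.leaf (0, 57)) (.leaf (0, 0))) (.leaf (0, 0))) (.node (.leaf (0, 0)) (.leaf (0, 249))))))) (.node (.node (.node (.node (.node (.node (.leaf (0, 0)) (.leaf (0, 261))) (.leaf (0, 133))) (.node (.node (.leaf (0, 0)) (.leaf (0, 325))) (.leaf (20, 197)))) (.node (.node (.node (.leaf (0, 37)) (.leaf (0, 0))) (.leaf (0, 165))) (.node (.node (.leaf (0, 0)) (.leaf (0, 357))) (.leaf (0, 0))))) (.node (.node (.node (.node (.leaf (0, 21)) (.leaf (0, 277))) (.leaf (0, 0))) (.node (.node (.leaf (0, 85)) (.leaf (20, 341))) (.leaf (0, 213)))) (.node (.node (.node (.leaf (0, 0)) (.leaf (20, 140))) (.leaf (0, 0))) (.node (.leaf (0, 0)) (.leaf (0, 245)))))) (.node (.node (.node (.node (.node (.leaf (0, 0)) (.leaf (0, 269))) (.leaf (0, 141))) (.node (.node (.leaf (0, 77)) (.leaf (0, 333))) (.leaf (0, 0)))) (.node (.node (.node (.leaf (0, 0)) (.leaf (0, 301))) (.leaf (20, 318))) (.node (.node (.leaf (0, 0)) (.leaf (10, 359))) (.leaf (0, 0))))) (.node (.node (.node (.node (.leaf (0, 29)) (.leaf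 (0, 0))) (.leaf (0, 0))) (.node (.node (.leaf (0, 93)) (.leaf (0, 0))) (.leaf (0, 221)))) (.node (.node (.node (.leaf (0, 0)) (.leaf (0, 317))) (.leaf (20, 293))) (.node (.leaf (0, 125)) (.leaf (0, 253))))))))

def sixVia3 : Janko.Tree (ℕ × ℕ) :=
  (.node (.node (.node (.node (.node (.node (.node (.leaf (0, 0)) (.leaf (19, 19))) (.leaf (0, 0))) (.node (.node (.leaf (0, 0)) (.leaf (20, 274))) (.leaf (1, 193)))) (.node (.node (.node (.leaf (0, 0)) (.leaf (2, 244))) (.leaf (1, 161))) (.node (.node (.leaf (0, 0)) (.leaf (2, 332))) (.leaf (0, 0))))) (.node (.node (.node (.node (.leaf (0, 0)) (.leaf (1, 273))) (.leaf (4, 56))) (.node (.node (.leaf (0, 0)) (.leaf (1, 337))) (.leaf (0, 0)))) (.node (.node (.node (.leaf (1, 49)) (.leaf (20, 252))) (.leaf (0, 0))) (.node (.node (.leaf (0, 0)) (.leaf (19, 289))) (.leaf (0, 0)))))) (.node (.node (.node (.node (.node (.leaf (0, 0)) (.leaf (20, 189))) (.leaf (0, 0))) (.node (.node (.leaf (0, 0)) (.leaf (20, 271))) (.leaf (0, 0)))) (.node (.node (.node (.leaf (0, 0)) (.leaf (0, 0)))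 (.leaf (0, 0))) (.node (.node (.leaf (4, 36)) (.leaf (3, 0))) (.leaf (20, 311))))) (.node (.node (.node (.node (.leaf (0, 0)) (.leaf (1, 281))) (.leaf (0, 0))) (.node (.node (.leaf (0, 0)) (.leaf (2, 318))) (.leaf (0, 0)))) (.node (.node (.node (.leaf (4, 16)) (.leaf (0, 0))) (.leaf (0, 0))) (.node (.leaf (0, 0)) (.leaf (20, 319))))))) (.node (.node (.node (.node (.node (.node (.leaf (0, 0)) (.leaf (0, 0))) (.leaf (0, 0))) (.node (.node (.leaf (0, 0)) (.leaf (0, 0))) (.leaf (1, 197)))) (.node (.node (.node (.leaf (0, 0)) (.leaf (20, 257))) (.leaf (4, 67))) (.node (.node (.leaf (20, 50)) (.leaf (20, 288))) (.leaf (1, 229))))) (.node (.node (.node (.node (.leaf (0, 0)) (.leaf (0, 0))) (.leaf (0, 0))) (.node (.node (.leaf (4, 27)) (.leaf (20, 321))) (.leaf (0, 0)))) (.node (.node (.node (.leaf (1, 53)) (.leaf (0, 0))) (.leaf (0, 0))) (.node (.leaf (1, 117)) (.leaf (20, 195)))))) (.node (.node (.node (.node (.node (.leaf (1, 13)) (.leaf (0, 0))) (.leaf (0, 0))) (.node (.node (.leaf (0, 0)) (.leaf (20, 329))) (.leaf (0, 0))))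 (.node (.node (.node (.leaf (0, 0)) (.leaf (0, 0))) (.leaf (0, 0))) (.node (.node (.leaf (0, 0)) (.leaf (11, 359))) (.leaf (8, 143))))) (.node (.node (.node (.node (.leaf (0, 0)) (.leaf (20, 345))) (.leaf (0, 0))) (.node (.node (.leaf (0, 0)) (.leaf (0, 0))) (.leaf (0, 0)))) (.node (.node (.node (.leaf (0, 0)) (.leaf (20, 248))) (.leaf (1, 189))) (.node (.leaf (0, 0)) (.leaf (0, 0))))))))

def sixVia4 : Janko.Tree (ℕ × ℕ) :=
  (.node (.node (.node (.node (.node (.node (.node (.leaf (0, 0)) (.leaf (0, 0))) (.leaf (0, 0))) (.node (.node (.leaf (0, 0)) (.leaf (20, 280))) (.leaf (0, 194)))) (.node (.node (.node (.leaf (0, 34)) (.leaf (0, 290))) (.leaf (0, 162))) (.node (.node (.leaf (0, 0)) (.leaf (20, 354))) (.leaf (0, 226))))) (.node (.node (.node (.node (.leaf (0, 18)) (.leaf (0, 274))) (.leaf (0, 0))) (.node (.node (.leaf (0, 0)) (.leaf (0, 338))) (.leaf (0, 210)))) (.node (.node (.node (.leaf (0, 50)) (.leaf (0, 0))) (.leaf (0, 0))) (.node (.node (.leaf (0, 114)) (.leaf (20, 143))) (.leaf (19, 238)))))) (.node (.node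 (.node (.node (.node (.leaf (0, 0)) (.leaf (0, 0))) (.leaf (0, 0))) (.node (.node (.leaf (0, 0)) (.leaf (20, 349))) (.leaf (20, 65)))) (.node (.node (.node (.leaf (0, 0)) (.leaf (20, 289))) (.leaf (0, 0))) (.node (.node (.leaf (0, 0)) (.leaf (4, 235))) (.leaf (0, 0))))) (.node (.node (.node (.node (.leaf (0, 0)) (.leaf (0, 282))) (.leaf (0, 154))) (.node (.node (.leaf (0, 0)) (.leaf (0, 346))) (.leaf (0, 0)))) (.node (.node (.node (.leaf (0, 0)) (.leaf (0, 0))) (.leaf (0, 186))) (.node (.leaf (0, 122)) (.leaf (20, 301))))))) (.node (.node (.node (.node (.node (.node (.leaf (0, 6)) (.leaf (0, 0))) (.leaf (0, 0))) (.node (.node (.leaf (0, 0)) (.leaf (0, 326))) (.leaf (0, 198)))) (.node (.node (.node (.leaf (0, 0)) (.leaf (0, 294))) (.leaf (0, 0))) (.node (.node (.leaf (0, 102)) (.leaf (20, 357))) (.leaf (0, 230))))) (.node (.node (.node (.node (.leaf (0, 0)) (.leaf (20, 73))) (.leaf (0, 0))) (.node (.node (.leaf (0, 0)) (.leaf (0, 342))) (.leaf (17, 335)))) (.node (.node (.node (.leaf (0, 54)) (.leaf (0, 0))) (.leaf (0,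 182))) (.node (.leaf (0, 118)) (.leaf (0, 0)))))) (.node (.node (.node (.node (.node (.leaf (0, 14)) (.leaf (20, 265))) (.leaf (0, 0))) (.node (.node (.leaf (0, 0)) (.leaf (0, 334))) (.leaf (20, 43)))) (.node (.node (.node (.leaf (0, 46)) (.leaf (0, 0))) (.leaf (0, 174))) (.node (.node (.leaf (0, 110)) (.leaf (12, 359))) (.leaf (20, 331))))) (.node (.node (.node (.node (.leaf (0, 0)) (.leaf (0, 286))) (.leaf (0, 158))) (.node (.node (.leaf (0, 0)) (.leaf (0, 350))) (.leaf (0, 0)))) (.node (.node (.node (.leaf (0, 62)) (.leaf (0, 0))) (.leaf (0, 190))) (.node (.leaf (0, 0)) (.leaf (20, 295))))))))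

def sixVia5 : Janko.Tree (ℕ × ℕ) :=
  (.node (.node (.node (.node (.node (.node (.node (.leaf (0, 0)) (.leaf (0, 0))) (.leaf (0, 0))) (.node (.node (.leaf (0, 0)) (.leaf (0, 0))) (.leaf (0, 0)))) (.node (.node (.node (.leaf (4, 22)) (.leaf (20, 177))) (.leaf (0, 0))) (.node (.node (.leaf (0, 0)) (.leaf (20, 304))) (.leaf (4, 72))))) (.node (.node (.node (.node (.leaf (0, 0)) (.leaf (0, 0))) (.leaf (0, 0))) (.node (.node (.leaf (1, 82)) (.leaf (20, 291))) (.leaf (0, 0)))) (.node (.node (.node (.leaf (0, 0)) (.leaf (1, 306))) (.leaf (0, 0))) (.node (.leaf (0, 0)) (.leaf (20, 148)))))) (.node (.node (.node (.node (.node (.leaf (1, 10)) (.leaf (20, 353))) (.leaf (1, 138))) (.node (.node (.leaf (0, 0)) (.leaf (5, 163))) (.leaf (0, 0)))) (.node (.node (.node (.leaf (1, 43)) (.leaf (1, 298))) (.leaf (0, 0))) (.node (.node (.leaf (0, 0)) (.leaf (5, 170))) (.leaf (0, 0))))) (.node (.node (.node (.node (.leaf (0, 0)) (.leaf (0, 0))) (.leaf (0, 0))) (.node (.node (.leaf (0, 0)) (.leaf (20, 55))) (.leaf (1, 218)))) (.node (.node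 (.node (.leaf (0, 0)) (.leaf (0, 0))) (.leaf (0, 0))) (.node (.leaf (4, 45)) (.leaf (0, 0))))))) (.node (.node (.node (.node (.node (.node (.leaf (0, 0)) (.leaf (8, 165))) (.leaf (1, 134))) (.node (.node (.leaf (20, 85)) (.leaf (20, 126))) (.leaf (20, 332)))) (.node (.node (.node (.leaf (0, 0)) (.leaf (19, 209))) (.leaf (0, 0))) (.node (.node (.leaf (0, 0)) (.leaf (20, 324))) (.leaf (4, 104))))) (.node (.node (.node (.node (.leaf (0, 0)) (.leaf (1, 278))) (.leaf (0, 0))) (.node (.node (.leaf (0, 0)) (.leaf (20, 317))) (.leaf (1, 214)))) (.node (.node (.node (.leaf (0, 0)) (.leaf (20, 135))) (.leaf (0, 0))) (.node (.leaf (0, 0)) (.leaf (0, 0)))))) (.node (.node (.node (.node (.node (.leaf (0, 0)) (.leaf (1, 270))) (.leaf (1, 142))) (.node (.node (.leaf (1, 78)) (.leaf (20, 157))) (.leaf (19, 245)))) (.node (.node (.node (.leaf (0, 0)) (.leaf (20, 352))) (.leaf (0, 0))) (.node (.node (.leaf (0, 0)) (.leaf (13, 359))) (.leaf (20, 190))))) (.node (.node (.node (.node (.leaf (1, 30)) (.leaf (0, 0))) (.leaf (0, 0))) (.node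 (.node (.leaf (1, 94)) (.leaf (20, 338))) (.leaf (0, 0)))) (.node (.node (.node (.leaf (0, 0)) (.leaf (20, 142))) (.leaf (20, 267))) (.node (.leaf (0, 0)) (.leaf (1, 254))))))))

def sixVia6 : Janko.Tree (ℕ × ℕ) :=
  (.node (.node (.node (.node (.node (.node (.node (.leaf (0, 0)) (.leaf (0, 0))) (.leaf (0, 131))) (.node (.node (.leaf (0, 0)) (.leaf (0, 323))) (.leaf (0, 0)))) (.node (.node (.node (.leaf (0, 0)) (.leaf (20, 325))) (.leaf (0, 0))) (.node (.node (.leaf (0, 99)) (.leaf (20, 351))) (.leaf (0, 0))))) (.node (.node (.node (.node (.leaf (0, 0)) (.leaf (20, 312))) (.leaf (0, 0))) (.node (.node (.leaf (0, 83)) (.leaf (0, 339))) (.leaf (0, 211)))) (.node (.node (.node (.leaf (0, 0)) (.leaf (0, 307))) (.leaf (20, 350))) (.node (.leaf (0, 0)) (.leaf (0, 243)))))) (.node (.node (.node (.node (.node (.leaf (0, 0)) (.leaf (0, 267))) (.leaf (0, 139))) (.node (.node (.leaf (0, 75)) (.leaf (0, 331))) (.leaf (20, 306)))) (.node (.node (.node (.leaf (0, 43)) (.leaf (0, 299))) (.leaf (0, 171))) (.node (.node (.leaf (0, 0))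 (.leaf (6, 359))) (.leaf (0, 0))))) (.node (.node (.node (.node (.leaf (0, 0)) (.leaf (0, 0))) (.leaf (0, 0))) (.node (.node (.leaf (0, 91)) (.leaf (20, 346))) (.leaf (0, 219)))) (.node (.node (.node (.leaf (0, 0)) (.leaf (0, 0))) (.leaf (0, 0))) (.node (.leaf (0, 0)) (.leaf (0, 0))))))) (.node (.node (.node (.node (.node (.node (.leaf (0, 0)) (.leaf (0, 0))) (.leaf (0, 135))) (.node (.node (.leaf (0, 71)) (.leaf (0, 327))) (.leaf (0, 0)))) (.node (.node (.node (.leaf (0, 39)) (.leaf (0, 295))) (.leaf (0, 0))) (.node (.node (.leaf (0, 0)) (.leaf (20, 359))) (.leaf (0, 0))))) (.node (.node (.node (.node (.leaf (0, 23)) (.leaf (0, 279))) (.leaf (0, 151))) (.node (.node (.leaf (0, 0)) (.leaf (20, 342))) (.leaf (0, 215)))) (.node (.node (.node (.leaf (0, 0)) (.leaf (0, 0))) (.leaf (0, 0))) (.node (.leaf (0, 119)) (.leaf (0, 247)))))) (.node (.node (.node (.node (.node (.leaf (0, 0)) (.leaf (0, 271))) (.leaf (0, 143))) (.node (.node (.leaf (0, 79)) (.leaf (4, 166))) (.leaf (0, 207)))) (.node (.node (.node (.leaf (0, 0)) (.leaf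 (0, 0))) (.leaf (0, 0))) (.node (.node (.leaf (0, 0)) (.leaf (14, 359))) (.leaf (0, 239))))) (.node (.node (.node (.node (.leaf (0, 31)) (.leaf (0, 287))) (.leaf (0, 0))) (.node (.node (.leaf (0, 95)) (.leaf (20, 130))) (.leaf (0, 0)))) (.node (.node (.node (.leaf (0, 63)) (.leaf (0, 319))) (.leaf (20, 299))) (.node (.leaf (0, 127)) (.leaf (0, 255))))))))

def sixVia7 : Janko.Tree (ℕ × ℕ) :=
  (.node (.node (.node (.node (.node (.node (.node (.leaf (0, 0)) (.leaf (0, 0))) (.leaf (0, 0))) (.node (.node (.leaf (0, 0)) (.leaf (0, 0))) (.leaf (1, 195)))) (.node (.node (.node (.leaf (0, 0)) (.leaf (0, 0))) (.leaf (1, 163))) (.node (.node (.leaf (4, 33)) (.leaf (20, 356))) (.leaf (0, 0))))) (.node (.node (.node (.node (.leaf (0, 0)) (.leaf (1, 275))) (.leaf (20, 244))) (.node (.node (.leaf (0, 0)) (.leaf (20, 263))) (.leaf (0, 0)))) (.node (.node (.node (.leaf (1, 51)) (.leaf (2, 266))) (.leaf (19, 267))) (.node (.leaf (1, 115)) (.leaf (20, 214)))))) (.node (.node (.node (.node (.node (.leaf (0, 0)) (.leaf (20, 213))) (.leaf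 (0, 0))) (.node (.node (.leaf (0, 0)) (.leaf (20, 270))) (.leaf (0, 0)))) (.node (.node (.node (.leaf (4, 28)) (.leaf (0, 0))) (.leaf (4, 170))) (.node (.node (.leaf (4, 185)) (.leaf (7, 335))) (.leaf (0, 0))))) (.node (.node (.node (.node (.leaf (0, 0)) (.leaf (1, 283))) (.leaf (0, 0))) (.node (.node (.leaf (0, 0)) (.leaf (20, 284))) (.leaf (0, 0)))) (.node (.node (.node (.leaf (20, 99)) (.leaf (3, 319))) (.leaf (1, 187))) (.node (.leaf (0, 0)) (.leaf (1, 251))))))) (.node (.node (.node (.node (.node (.node (.leaf (0, 0)) (.leaf (0, 0))) (.leaf (0, 0))) (.node (.node (.leaf (0, 0)) (.leaf (20, 212))) (.leaf (0, 0)))) (.node (.node (.node (.leaf (0, 0)) (.leaf (20, 231))) (.leaf (20, 315))) (.node (.node (.leaf (0, 0)) (.leaf (20, 327))) (.leaf (0, 0))))) (.node (.node (.node (.node (.leaf (0, 0)) (.leaf (19, 298))) (.leaf (4, 38))) (.node (.node (.leaf (20, 118)) (.leaf (20, 287))) (.leaf (20, 245)))) (.node (.node (.node (.leaf (0, 0)) (.leaf (20, 285))) (.leaf (0, 0))) (.node (.leaf (7, 185)) (.leaf (0, 0)))))) (.node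 (.node (.node (.node (.node (.leaf (0, 0)) (.leaf (20, 223))) (.leaf (0, 0))) (.node (.node (.leaf (0, 0)) (.leaf (0, 0))) (.leaf (20, 112)))) (.node (.node (.node (.leaf (0, 0)) (.leaf (5, 165))) (.leaf (20, 4))) (.node (.node (.leaf (0, 0)) (.leaf (15, 359))) (.leaf (0, 0))))) (.node (.node (.node (.node (.leaf (0, 0)) (.leaf (20, 340))) (.leaf (1, 159))) (.node (.node (.leaf (0, 0)) (.leaf (0, 0))) (.leaf (20, 307)))) (.node (.node (.node (.leaf (0, 0)) (.leaf (20, 249))) (.leaf (0, 0))) (.node (.leaf (0, 0)) (.leaf (2, 208))))))))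

def sixVia : Janko.Tree (ℕ × ℕ) := (.node (.node (.node sixVia0 sixVia4) (.node sixVia2 sixVia6)) (.node (.node sixVia1 sixVia5) (.node sixVia3 sixVia7)))

def sixOrd0 : Janko.Tree (ℕ) :=
  (.node (.node (.node (.node (.node (.node (.node (.leaf 1) (.leaf 234)) (.leaf 228)) (.node (.node (.leaf 27) (.leaf 40)) (.leaf 211))) (.node (.node (.node (.leaf 77) (.leaf 137)) (.leaf 130)) (.node (.node (.leaf 150) (.leaf 303)) (.leaf 194)))) (.node (.node (.node (.node (.leaf 290) (.leaf 357)) (.leaf 6)) (.node (.node (.leaf 188) (.leaf 247)) (.leaf 81))) (.node (.node (.node (.leaf 345) (.leaf 95)) (.leaf 50)) (.node (.leaf 249) (.leaf 245))))) (.node (.node (.node (.node (.node (.leaf 85) (.leaf 71)) (.leaf 204)) (.node (.node (.leaf 181) (.leaf 240)) (.leaf 136))) (.node (.node (.node (.leaf 220) (.leaf 143)) (.leaf 209)) (.node (.leaf 126) (.leaf 65)))) (.node (.node (.node (.node (.leaf 251) (.leaf 8)) (.leaf 330)) (.node (.node (.leaf 73) (.leaf 286)) (.leaf 86))) (.node (.node (.node (.leaf 91) (.leaf 281)) (.leaf 113))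 (.node (.leaf 125) (.leaf 278)))))) (.node (.node (.node (.node (.node (.node (.leaf 264) (.leaf 210)) (.leaf 16)) (.node (.node (.leaf 232) (.leaf 349)) (.leaf 42))) (.node (.node (.node (.leaf 223) (.leaf 215)) (.leaf 183)) (.node (.node (.leaf 107) (.leaf 244)) (.leaf 175)))) (.node (.node (.node (.node (.leaf 123) (.leaf 141)) (.leaf 340)) (.node (.node (.leaf 350) (.leaf 302)) (.leaf 70))) (.node (.node (.node (.leaf 309) (.leaf 338)) (.leaf 169)) (.node (.leaf 198) (.leaf 155))))) (.node (.node (.node (.node (.node (.leaf 76) (.leaf 171)) (.leaf 280)) (.node (.node (.leaf 119) (.leaf 19)) (.leaf 346))) (.node (.node (.node (.leaf 353) (.leaf 51)) (.leaf 214)) (.node (.leaf 227) (.leaf 267)))) (.node (.node (.node (.node (.leaf 57) (.leaf 237)) (.leaf 185)) (.node (.node (.leaf 203) (.leaf 110)) (.leaf 24))) (.node (.node (.node (.leaf 284) (.leaf 351)) (.leaf 111)) (.node (.leaf 132) (.leaf 30)))))))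

def sixOrd1 : Janko.Tree (ℕ) :=
  (.node (.node (.node (.node (.node (.node (.node (.leaf 266) (.leaf 320)) (.leaf 289)) (.node (.node (.leaf 64) (.leaf 129)) (.leaf 145))) (.node (.node (.node (.leaf 17) (.leaf 37)) (.leaf 134)) (.node (.node (.leaf 197) (.leaf 135)) (.leaf 218)))) (.node (.node (.node (.node (.leaf 328) (.leaf 294)) (.leaf 128)) (.node (.node (.leaf 69) (.leaf 78)) (.leaf 256))) (.node (.node (.node (.leaf 287) (.leaf 231)) (.leaf 182)) (.node (.leaf 331) (.leaf 335))))) (.node (.node (.node (.node (.node (.leaf 323) (.leaf 229)) (.leaf 221)) (.node (.node (.leaf 10) (.leaf 62)) (.leaf 142))) (.node (.node (.node (.leaf 33) (.leaf 163)) (.leaf 120)) (.node (.leaf 109) (.leaf 314)))) (.node (.node (.node (.node (.leaf 293) (.leaf 11)) (.leaf 41)) (.node (.node (.leaf 179) (.leaf 99)) (.leaf 277))) (.node (.node (.node (.leaf 21) (.leaf 275)) (.leaf 117)) (.node (.leaf 299) (.leaf 193)))))) (.node (.node (.node (.node (.node (.node (.leaf 63) (.leaf 100)) (.leaf 140)) (.node (.node (.leaf 311) (.leaf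 201)) (.leaf 72))) (.node (.node (.node (.leaf 291) (.leaf 342)) (.leaf 103)) (.node (.node (.leaf 133) (.leaf 26)) (.leaf 39)))) (.node (.node (.node (.node (.leaf 176) (.leaf 151)) (.leaf 149)) (.node (.node (.leaf 160) (.leaf 90)) (.leaf 152))) (.node (.node (.node (.leaf 97) (.leaf 326)) (.leaf 327)) (.node (.leaf 170) (.leaf 48))))) (.node (.node (.node (.node (.node (.leaf 56) (.leaf 261)) (.leaf 108)) (.node (.node (.leaf 224) (.leaf 173)) (.leaf 265))) (.node (.node (.node (.leaf 295) (.leaf 61)) (.leaf 164)) (.node (.leaf 89) (.leaf 322)))) (.node (.node (.node (.node (.leaf 276) (.leaf 87)) (.leaf 189)) (.node (.node (.leaf 300) (.leaf 52)) (.leaf 238))) (.node (.node (.node (.leaf 68) (.leaf 319)) (.leaf 318)) (.node (.leaf 28) (.leaf 260)))))))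

def sixOrd2 : Janko.Tree (ℕ) :=
  (.node (.node (.node (.node (.node (.node (.node (.leaf 74) (.leaf 168)) (.leaf 307)) (.node (.node (.leaf 38) (.leaf 213)) (.leaf 339))) (.node (.node (.node (.leaf 212) (.leaf 59)) (.leaf 98)) (.node (.node (.leaf 358) (.leaf 308)) (.leaf 263)))) (.node (.node (.node (.node (.leaf 118) (.leaf 279)) (.leaf 332)) (.node (.node (.leaf 112) (.leaf 156)) (.leaf 154))) (.node (.node (.node (.leaf 131) (.leaf 174)) (.leaf 313)) (.node (.leaf 317) (.leaf 337))))) (.node (.node (.node (.node (.node (.leaf 199) (.leaf 217)) (.leaf 196)) (.node (.node (.leaf 153) (.leaf 206)) (.leaf 343))) (.node (.node (.node (.leaf 47) (.leaf 347)) (.leaf 18)) (.node (.leaf 7) (.leaf 148)))) (.node (.node (.node (.node (.leaf 207) (.leaf 80)) (.leaf 296)) (.node (.node (.leaf 29) (.leaf 336)) (.leaf 43))) (.node (.node (.node (.leaf 187) (.leaf 272)) (.leaf 84)) (.node (.leaf 306) (.leaf 241)))))) (.node (.node (.node (.node (.node (.node (.leaf 329) (.leaf 34)) (.leaf 22)) (.node (.node (.leaf 180) (.leaf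 259)) (.leaf 2))) (.node (.node (.node (.leaf 83) (.leaf 348)) (.leaf 14)) (.node (.node (.leaf 75) (.leaf 88)) (.leaf 292)))) (.node (.node (.node (.node (.leaf 92) (.leaf 255)) (.leaf 25)) (.node (.node (.leaf 321) (.leaf 67)) (.leaf 46))) (.node (.node (.node (.leaf 257) (.leaf 186)) (.leaf 268)) (.node (.leaf 216) (.leaf 310))))) (.node (.node (.node (.node (.node (.leaf 82) (.leaf 230)) (.leaf 147)) (.node (.node (.leaf 235) (.leaf 13)) (.leaf 354))) (.node (.node (.node (.leaf 305) (.leaf 252)) (.leaf 138)) (.node (.leaf 116) (.leaf 93)))) (.node (.node (.node (.node (.leaf 274) (.leaf 192)) (.leaf 144)) (.node (.node (.leaf 250) (.leaf 315)) (.leaf 35))) (.node (.node (.node (.leaf 166) (.leaf 139)) (.leaf 55)) (.node (.leaf 161) (.leaf 44)))))))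

def sixOrd3 : Janko.Tree (ℕ) :=
  (.node (.node (.node (.node (.node (.node (.node (.leaf 32) (.leaf 54)) (.leaf 236)) (.node (.node (.leaf 195) (.leaf 58)) (.leaf 325))) (.node (.node (.node (.leaf 45) (.leaf 172)) (.leaf 248)) (.node (.node (.leaf 191) (.leaf 341)) (.leaf 298)))) (.node (.node (.node (.node (.leaf 285) (.leaf 359)) (.leaf 66)) (.node (.node (.leaf 49) (.leaf 106)) (.leaf 122))) (.node (.node (.node (.leaf 312) (.leaf 105)) (.leaf 316)) (.node (.leaf 271) (.leaf 79))))) (.node (.node (.node (.node (.node (.leaf 304) (.leaf 101)) (.leaf 226)) (.node (.node (.leaf 15) (.leaf 23)) (.leaf 104))) (.node (.node (.node (.leaf 53) (.leaf 121)) (.leaf 344)) (.node (.leaf 5) (.leaf 258)))) (.node (.node (.node (.node (.leaf 282) (.leaf 94)) (.leaf 202)) (.node (.node (.leaf 262) (.leaf 222)) (.leaf 184))) (.node (.node (.node (.leaf 36) (.leaf 225)) (.leaf 270)) (.node (.leaf 167) (.leaf 219)))))) (.node (.node (.node (.node (.node (.node (.leaf 127) (.leaf 297)) (.leaf 115)) (.node (.node (.leaf 301) (.leaf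 102)) (.leaf 273))) (.node (.node (.node (.leaf 233) (.leaf 243)) (.leaf 352)) (.node (.node (.leaf 205) (.leaf 0)) (.leaf 12)))) (.node (.node (.node (.node (.leaf 269) (.leaf 239)) (.leaf 246)) (.node (.node (.leaf 333) (.leaf 96)) (.leaf 158))) (.node (.node (.node (.leaf 200) (.leaf 165)) (.leaf 31)) (.node (.leaf 356) (.leaf 9))))) (.node (.node (.node (.node (.node (.leaf 283) (.leaf 162)) (.leaf 288)) (.node (.node (.leaf 355) (.leaf 208)) (.leaf 190))) (.node (.node (.node (.leaf 114) (.leaf 3)) (.leaf 178)) (.node (.leaf 124) (.leaf 324)))) (.node (.node (.node (.node (.leaf 146) (.leaf 60)) (.leaf 159)) (.node (.node (.leaf 254) (.leaf 242)) (.leaf 177))) (.node (.node (.node (.leaf 253) (.leaf 334)) (.leaf 4)) (.node (.leaf 20) (.leaf 157)))))))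

def sixOrd : Janko.Tree (ℕ) := (.node (.node sixOrd0 sixOrd2) (.node sixOrd1 sixOrd3))

def sixRels : List (List ℕ) := [[0, 0],
  [1, 1, 1, 1],
  [0, 1, 0, 1, 0, 1, 0, 1, 0, 1],
  [0, 1, 1, 0, 1, 1, 0, 1, 1, 0, 1, 1, 0, 1, 1],
  [0, 1, 0, 1, 0, 1, 0, 1, 1, 0, 1, 0, 1, 0, 1, 0, 1, 1],
  [0, 1, 0, 1, 0, 1, 0, 1, 1, 1, 0, 1, 1, 0, 1, 1, 0, 1, 1, 0, 1, 1, 1],
  [0, 1, 0, 1, 1, 1, 0, 1, 0, 1, 1, 1, 0, 1, 0, 1, 1, 1, 0, 1, 0, 1, 1, 1],
  [0, 1, 0, 1, 1, 0, 1, 0, 1, 1, 0, 1, 0, 1, 1, 0, 1, 0, 1, 1, 0, 1, 0, 1, 1],
  [0, 1, 0, 1, 1, 0, 1, 1, 0, 1, 1, 0, 1, 0, 1, 1, 1, 0, 1, 1, 1, 0, 1, 1, 1],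
  [0, 1, 0, 1, 0, 1, 1, 0, 1, 1, 1, 0, 1, 0, 1, 1, 1, 0, 1, 0, 1, 1, 1, 0, 1, 1],
  [0, 1, 0, 1, 1, 0, 1, 1, 1, 0, 1, 0, 1, 1, 0, 1, 1, 1, 0, 1, 0, 1, 1, 0, 1, 1, 1],
  [0, 1, 0, 1, 1, 1, 0, 1, 1, 0, 1, 0, 1, 1, 1, 0, 1, 1, 0, 1, 0, 1, 1, 1, 0, 1, 1],
  [0, 1, 0, 1, 0, 1, 1, 0, 1, 1, 1, 0, 1, 1, 0, 1, 0, 1, 0, 1, 1, 0, 1, 1, 1, 0, 1, 1],
  [0, 1, 0, 1, 1, 0, 1, 1, 1, 0, 1, 1, 1, 0, 1, 1, 0, 1, 0, 1, 1, 1, 0, 1, 0, 1, 1, 1],
  [0, 1, 0, 1, 0, 1, 1, 0, 1, 0, 1, 1, 0, 1, 1, 1, 0, 1, 0, 1, 1, 1, 0, 1, 1, 0, 1, 0, 1, 1],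
  [0, 1, 0, 1, 0, 1, 1, 0, 1, 1, 1, 0, 1, 1, 0, 1, 0, 1, 1, 1, 0, 1, 1, 0, 1, 1, 0, 1, 0, 1, 1],
  [0, 1, 0, 1, 0, 1, 1, 0, 1, 0, 1, 1, 0, 1, 1, 1, 0, 1, 1, 0, 1, 0, 1, 0, 1, 1, 1, 0, 1, 0, 1, 1],
  [0, 1, 0, 1, 0, 1, 1, 0, 1, 0, 1, 1, 1, 0, 1, 0, 1, 0, 1, 1, 0, 1, 1, 1, 0, 1, 1, 0, 1, 0, 1, 1],
  [0, 1, 0, 1, 1, 0, 1, 0, 1, 1, 0, 1, 0, 1, 1, 1, 0, 1, 0, 1, 1, 0, 1, 0, 1, 1, 0, 1, 0, 1, 1, 1],
  [0, 1, 0, 1, 1, 0, 1, 0, 1, 1, 1, 0, 1, 0, 1, 1, 0, 1, 1, 0, 1, 0, 1, 1, 0, 1, 1, 1, 0, 1, 1, 1],
  [0, 1, 0, 1, 1, 0, 1, 0, 1, 1, 1, 0, 1, 1, 1, 0, 1, 1, 0, 1, 0, 1, 1, 0, 1, 1, 0, 1, 0, 1, 1, 1]]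

/-- the certificate -/
def sixCert : CentralLocal.Cert :=
  { act := actP sixGens, one := idP, N := 360, k := 2, q := 0, rels := sixRels, P := 4,
    elt := sixElt, next := sixNext, word := sixWord, par := sixPar, L := sixL, kind := sixKind, rank := sixRank,
    via := sixVia, pv := [720, 721, 722, 723] }

theorem six_edges0 : ((List.range 360).all fun i => sixCert.edgeCheck (Nat.add 0 i)) = true := by decide +kernel

theorem six_edges : ∀ i < 360, sixCert.edgeCheck i = true := by
  intro i hi
  have := List.all_eq_true.1 six_edges0 (i - 0) (List.mem_range.2 (by omega)); rwa [show Nat.add 0 (i - 0) = i from Nat.add_sub_cancel' (by omega)] at this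


theorem six_tree0 : ((List.range 360).all fun i => sixCert.treeCheck (Nat.add 0 i)) = true := by decide +kernel

theorem six_tree : ∀ i < 360, sixCert.treeCheck i = true := by
  intro i hi
  have := List.all_eq_true.1 six_tree0 (i - 0) (List.mem_range.2 (by omega)); rwa [show Nat.add 0 (i - 0) = i from Nat.add_sub_cancel' (by omega)] at this


theorem six_vars0 : ((List.range 512).all fun i => sixCert.varCheck (Nat.add 0 i)) = true := by decide +kernel

theorem six_vars1 : ((List.range 229).all fun i => sixCert.varCheck (Nat.add 512 i)) = true := by decide +kernel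

theorem six_vars : ∀ i < 741, sixCert.varCheck i = true := by
  intro i hi
  by_cases h0 : i < 512
  · have := List.all_eq_true.1 six_vars0 (i - 0) (List.mem_range.2 (by omega)); rwa [show Nat.add 0 (i - 0) = i from Nat.add_sub_cancel' (by omega)] at this
  have := List.all_eq_true.1 six_vars1 (i - 512) (List.mem_range.2 (by omega)); rwa [show Nat.add 512 (i - 512) = i from Nat.add_sub_cancel' (by omega)] at this


theorem six_ord0 : ((List.range 360).all fun i => sixCert.ordCheck sixOrd (Nat.add 0 i)) = true := by decide +kernel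

theorem six_ord : ∀ i < 360, sixCert.ordCheck sixOrd i = true := by
  intro i hi
  have := List.all_eq_true.1 six_ord0 (i - 0) (List.mem_range.2 (by omega)); rwa [show Nat.add 0 (i - 0) = i from Nat.add_sub_cancel' (by omega)] at this


theorem six_rels : (sixCert.rels.all fun w => sixCert.relCheck w) = true := by decide +kernel

theorem six_valid : sixCert.Valid where
  npos := Nat.succ_pos _
  kpos := Nat.succ_pos _
  edges := six_edges
  tree := six_tree
  rels := List.all_eq_true.1 six_rels
  vars := six_vars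

theorem six_gens : sixGens.all (memOK [23, 0]) = true := by decide +kernel

end Cfsg.Agent.Lie.MTwentyTwoMult
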