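import Cfsg.Agent.Lib.Lie.GolayCover

/-!
A central table on a Sylow 2-subgroup of the Mathieu group of degree 22 (generated).
-/

set_option autoImplicit false
set_option maxRecDepth 100000
set_option maxHeartbeats 0
set_option Elab.async false

namespace Cfsg.Agent.Lie.MTwentyTwoMult

open Cfsg.Agent.Lie GolayCover

/-- generators of the subgroup -/
def twoGens : List (ℕ × ℕ) := [(984371314745208428399736121543733856, 984371314745208428399736121543733856),
  (970077870725881460129972856528458944, 964557050597336866861677078900125952),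
  (980552700384576265729720227443837216, 980552700384576265729720227443837216)]

def twoElt : Janko.Tree (ℕ) :=
  (.node (.node (.node (.node (.node (.node (.node (.leaf 984818244535754528103549039458486304) (.leaf 959694497775378473410393774066709056)) (.node (.leaf 963261405376909989381208184682894464) (.leaf 976646527908485251850354692279470432))) (.node (.node (.leaf 979173002733754796676830265379237984) (.leaf 973642105620075748984335878574060032)) (.node (.leaf 980146980381164361030712343206113376) (.leaf 962299258550763765117810492838195328)))) (.node (.node (.node (.leaf 976239718664220183053034114725959104) (.leaf 969753006807545141007272956610621600)) (.node (.leaf 967175044936379079623455823111008288) (.leaf 970523646767717821703574918620391648))) (.node (.node (.leaf 967150998107068424814075433960756256) (.leaf 981778418385515084080897070847012896)) (.node (.leaf 979254626318215274176851927787743872) (.leaf 966633318667081745592164477458393248))))) (.node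 (.node (.node (.node (.leaf 961444771521713678521166242371709440) (.leaf 966187052437720393223539663406847488)) (.node (.leaf 970085131418289955219596846622191808) (.leaf 967921550172056813538332231258999360))) (.node (.node (.leaf 960154834287925099172141383694363104) (.leaf 974057026129278056092962327644874912)) (.node (.leaf 962734169032992665825733294666492160) (.leaf 973975497857616522145177451656130784)))) (.node (.node (.node (.leaf 956786057933503733311559571097507104) (.leaf 962288079816831904565551959850046592)) (.node (.leaf 977011841533634111479777450504988800) (.leaf 975364134828993844015506212804143808))) (.node (.node (.leaf 976563968592375025901936143204856064) (.leaf 980453751985294011007961992897573568)) (.node (.leaf 977010343789402039325093392245033088) (.leaf 975364980177623370558931632377596608)))))) (.node (.node (.node (.node (.node (.leaf 970077870725881460129972856528458944) (.leaf 962380494674899276004072696619149760)) (.node (.leaf 960666487453751433367917966450349248)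 (.leaf 975284344479143848427158561034917152))) (.node (.node (.leaf 980128811298414968499832461520884832) (.leaf 974421764120477162002732052473186496)) (.node (.leaf 979155677610588756142030266195104864) (.leaf 959775806916153066781728529055426592)))) (.node (.node (.node (.leaf 960991351396365438419178588936188064) (.leaf 984439216841335364591954947081341408)) (.node (.leaf 964962822582106926085407987221399680) (.leaf 957109308687445084609827876293301888))) (.node (.node (.leaf 984804261842214368737105645013149728) (.leaf 981453861453989423879158201720296928)) (.node (.leaf 976565504711553557218127892600575232) (.leaf 966259361885053503209401354603145408))))) (.node (.node (.node (.node (.leaf 970158601754916023285187082395453952) (.leaf 961072082419676493341963774439303392)) (.node (.leaf 979618980548452006341703048953956640) (.leaf 984453122772908695470283188542220768))) (.node (.node (.leaf 979236149903553240597937305795791488) (.leaf 964963860119713608368136245384587392))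 (.node (.leaf 962368817006367092313036459712121280) (.leaf 981754294494437278904496553220953120)))) (.node (.node (.node (.leaf 957555756896237696687569803782105792) (.leaf 962745309412580570974834424213080320)) (.node (.leaf 959383923227159763067448294981186144) (.leaf 981429814320030938142569403394601440))) (.node (.node (.leaf 963678568726555999101036270780057856) (.leaf 957111305637054138299472737050538624)) (.node (.leaf 967945098115173761362141887067728448) (.leaf 965862495487687778795701652440953056))))))) (.node (.node (.node (.node (.node (.node (.leaf 984371314745208428399736121543733856) (.leaf 959789712551549311357050337837647904)) (.node (.leaf 974959096775972413585927867726869120) (.leaf 964882836957330747231994812487446976))) (.node (.node (.leaf 964032243391259362891605770676373952) (.leaf 967475478297358445585649811294138848)) (.node (.leaf 974413235799197226815686890442991808) (.leaf 980900036793685908669961361518299776)))) (.node (.node (.node (.leaf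 980471076794138453123090622513239744) (.leaf 964557050597336866861677078900125952)) (.node (.leaf 963586154189564391337659880665428320) (.leaf 961974970260961826993085819835864416))) (.node (.node (.leaf 961437127394284971752149738070575616) (.leaf 978848906321765318228057758256191168)) (.node (.leaf 975282347837805861281146658195812640) (.leaf 959369441968991605101417979571820128))))) (.node (.node (.node (.node (.leaf 956785519268800838518277719787548960) (.leaf 975730485700854266715878003960752224)) (.node (.leaf 984357907697432203550679524468446816) (.leaf 966178140656078847974956220257088000))) (.node (.node (.leaf 976645490670681252629768650522601824) (.leaf 960998611764766761720982487558378656)) (.node (.leaf 961079649793594949185898690730363104) (.leaf 978830736930744859194077315299128000)))) (.node (.node (.node (.leaf 963666891378398306850672849890486528) (.leaf 963273044311428513845591613079990400)) (.node (.leaf 960140851913554047273679183217887712) (.leaf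 981859368533660186592923651902057024))) (.node (.node (.leaf 957191941330643649306598435925239904) (.leaf 965329173741913349462495688547371360)) (.node (.leaf 961963331001228385589450645914726752) (.leaf 982200366387922401462899384795834976)))))) (.node (.node (.node (.node (.node (.leaf 980552700384576265729720227443837216) (.leaf 957191095659221779755328467305465952)) (.node (.leaf 967555929534396996894990521472789088) (.leaf 966268580695168784380421117417294016))) (.node (.node (.leaf 976240717545229318740193685195174336) (.leaf 984047333458777307627848289189221952)) (.node (.leaf 969760958228194960809489041871492256) (.leaf 973650940949257611677053784968943104)))) (.node (.node (.node (.leaf 960674438580646740803038415137648832) (.leaf 974958558425591117171784989339080320)) (.node (.leaf 967499601877737887918271111448122848) (.leaf 982223914627216435625744270302153312))) (.node (.node (.leaf 975728796061394828824764886276933728) (.leaf 981834745737026972465930489547754048))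 (.node (.leaf 967580552011861103590031286877162080) (.leaf 966624790664968556689856877765789856))))) (.node (.node (.node (.node (.leaf 980534224269714554029704190226934048) (.leaf 964881300512937298936018920921388480)) (.node (.leaf 964043383471044584942535886797711808) (.leaf 965853660482513087850271440871314656))) (.node (.node (.leaf 970166169448001225377830764005173760) (.leaf 980917054598250478245678372702726784)) (.node (.leaf 984032851889910786858571152954077760) (.leaf 974047807020567837051764399123204256)))) (.node (.node (.node (.leaf 970531291193741466378798385647978720) (.leaf 979601962421095093722112691704277280)) (.node (.leaf 964558049773308260107896336641709312) (.leaf 957557446835497456493610303259904704))) (.node (.node (.leaf 959707904518506867291709565320255040) (.leaf 965327675677306785831110017251027296)) (.node (.leaf 963597332628533994290326329734911328) (.leaf 973966585782220464488965975286502624))))))))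

def twoNext0 : Janko.Tree (ℕ) :=
  (.node (.node (.node (.node (.node (.node (.node (.leaf 1) (.leaf 56)) (.leaf 82)) (.node (.node (.leaf 48) (.leaf 121)) (.leaf 45))) (.node (.node (.node (.leaf 19) (.leaf 58)) (.leaf 92)) (.node (.node (.leaf 13) (.leaf 123)) (.leaf 113)))) (.node (.node (.node (.node (.leaf 15) (.leaf 50)) (.leaf 87)) (.node (.node (.leaf 56) (.leaf 78)) (.leaf 51))) (.node (.node (.node (.leaf 38) (.leaf 125)) (.leaf 51)) (.node (.node (.leaf 13) (.leaf 95)) (.leaf 49))))) (.node (.node (.node (.node (.node (.leaf 8) (.leaf 107)) (.leaf 85)) (.node (.node (.leaf 35) (.leaf 11)) (.leaf 104))) (.node (.node (.node (.leaf 33) (.leaf 83)) (.leaf 89)) (.node (.node (.leaf 71) (.leaf 126)) (.leaf 107)))) (.node (.node (.node (.node (.leaf 21) (.leaf 106)) (.leaf 90)) (.node (.node (.leaf 61) (.leaf 87)) (.leaf 104))) (.node (.node (.node (.leaf 43) (.leaf 72)) (.leaf 100)) (.node (.node (.leaf 62) (.leaf 105)) (.leaf 42)))))) (.node (.node (.node (.node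 (.node (.node (.leaf 4) (.leaf 120)) (.leaf 19)) (.node (.node (.leaf 45) (.leaf 75)) (.leaf 41))) (.node (.node (.node (.leaf 29) (.leaf 69)) (.leaf 25)) (.node (.node (.leaf 25) (.leaf 89)) (.leaf 54)))) (.node (.node (.node (.node (.leaf 17) (.leaf 113)) (.leaf 89)) (.node (.node (.leaf 60) (.leaf 63)) (.leaf 39))) (.node (.node (.node (.leaf 9) (.leaf 79)) (.leaf 28)) (.node (.node (.leaf 65) (.leaf 98)) (.leaf 49))))) (.node (.node (.node (.node (.node (.leaf 11) (.leaf 96)) (.leaf 57)) (.node (.node (.leaf 31) (.leaf 92)) (.leaf 99))) (.node (.node (.node (.leaf 35) (.leaf 81)) (.leaf 95)) (.node (.node (.leaf 15) (.leaf 99)) (.leaf 53)))) (.node (.node (.node (.node (.leaf 23) (.leaf 55)) (.leaf 61)) (.node (.node (.leaf 15) (.leaf 82)) (.leaf 0))) (.node (.node (.node (.leaf 46) (.leaf 124)) (.leaf 29)) (.node (.node (.leaf 79) (.leaf 112)) (.leaf 115)))))))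

def twoNext1 : Janko.Tree (ℕ) :=
  (.node (.node (.node (.node (.node (.node (.node (.leaf 2) (.leaf 47)) (.leaf 59)) (.node (.node (.leaf 49) (.leaf 88)) (.leaf 104))) (.node (.node (.node (.leaf 4) (.leaf 88)) (.leaf 78)) (.node (.node (.leaf 67) (.leaf 81)) (.leaf 108)))) (.node (.node (.node (.node (.leaf 1) (.leaf 118)) (.leaf 82)) (.node (.node (.leaf 57) (.leaf 87)) (.leaf 109))) (.node (.node (.node (.leaf 39) (.leaf 61)) (.leaf 43)) (.node (.node (.leaf 75) (.leaf 101)) (.leaf 113))))) (.node (.node (.node (.node (.node (.leaf 9) (.leaf 120)) (.leaf 22)) (.node (.node (.leaf 53) (.leaf 69)) (.leaf 106))) (.node (.node (.node (.leaf 4) (.leaf 68)) (.leaf 73)) (.node (.node (.leaf 24) (.leaf 18)) (.leaf 116)))) (.node (.node (.node (.node (.leaf 22) (.leaf 119)) (.leaf 23)) (.node (.node (.leaf 62) (.leaf 84)) (.leaf 111))) (.node (.node (.node (.leaf 44) (.leaf 75)) (.leaf 101)) (.node (.node (.leaf 78) (.leaf 108)) (.leaf 102)))))) (.node (.node (.node (.node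 (.node (.node (.leaf 5) (.leaf 48)) (.leaf 83)) (.node (.node (.leaf 51) (.leaf 77)) (.leaf 38))) (.node (.node (.node (.leaf 30) (.leaf 72)) (.leaf 26)) (.node (.node (.leaf 64) (.leaf 127)) (.leaf 114)))) (.node (.node (.node (.node (.leaf 18) (.leaf 52)) (.leaf 21)) (.node (.node (.leaf 14) (.leaf 74)) (.leaf 42))) (.node (.node (.node (.leaf 6) (.leaf 122)) (.leaf 98)) (.node (.node (.leaf 77) (.leaf 116)) (.leaf 117))))) (.node (.node (.node (.node (.node (.leaf 12) (.leaf 118)) (.leaf 86)) (.node (.node (.leaf 54) (.leaf 94)) (.leaf 108))) (.node (.node (.node (.leaf 36) (.leaf 68)) (.leaf 46)) (.node (.node (.leaf 20) (.leaf 106)) (.leaf 117)))) (.node (.node (.node (.node (.leaf 24) (.leaf 73)) (.leaf 90)) (.node (.node (.leaf 65) (.leaf 62)) (.leaf 36))) (.node (.node (.node (.leaf 47) (.leaf 127)) (.leaf 30)) (.node (.node (.leaf 80) (.leaf 119)) (.leaf 46)))))))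

def twoNext2 : Janko.Tree (ℕ) :=
  (.node (.node (.node (.node (.node (.node (.node (.leaf 3) (.leaf 47)) (.leaf 21)) (.node (.node (.leaf 50) (.leaf 127)) (.leaf 33))) (.node (.node (.node (.leaf 27) (.leaf 123)) (.leaf 76)) (.node (.node (.leaf 68) (.leaf 91)) (.leaf 54)))) (.node (.node (.node (.node (.leaf 2) (.leaf 28)) (.leaf 88)) (.node (.node (.leaf 58) (.leaf 126)) (.leaf 34))) (.node (.node (.node (.leaf 40) (.leaf 83)) (.leaf 97)) (.node (.node (.leaf 16) (.leaf 43)) (.leaf 41))))) (.node (.node (.node (.node (.node (.leaf 10) (.leaf 48)) (.leaf 20)) (.node (.node (.leaf 9) (.leaf 125)) (.leaf 101))) (.node (.node (.node (.leaf 5) (.leaf 94)) (.leaf 26)) (.node (.node (.leaf 72) (.leaf 86)) (.leaf 112)))) (.node (.node (.node (.node (.leaf 2) (.leaf 111)) (.leaf 91)) (.node (.node (.leaf 63) (.leaf 74)) (.leaf 97))) (.node (.node (.node (.leaf 45) (.leaf 66)) (.leaf 40)) (.node (.node (.leaf 16) (.leaf 120)) (.leaf 119)))))) (.node (.node (.node (.node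 (.node (.node (.leaf 6) (.leaf 103)) (.leaf 84)) (.node (.node (.leaf 40) (.leaf 125)) (.leaf 105))) (.node (.node (.node (.leaf 31) (.leaf 124)) (.leaf 93)) (.node (.node (.leaf 70) (.leaf 57)) (.leaf 115)))) (.node (.node (.node (.node (.leaf 19) (.leaf 110)) (.leaf 22)) (.node (.node (.leaf 11) (.leaf 121)) (.leaf 109))) (.node (.node (.node (.leaf 7) (.leaf 65)) (.leaf 99)) (.node (.node (.leaf 24) (.leaf 100)) (.leaf 116))))) (.node (.node (.node (.node (.node (.leaf 13) (.leaf 109)) (.leaf 3)) (.node (.node (.leaf 55) (.leaf 71)) (.leaf 32))) (.node (.node (.node (.leaf 37) (.leaf 124)) (.leaf 96)) (.node (.node (.leaf 73) (.leaf 103)) (.leaf 115)))) (.node (.node (.node (.node (.leaf 25) (.leaf 121)) (.leaf 23)) (.node (.node (.leaf 66) (.leaf 77)) (.leaf 37))) (.node (.node (.node (.leaf 7) (.leaf 67)) (.leaf 102)) (.node (.node (.leaf 71) (.leaf 29)) (.leaf 44)))))))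

def twoNext3 : Janko.Tree (ℕ) :=
  (.node (.node (.node (.node (.node (.node (.node (.leaf 0) (.leaf 117)) (.leaf 18)) (.node (.node (.leaf 36) (.leaf 67)) (.leaf 31))) (.node (.node (.node (.leaf 28) (.leaf 93)) (.leaf 1)) (.node (.node (.leaf 69) (.leaf 86)) (.leaf 37)))) (.node (.node (.node (.node (.leaf 16) (.leaf 111)) (.leaf 80)) (.node (.node (.leaf 59) (.leaf 92)) (.leaf 110))) (.node (.node (.node (.leaf 41) (.leaf 126)) (.leaf 27)) (.node (.node (.leaf 76) (.leaf 96)) (.leaf 100))))) (.node (.node (.node (.node (.node (.leaf 0) (.leaf 56)) (.leaf 60)) (.node (.node (.leaf 10) (.leaf 17)) (.leaf 107))) (.node (.node (.node (.leaf 34) (.leaf 60)) (.leaf 27)) (.node (.node (.leaf 14) (.leaf 114)) (.leaf 50)))) (.node (.node (.node (.node (.leaf 3) (.leaf 44)) (.leaf 58)) (.node (.node (.leaf 64) (.leaf 76)) (.leaf 95))) (.node (.node (.node (.leaf 10) (.leaf 66)) (.leaf 32)) (.node (.node (.leaf 17) (.leaf 38)) (.leaf 98)))))) (.node (.node (.node (.node (.node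 (.node (.leaf 7) (.leaf 114)) (.leaf 64)) (.node (.node (.leaf 52) (.leaf 90)) (.leaf 5))) (.node (.node (.node (.leaf 32) (.leaf 122)) (.leaf 94)) (.node (.node (.leaf 59) (.leaf 93)) (.leaf 39)))) (.node (.node (.node (.node (.leaf 20) (.leaf 97)) (.leaf 70)) (.node (.node (.leaf 12) (.leaf 80)) (.leaf 34))) (.node (.node (.node (.leaf 42) (.leaf 63)) (.leaf 52)) (.node (.node (.leaf 70) (.leaf 110)) (.leaf 118))))) (.node (.node (.node (.node (.node (.leaf 14) (.leaf 6)) (.leaf 85)) (.node (.node (.leaf 8) (.leaf 91)) (.leaf 33))) (.node (.node (.node (.leaf 30) (.leaf 123)) (.leaf 35)) (.node (.node (.leaf 74) (.leaf 55)) (.leaf 102)))) (.node (.node (.node (.node (.leaf 26) (.leaf 122)) (.leaf 85)) (.node (.node (.leaf 12) (.leaf 79)) (.leaf 112))) (.node (.node (.node (.leaf 8) (.leaf 84)) (.leaf 103)) (.node (.node (.leaf 81) (.leaf 105)) (.leaf 53)))))))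

def twoNext : Janko.Tree (ℕ) := (.node (.node twoNext0 twoNext2) (.node twoNext1 twoNext3))

def twoWord : Janko.Tree (ℕ) :=
  (.node (.node (.node (.node (.node (.node (.node (.leaf 1) (.leaf 1052945)) (.node (.leaf 65824) (.leaf 16843024))) (.node (.node (.leaf 4353) (.leaf 1114626)) (.node (.leaf 70145) (.leaf 16912641)))) (.node (.node (.node (.leaf 274) (.leaf 1056801)) (.node (.leaf 69650) (.leaf 16847121))) (.node (.node (.leaf 4610) (.leaf 1122322)) (.node (.leaf 74002) (.leaf 17899778))))) (.node (.node (.node (.node (.leaf 257) (.leaf 1053186)) (.node (.leaf 66064) (.leaf 16846865))) (.node (.node (.leaf 4370) (.leaf 1118466)) (.node (.leaf 73746) (.leaf 17830146)))) (.node (.node (.node (.leaf 4113) (.leaf 1114369)) (.node (.leaf 69904) (.leaf 16850977))) (.node (.node (.leaf 65794) (.leaf 1180177)) (.node (.leaf 1052704) (.leaf 269492240)))))) (.node (.node (.node (.node (.node (.leaf 17) (.leaf 1052961)) (.node (.leaf 66049) (.leaf 16843265))) (.node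 (.node (.leaf 4368) (.leaf 1118226)) (.node (.leaf 70160) (.leaf 17829905)))) (.node (.node (.node (.leaf 289) (.leaf 1057040)) (.node (.leaf 69889) (.leaf 16850960))) (.node (.node (.leaf 4625) (.leaf 1122562)) (.node (.leaf 1052689) (.leaf 269488146))))) (.node (.node (.node (.node (.leaf 272) (.leaf 1056784)) (.node (.leaf 69648) (.leaf 16847105))) (.node (.node (.leaf 4385) (.leaf 1118736)) (.node (.leaf 73986) (.leaf 17891617)))) (.node (.node (.node (.leaf 4128) (.leaf 1114401)) (.node (.leaf 69920) (.leaf 16908545))) (.node (.node (.leaf 65809) (.leaf 1184002)) (.node (.leaf 1052930) (.leaf 269553681))))))) (.node (.node (.node (.node (.node (.node (.leaf 16) (.leaf 1052960)) (.node (.leaf 65825) (.leaf 16843041))) (.node (.node (.leaf 4354) (.leaf 1118225)) (.node (.leaf 70146) (.leaf 16912642)))) (.node (.node (.node (.leaf 288) (.leaf 1057026)) (.node (.leaf 69664) (.leaf 16847376))) (.node (.node (.leaf 4624) (.leaf 1122337)) (.node (.leaf 1052688) (.leaf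 269488145))))) (.node (.node (.node (.node (.leaf 258) (.leaf 1053200)) (.node (.leaf 66065) (.leaf 16846866))) (.node (.node (.leaf 4384) (.leaf 1118481)) (.node (.leaf 73761) (.leaf 17834000)))) (.node (.node (.node (.leaf 4114) (.leaf 1114384)) (.node (.leaf 69905) (.leaf 16851202))) (.node (.node (.leaf 65808) (.leaf 1184001)) (.node (.leaf 1052929) (.leaf 269549857)))))) (.node (.node (.node (.node (.node (.leaf 18) (.leaf 1053185)) (.node (.leaf 66050) (.leaf 16843266))) (.node (.node (.leaf 4369) (.leaf 1118465)) (.node (.leaf 73744) (.leaf 17829906)))) (.node (.node (.node (.leaf 4112) (.leaf 1057042)) (.node (.leaf 69890) (.leaf 16850962))) (.node (.node (.leaf 65793) (.leaf 1179905)) (.node (.leaf 1052690) (.leaf 269488386))))) (.node (.node (.node (.node (.leaf 273) (.leaf 1056786)) (.node (.leaf 69649) (.leaf 16847106))) (.node (.node (.leaf 4609) (.leaf 1122320)) (.node (.leaf 74000) (.leaf 17895441)))) (.node (.node (.node (.leaf 4129) (.leaf 1114625))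 (.node (.leaf 69921) (.leaf 16908817))) (.node (.node (.leaf 65810) (.leaf 16843009)) (.node (.leaf 1052944) (.leaf 269558018))))))))

def twoPar : Janko.Tree (ℕ) :=
  (.node (.node (.node (.node (.node (.node (.node (.leaf 0) (.leaf 481)) (.node (.leaf 208) (.leaf 928))) (.node (.node (.leaf 97) (.leaf 658)) (.node (.leaf 337) (.leaf 1185)))) (.node (.node (.node (.leaf 34) (.leaf 561)) (.node (.leaf 258) (.leaf 1025))) (.node (.node (.leaf 146) (.leaf 770)) (.node (.leaf 418) (.leaf 1378))))) (.node (.node (.node (.node (.leaf 17) (.leaf 514)) (.node (.leaf 240) (.leaf 977))) (.node (.node (.leaf 114) (.leaf 706)) (.node (.leaf 370) (.leaf 1234)))) (.node (.node (.node (.leaf 65) (.leaf 609)) (.node (.leaf 304) (.leaf 1089))) (.node (.node (.leaf 178) (.leaf 849)) (.node (.leaf 448) (.leaf 1568)))))) (.node (.node (.node (.node (.node (.leaf 1) (.leaf 497)) (.node (.leaf 225) (.leaf 961))) (.node (.node (.leaf 112) (.leaf 674)) (.node (.leaf 352) (.leaf 1217))))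 (.node (.node (.node (.leaf 49) (.leaf 592)) (.node (.leaf 289) (.leaf 1072))) (.node (.node (.leaf 161) (.leaf 802)) (.node (.leaf 433) (.leaf 1522))))) (.node (.node (.node (.node (.leaf 32) (.leaf 544)) (.node (.leaf 256) (.leaf 1009))) (.node (.node (.leaf 129) (.leaf 752)) (.node (.leaf 402) (.leaf 1313)))) (.node (.node (.node (.leaf 80) (.leaf 641)) (.node (.leaf 320) (.leaf 1121))) (.node (.node (.leaf 193) (.leaf 882)) (.node (.leaf 466) (.leaf 1633))))))) (.node (.node (.node (.node (.node (.node (.leaf 0) (.leaf 496)) (.node (.leaf 209) (.leaf 945))) (.node (.node (.leaf 98) (.leaf 673)) (.node (.leaf 338) (.leaf 1186)))) (.node (.node (.node (.leaf 48) (.leaf 578)) (.node (.leaf 272) (.leaf 1056))) (.node (.node (.leaf 160) (.leaf 785)) (.node (.leaf 432) (.leaf 1521))))) (.node (.node (.node (.node (.leaf 18) (.leaf 528)) (.node (.leaf 241) (.leaf 978))) (.node (.node (.leaf 128) (.leaf 721)) (.node (.leaf 385) (.leaf 1264)))) (.node (.node (.node (.leaf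 66) (.leaf 624)) (.node (.leaf 305) (.leaf 1106))) (.node (.node (.leaf 192) (.leaf 881)) (.node (.leaf 465) (.leaf 1617)))))) (.node (.node (.node (.node (.node (.leaf 2) (.leaf 513)) (.node (.leaf 226) (.leaf 962))) (.node (.node (.leaf 113) (.leaf 705)) (.node (.leaf 368) (.leaf 1218)))) (.node (.node (.node (.leaf 64) (.leaf 594)) (.node (.leaf 290) (.leaf 1074))) (.node (.node (.leaf 177) (.leaf 817)) (.node (.leaf 434) (.leaf 1538))))) (.node (.node (.node (.node (.leaf 33) (.leaf 546)) (.node (.leaf 257) (.leaf 1010))) (.node (.node (.leaf 145) (.leaf 768)) (.node (.leaf 416) (.leaf 1329)))) (.node (.node (.node (.leaf 81) (.leaf 657)) (.node (.leaf 321) (.leaf 1153))) (.node (.node (.leaf 194) (.leaf 913)) (.node (.leaf 480) (.leaf 1682))))))))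

def twoL0 : Janko.Tree (List ℤ) :=
  (.node (.node (.node (.node (.node (.node (.node (.leaf []) (.leaf [0, 1, 0, 0, -1])) (.node (.leaf []) (.leaf [1, 0, 0, 0, 0, 0, 0, 0]))) (.node (.node (.leaf []) (.leaf [-82, 13, -14, 87, -59, 4, -15, 1])) (.leaf [-1, -2, -3, -2, 1, 0, 4]))) (.node (.node (.node (.leaf [0, -1, -1, 1, 2, 0, -1]) (.leaf [1])) (.node (.leaf []) (.leaf [-80, -1, -22, 56, -40, 10, 6]))) (.node (.node (.leaf [1]) (.leaf [242, -43, 43, -264, 169, -15, 64, -6])) (.leaf [])))) (.node (.node (.node (.node (.leaf []) (.leaf [0, 0, 1])) (.node (.leaf []) (.leaf [0, 0, -1, 1, 1]))) (.node (.node (.leaf []) (.leaf [-3, 0, 0, 2, -2, 1])) (.leaf [49, 3, 9, -15, 28, -6, -20, -1]))) (.node (.node (.node (.leaf []) (.leaf [])) (.leaf [-90, 10, -19, 85, -59, 6, -9, 1])) (.node (.node (.leaf [0, 0, -1, 1, 1, 0, -1]) (.leaf [0, 0, 1])) (.leaf [-81, 6, -18, 72, -48, 8, -8, 1]))))) (.node (.node (.node (.node (.node (.leaf []) (.leaf [90, 10, 36, -88, 30, -12, 6, 8]))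 (.node (.leaf []) (.leaf [40, -2, 9, -35, 24, -4, 3]))) (.node (.node (.leaf [130, -30, 19, -158, 99, -6, 46, -3]) (.leaf [-1, 0, 0, 1])) (.leaf [0, -2, 0, -5, 1, 0, 5]))) (.node (.node (.node (.leaf []) (.leaf [26, 0, 5, -13, 15, -3, -6])) (.leaf [1, -2, 0, -8, 1, 0, 7])) (.node (.node (.leaf []) (.leaf [-81, -4, -19, 43, -39, 11, 14, 1])) (.leaf [-253, 13, -59, 225, -141, 27, -24, -1])))) (.node (.node (.node (.node (.leaf []) (.leaf [208, -10, 53, -201, 114, -21, 28, 3])) (.node (.leaf []) (.leaf [-2, -3, 2, -20, -2, 2, 18, 1]))) (.node (.node (.leaf []) (.leaf [-86, -12, -20, 23, -38, 14, 37, -1])) (.leaf [0, 0, 1, 2, -1, 0, -1]))) (.node (.node (.node (.leaf []) (.leaf [5, 3, -1, 6, 1, -2, -7])) (.leaf [])) (.node (.node (.leaf [-27, 4, -11, 40, -18, -1, -9, -1]) (.leaf [1, 0, 0, -1, 1])) (.leaf [0, 0, 1])))))) (.node (.node (.node (.node (.node (.node (.leaf []) (.leaf [])) (.node (.leaf [1]) (.leaf [0, 0, 0, 0, 1, 0, 0, 0]))) (.node (.node (.leaf [-84, 4, -21,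 77, -46, 8, -9]) (.leaf [0, 0, 0, 0, -1, 0, 1])) (.leaf [4, 2, 1, 3, 1, -1, -5]))) (.node (.node (.node (.leaf []) (.leaf [1, 0, 0, -1, 1])) (.node (.leaf [0, 0, 1]) (.leaf [78, -8, 15, -70, 49, -7, 10, -1]))) (.node (.node (.leaf [1, 0, 0, -1, 1]) (.leaf [-1, -1, -2, -1, 1, 0, 2])) (.leaf [0, 0, 0, -1, 0, 1])))) (.node (.node (.node (.node (.leaf []) (.leaf [-4, -1, -1, 0, -1, 1, 2])) (.node (.leaf []) (.leaf [-1, 0, 0, 2]))) (.node (.node (.leaf []) (.leaf [-1, 0, 0, 2, 0, 0, -1])) (.leaf [275, -11, 71, -243, 148, -28, 23, 1]))) (.node (.node (.node (.leaf [-1, 0, -1, 1]) (.leaf [167, -16, 35, -161, 106, -13, 20])) (.leaf [1])) (.node (.node (.leaf [-1, 1, 1, 4, 0, 1, -5]) (.leaf [1])) (.leaf [-5, -2, -6, 0, 0, 0, 5]))))) (.node (.node (.node (.node (.node (.leaf []) (.leaf [84, -11, 18, -84, 58, -5, 11, -1])) (.node (.leaf [-16, 0, -3, 10, -9, 1, 3]) (.leaf [23, -9, 5, -43, 22, 2, 16, 1]))) (.node (.node (.leaf [3, 1, 2, 0, 1, 0, -3]) (.leaf [2, -2, -2, 0, 3, 0,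 1, -1])) (.leaf [78, -6, 20, -80, 46, -6, 12, 1]))) (.node (.node (.node (.leaf []) (.leaf [109, -10, 29, -110, 67, -6, 14])) (.leaf [])) (.node (.node (.leaf [1]) (.leaf [7, -5, -2, -16, 12, 2, 5])) (.leaf [-153, 19, -32, 159, -101, 10, -26])))) (.node (.node (.node (.node (.leaf []) (.leaf [0, 0, 1])) (.node (.leaf [-37, -5, -4, 1, -18, 7, 20, 1]) (.leaf [39, -11, 7, -58, 34, 1, 17, 1]))) (.node (.node (.leaf [0, 0, 0, -1, 0, 0, 1]) (.leaf [84, -9, 15, -76, 54, -7, 9, -1])) (.leaf [0, 0, 0, 1]))) (.node (.node (.node (.leaf []) (.leaf [76, -6, 14, -65, 47, -8, 6, -1])) (.leaf [0, 0, 1])) (.node (.node (.leaf []) (.leaf [97, -3, 24, -81, 53, -10, 4])) (.leaf [75, -9, 14, -74, 47, -7, 15, -1])))))))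

def twoL1 : Janko.Tree (List ℤ) :=
  (.node (.node (.node (.node (.node (.node (.node (.leaf []) (.leaf [88, -11, 19, -95, 57, -6, 19])) (.node (.leaf [59, -7, 10, -58, 35, -7, 15, -1]) (.leaf [0, 1, 0, 0, 0, 0, 0, 0]))) (.node (.node (.leaf []) (.leaf [-365, 23, -91, 350, -207, 34, -48, -2])) (.leaf []))) (.node (.node (.node (.leaf [1]) (.leaf [-372, 25, -92, 355, -212, 35, -50, -1])) (.node (.leaf [1, -1, 1, -3, 1, 0, 2]) (.leaf [18, -7, 6, -39, 17, 3, 15, 1]))) (.node (.node (.leaf []) (.leaf [99, -9, 20, -85, 63, -8, 5, -1])) (.leaf [-79, 5, -21, 78, -42, 8, -15])))) (.node (.node (.node (.node (.leaf [0, 0, 1]) (.leaf [-2, 0, 1, 1, -2, 1])) (.node (.leaf [5, 2, 4, 0, 1, 0, -5]) (.leaf [2, 0, 0, -1, 2]))) (.node (.node (.leaf []) (.leaf [-135, -6, -44, 125, -57, 17, -10, -7])) (.leaf []))) (.node (.node (.node (.leaf []) (.leaf [0, 0, 1])) (.leaf [-130, 29, -21, 160, -96, 7, -49, 3])) (.node (.node (.leaf []) (.leaf [-40, 3, -11, 44, -24, 3, -7, -1])) (.leaf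 [-2, -1, 0, -2, 0, 1, 2]))))) (.node (.node (.node (.node (.node (.leaf []) (.leaf [2, 0, 1, -2, 1])) (.node (.leaf [-12, 4, -1, 17, -11, 0, -5]) (.leaf [80, -4, 20, -70, 46, -8, 6]))) (.node (.node (.leaf []) (.leaf [0, 0, 1])) (.leaf []))) (.node (.node (.node (.leaf [0, 0, 1]) (.leaf [163, -13, 34, -144, 100, -14, 12, -1])) (.leaf [0, 0, 0, -1, 1])) (.node (.node (.leaf [-41, 5, -5, 38, -25, 6, -10, 1]) (.leaf [-1, 0, 0, 1])) (.leaf [])))) (.node (.node (.node (.node (.leaf []) (.leaf [43, -1, 9, -27, 27, -4, -8])) (.node (.leaf [1]) (.leaf [4, 1, 1, 1, 2, 0, -3]))) (.node (.node (.leaf []) (.leaf [90, -5, 15, -64, 56, -9, -5, -1])) (.leaf []))) (.node (.node (.node (.leaf []) (.leaf [0, 1, 0, 0, -1])) (.leaf [])) (.node (.node (.leaf []) (.leaf [-1, -1, -2, -1, 1, 0, 2])) (.leaf [-270, 22, -51, 234, -171, 24, -14, 1])))))) (.node (.node (.node (.node (.node (.node (.leaf []) (.leaf [1])) (.node (.leaf []) (.leaf [0, 0, 0, 0, 0, 1, 0, 0]))) (.node (.node (.leaf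 []) (.leaf [161, -11, 37, -146, 91, -17, 21, -1])) (.leaf [85, -4, 21, -74, 47, -9, 7]))) (.node (.node (.node (.leaf []) (.leaf [3, -1, 0, -5, 3, 0, 2])) (.node (.leaf [1]) (.leaf [0, 2, 1, 4, -1, 0, -4, 1]))) (.node (.node (.leaf [16, -3, 5, -19, 12, 0, 3]) (.leaf [-95, 5, -17, 69, -57, 11, 2, 1])) (.leaf [])))) (.node (.node (.node (.node (.leaf []) (.leaf [20, 5, 5, 1, 7, -4, -13])) (.node (.leaf [0, 0, 1]) (.leaf [-1, 0, 0, 1, 0, 1]))) (.node (.node (.leaf [-1, 0, -1, 1]) (.leaf [0, 0, 1])) (.leaf [-72, 10, -12, 73, -50, 5, -12, 1]))) (.node (.node (.node (.leaf [0, 0, 1]) (.leaf [-173, 17, -35, 160, -112, 13, -15, 1])) (.leaf [])) (.node (.node (.leaf []) (.leaf [115, 6, 33, -84, 47, -17, 0, 2])) (.leaf [-87, 5, -20, 71, -50, 8, -3, 1]))))) (.node (.node (.node (.node (.node (.leaf []) (.leaf [21, 2, 5, -3, 13, -2, -14])) (.node (.leaf []) (.leaf [-41, 2, -12, 36, -22, 4, -2]))) (.node (.node (.leaf []) (.leaf [-3, -1, -1, 0, -1, 1, 2])) (.leaf []))) (.node (.node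 (.node (.leaf []) (.leaf [-41, 2, -12, 36, -22, 4, -3])) (.leaf [8, 1, 1, 0, 4, -1, -5])) (.node (.node (.leaf [8, 0, 2, -4, 5, 0, -3]) (.leaf [214, -5, 56, -197, 114, -22, 17, 5])) (.leaf [])))) (.node (.node (.node (.node (.leaf []) (.leaf [0, 0, 0, -1, 0, 1])) (.node (.leaf [2, 0, 1, -2, 1]) (.leaf [-4, -1, -1, 2, -1, 1, 2]))) (.node (.node (.leaf []) (.leaf [-276, 10, -70, 241, -148, 29, -21, -1])) (.leaf [0, 0, 1]))) (.node (.node (.node (.leaf []) (.leaf [])) (.leaf [1])) (.node (.node (.leaf []) (.leaf [20, 1, 2, -7, 12, -3, -8, 1])) (.leaf [-1, 0, -1, 1])))))))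

def twoL2 : Janko.Tree (List ℤ) :=
  (.node (.node (.node (.node (.node (.node (.node (.leaf []) (.leaf [1])) (.node (.leaf [-1, 0, -1, 1]) (.leaf [0, 0, 1, 0, 0, 0, 0, 0]))) (.node (.node (.leaf []) (.leaf [2, 0, 1, -2, 1])) (.leaf [-8, -2, -4, -1, -4, 0, 9]))) (.node (.node (.node (.leaf []) (.leaf [])) (.node (.leaf [1, 0, 0, 1, 0, -1]) (.leaf [-41, 2, -13, 43, -23, 3, -4, -1]))) (.node (.node (.leaf []) (.leaf [3, 0, -1, -1, 2, -1])) (.leaf [1, 0, 0, -1, 1])))) (.node (.node (.node (.node (.leaf [1]) (.leaf [-2, -8, 0, -29, 6, 4, 21, 1])) (.node (.leaf []) (.leaf [3, 0, 2, -2, 2]))) (.node (.node (.leaf []) (.leaf [-97, 3, -23, 81, -53, 10, -4])) (.leaf [1]))) (.node (.node (.node (.leaf []) (.leaf [211, -31, 43, -226, 139, -14, 50, -3])) (.leaf [])) (.node (.node (.leaf [1]) (.leaf [-143, 22, -28, 153, -94, 11, -37, 3])) (.leaf [0, 0, 1]))))) (.node (.node (.node (.node (.node (.leaf []) (.leaf [0, 0, 1])) (.node (.leaf [1]) (.leaf [-7, 5, 1, 16, -11, -1, -5])))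 (.node (.node (.leaf [0, 0, 1]) (.leaf [-2, 0, 1, 1, -2, 1])) (.leaf [41, -2, 10, -36, 23, -4, 3]))) (.node (.node (.node (.leaf [1]) (.leaf [-1, -1, 0, -2, 0, 1, 2])) (.leaf [0, 0, 1])) (.node (.node (.leaf []) (.leaf [0, 0, 1])) (.leaf [4, 0, 0, -2, 2, -1])))) (.node (.node (.node (.node (.leaf [0, 0, 1]) (.leaf [4, 1, 1, 0, 1, -1, -2])) (.node (.leaf []) (.leaf [34, 18, 10, 25, 9, -7, -49, 3]))) (.node (.node (.leaf []) (.leaf [-3, 0, 0, 1, -1, 1])) (.leaf [-23, 0, -4, 15, -14, 2, 4]))) (.node (.node (.node (.leaf []) (.leaf [0, 0, 0, -1, 0, 0, 1])) (.leaf [-68, 19, -5, 80, -58, 3, -23, 3])) (.node (.node (.leaf [0, 0, 1]) (.leaf [94, -1, 24, -77, 50, -9, 0, 1])) (.leaf [])))))) (.node (.node (.node (.node (.node (.node (.leaf []) (.leaf [282, -5, 70, -242, 150, -31, 12, 5])) (.node (.leaf []) (.leaf [0, 0, 0, 0, 0, 0, 1, 0]))) (.node (.node (.leaf [65, -10, 15, -78, 42, -4, 21]) (.leaf [81, -4, 21, -71, 45, -8, 6])) (.leaf []))) (.node (.node (.node (.leaf [])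 (.leaf [])) (.node (.leaf []) (.leaf [-2, -1, 0, 0, 0, 1, 2]))) (.node (.node (.leaf []) (.leaf [-25, 0, -4, 12, -14, 3, 6])) (.leaf [])))) (.node (.node (.node (.node (.leaf []) (.leaf [170, -10, 42, -158, 98, -16, 17, 1])) (.node (.leaf [1]) (.leaf [1, 0, 1, -1, 1, 1]))) (.node (.node (.leaf [0, 0, 1]) (.leaf [-304, 8, -78, 272, -162, 32, -22, -5])) (.leaf [2, 0, 1, -2, 1]))) (.node (.node (.node (.leaf [1]) (.leaf [-1, 0, -1, 1])) (.leaf [])) (.node (.node (.leaf [-65, 10, -17, 78, -41, 4, -21]) (.leaf [-181, 32, -34, 207, -127, 10, -51, 3])) (.leaf [325, -23, 72, -298, 187, -33, 41, -1]))))) (.node (.node (.node (.node (.node (.leaf []) (.leaf [-48, -3, -9, 14, -27, 6, 20, 1])) (.node (.leaf [0, 0, -1, 0, 1]) (.leaf [3, 0, -2, 3, 5, 0, -5]))) (.node (.node (.leaf []) (.leaf [-4, -1, -2, 3, 2, 2, -3])) (.leaf [0, 0, 1]))) (.node (.node (.node (.leaf []) (.leaf [201, -13, 37, -155, 125, -20, -1, -3])) (.leaf [])) (.node (.node (.leaf []) (.leaf [-74, 0, -21, 64,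 -36, 9, -5, -1])) (.leaf [-3, -2, -3, -2, 0, 0, 5])))) (.node (.node (.node (.node (.leaf []) (.leaf [])) (.node (.leaf [0, 0, 1]) (.leaf [30, -6, 5, -39, 24, 0, 9, 1]))) (.node (.node (.leaf []) (.leaf [0, 0, 1])) (.leaf [1]))) (.node (.node (.node (.leaf [0, 0, 1]) (.leaf [1])) (.leaf [])) (.node (.node (.leaf [-367, 20, -88, 327, -210, 35, -28, -1]) (.leaf [-1, 0, 0, 1])) (.leaf [0, 0, 1])))))))

def twoL3 : Janko.Tree (List ℤ) :=
  (.node (.node (.node (.node (.node (.node (.node (.leaf [1]) (.leaf [-148, 26, -28, 163, -103, 8, -38, 3])) (.node (.leaf [0, 0, 1]) (.leaf [0, 0, 0, 1, 0, 0, 0, 0]))) (.node (.node (.leaf [0, 0, 0, -1, 1]) (.leaf [0, 0, 1])) (.leaf [1]))) (.node (.node (.node (.leaf []) (.leaf [5, 0, 0, -2, 2, -1])) (.node (.leaf [-1, 0, 0, 1]) (.leaf [158, -13, 34, -138, 96, -14, 14, -2]))) (.node (.node (.leaf []) (.leaf [1, 0, 0, -1, 1])) (.leaf [0, 0, 1])))) (.node (.node (.node (.node (.leaf []) (.leaf [149, -15, 34, -148, 91, -12, 25, -1])) (.node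 (.leaf [-82, 10, -12, 76, -54, 8, -12, 1]) (.leaf [-5, -1, 1, 0, -1, 2, 2]))) (.node (.node (.leaf []) (.leaf [-87, 5, -20, 78, -50, 9, -8])) (.leaf []))) (.node (.node (.node (.leaf []) (.leaf [])) (.leaf [0, 0, 1])) (.node (.node (.leaf []) (.leaf [0, 0, 1])) (.leaf [-76, -17, -18, -4, -30, 14, 52]))))) (.node (.node (.node (.node (.node (.leaf [0, 0, 1]) (.leaf [0, 2, 0, 8, -1, 0, -7])) (.node (.leaf [-5, 0, 1, -1, -3, 1, 3]) (.leaf [15, -3, 4, -24, 10, 0, 9, 1]))) (.node (.node (.leaf [1]) (.leaf [-85, 4, -22, 79, -48, 8, -7, -1])) (.leaf []))) (.node (.node (.node (.leaf []) (.leaf [0, 0, 1])) (.leaf [1])) (.node (.node (.leaf [0, 0, 1]) (.leaf [97, 11, 22, -32, 46, -14, -38, 1])) (.leaf [1, 0, 0, -1, 1])))) (.node (.node (.node (.node (.leaf [1]) (.leaf [7, 2, 1, 4, 3, -2, -7])) (.node (.leaf [142, -23, 29, -155, 94, -10, 39, -3]) (.leaf [11, -2, 6, -23, 6, 1, 10, 1]))) (.node (.node (.leaf []) (.leaf [0, 0, 1])) (.leaf [1, 0, 0, 1, 0, -1]))) (.node (.node (.node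 (.leaf [-8, -2, -1, -3, -3, 2, 7]) (.leaf [1])) (.leaf [-1, 0, -1, 1])) (.node (.node (.leaf [1]) (.leaf [92, -3, 23, -78, 51, -9, 4])) (.leaf [10, -4, 2, -19, 11, 1, 6])))))) (.node (.node (.node (.node (.node (.node (.leaf []) (.leaf [374, -21, 90, -349, 209, -38, 45, 3])) (.node (.leaf [-2, 0, 2, 0, 0, 2, -2]) (.leaf [0, 0, 0, 0, 0, 0, 0, 1]))) (.node (.node (.leaf []) (.leaf [-91, 10, -17, 82, -63, 6, -4, 1])) (.leaf [0, 0, -1, 0, 1]))) (.node (.node (.node (.leaf []) (.leaf [-7, 5, 0, 16, -11, -2, -5])) (.leaf [])) (.node (.node (.leaf [-3, 0, 1, -2, -4, 0, 5]) (.leaf [-19, 0, -3, 9, -12, 2, 6])) (.leaf [1])))) (.node (.node (.node (.node (.leaf []) (.leaf [-4, 0, 0, 2, -2, 1])) (.node (.leaf [92, -10, 17, -83, 64, -6, 4, -1]) (.leaf [-137, 7, -35, 123, -73, 15, -16, 1]))) (.node (.node (.leaf [1]) (.leaf [3, 2, 1, 2, 1, 0, -5])) (.leaf [0, 0, 1]))) (.node (.node (.node (.leaf []) (.leaf [0, 0, 1])) (.leaf [-122, 21, -23, 133, -83, 9, -34, 3])) (.node (.node (.leaf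 [-167, 10, -38, 147, -92, 18, -19, 1]) (.leaf [3, 0, -1, -1, 2, -1])) (.leaf []))))) (.node (.node (.node (.node (.node (.leaf []) (.leaf [-1, 0, 0, 1])) (.node (.leaf [-24, -1, -5, 13, -14, 2, 7]) (.leaf [-17, 0, -4, 11, -9, 2, 3]))) (.node (.node (.leaf [0, -2, -1, -7, 1, 0, 7]) (.leaf [271, -32, 53, -252, 171, -24, 43, -7])) (.leaf [1]))) (.node (.node (.node (.leaf [-8, -3, -1, -3, -2, 2, 7]) (.leaf [525, -38, 116, -478, 311, -49, 53, -1])) (.leaf [-21, 1, -8, 20, -10, 2, -3])) (.node (.node (.leaf []) (.leaf [-2, 0, 0, 1, -1, 1])) (.leaf [-91, 3, -22, 77, -50, 9, -4])))) (.node (.node (.node (.node (.leaf []) (.leaf [])) (.node (.leaf [68, -9, 14, -68, 46, -4, 9]) (.leaf [-50, 4, -9, 44, -29, 6, -6, 1]))) (.node (.node (.leaf [0, 0, 1]) (.leaf [1])) (.leaf []))) (.node (.node (.node (.leaf [1]) (.leaf [-289, 16, -70, 274, -162, 29, -36, -3])) (.leaf [])) (.node (.node (.leaf []) (.leaf [0, 0, 1])) (.leaf [-3, 1, -1, 2, -3, 0, 1])))))))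

def twoL : Janko.Tree (List ℤ) := (.node (.node twoL0 twoL2) (.node twoL1 twoL3))

def twoKind0 : Janko.Tree (ℕ) :=
  (.node (.node (.node (.node (.node (.node (.node (.leaf 0) (.leaf 3)) (.node (.leaf 0) (.leaf 2))) (.node (.node (.leaf 0) (.leaf 3)) (.leaf 3))) (.node (.node (.node (.leaf 3) (.leaf 3)) (.node (.leaf 0) (.leaf 3))) (.node (.node (.leaf 3) (.leaf 3)) (.leaf 0)))) (.node (.node (.node (.node (.leaf 0) (.leaf 3)) (.node (.leaf 0) (.leaf 3))) (.node (.node (.leaf 0) (.leaf 3)) (.leaf 3))) (.node (.node (.node (.leaf 0) (.leaf 0)) (.leaf 3)) (.node (.node (.leaf 3) (.leaf 3)) (.leaf 3))))) (.node (.node (.node (.node (.node (.leaf 0) (.leaf 3)) (.node (.leaf 0) (.leaf 3))) (.node (.node (.leaf 3) (.leaf 3)) (.leaf 3))) (.node (.node (.node (.leaf 0) (.leaf 3)) (.leaf 3)) (.node (.node (.leaf 0) (.leaf 3)) (.leaf 3)))) (.node (.node (.node (.node (.leaf 0) (.leaf 3)) (.node (.leaf 0) (.leaf 3))) (.node (.node (.leaf 0) (.leaf 3)) (.leaf 3))) (.node (.node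 (.node (.leaf 0) (.leaf 3)) (.leaf 0)) (.node (.node (.leaf 3) (.leaf 3)) (.leaf 3)))))) (.node (.node (.node (.node (.node (.node (.leaf 0) (.leaf 0)) (.node (.leaf 3) (.leaf 2))) (.node (.node (.leaf 3) (.leaf 3)) (.leaf 3))) (.node (.node (.node (.leaf 0) (.leaf 3)) (.node (.leaf 3) (.leaf 3))) (.node (.node (.leaf 3) (.leaf 3)) (.leaf 3)))) (.node (.node (.node (.node (.leaf 0) (.leaf 3)) (.node (.leaf 0) (.leaf 3))) (.node (.node (.leaf 0) (.leaf 3)) (.leaf 3))) (.node (.node (.node (.leaf 3) (.leaf 3)) (.leaf 3)) (.node (.node (.leaf 3) (.leaf 3)) (.leaf 3))))) (.node (.node (.node (.node (.node (.leaf 0) (.leaf 3)) (.node (.leaf 3) (.leaf 3))) (.node (.node (.leaf 3) (.leaf 3)) (.leaf 3))) (.node (.node (.node (.leaf 0) (.leaf 3)) (.leaf 0)) (.node (.node (.leaf 3) (.leaf 3)) (.leaf 3)))) (.node (.node (.node (.node (.leaf 0) (.leaf 3)) (.node (.leaf 3) (.leaf 3))) (.node (.node (.leaf 3) (.leaf 3)) (.leaf 3))) (.node (.node (.node (.leaf 0) (.leaf 3)) (.leaf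 3)) (.node (.node (.leaf 0) (.leaf 3)) (.leaf 3)))))))

def twoKind1 : Janko.Tree (ℕ) :=
  (.node (.node (.node (.node (.node (.node (.node (.leaf 0) (.leaf 3)) (.node (.leaf 3) (.leaf 2))) (.node (.node (.leaf 0) (.leaf 3)) (.leaf 0))) (.node (.node (.node (.leaf 3) (.leaf 3)) (.node (.leaf 3) (.leaf 3))) (.node (.node (.leaf 0) (.leaf 3)) (.leaf 3)))) (.node (.node (.node (.node (.leaf 3) (.leaf 3)) (.node (.leaf 3) (.leaf 3))) (.node (.node (.leaf 0) (.leaf 3)) (.leaf 0))) (.node (.node (.node (.leaf 0) (.leaf 3)) (.leaf 3)) (.node (.node (.leaf 0) (.leaf 3)) (.leaf 3))))) (.node (.node (.node (.node (.node (.leaf 0) (.leaf 3)) (.node (.leaf 3) (.leaf 3))) (.node (.node (.leaf 0) (.leaf 3)) (.leaf 0))) (.node (.node (.node (.leaf 3) (.leaf 3)) (.leaf 3)) (.node (.node (.leaf 3) (.leaf 3)) (.leaf 0)))) (.node (.node (.node (.node (.leaf 0) (.leaf 3)) (.node (.leaf 3) (.leaf 3))) (.node (.node (.leaf 0) (.leaf 3)) (.leaf 0))) (.node (.node (.node (.leaf 0) (.leaf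 3)) (.leaf 0)) (.node (.node (.leaf 0) (.leaf 3)) (.leaf 3)))))) (.node (.node (.node (.node (.node (.node (.leaf 0) (.leaf 3)) (.node (.leaf 0) (.leaf 2))) (.node (.node (.leaf 0) (.leaf 3)) (.leaf 3))) (.node (.node (.node (.leaf 0) (.leaf 3)) (.node (.leaf 3) (.leaf 3))) (.node (.node (.leaf 3) (.leaf 3)) (.leaf 0)))) (.node (.node (.node (.node (.leaf 0) (.leaf 3)) (.node (.leaf 3) (.leaf 3))) (.node (.node (.leaf 3) (.leaf 3)) (.leaf 3))) (.node (.node (.node (.leaf 3) (.leaf 3)) (.leaf 0)) (.node (.node (.leaf 0) (.leaf 3)) (.leaf 3))))) (.node (.node (.node (.node (.node (.leaf 0) (.leaf 3)) (.node (.leaf 0) (.leaf 3))) (.node (.node (.leaf 0) (.leaf 3)) (.leaf 0))) (.node (.node (.node (.leaf 0) (.leaf 3)) (.leaf 3)) (.node (.node (.leaf 3) (.leaf 3)) (.leaf 0)))) (.node (.node (.node (.node (.leaf 0) (.leaf 3)) (.node (.leaf 3) (.leaf 3))) (.node (.node (.leaf 0) (.leaf 3)) (.leaf 3))) (.node (.node (.node (.leaf 0) (.leaf 0)) (.leaf 3)) (.node (.node (.leaf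 0) (.leaf 3)) (.leaf 3)))))))

def twoKind2 : Janko.Tree (ℕ) :=
  (.node (.node (.node (.node (.node (.node (.node (.leaf 0) (.leaf 3)) (.node (.leaf 3) (.leaf 2))) (.node (.node (.leaf 0) (.leaf 3)) (.leaf 3))) (.node (.node (.node (.leaf 0) (.leaf 0)) (.node (.leaf 3) (.leaf 3))) (.node (.node (.leaf 0) (.leaf 3)) (.leaf 3)))) (.node (.node (.node (.node (.leaf 3) (.leaf 3)) (.node (.leaf 0) (.leaf 3))) (.node (.node (.leaf 0) (.leaf 3)) (.leaf 3))) (.node (.node (.node (.leaf 0) (.leaf 3)) (.leaf 0)) (.node (.node (.leaf 3) (.leaf 3)) (.leaf 3))))) (.node (.node (.node (.node (.node (.leaf 0) (.leaf 3)) (.node (.leaf 3) (.leaf 3))) (.node (.node (.leaf 3) (.leaf 3)) (.leaf 3))) (.node (.node (.node (.leaf 3) (.leaf 3)) (.leaf 3)) (.node (.node (.leaf 0) (.leaf 3)) (.leaf 3)))) (.node (.node (.node (.node (.leaf 3) (.leaf 3)) (.node (.leaf 0) (.leaf 3))) (.node (.node (.leaf 0) (.leaf 3)) (.leaf 3))) (.node (.node (.node (.leaf 0) (.leaf 3)) (.leaf 3)) (.node (.node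 (.leaf 3) (.leaf 3)) (.leaf 0)))))) (.node (.node (.node (.node (.node (.node (.leaf 0) (.leaf 3)) (.node (.leaf 0) (.leaf 2))) (.node (.node (.leaf 3) (.leaf 3)) (.leaf 0))) (.node (.node (.node (.leaf 0) (.leaf 0)) (.node (.leaf 0) (.leaf 3))) (.node (.node (.leaf 0) (.leaf 3)) (.leaf 0)))) (.node (.node (.node (.node (.leaf 0) (.leaf 3)) (.node (.leaf 3) (.leaf 3))) (.node (.node (.leaf 3) (.leaf 3)) (.leaf 3))) (.node (.node (.node (.leaf 3) (.leaf 3)) (.leaf 0)) (.node (.node (.leaf 3) (.leaf 3)) (.leaf 3))))) (.node (.node (.node (.node (.node (.leaf 0) (.leaf 3)) (.node (.leaf 3) (.leaf 3))) (.node (.node (.leaf 0) (.leaf 3)) (.leaf 3))) (.node (.node (.node (.leaf 0) (.leaf 3)) (.leaf 0)) (.node (.node (.leaf 0) (.leaf 3)) (.leaf 3)))) (.node (.node (.node (.node (.leaf 0) (.leaf 0)) (.node (.leaf 3) (.leaf 3))) (.node (.node (.leaf 0) (.leaf 3)) (.leaf 3))) (.node (.node (.node (.leaf 3) (.leaf 3)) (.leaf 0)) (.node (.node (.leaf 3) (.leaf 3)) (.leaf 3)))))))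

def twoKind3 : Janko.Tree (ℕ) :=
  (.node (.node (.node (.node (.node (.node (.node (.leaf 3) (.leaf 3)) (.node (.leaf 3) (.leaf 2))) (.node (.node (.leaf 3) (.leaf 3)) (.leaf 3))) (.node (.node (.node (.leaf 0) (.leaf 3)) (.node (.leaf 3) (.leaf 3))) (.node (.node (.leaf 0) (.leaf 3)) (.leaf 3)))) (.node (.node (.node (.node (.leaf 0) (.leaf 3)) (.node (.leaf 3) (.leaf 3))) (.node (.node (.leaf 0) (.leaf 3)) (.leaf 0))) (.node (.node (.node (.leaf 0) (.leaf 0)) (.leaf 3)) (.node (.node (.leaf 0) (.leaf 3)) (.leaf 3))))) (.node (.node (.node (.node (.node (.leaf 3) (.leaf 3)) (.node (.leaf 3) (.leaf 3))) (.node (.node (.leaf 3) (.leaf 3)) (.leaf 0))) (.node (.node (.node (.leaf 0) (.leaf 3)) (.leaf 3)) (.node (.node (.leaf 3) (.leaf 3)) (.leaf 3)))) (.node (.node (.node (.node (.leaf 3) (.leaf 3)) (.node (.leaf 3) (.leaf 3))) (.node (.node (.leaf 0) (.leaf 3)) (.leaf 3))) (.node (.node (.node (.leaf 3) (.leaf 3)) (.leaf 3)) (.node (.node (.leaf 3) (.leaf 3)) (.leaf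 3)))))) (.node (.node (.node (.node (.node (.node (.leaf 0) (.leaf 3)) (.node (.leaf 3) (.leaf 2))) (.node (.node (.leaf 0) (.leaf 3)) (.leaf 3))) (.node (.node (.node (.leaf 0) (.leaf 3)) (.leaf 0)) (.node (.node (.leaf 3) (.leaf 3)) (.leaf 3)))) (.node (.node (.node (.node (.leaf 0) (.leaf 3)) (.node (.leaf 3) (.leaf 3))) (.node (.node (.leaf 3) (.leaf 3)) (.leaf 3))) (.node (.node (.node (.leaf 0) (.leaf 3)) (.leaf 3)) (.node (.node (.leaf 3) (.leaf 3)) (.leaf 0))))) (.node (.node (.node (.node (.node (.leaf 0) (.leaf 3)) (.node (.leaf 3) (.leaf 3))) (.node (.node (.leaf 3) (.leaf 3)) (.leaf 3))) (.node (.node (.node (.leaf 3) (.leaf 3)) (.leaf 3)) (.node (.node (.leaf 0) (.leaf 3)) (.leaf 3)))) (.node (.node (.node (.node (.leaf 0) (.leaf 0)) (.node (.leaf 3) (.leaf 3))) (.node (.node (.leaf 3) (.leaf 3)) (.leaf 0))) (.node (.node (.node (.leaf 3) (.leaf 3)) (.leaf 0)) (.node (.node (.leaf 0) (.leaf 3)) (.leaf 3)))))))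

def twoKind : Janko.Tree (ℕ) := (.node (.node twoKind0 twoKind2) (.node twoKind1 twoKind3))

def twoRank0 : Janko.Tree (ℕ) :=
  (.node (.node (.node (.node (.node (.node (.node (.leaf 0) (.leaf 233)) (.node (.leaf 81) (.leaf 127))) (.node (.node (.leaf 47) (.leaf 410)) (.leaf 323))) (.node (.node (.node (.leaf 287) (.leaf 132)) (.node (.leaf 91) (.leaf 414))) (.node (.node (.leaf 151) (.leaf 397)) (.leaf 112)))) (.node (.node (.node (.node (.leaf 14) (.leaf 176)) (.node (.leaf 86) (.leaf 225))) (.node (.node (.leaf 55) (.leaf 238)) (.leaf 375))) (.node (.node (.node (.leaf 37) (.leaf 124)) (.leaf 378)) (.node (.node (.leaf 256) (.leaf 165)) (.leaf 347))))) (.node (.node (.node (.node (.node (.leaf 7) (.leaf 408)) (.node (.leaf 84) (.leaf 312))) (.node (.node (.leaf 403) (.leaf 208)) (.leaf 280))) (.node (.node (.node (.leaf 32) (.leaf 293)) (.leaf 300)) (.node (.node (.leaf 70) (.leaf 356)) (.leaf 365)))) (.node (.node (.node (.node (.leaf 20) (.leaf 390)) (.node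 (.leaf 89) (.leaf 419))) (.node (.node (.leaf 60) (.leaf 412)) (.leaf 260))) (.node (.node (.node (.leaf 42) (.leaf 279)) (.leaf 99)) (.node (.node (.leaf 352) (.leaf 218)) (.leaf 179)))))) (.node (.node (.node (.node (.node (.node (.leaf 3) (.leaf 119)) (.node (.leaf 147) (.leaf 217))) (.node (.node (.leaf 317) (.leaf 255)) (.leaf 277))) (.node (.node (.node (.leaf 28) (.leaf 220)) (.node (.leaf 188) (.leaf 349))) (.node (.node (.leaf 230) (.leaf 302)) (.leaf 244)))) (.node (.node (.node (.node (.leaf 16) (.leaf 265)) (.node (.leaf 88) (.leaf 210))) (.node (.node (.leaf 59) (.leaf 258)) (.leaf 384))) (.node (.node (.node (.leaf 214) (.leaf 336)) (.leaf 141)) (.node (.node (.leaf 281) (.leaf 128)) (.leaf 304))))) (.node (.node (.node (.node (.node (.leaf 10) (.leaf 379)) (.node (.leaf 290) (.leaf 421))) (.node (.node (.leaf 268) (.leaf 373)) (.leaf 342))) (.node (.node (.node (.leaf 34) (.leaf 353)) (.leaf 94)) (.node (.node (.leaf 150) (.leaf 325)) (.leaf 334))))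 (.node (.node (.node (.node (.leaf 22) (.leaf 175)) (.node (.leaf 376) (.leaf 416))) (.node (.node (.leaf 257) (.leaf 361)) (.leaf 215))) (.node (.node (.node (.leaf 45) (.leaf 398)) (.leaf 185)) (.node (.node (.leaf 78) (.leaf 318)) (.leaf 348)))))))

def twoRank1 : Janko.Tree (ℕ) :=
  (.node (.node (.node (.node (.node (.node (.node (.leaf 1) (.leaf 335)) (.node (.leaf 350) (.leaf 161))) (.node (.node (.leaf 48) (.leaf 389)) (.leaf 103))) (.node (.node (.node (.leaf 157) (.leaf 387)) (.node (.leaf 322) (.leaf 355))) (.node (.node (.leaf 66) (.leaf 400)) (.leaf 314)))) (.node (.node (.node (.node (.leaf 201) (.leaf 251)) (.node (.leaf 303) (.leaf 229))) (.node (.node (.leaf 56) (.leaf 407)) (.leaf 108))) (.node (.node (.node (.leaf 38) (.leaf 173)) (.leaf 402)) (.node (.node (.leaf 74) (.leaf 343)) (.leaf 274))))) (.node (.node (.node (.node (.node (.leaf 8) (.leaf 223)) (.node (.leaf 324) (.leaf 315))) (.node (.node (.leaf 52) (.leaf 170)) (.leaf 105))) (.node (.node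 (.node (.leaf 199) (.leaf 371)) (.leaf 232)) (.node (.node (.leaf 351) (.leaf 206)) (.leaf 115)))) (.node (.node (.node (.node (.leaf 21) (.leaf 297)) (.node (.leaf 144) (.leaf 269))) (.node (.node (.leaf 61) (.leaf 359)) (.leaf 110))) (.node (.node (.node (.leaf 43) (.leaf 236)) (.leaf 100)) (.node (.node (.leaf 77) (.leaf 267)) (.leaf 399)))))) (.node (.node (.node (.node (.node (.node (.leaf 4) (.leaf 133)) (.node (.leaf 82) (.leaf 237))) (.node (.node (.leaf 50) (.leaf 362)) (.leaf 316))) (.node (.node (.node (.leaf 29) (.leaf 261)) (.node (.leaf 143) (.leaf 339))) (.node (.node (.leaf 295) (.leaf 358)) (.leaf 113)))) (.node (.node (.node (.node (.leaf 17) (.leaf 329)) (.node (.leaf 190) (.leaf 239))) (.node (.node (.leaf 212) (.leaf 169)) (.leaf 366))) (.node (.node (.node (.leaf 198) (.leaf 372)) (.leaf 97)) (.node (.node (.leaf 76) (.leaf 405)) (.leaf 354))))) (.node (.node (.node (.node (.node (.leaf 11) (.leaf 299)) (.node (.leaf 85) (.leaf 309))) (.node (.node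 (.leaf 53) (.leaf 263)) (.leaf 107))) (.node (.node (.node (.leaf 35) (.leaf 310)) (.leaf 285)) (.node (.node (.leaf 289) (.leaf 392)) (.leaf 116)))) (.node (.node (.node (.node (.leaf 23) (.leaf 242)) (.node (.leaf 235) (.leaf 266))) (.node (.node (.leaf 64) (.leaf 383)) (.leaf 182))) (.node (.node (.node (.leaf 46) (.leaf 126)) (.leaf 140)) (.node (.node (.leaf 79) (.leaf 338)) (.leaf 207)))))))

def twoRank2 : Janko.Tree (ℕ) :=
  (.node (.node (.node (.node (.node (.node (.node (.leaf 2) (.leaf 134)) (.node (.leaf 211) (.leaf 162))) (.node (.node (.leaf 49) (.leaf 221)) (.leaf 284))) (.node (.node (.node (.leaf 26) (.leaf 122)) (.node (.leaf 245) (.leaf 344))) (.node (.node (.leaf 67) (.leaf 252)) (.leaf 224)))) (.node (.node (.node (.node (.leaf 159) (.leaf 413)) (.node (.leaf 87) (.leaf 227))) (.node (.node (.leaf 57) (.leaf 321)) (.leaf 137))) (.node (.node (.node (.leaf 39) (.leaf 395)) (.leaf 96)) (.node (.node (.leaf 149) (.leaf 380)) (.leaf 180))))) (.node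 (.node (.node (.node (.node (.leaf 9) (.leaf 177)) (.node (.leaf 146) (.leaf 328))) (.node (.node (.leaf 196) (.leaf 240)) (.leaf 311))) (.node (.node (.node (.leaf 156) (.leaf 272)) (.leaf 187)) (.node (.node (.leaf 71) (.leaf 166)) (.leaf 253)))) (.node (.node (.node (.node (.leaf 200) (.leaf 264)) (.node (.leaf 90) (.leaf 418))) (.node (.node (.leaf 62) (.leaf 246)) (.leaf 296))) (.node (.node (.node (.leaf 44) (.leaf 259)) (.leaf 404)) (.node (.node (.leaf 192) (.leaf 340)) (.leaf 118)))))) (.node (.node (.node (.node (.node (.node (.leaf 5) (.leaf 406)) (.node (.leaf 83) (.leaf 254))) (.node (.node (.leaf 330) (.leaf 313)) (.leaf 104))) (.node (.node (.node (.leaf 30) (.leaf 123)) (.node (.leaf 92) (.leaf 262))) (.node (.node (.leaf 69) (.leaf 292)) (.leaf 114)))) (.node (.node (.node (.node (.leaf 18) (.leaf 346)) (.node (.leaf 145) (.leaf 243))) (.node (.node (.leaf 195) (.leaf 393)) (.leaf 231))) (.node (.node (.node (.leaf 155) (.leaf 205)) (.leaf 98)) (.node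 (.node (.leaf 332) (.leaf 394)) (.leaf 364))))) (.node (.node (.node (.node (.node (.leaf 12) (.leaf 374)) (.node (.leaf 228) (.leaf 305))) (.node (.node (.leaf 54) (.leaf 306)) (.leaf 184))) (.node (.node (.node (.leaf 36) (.leaf 377)) (.leaf 95)) (.node (.node (.leaf 72) (.leaf 341)) (.leaf 276)))) (.node (.node (.node (.node (.leaf 24) (.leaf 120)) (.node (.leaf 189) (.leaf 415))) (.node (.node (.leaf 65) (.leaf 167)) (.leaf 136))) (.node (.node (.node (.leaf 197) (.leaf 130)) (.leaf 101)) (.node (.node (.leaf 385) (.leaf 204)) (.leaf 178)))))))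

def twoRank3 : Janko.Tree (ℕ) :=
  (.node (.node (.node (.node (.node (.node (.node (.leaf 160) (.leaf 396)) (.node (.leaf 191) (.leaf 203))) (.node (.node (.leaf 234) (.leaf 171)) (.leaf 139))) (.node (.node (.node (.leaf 27) (.leaf 250)) (.node (.leaf 216) (.leaf 370))) (.node (.node (.leaf 68) (.leaf 219)) (.leaf 181)))) (.node (.node (.node (.node (.leaf 15) (.leaf 369)) (.node (.leaf 360) (.leaf 273))) (.node (.node (.leaf 58) (.leaf 331)) (.leaf 109))) (.node (.node (.node (.leaf 40) (.leaf 125)) (.leaf 186)) (.node (.node (.leaf 75) (.leaf 164)) (.leaf 401))))) (.node (.node (.node (.node (.node (.leaf 202) (.leaf 301)) (.node (.leaf 286) (.leaf 422))) (.node (.node (.leaf 153) (.leaf 345)) (.leaf 106))) (.node (.node (.node (.leaf 33) (.leaf 174)) (.leaf 142)) (.node (.node (.leaf 193) (.leaf 411)) (.leaf 222)))) (.node (.node (.node (.node (.leaf 158) (.leaf 270)) (.node (.leaf 381) (.leaf 417))) (.node (.node (.leaf 63) (.leaf 168)) (.leaf 247))) (.node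 (.node (.node (.leaf 271) (.leaf 131)) (.leaf 209)) (.node (.node (.leaf 148) (.leaf 320)) (.leaf 327)))))) (.node (.node (.node (.node (.node (.node (.leaf 6) (.leaf 388)) (.node (.leaf 283) (.leaf 337))) (.node (.node (.leaf 51) (.leaf 368)) (.leaf 226))) (.node (.node (.node (.leaf 31) (.leaf 326)) (.leaf 93)) (.node (.node (.leaf 307) (.leaf 294)) (.leaf 135)))) (.node (.node (.node (.node (.leaf 19) (.leaf 249)) (.node (.leaf 367) (.leaf 420))) (.node (.node (.leaf 152) (.leaf 275)) (.leaf 183))) (.node (.node (.node (.leaf 41) (.leaf 172)) (.leaf 382)) (.node (.node (.leaf 363) (.leaf 241)) (.leaf 117))))) (.node (.node (.node (.node (.node (.leaf 13) (.leaf 213)) (.node (.leaf 298) (.leaf 291))) (.node (.node (.leaf 282) (.leaf 409)) (.leaf 138))) (.node (.node (.node (.leaf 278) (.leaf 386)) (.leaf 308)) (.node (.node (.leaf 73) (.leaf 248)) (.leaf 319)))) (.node (.node (.node (.node (.leaf 25) (.leaf 121)) (.node (.leaf 333) (.leaf 357))) (.node (.node (.leaf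 194) (.leaf 129)) (.leaf 111))) (.node (.node (.node (.leaf 154) (.leaf 391)) (.leaf 102)) (.node (.node (.leaf 80) (.leaf 163)) (.leaf 288)))))))

def twoRank : Janko.Tree (ℕ) := (.node (.node twoRank0 twoRank2) (.node twoRank1 twoRank3))

def twoVia0 : Janko.Tree (ℕ × ℕ) :=
  (.node (.node (.node (.node (.node (.node (.node (.leaf (0, 0)) (.leaf (1, 85))) (.node (.leaf (0, 0)) (.leaf (0, 0)))) (.node (.node (.leaf (0, 0)) (.leaf (38, 94))) (.leaf (29, 64)))) (.node (.node (.node (.leaf (38, 60)) (.leaf (0, 96))) (.node (.leaf (0, 0)) (.leaf (32, 122)))) (.node (.node (.leaf (0, 32)) (.leaf (38, 123))) (.leaf (0, 0))))) (.node (.node (.node (.node (.leaf (0, 0)) (.leaf (2, 90))) (.node (.leaf (0, 0)) (.leaf (16, 14)))) (.node (.node (.leaf (0, 0)) (.leaf (5, 112))) (.leaf (38, 91)))) (.node (.node (.node (.leaf (0, 0)) (.leaf (0, 0))) (.leaf (36, 57))) (.node (.node (.leaf (20, 108)) (.leaf (2, 122))) (.leaf (37, 85)))))) (.node (.node (.node (.node (.node (.leaf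 (0, 0)) (.leaf (38, 125))) (.node (.leaf (0, 0)) (.leaf (8, 62)))) (.node (.node (.leaf (38, 59)) (.leaf (3, 33))) (.leaf (25, 93)))) (.node (.node (.node (.leaf (0, 0)) (.leaf (22, 95))) (.leaf (20, 56))) (.node (.node (.leaf (0, 0)) (.leaf (33, 120))) (.leaf (36, 127))))) (.node (.node (.node (.node (.leaf (0, 0)) (.leaf (38, 118))) (.node (.leaf (0, 0)) (.leaf (24, 118)))) (.node (.node (.leaf (0, 0)) (.leaf (38, 121))) (.leaf (20, 72)))) (.node (.node (.node (.leaf (0, 0)) (.leaf (29, 104))) (.leaf (0, 0))) (.node (.node (.leaf (38, 40)) (.leaf (4, 127))) (.leaf (2, 82))))))) (.node (.node (.node (.node (.node (.node (.leaf (0, 0)) (.leaf (0, 0))) (.node (.leaf (0, 44)) (.leaf (4, 0)))) (.node (.node (.leaf (38, 50)) (.leaf (6, 108))) (.leaf (25, 10)))) (.node (.node (.node (.leaf (0, 0)) (.leaf (4, 109))) (.node (.leaf (2, 54)) (.leaf (36, 111)))) (.node (.node (.leaf (17, 69)) (.leaf (29, 23))) (.leaf (22, 16))))) (.node (.node (.node (.node (.leaf (0, 0)) (.leaf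 (38, 92))) (.node (.leaf (0, 0)) (.leaf (20, 66)))) (.node (.node (.leaf (0, 0)) (.leaf (20, 65))) (.leaf (38, 34)))) (.node (.node (.node (.leaf (20, 22)) (.leaf (16, 92))) (.leaf (0, 60))) (.node (.node (.leaf (22, 1)) (.leaf (0, 124))) (.leaf (16, 8)))))) (.node (.node (.node (.node (.node (.leaf (0, 0)) (.leaf (38, 96))) (.node (.leaf (29, 15)) (.leaf (12, 118)))) (.node (.node (.leaf (22, 5)) (.leaf (36, 99))) (.leaf (38, 122)))) (.node (.node (.node (.leaf (0, 0)) (.leaf (36, 100))) (.leaf (0, 0))) (.node (.node (.leaf (0, 36)) (.leaf (14, 73))) (.leaf (25, 86))))) (.node (.node (.node (.node (.leaf (0, 0)) (.leaf (2, 94))) (.node (.leaf (38, 105)) (.leaf (28, 118)))) (.node (.node (.leaf (17, 29)) (.leaf (38, 49))) (.leaf (3, 15)))) (.node (.node (.node (.leaf (0, 0)) (.leaf (36, 43))) (.leaf (2, 62))) (.node (.node (.leaf (0, 0)) (.leaf (25, 85))) (.leaf (38, 80))))))))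

def twoVia1 : Janko.Tree (ℕ × ℕ) :=
  (.node (.node (.node (.node (.node (.node (.node (.leaf (0, 0)) (.leaf (38, 112))) (.node (.leaf (36, 126)) (.leaf (1, 0)))) (.node (.node (.leaf (0, 0)) (.leaf (38, 113))) (.leaf (0, 0)))) (.node (.node (.node (.leaf (0, 11)) (.leaf (38, 120))) (.node (.leaf (38, 85)) (.leaf (33, 117)))) (.node (.node (.leaf (0, 0)) (.leaf (38, 89))) (.leaf (25, 105))))) (.node (.node (.node (.node (.leaf (2, 5)) (.leaf (21, 23))) (.node (.leaf (25, 55)) (.leaf (17, 86)))) (.node (.node (.leaf (0, 0)) (.leaf (38, 103))) (.leaf (0, 0)))) (.node (.node (.node (.leaf (0, 0)) (.leaf (2, 101))) (.leaf (38, 81))) (.node (.node (.leaf (0, 0)) (.leaf (38, 68))) (.leaf (19, 112)))))) (.node (.node (.node (.node (.node (.leaf (0, 0)) (.leaf (4, 88))) (.node (.leaf (38, 69)) (.leaf (9, 127)))) (.node (.node (.leaf (0, 0)) (.leaf (2, 109))) (.leaf (0, 0)))) (.node (.node (.node (.leaf (2, 13)) (.leaf (35, 125))) (.leaf (17, 25))) (.node (.node (.leaf (38,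 35)) (.leaf (3, 47))) (.leaf (0, 0))))) (.node (.node (.node (.node (.leaf (0, 0)) (.leaf (38, 104))) (.node (.leaf (0, 51)) (.leaf (25, 9)))) (.node (.node (.leaf (0, 0)) (.leaf (38, 119))) (.leaf (0, 0)))) (.node (.node (.node (.leaf (0, 0)) (.leaf (1, 104))) (.leaf (0, 0))) (.node (.node (.leaf (0, 0)) (.leaf (29, 34))) (.leaf (38, 124))))))) (.node (.node (.node (.node (.node (.node (.leaf (0, 0)) (.leaf (0, 87))) (.node (.leaf (0, 0)) (.leaf (5, 0)))) (.node (.node (.leaf (0, 0)) (.leaf (36, 49))) (.leaf (9, 115)))) (.node (.node (.node (.leaf (0, 0)) (.leaf (22, 25))) (.node (.leaf (0, 55)) (.leaf (37, 127)))) (.node (.node (.leaf (25, 104)) (.leaf (31, 119))) (.leaf (0, 0))))) (.node (.node (.node (.node (.leaf (0, 0)) (.leaf (10, 23))) (.node (.leaf (2, 49)) (.leaf (21, 37)))) (.node (.node (.leaf (20, 33)) (.leaf (2, 113))) (.leaf (38, 127)))) (.node (.node (.node (.leaf (2, 17)) (.leaf (38, 99))) (.leaf (0, 0))) (.node (.node (.leaf (0, 0)) (.leaf (38, 79)))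 (.leaf (38, 100)))))) (.node (.node (.node (.node (.node (.leaf (0, 0)) (.leaf (20, 86))) (.node (.leaf (0, 0)) (.leaf (13, 111)))) (.node (.node (.leaf (0, 0)) (.leaf (38, 111))) (.leaf (0, 0)))) (.node (.node (.node (.leaf (0, 0)) (.leaf (13, 108))) (.leaf (38, 45))) (.node (.node (.leaf (22, 85)) (.leaf (37, 76))) (.leaf (0, 0))))) (.node (.node (.node (.node (.leaf (0, 0)) (.leaf (21, 27))) (.node (.leaf (18, 50)) (.leaf (29, 92)))) (.node (.node (.leaf (0, 0)) (.leaf (37, 82))) (.leaf (2, 73)))) (.node (.node (.node (.leaf (0, 0)) (.leaf (0, 0))) (.leaf (0, 63))) (.node (.node (.leaf (0, 0)) (.leaf (7, 127))) (.leaf (3, 46))))))))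

def twoVia2 : Janko.Tree (ℕ × ℕ) :=
  (.node (.node (.node (.node (.node (.node (.node (.leaf (0, 0)) (.leaf (0, 86))) (.node (.leaf (20, 47)) (.leaf (2, 0)))) (.node (.node (.leaf (0, 0)) (.leaf (4, 107))) (.leaf (29, 44)))) (.node (.node (.node (.leaf (0, 0)) (.leaf (0, 0))) (.node (.leaf (0, 76)) (.leaf (34, 4)))) (.node (.node (.leaf (0, 0)) (.leaf (0, 118))) (.leaf (4, 75))))) (.node (.node (.node (.node (.leaf (0, 6)) (.leaf (33, 87))) (.node (.leaf (0, 0)) (.leaf (18, 105)))) (.node (.node (.leaf (0, 0)) (.leaf (21, 76))) (.leaf (0, 70)))) (.node (.node (.node (.leaf (0, 0)) (.leaf (38, 108))) (.leaf (0, 0))) (.node (.node (.leaf (0, 38)) (.leaf (37, 56))) (.leaf (2, 80)))))) (.node (.node (.node (.node (.node (.leaf (0, 0)) (.leaf (2, 88))) (.node (.leaf (0, 46)) (.leaf (10, 95)))) (.node (.node (.leaf (2, 24)) (.leaf (21, 34))) (.leaf (16, 13)))) (.node (.node (.node (.leaf (0, 14)) (.leaf (38, 44))) (.leaf (2, 56))) (.node (.node (.leaf (0, 0)) (.leaf (2,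 120))) (.leaf (0, 112))))) (.node (.node (.node (.node (.leaf (2, 8)) (.leaf (0, 111))) (.node (.leaf (0, 0)) (.leaf (26, 118)))) (.node (.node (.leaf (0, 0)) (.leaf (21, 112))) (.leaf (20, 104)))) (.node (.node (.node (.leaf (0, 0)) (.leaf (16, 63))) (.leaf (38, 24))) (.node (.node (.leaf (2, 40)) (.leaf (37, 126))) (.leaf (0, 0))))))) (.node (.node (.node (.node (.node (.node (.leaf (0, 0)) (.leaf (37, 98))) (.node (.leaf (0, 0)) (.leaf (6, 0)))) (.node (.node (.leaf (16, 85)) (.leaf (8, 127))) (.leaf (0, 0)))) (.node (.node (.node (.leaf (0, 0)) (.leaf (0, 0))) (.node (.leaf (0, 0)) (.leaf (38, 93)))) (.node (.node (.leaf (0, 0)) (.leaf (15, 111))) (.leaf (0, 0))))) (.node (.node (.node (.node (.leaf (0, 0)) (.leaf (38, 37))) (.node (.leaf (0, 50)) (.leaf (22, 27)))) (.node (.node (.leaf (2, 28)) (.leaf (38, 114))) (.leaf (18, 69)))) (.node (.node (.node (.leaf (0, 18)) (.leaf (3, 65))) (.leaf (0, 0))) (.node (.node (.leaf (16, 38)) (.leaf (37, 114))) (.leaf (38,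 82)))))) (.node (.node (.node (.node (.node (.leaf (0, 0)) (.leaf (38, 90))) (.node (.leaf (18, 86)) (.leaf (14, 7)))) (.node (.node (.leaf (0, 0)) (.leaf (14, 104))) (.leaf (2, 68)))) (.node (.node (.node (.leaf (0, 0)) (.leaf (35, 124))) (.leaf (0, 0))) (.node (.node (.leaf (0, 0)) (.leaf (38, 126))) (.leaf (16, 54))))) (.node (.node (.node (.node (.leaf (0, 0)) (.leaf (0, 0))) (.node (.leaf (2, 52)) (.leaf (30, 118)))) (.node (.node (.leaf (0, 0)) (.leaf (2, 116))) (.leaf (0, 74)))) (.node (.node (.node (.leaf (2, 20)) (.leaf (0, 106))) (.leaf (0, 0))) (.node (.node (.leaf (38, 53)) (.leaf (3, 66))) (.leaf (2, 84))))))))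

def twoVia3 : Janko.Tree (ℕ × ℕ) :=
  (.node (.node (.node (.node (.node (.node (.node (.leaf (0, 1)) (.leaf (38, 117))) (.node (.leaf (2, 43)) (.leaf (3, 0)))) (.node (.node (.leaf (17, 50)) (.leaf (2, 107))) (.leaf (0, 65)))) (.node (.node (.node (.leaf (0, 0)) (.leaf (0, 97))) (.node (.leaf (20, 15)) (.leaf (35, 113)))) (.node (.node (.leaf (0, 0)) (.leaf (4, 120))) (.leaf (2, 75))))) (.node (.node (.node (.node (.leaf (0, 0)) (.leaf (38, 109))) (.node (.leaf (38, 115)) (.leaf (19, 93)))) (.node (.node (.leaf (0, 0)) (.leaf (22, 50))) (.leaf (0, 0)))) (.node (.node (.node (.leaf (0, 0)) (.leaf (0, 0))) (.leaf (2, 59))) (.node (.node (.leaf (0, 0)) (.leaf (2, 123))) (.leaf (36, 47)))))) (.node (.node (.node (.node (.node (.leaf (2, 3)) (.leaf (0, 89))) (.node (.leaf (25, 60)) (.leaf (11, 118)))) (.node (.node (.leaf (0, 25)) (.leaf (34, 125))) (.leaf (0, 0)))) (.node (.node (.node (.leaf (0, 0)) (.leaf (2, 99))) (.leaf (0, 57))) (.node (.node (.leaf (2, 35)) (.leaf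 (37, 121))) (.leaf (4, 90))))) (.node (.node (.node (.node (.leaf (0, 9)) (.leaf (25, 111))) (.node (.leaf (38, 23)) (.leaf (27, 118)))) (.node (.node (.leaf (0, 0)) (.leaf (2, 115))) (.leaf (0, 95)))) (.node (.node (.node (.leaf (29, 111)) (.leaf (0, 105))) (.leaf (3, 32))) (.node (.node (.leaf (0, 41)) (.leaf (22, 76))) (.leaf (22, 93))))))) (.node (.node (.node (.node (.node (.node (.leaf (0, 0)) (.leaf (36, 113))) (.node (.leaf (22, 45)) (.leaf (7, 0)))) (.node (.node (.leaf (0, 0)) (.leaf (38, 110))) (.leaf (16, 65)))) (.node (.node (.node (.leaf (0, 0)) (.leaf (16, 73))) (.leaf (0, 0))) (.node (.node (.leaf (22, 69)) (.leaf (18, 93))) (.leaf (0, 77))))) (.node (.node (.node (.node (.leaf (0, 0)) (.leaf (21, 93))) (.node (.leaf (38, 86)) (.leaf (23, 118)))) (.node (.node (.leaf (0, 29)) (.leaf (25, 108))) (.leaf (2, 71)))) (.node (.node (.node (.leaf (0, 0)) (.leaf (2, 103))) (.leaf (38, 72))) (.node (.node (.leaf (38, 77)) (.leaf (0, 125))) (.leaf (0, 0))))))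 (.node (.node (.node (.node (.node (.leaf (0, 0)) (.leaf (3, 22))) (.node (.leaf (18, 46)) (.leaf (15, 95)))) (.node (.node (.leaf (25, 41)) (.leaf (36, 88))) (.leaf (0, 69)))) (.node (.node (.node (.leaf (38, 41)) (.leaf (37, 101))) (.leaf (16, 57))) (.node (.node (.leaf (0, 0)) (.leaf (3, 73))) (.leaf (18, 112))))) (.node (.node (.node (.node (.leaf (0, 0)) (.leaf (0, 0))) (.node (.leaf (14, 2)) (.leaf (31, 120)))) (.node (.node (.leaf (2, 31)) (.leaf (0, 117))) (.leaf (0, 0)))) (.node (.node (.node (.leaf (0, 21)) (.leaf (38, 84))) (.leaf (0, 0))) (.node (.node (.leaf (0, 0)) (.leaf (2, 127))) (.leaf (29, 85))))))))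

def twoVia : Janko.Tree (ℕ × ℕ) := (.node (.node twoVia0 twoVia2) (.node twoVia1 twoVia3))

def twoOrd : Janko.Tree (ℕ) :=
  (.node (.node (.node (.node (.node (.node (.node (.leaf 5) (.leaf 72)) (.node (.leaf 32) (.leaf 117))) (.node (.node (.leaf 34) (.leaf 75)) (.node (.leaf 103) (.leaf 110)))) (.node (.node (.node (.leaf 121) (.leaf 80)) (.node (.leaf 73) (.leaf 18))) (.node (.node (.leaf 61) (.leaf 8)) (.node (.leaf 24) (.leaf 55))))) (.node (.node (.node (.node (.leaf 67) (.leaf 6)) (.node (.leaf 13) (.leaf 22))) (.node (.node (.leaf 70) (.leaf 108)) (.node (.leaf 122) (.leaf 91)))) (.node (.node (.node (.leaf 114) (.leaf 119)) (.node (.leaf 42) (.leaf 7))) (.node (.node (.leaf 54) (.leaf 21)) (.node (.leaf 35) (.leaf 74)))))) (.node (.node (.node (.node (.node (.leaf 106) (.leaf 2)) (.node (.leaf 41) (.leaf 50))) (.node (.node (.leaf 10) (.leaf 57)) (.node (.leaf 101) (.leaf 118)))) (.node (.node (.node (.leaf 64) (.leaf 127)) (.node (.leaf 71) (.leaf 92)))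 (.node (.node (.leaf 76) (.leaf 28)) (.node (.leaf 81) (.leaf 37))))) (.node (.node (.node (.node (.leaf 14) (.leaf 104)) (.node (.leaf 17) (.leaf 79))) (.node (.node (.leaf 25) (.leaf 27)) (.node (.leaf 123) (.leaf 125)))) (.node (.node (.node (.leaf 45) (.leaf 49)) (.node (.leaf 95) (.leaf 113))) (.node (.node (.leaf 52) (.leaf 60)) (.node (.leaf 100) (.leaf 26))))))) (.node (.node (.node (.node (.node (.node (.leaf 12) (.leaf 51)) (.node (.leaf 77) (.leaf 89))) (.node (.node (.leaf 11) (.leaf 33)) (.node (.leaf 126) (.leaf 90)))) (.node (.node (.node (.leaf 46) (.leaf 115)) (.node (.leaf 47) (.leaf 48))) (.node (.node (.leaf 105) (.leaf 19)) (.node (.leaf 40) (.leaf 83))))) (.node (.node (.node (.node (.leaf 29) (.leaf 23)) (.node (.leaf 30) (.leaf 56))) (.node (.node (.leaf 53) (.leaf 124)) (.node (.leaf 99) (.leaf 109)))) (.node (.node (.node (.leaf 65) (.leaf 84)) (.node (.leaf 86) (.leaf 3))) (.node (.node (.leaf 66) (.leaf 96)) (.node (.leaf 59) (.leaf 102))))))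 (.node (.node (.node (.node (.node (.leaf 94) (.leaf 36)) (.node (.leaf 63) (.leaf 16))) (.node (.node (.leaf 85) (.leaf 98)) (.node (.leaf 68) (.leaf 88)))) (.node (.node (.node (.leaf 31) (.leaf 116)) (.node (.leaf 97) (.leaf 9))) (.node (.node (.leaf 112) (.leaf 58)) (.node (.leaf 43) (.leaf 1))))) (.node (.node (.node (.node (.leaf 111) (.leaf 15)) (.node (.leaf 39) (.leaf 38))) (.node (.node (.leaf 4) (.leaf 69)) (.node (.leaf 120) (.leaf 107)))) (.node (.node (.node (.leaf 20) (.leaf 82)) (.node (.leaf 93) (.leaf 87))) (.node (.node (.leaf 78) (.leaf 44)) (.node (.leaf 62) (.leaf 0))))))))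

def twoRels : List (List ℕ) := [[0, 0],
  [1, 1, 1, 1, 1, 1, 1, 1],
  [2, 2],
  [0, 2, 1, 0, 2, 1],
  [1, 1, 2, 1, 1, 2],
  [0, 1, 0, 1, 0, 1, 0, 1],
  [0, 1, 1, 1, 2, 0, 2, 1],
  [0, 2, 0, 2, 0, 2, 0, 2],
  [1, 1, 1, 1, 1, 2, 1, 2],
  [1, 2, 1, 2, 1, 2, 1, 2],
  [0, 1, 0, 1, 0, 2, 0, 1, 1, 2],
  [0, 1, 0, 1, 1, 1, 0, 2, 0, 2],
  [0, 1, 0, 2, 1, 2, 0, 2, 0, 2],
  [0, 1, 1, 1, 1, 0, 1, 1, 1, 1],
  [0, 1, 1, 1, 1, 0, 1, 2, 1, 2],
  [0, 1, 1, 1, 1, 0, 2, 1, 2, 1],
  [0, 1, 1, 2, 1, 1, 1, 0, 2, 1],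
  [0, 1, 2, 1, 1, 0, 1, 2, 1, 1],
  [0, 1, 2, 1, 2, 0, 1, 2, 1, 2],
  [0, 1, 2, 1, 2, 0, 2, 1, 2, 1],
  [0, 2, 1, 2, 1, 0, 2, 1, 2, 1],
  [0, 1, 0, 1, 0, 1, 2, 1, 0, 2, 1, 1],
  [0, 1, 0, 1, 0, 2, 0, 1, 2, 1, 1, 1],
  [0, 1, 0, 1, 1, 0, 1, 1, 2, 0, 1, 2],
  [0, 1, 0, 1, 1, 1, 0, 1, 0, 1, 1, 1],
  [0, 1, 0, 1, 1, 1, 2, 0, 1, 0, 2, 1],
  [0, 1, 0, 1, 1, 2, 1, 0, 1, 0, 1, 2],
  [0, 1, 0, 1, 1, 2, 1, 0, 2, 0, 1, 1],
  [0, 1, 0, 1, 2, 0, 2, 0, 2, 1, 1, 2],
  [0, 1, 0, 2, 0, 2, 1, 2, 0, 2, 1, 1],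
  [0, 1, 0, 2, 1, 1, 0, 1, 1, 1, 0, 2],
  [0, 1, 0, 2, 1, 2, 0, 1, 0, 2, 1, 2],
  [0, 1, 1, 0, 1, 1, 0, 1, 1, 0, 1, 1],
  [0, 1, 1, 0, 1, 2, 1, 0, 1, 1, 0, 2],
  [0, 1, 1, 0, 2, 0, 1, 2, 0, 1, 1, 1],
  [0, 1, 2, 0, 1, 2, 0, 1, 2, 0, 1, 2],
  [0, 1, 2, 0, 2, 0, 1, 2, 0, 2, 1, 1],
  [0, 1, 2, 1, 0, 2, 0, 1, 2, 1, 0, 2],
  [0, 2, 0, 2, 1, 1, 0, 2, 0, 2, 1, 1]]

/-- the certificate -/
def twoCert : CentralLocal.Cert :=
  { act := actP twoGens, one := idP, N := 128, k := 3, q := 0, rels := twoRels, P := 8,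
    elt := twoElt, next := twoNext, word := twoWord, par := twoPar, L := twoL, kind := twoKind, rank := twoRank,
    via := twoVia, pv := [384, 385, 386, 387, 388, 389, 390, 391] }

theorem two_edges0 : ((List.range 128).all fun i => twoCert.edgeCheck (Nat.add 0 i)) = true := by decide +kernel

theorem two_edges : ∀ i < 128, twoCert.edgeCheck i = true := by
  intro i hi
  have := List.all_eq_true.1 two_edges0 (i - 0) (List.mem_range.2 (by omega)); rwa [show Nat.add 0 (i - 0) = i from Nat.add_sub_cancel' (by omega)] at this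


theorem two_tree0 : ((List.range 128).all fun i => twoCert.treeCheck (Nat.add 0 i)) = true := by decide +kernel

theorem two_tree : ∀ i < 128, twoCert.treeCheck i = true := by
  intro i hi
  have := List.all_eq_true.1 two_tree0 (i - 0) (List.mem_range.2 (by omega)); rwa [show Nat.add 0 (i - 0) = i from Nat.add_sub_cancel' (by omega)] at this


theorem two_vars0 : ((List.range 423).all fun i => twoCert.varCheck (Nat.add 0 i)) = true := by decide +kernel

theorem two_vars : ∀ i < 423, twoCert.varCheck i = true := by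
  intro i hi
  have := List.all_eq_true.1 two_vars0 (i - 0) (List.mem_range.2 (by omega)); rwa [show Nat.add 0 (i - 0) = i from Nat.add_sub_cancel' (by omega)] at this


theorem two_ord0 : ((List.range 128).all fun i => twoCert.ordCheck twoOrd (Nat.add 0 i)) = true := by decide +kernel

theorem two_ord : ∀ i < 128, twoCert.ordCheck twoOrd i = true := by
  intro i hi
  have := List.all_eq_true.1 two_ord0 (i - 0) (List.mem_range.2 (by omega)); rwa [show Nat.add 0 (i - 0) = i from Nat.add_sub_cancel' (by omega)] at this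


theorem two_rels : (twoCert.rels.all fun w => twoCert.relCheck w) = true := by decide +kernel

theorem two_valid : twoCert.Valid where
  npos := Nat.succ_pos _
  kpos := Nat.succ_pos _
  edges := two_edges
  tree := two_tree
  rels := List.all_eq_true.1 two_rels
  vars := two_vars

/-- the lattice -/
def twoLat : CentralBound.Lat :=
  { basis := [[4, 1, 4, -4, 0, 0, 0, 0],
      [2, 0, 1, -2, 1, 0, 0, 0],
      [0, 0, 2, -2, 0, 1, 0, 0],
      [1, 0, 1, -2, 0, 0, 1, 0],
      [-2, 0, -2, 0, 0, 0, 0, 1]],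
    compl := [[1, 0, 0, 0, 0, 0, 0, 0], [-1, 0, 0, 1, 0, 0, 0, 0], [0, 0, 1, 0, 0, 0, 0, 0]],
    counts := [[2, 0, 0], [0, 2, 2], [0, 0, 2]],
    piv := [0, 1, 2],
    coord := [([0, 0, 0, 0, 0], [1, 0, 0]),
      ([1, 0, 0, 0, 0], [0, 4, -4]),
      ([0, 0, 0, 0, 0], [0, 0, 1]),
      ([0, 0, 0, 0, 0], [1, 1, 0]),
      ([0, 1, 0, 0, 0], [0, 2, -1]),
      ([0, 0, 1, 0, 0], [2, 2, -2]),
      ([0, 0, 0, 1, 0], [1, 2, -1]),
      ([0, 0, 0, 0, 1], [2, 0, 2])],
    gens := [[1, 0, 1, -2, 0, 0, 1, 0]],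
    ord := [4],
    red := [([-24], ([(-2, 1), (-40, 0)], [(-21, (0, 24)), (14, (0, 43))]), [-14, 72, -7, 15, -1]),
      ([14], ([(-30, 1), (40, 0)], [(23, (0, 43)), (-54, (0, 24))]), [-12, -15, 10, 19, -3]),
      ([34], ([(37, 0), (-57, 1)], [(15, (0, 24)), (-31, (0, 43))]), [6, -80, 12, -12, -3]),
      ([1], ([], []), [0, 0, 0, 0, 0]),
      ([4], ([(-61, 1), (-4, 0)], [(-8, (0, 24)), (-28, (0, 43))]), [-7, -11, 5, 1, -4])],
    kill := [(([(62, 0), (12, 1)], [(1, (0, 45)), (-18, (0, 24)), (-61, (0, 43))]), [20, -100, 10, -20, 2])] }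

/-- conjugate commuting pairs -/
def twoSpecs : List Spec := [(([0], [1, 1, 1, 0, 1], [0, 2, 1], [1, 0, 2]), (968633515347058341344292759941503104, 958810767982564249572822416373681312)),
  (([2, 0, 2], [1, 2, 0, 1, 2], [0, 1, 2, 0, 1, 2], [1, 1, 0, 1, 2]), (967273715274655127144145761040876064, 966475213444480852035969552818156704))]

theorem two_gens : twoGens.all (memOK [23, 0]) = true ∧ twoSpecs.all (specOK [23, 0] twoCert twoGens) = true := by decide +kernel

theorem two_lat : CentralBound.latOK twoCert (twoSpecs.map extOf) (2 ^ 7) twoLat = true := by decide +kernel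

end Cfsg.Agent.Lie.MTwentyTwoMult
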